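import Cfsg.Agent.Coset.J4.RepData
import Mathlib.Data.ZMod.Basic
import Mathlib.Data.Matrix.Mul
import Mathlib.Data.Nat.Bitwise
import Mathlib.Algebra.BigOperators.Fin

/-!
Rows of a matrix over two elements packed in natural numbers: the product of a row vector with
such a matrix is a sum of exclusive-or steps.
-/

set_option autoImplicit false

namespace CfsgLib.Coset.J4.Mat

section Kernel

/-- The row vector `v` times the matrix with the given rows. -/
noncomputable def vm (rows : List Nat) : Nat → Nat :=
  List.rec (fun _ => 0)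
    (fun r _ ih v => cond (Nat.beq (Nat.land v 1) 1) (Nat.xor r (ih (Nat.shiftRight v 1)))
      (ih (Nat.shiftRight v 1))) rows

/-- The row vector `v` followed through the letters of a word. -/
noncomputable def vw (L : List (List Nat)) (v : Nat) (w : List Nat) : Nat :=
  List.rec (fun v => v)
    (fun l _ ih v => Nat.rec (motive := fun _ => Nat) (ih 0) (fun n _ => ih (Nat.add n 1)) (vm (L.getD l []) v)) w v

/-- The word fixes the first `n` unit vectors. -/
noncomputable def wordOK (L : List (List Nat)) (n d : Nat) (w : List Nat) : Bool :=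
  allBelow d n fun i => Nat.beq (vw L (Nat.pow 2 i) w) (Nat.pow 2 i)

end Kernel

theorem vm_nil (v : Nat) : vm [] v = 0 := rfl

theorem vm_cons (r : Nat) (rs : List Nat) (v : Nat) :
    vm (r :: rs) v = cond (Nat.beq (v &&& 1) 1) (r ^^^ vm rs (v >>> 1)) (vm rs (v >>> 1)) := rfl

theorem vw_cons (L : List (List Nat)) (l : Nat) (w : List Nat) (v : Nat) :
    vw L v (l :: w) = vw L (vm (L.getD l []) v) w := by
  show Nat.rec (motive := fun _ => Nat) (vw L 0 w) (fun n _ => vw L (n + 1) w) (vm (L.getD l []) v) = _
  cases vm (L.getD l []) v <;> rfl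

/-- A bit as an element of the field of two elements. -/
def bz (b : Bool) : ZMod 2 := if b then 1 else 0

theorem bz_xor (a b : Bool) : bz (a ^^ b) = bz a + bz b := by cases a <;> cases b <;> decide

/-- The row vector of a number. -/
def rowVec (n v : Nat) : Fin n → ZMod 2 := fun j => bz (v.testBit j)

/-- The matrix of a list of rows. -/
def matOf (n : Nat) (rows : List Nat) : Matrix (Fin n) (Fin n) (ZMod 2) :=
  Matrix.of fun i j => bz ((rows.getD i 0).testBit j)

theorem bz_vm : ∀ (rs : List Nat) (v j : Nat), bz ((vm rs v).testBit j) =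
    ∑ i : Fin rs.length, bz (v.testBit i) * bz ((rs.getD i 0).testBit j) := by
  intro rs
  induction rs with
  | nil => intro v j; simp [vm_nil, bz]
  | cons r rs ih =>
    intro v j
    rw [vm_cons]
    show _ = ∑ i : Fin (rs.length + 1), _
    rw [Fin.sum_univ_succ]
    have hs : ∀ i : Fin rs.length, bz (v.testBit (Fin.succ i : Fin (rs.length + 1))) *
        bz (((r :: rs).getD (Fin.succ i : Fin (rs.length + 1)) 0).testBit j) =
        bz ((v >>> 1).testBit i) * bz ((rs.getD i 0).testBit j) := fun i => by
      rw [Fin.val_succ, List.getD_cons_succ, Nat.testBit_shiftRight, Nat.add_comm 1]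
    rw [Finset.sum_congr rfl fun i _ => hs i, ← ih]
    have h0 : v.testBit 0 = Nat.beq (v &&& 1) 1 := by
      rw [Nat.and_one_is_mod, Nat.testBit_zero]
      rcases Nat.mod_two_eq_zero_or_one v with h | h <;> rw [h] <;> rfl
    rw [Fin.val_zero, h0, List.getD_cons_zero]
    cases Nat.beq (v &&& 1) 1
    · simp [bz]
    · rw [cond_true, Nat.testBit_xor, bz_xor]
      simp [bz]

theorem rowVec_vm {n : Nat} {rows : List Nat} (h : rows.length = n) (v : Nat) :
    rowVec n (vm rows v) = Matrix.vecMul (rowVec n v) (matOf n rows) := by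
  subst h
  funext j
  exact bz_vm rows v j

/-- The product of the matrices of the letters of a word. -/
def matWord (n : Nat) (L : List (List Nat)) (w : List Nat) : Matrix (Fin n) (Fin n) (ZMod 2) :=
  (w.map fun l => matOf n (L.getD l [])).prod

theorem matWord_cons (n : Nat) (L : List (List Nat)) (l : Nat) (w : List Nat) :
    matWord n L (l :: w) = matOf n (L.getD l []) * matWord n L w := by
  simp [matWord]

theorem rowVec_vw {n : Nat} {L : List (List Nat)} : ∀ (w : List Nat),
    (∀ l ∈ w, (L.getD l []).length = n) → ∀ v,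
      rowVec n (vw L v w) = Matrix.vecMul (rowVec n v) (matWord n L w) := by
  intro w
  induction w with
  | nil => intro _ v; simp [matWord, vw]
  | cons l w ih =>
    intro h v
    rw [vw_cons, ih (fun x hx => h x (by simp [hx])), rowVec_vm (h l (by simp)),
      Matrix.vecMul_vecMul, matWord_cons]

theorem rowVec_pow (n : Nat) (i : Fin n) : rowVec n (2 ^ (i : Nat)) = Pi.single i 1 := by
  funext j
  rw [rowVec, Nat.testBit_two_pow, Pi.single_apply]
  by_cases h : j = i
  · subst h; simp [bz]
  · have : (i : Nat) ≠ j := fun e => h (Fin.ext e.symm)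
    simp [bz, h, this]

theorem matWord_eq_one {n d : Nat} {L : List (List Nat)} {w : List Nat}
    (hl : ∀ l ∈ w, (L.getD l []).length = n) (h : wordOK L n d w = true) :
    matWord n L w = 1 := by
  refine Matrix.ext fun i j => ?_
  have h1 := Nat.eq_of_beq_eq_true (of_allBelow h i i.2)
  have h2 := congrFun (rowVec_vw w hl (2 ^ (i : Nat))) j
  rw [show vw L (2 ^ (i : Nat)) w = 2 ^ (i : Nat) from h1, rowVec_pow,
    Matrix.single_one_vecMul] at h2
  rw [Matrix.one_apply, ← show (Pi.single i (1 : ZMod 2) : Fin n → ZMod 2) j = matWord n L w i j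
    from h2, Pi.single_apply]
  simp [eq_comm]

end CfsgLib.Coset.J4.Mat
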