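import Cfsg.Agent.Coset.J4.Derive

set_option autoImplicit false
set_option maxRecDepth 100000
set_option Elab.async false

namespace CfsgLib.Coset.J4.Dat

open CfsgLib.Coset (Tr)

/-- entry -/
def ent0 : Ent := ⟨4, 0, (1, 0), 0, (0, 0), 0, (0, 0), 0, 0, 0, [], [], [], (0, 0)⟩

/-- entry -/
def ent1 : Ent := ⟨4, 0, (2, 0), 0, (0, 0), 0, (0, 0), 0, 0, 0, [], [], [], (0, 0)⟩

/-- entry -/
def ent2 : Ent := ⟨4, 0, (0, 1), 0, (0, 0), 0, (0, 0), 0, 0, 0, [], [], [], (0, 0)⟩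

/-- entry -/
def ent3 : Ent := ⟨2, 0, (0, 0), 1, (0, 0), 0, (0, 0), 0, 0, 0, [], [], [], (0, 0)⟩

/-- entry -/
def ent4 : Ent := ⟨1, 1, (0, 0), 0, (0, 0), 3, (0, 0), 0, 0, 0, [], [], [], (0, 0)⟩

/-- entry -/
def ent5 : Ent := ⟨5, 1, (1, 0), 0, (0, 0), 0, (0, 0), 0, 0, 0, [], [], [], (0, 0)⟩

/-- entry -/
def ent6 : Ent := ⟨5, 1, (189, 0), 0, (0, 0), 0, (0, 0), 0, 0, 0, [], [], [], (0, 0)⟩

/-- entry -/
def ent7 : Ent := ⟨5, 1, (0, 597), 0, (0, 0), 0, (0, 0), 0, 0, 0, [], [], [], (0, 0)⟩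

/-- entry -/
def ent8 : Ent := ⟨0, 1, (17531, 0), 1, (17542, 813), 0, (0, 863), 0, 1, 1, [⟨3, [0, 1, 0, 1, 0, 1, 1, 0, 1, 0, 2, 1, 1], (0, 1243)⟩], [⟨3, [2, 1, 0, 1, 1, 0, 1, 0, 2, 1, 1], (0, 1954)⟩], [], (17552, 1636)⟩

/-- entry -/
def ent9 : Ent := ⟨0, 1, (17559, 92), 1, (17571, 1911), 0, (4, 1706), 2, 2, 3, [⟨3, [1, 1, 0, 1, 1, 0, 1, 1, 0, 1, 1, 0, 1, 1], (0, 1387)⟩], [⟨3, [2, 1, 1, 0, 1, 1, 0, 1, 1, 0, 1, 1, 0, 1, 0, 1], (17582, 47)⟩], [], (17592, 2043)⟩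

/-- entry -/
def ent10 : Ent := ⟨0, 1, (0, 1840), 1, (17602, 1251), 1, (17612, 817), 2, 17620, 17621, [⟨9, [5, 6, 5, 6, 6, 5, 6, 6, 7], (17628, 999)⟩, ⟨9, [6, 6, 5, 6, 5, 6, 6, 6, 5, 6, 6], (17638, 60)⟩], [], [], (17649, 1321)⟩

/-- entry -/
def ent11 : Ent := ⟨2, 1, (3, 0), 2, (0, 0), 0, (0, 0), 0, 0, 0, [], [], [], (0, 0)⟩

/-- entry -/
def ent12 : Ent := ⟨1, 2, (0, 0), 1, (3, 0), 11, (0, 0), 0, 0, 0, [], [], [], (0, 0)⟩

/-- entry -/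
def ent13 : Ent := ⟨0, 2, (17658, 0), 2, (17670, 0), 1, (17679, 332), 0, 17688, 17689, [⟨11, [5, 6, 7, 6, 5, 6, 5, 6, 6, 5, 6, 6, 6], (17699, 1624)⟩], [⟨11, [6, 7, 6, 6, 5, 6, 5, 6, 6, 5, 6, 6, 6, 5, 6], (17707, 1792)⟩], [], (17717, 442)⟩

/-- entry -/
def ent14 : Ent := ⟨0, 2, (17723, 647), 2, (17733, 1773), 1, (17741, 346), 2, 17751, 17752, [⟨11, [6, 5, 7, 6, 5, 6, 6, 6, 5, 6, 6, 5, 6, 6, 6], (17760, 1434)⟩], [⟨11, [7, 6, 5, 6, 5, 6, 6, 6, 5, 6], (17770, 338)⟩], [], (17780, 1177)⟩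

/-- entry -/
def ent15 : Ent := ⟨0, 2, (17790, 0), 2, (17798, 1451), 1, (17806, 267), 2, 17816, 17817, [⟨11, [6, 5, 6, 7, 5, 6, 6, 5], (17826, 321)⟩], [⟨11, [6, 5, 6, 5, 6, 6, 5, 6, 5, 6, 6, 6], (17838, 1206)⟩], [], (17846, 187)⟩

/-- entry -/
def ent16 : Ent := ⟨1, 2, (17854, 585), 2, (17864, 419), 15, (0, 0), 0, 0, 0, [], [], [], (17872, 101)⟩

/-- entry -/
def ent17 : Ent := ⟨0, 2, (17882, 0), 2, (17891, 0), 1, (17901, 987), 0, 17911, 17912, [⟨11, [7, 5, 6, 5, 6, 6, 5, 6, 5, 6, 6, 6, 5], (17921, 405)⟩], [⟨11, [7, 6, 6, 6, 5, 6, 6, 5, 6, 6, 6, 5, 6, 5, 6], (17931, 323)⟩], [], (17941, 1054)⟩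

/-- entry -/
def ent18 : Ent := ⟨0, 2, (8, 1183), 2, (17951, 1113), 1, (17961, 959), 2, 17973, 17974, [⟨11, [6, 7, 6, 6, 5, 6, 5, 6, 5, 6, 6], (17980, 1328)⟩], [⟨11, [7, 6, 5, 6, 6, 5, 6, 6, 5, 6, 5, 6, 5], (17990, 156)⟩], [], (17998, 611)⟩

/-- entry -/
def ent19 : Ent := ⟨0, 2, (18006, 0), 2, (18016, 14), 1, (18024, 1613), 2, 18032, 18033, [⟨11, [5, 6, 5, 6, 6, 5, 6, 6, 6, 5, 7, 6, 6, 6, 5, 6, 6, 6], (18040, 1261)⟩], [⟨11, [6, 5, 7, 6, 5, 6, 5, 6, 6, 6, 5, 6, 6, 6, 5, 6], (18050, 1644)⟩], [], (18060, 1303)⟩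

/-- entry -/
def ent20 : Ent := ⟨0, 2, (18070, 1694), 2, (18078, 1059), 1, (18088, 1148), 2, 18098, 18099, [⟨11, [6, 6, 6, 5, 6, 5, 6, 5, 6, 5, 7, 6, 6], (18106, 1516)⟩], [⟨11, [5, 7, 6, 5, 6, 5, 6, 5, 6, 5, 6, 6, 5, 6, 6, 6, 5], (18116, 434)⟩], [], (18124, 179)⟩

/-- entry -/
def ent21 : Ent := ⟨1, 2, (18132, 1439), 2, (18142, 1306), 20, (0, 0), 0, 0, 0, [], [], [], (18152, 331)⟩

/-- entry -/
def ent22 : Ent := ⟨0, 2, (351, 0), 1, (18162, 151), 1, (18172, 2038), 0, 18182, 18183, [⟨11, [6, 5, 6, 7, 6, 5, 6, 5, 6, 6, 5, 6, 6, 5, 6, 6, 5, 6], (18190, 1525)⟩], [⟨9, [7, 6, 5, 6, 6, 6], (18196, 1910)⟩], [], (18206, 1722)⟩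

/-- entry -/
def ent23 : Ent := ⟨0, 2, (18215, 0), 2, (18224, 545), 1, (18234, 1142), 0, 18242, 18243, [⟨11, [5, 7, 6, 5, 6, 5, 6, 6, 5, 6, 6, 5, 6, 6, 5, 6, 5], (18250, 1510)⟩], [⟨11, [6, 7, 5, 6, 5, 6, 5, 6, 6, 5, 6], (18260, 1927)⟩], [], (18271, 802)⟩

/-- entry -/
def ent24 : Ent := ⟨3, 2, (18281, 789), 0, (0, 0), 2, (18291, 239), 0, 18300, 18301, [⟨23, [], (18308, 641)⟩, ⟨22, [], (18318, 750)⟩, ⟨11, [7, 6, 6, 5, 6, 6, 5, 6, 6], (18327, 1338)⟩], [], [], (0, 0)⟩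

/-- entry -/
def ent25 : Ent := ⟨0, 2, (5797, 387), 2, (18337, 439), 1, (18345, 1858), 1, 18355, 18356, [⟨11, [7, 6, 5, 6, 6, 5, 6, 6, 5, 6, 5, 6, 6, 5, 6, 6, 5, 6, 5], (18365, 1014)⟩], [⟨8, [7, 6, 5, 6, 6, 6, 5, 6, 5], (18375, 1893)⟩, ⟨11, [6, 6, 6, 5, 6, 5, 6, 6, 5, 6, 5, 6, 6, 5, 6], (18385, 1498)⟩], [], (18395, 224)⟩

/-- entry -/
def ent26 : Ent := ⟨0, 2, (18405, 685), 2, (18415, 381), 1, (18425, 1386), 1, 18435, 18436, [⟨8, [7, 6, 5, 6, 6, 6, 5], (18443, 1918)⟩, ⟨11, [6, 5, 6, 6, 7, 5, 6, 6, 6, 5, 6, 5, 6, 6], (18449, 819)⟩], [⟨11, [6, 6, 7, 6, 5, 6, 5, 6, 6, 6, 5, 6, 5, 6, 6, 5], (18459, 259)⟩], [], (18469, 526)⟩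

/-- entry -/
def ent27 : Ent := ⟨3, 2, (18479, 300), 0, (0, 0), 2, (18488, 144), 0, 18496, 18497, [⟨26, [24], (18506, 282)⟩, ⟨25, [24], (18516, 686)⟩, ⟨16, [24], (18522, 624)⟩], [], [], (0, 0)⟩

/-- entry -/
def ent28 : Ent := ⟨3, 2, (18530, 1908), 0, (0, 0), 2, (18540, 1559), 0, 18549, 18550, [⟨21, [27, 27, 27, 24, 24, 27], (18559, 344)⟩, ⟨21, [27, 27, 24, 27, 27, 24], (18569, 1162)⟩, ⟨21, [27, 27, 24, 27, 24, 24, 27, 24], (18579, 582)⟩], [], [], (0, 0)⟩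

/-- entry -/
def ent29 : Ent := ⟨2, 1, (21, 0), 3, (0, 0), 0, (0, 0), 0, 0, 0, [], [], [], (0, 0)⟩

/-- entry -/
def ent30 : Ent := ⟨1, 3, (0, 0), 1, (21, 0), 29, (0, 0), 0, 0, 0, [], [], [], (0, 0)⟩

/-- entry -/
def ent31 : Ent := ⟨0, 3, (18589, 1586), 3, (18597, 700), 1, (18607, 1792), 2, 18617, 18618, [⟨29, [6, 5, 6, 5, 7, 6, 5, 6, 6, 6, 5, 6, 6, 6, 5], (18627, 943)⟩], [⟨29, [5, 6, 5, 6, 5, 6, 6, 5, 6, 6, 6, 5, 6, 5], (18635, 1591)⟩], [], (18645, 607)⟩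

/-- entry -/
def ent32 : Ent := ⟨0, 3, (6, 1306), 2, (18653, 1092), 1, (18663, 9), 2, 18671, 18672, [⟨29, [6, 7, 5, 6, 5, 6, 6, 5, 6, 6, 5, 6], (18681, 1695)⟩], [⟨11, [7, 5, 6], (18691, 2035)⟩], [], (18699, 101)⟩

/-- entry -/
def ent33 : Ent := ⟨1, 2, (17791, 1495), 3, (18707, 1342), 32, (0, 0), 0, 0, 0, [], [], [], (18717, 1786)⟩

/-- entry -/
def ent34 : Ent := ⟨0, 3, (18721, 0), 3, (18731, 1581), 1, (18738, 1094), 2, 18747, 18748, [⟨29, [7, 5, 6, 6, 5, 6, 6, 6, 5, 6, 6, 5, 6, 6, 5, 6, 6, 5, 6], (18757, 1303)⟩], [⟨29, [6, 6, 5, 6, 6, 5, 6, 5, 6, 5, 6], (18767, 356)⟩], [], (18773, 1687)⟩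

/-- entry -/
def ent35 : Ent := ⟨1, 3, (18781, 647), 3, (18789, 1110), 34, (0, 0), 0, 0, 0, [], [], [], (18797, 1668)⟩

/-- entry -/
def ent36 : Ent := ⟨0, 3, (5758, 0), 3, (18805, 1507), 1, (18811, 526), 0, 18819, 18820, [⟨29, [5, 6, 5, 6, 7, 6, 5, 6, 6, 6, 5, 6, 5, 6, 6, 5], (18829, 1685)⟩], [⟨29, [6, 5, 7, 6, 5, 6, 6, 5, 6, 6, 5, 6, 5, 6, 5, 6, 5], (18839, 1321)⟩], [], (18847, 249)⟩

/-- entry -/
def ent37 : Ent := ⟨0, 3, (2161, 1297), 3, (18857, 1883), 1, (18867, 632), 1, 18876, 18877, [⟨11, [6, 6, 5, 6, 6, 5, 6, 6, 5, 6, 6, 6, 5, 6, 5, 6], (18886, 1145)⟩, ⟨33, [27, 24, 28, 24, 27, 27, 27, 24, 24], (18896, 434)⟩], [⟨29, [5, 6, 6, 6, 5, 6, 6, 6, 5, 6, 6, 6, 5, 6, 6, 6, 5, 6, 6, 6], (18904, 1409)⟩], [], (18913, 854)⟩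

/-- entry -/
def ent38 : Ent := ⟨1, 3, (18921, 0), 3, (18931, 1087), 37, (0, 0), 0, 0, 0, [], [], [], (18937, 1883)⟩

/-- entry -/
def ent39 : Ent := ⟨0, 3, (18781, 1084), 3, (18945, 1941), 1, (18953, 158), 2, 18961, 18962, [⟨29, [5, 6, 5, 6, 6, 6, 5, 6, 6, 5, 6, 5, 6, 5, 6, 5, 6, 5], (18971, 970)⟩], [⟨29, [7, 5, 6, 5, 6, 6, 6, 5, 6, 6, 5, 6, 5, 6, 6, 6, 5, 6, 5, 6, 5], (18979, 405)⟩], [], (18989, 1722)⟩

/-- entry -/
def ent40 : Ent := ⟨0, 2, (5758, 0), 3, (18999, 0), 1, (19009, 1228), 0, 19017, 19018, [⟨11, [5, 6, 6, 6, 5, 6, 5, 6, 5, 6, 6, 5, 6, 5], (19027, 1537)⟩], [⟨29, [6, 5, 6, 5, 6, 5, 6, 6, 6, 5, 6, 5, 6, 5, 6, 5, 6, 5], (19035, 1216)⟩], [], (19045, 187)⟩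

/-- entry -/
def ent41 : Ent := ⟨1, 3, (4751, 0), 2, (19053, 0), 40, (0, 0), 0, 0, 0, [], [], [], (19061, 0)⟩

/-- entry -/
def ent42 : Ent := ⟨0, 3, (8752, 978), 3, (19069, 649), 2, (19075, 213), 0, 19085, 19086, [⟨33, [24, 28, 24, 27, 24, 27, 24, 28, 24], (19093, 1927)⟩], [⟨33, [28, 27, 24, 28, 24, 24, 24], (19103, 1545)⟩], [], (19113, 383)⟩

/-- entry -/
def ent43 : Ent := ⟨0, 3, (19119, 98), 3, (19129, 1712), 1, (19137, 1227), 0, 19146, 19147, [⟨29, [6, 7, 5, 6, 6, 5, 6, 5, 6, 6, 5, 6, 6, 6, 5, 6, 6, 5, 6, 5, 6, 5], (19155, 1895)⟩], [⟨29, [5, 7, 6, 5, 6, 6, 6, 5, 6, 6, 6, 5, 6, 6, 5, 6], (19165, 1554)⟩], [], (19171, 819)⟩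

/-- entry -/
def ent44 : Ent := ⟨0, 3, (3487, 602), 2, (19179, 1569), 1, (19185, 1910), 0, 19193, 19194, [⟨29, [6, 5, 6, 6, 6, 7, 5, 6, 6, 5, 6, 6, 5, 6, 6, 6], (19203, 1218)⟩], [⟨11, [5, 6, 5, 6, 6, 5, 6, 5, 6, 6, 5, 6, 6, 6, 5], (19211, 1118)⟩], [], (19219, 432)⟩

/-- entry -/
def ent45 : Ent := ⟨1, 2, (19227, 534), 3, (19235, 46), 44, (0, 0), 0, 0, 0, [], [], [], (19244, 220)⟩

/-- entry -/
def ent46 : Ent := ⟨0, 3, (12, 455), 3, (19254, 860), 1, (19264, 452), 0, 19274, 19275, [⟨29, [5, 6, 6, 5, 6, 5, 6, 5, 6, 6, 6], (19282, 985)⟩], [⟨29, [5, 6, 7, 5, 6, 5, 6, 5, 6, 5, 6, 5, 6, 5], (19292, 1224)⟩], [], (19302, 1668)⟩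

/-- entry -/
def ent47 : Ent := ⟨1, 3, (19306, 0), 3, (19314, 400), 46, (0, 0), 0, 0, 0, [], [], [], (19324, 860)⟩

/-- entry -/
def ent48 : Ent := ⟨0, 3, (18215, 0), 3, (19332, 0), 1, (19340, 11), 0, 19346, 19347, [⟨29, [5, 6, 6, 6, 5, 6, 5, 6, 5, 6, 6], (19356, 405)⟩], [⟨29, [6, 5, 6, 6, 5, 6, 6, 5, 6, 5, 6, 5, 6, 5, 6], (19366, 323)⟩], [], (19376, 1054)⟩

/-- entry -/
def ent49 : Ent := ⟨0, 3, (19384, 169), 3, (19392, 1779), 1, (19400, 147), 0, 19408, 19409, [⟨29, [5, 6, 5, 6, 6, 7, 6, 5, 6, 6, 5, 6, 6, 5, 6], (19418, 170)⟩], [⟨29, [6, 7, 6, 5, 6, 6, 6, 5, 6, 5, 6, 6, 5, 6, 6, 6, 5], (19426, 272)⟩], [], (19434, 2016)⟩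

/-- entry -/
def ent50 : Ent := ⟨0, 3, (19440, 0), 3, (19448, 327), 1, (19458, 843), 1, 19464, 19465, [⟨11, [6, 5, 6, 5, 6, 5, 6, 5, 6, 6, 5, 6, 5, 6, 6, 5], (19470, 819)⟩, ⟨33, [27, 28, 24, 27], (18366, 889)⟩], [⟨29, [7, 6, 6, 5, 7, 6], (19478, 2033)⟩], [], (19488, 1292)⟩

/-- entry -/
def ent51 : Ent := ⟨1, 3, (19498, 1914), 3, (19508, 941), 50, (0, 0), 0, 0, 0, [], [], [], (19518, 150)⟩

/-- entry -/
def ent52 : Ent := ⟨0, 3, (19526, 741), 3, (19536, 1413), 1, (19542, 1963), 2, 19549, 19550, [⟨29, [5, 7], (19557, 570)⟩], [⟨29, [7, 6, 6, 6, 5, 6, 6, 5, 6, 6, 5, 6, 6, 5, 6, 5], (19567, 329)⟩], [], (19575, 968)⟩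

/-- entry -/
def ent53 : Ent := ⟨0, 3, (4809, 0), 3, (19583, 1066), 1, (19592, 191), 1, 19600, 19601, [⟨29, [6, 6, 5, 6, 5, 6, 5, 6, 6, 6], (19606, 970)⟩], [⟨29, [5, 6, 5, 6, 6, 5, 6, 5, 6, 5, 6, 5, 6, 5, 6, 6, 6, 5, 6], (19614, 1846)⟩, ⟨38, [], (19624, 962)⟩], [], (19634, 808)⟩

/-- entry -/
def ent54 : Ent := ⟨0, 3, (19644, 1696), 3, (19654, 113), 1, (19662, 756), 1, 19670, 19671, [⟨29, [7, 6, 5, 6, 6, 6, 5, 6, 5, 6, 5, 6, 5, 6, 5, 6, 6, 5], (19678, 496)⟩], [⟨11, [6, 6, 5, 6, 6, 5, 6, 6, 5, 6, 5, 7, 6, 6, 5], (19684, 1216)⟩, ⟨33, [24, 28, 27, 24, 24], (19690, 1475)⟩], [], (19700, 2012)⟩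

/-- entry -/
def ent55 : Ent := ⟨0, 3, (19710, 573), 3, (19718, 1533), 1, (19726, 1747), 1, 19734, 19735, [⟨29, [7, 6, 6, 5, 6, 6, 6, 5, 6, 5, 6, 5, 6, 5], (19744, 366)⟩], [⟨11, [6, 6, 5, 7, 6, 6, 5, 6, 6, 5, 6, 6, 6], (19754, 1935)⟩, ⟨33, [27, 27, 27, 24, 28, 24, 27, 28, 24], (19764, 170)⟩], [], (19771, 226)⟩

/-- entry -/
def ent56 : Ent := ⟨3, 3, (19777, 45), 0, (0, 0), 3, (19782, 1236), 0, 19792, 19793, [⟨32, [], (19802, 1539)⟩, ⟨33, [27, 27, 28, 24, 28, 27], (19810, 1611)⟩, ⟨42, [], (19820, 913)⟩], [], [], (0, 0)⟩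

/-- entry -/
def ent57 : Ent := ⟨3, 3, (19830, 740), 0, (0, 0), 3, (19836, 1465), 0, 19844, 19845, [⟨55, [56], (19852, 133)⟩, ⟨49, [56], (19860, 1278)⟩, ⟨47, [], (19865, 54)⟩], [], [], (0, 0)⟩

/-- entry -/
def ent58 : Ent := ⟨3, 3, (19872, 1145), 0, (0, 0), 3, (19880, 518), 2, 19890, 19891, [⟨51, [57, 56, 57, 57, 56, 57, 57, 57, 56, 57, 57, 57, 56], (19898, 1794)⟩, ⟨35, [57, 57], (19908, 1935)⟩, ⟨53, [57, 57, 57, 57, 56, 57, 57, 57, 56], (628, 0)⟩], [], [], (0, 0)⟩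

/-- entry -/
def ent59 : Ent := ⟨3, 3, (19918, 1822), 0, (0, 0), 3, (19926, 1349), 2, 19936, 19937, [⟨51, [58, 57, 58, 56, 58, 57, 56], (19946, 454)⟩, ⟨51, [58, 57, 58, 56, 58, 57, 56, 57, 56], (19954, 1197)⟩, ⟨51, [57, 58, 57, 56, 57], (19962, 956)⟩], [], [], (0, 0)⟩

/-- entry -/
def ent60 : Ent := ⟨2, 1, (10, 515), 4, (0, 0), 0, (0, 0), 0, 0, 0, [], [], [], (0, 0)⟩

/-- entry -/
def ent61 : Ent := ⟨1, 4, (0, 0), 1, (10, 515), 60, (0, 0), 0, 0, 0, [], [], [], (0, 0)⟩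

/-- entry -/
def ent62 : Ent := ⟨0, 4, (19970, 0), 2, (19978, 1889), 1, (19986, 592), 2, 19995, 19996, [⟨60, [], (20003, 684)⟩], [⟨11, [6, 6, 7, 5, 6, 5, 6, 5, 6, 6, 5, 6, 6, 6], (20011, 19)⟩], [], (20017, 985)⟩

/-- entry -/
def ent63 : Ent := ⟨1, 2, (20023, 387), 4, (20030, 452), 62, (0, 0), 0, 0, 0, [], [], [], (20040, 1152)⟩

/-- entry -/
def ent64 : Ent := ⟨0, 4, (10, 1835), 4, (20048, 106), 1, (20056, 1367), 1, 20066, 20067, [⟨11, [5, 6, 6, 6, 5, 6, 6, 6, 5, 6, 6, 6, 5, 6, 6, 6], (20074, 1603)⟩, ⟨63, [27, 24, 27, 28], (20082, 344)⟩], [⟨60, [7, 6, 6, 6, 5, 6, 6], (20086, 862)⟩], [], (20094, 1128)⟩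

/-- entry -/
def ent65 : Ent := ⟨0, 2, (17882, 1662), 4, (20104, 788), 1, (20112, 522), 0, 20118, 20119, [⟨11, [5, 6, 6, 7, 5, 6, 6, 6, 5, 6, 5, 6, 5, 6, 6], (20126, 533)⟩], [⟨60, [6, 6, 6, 5, 6, 6, 5, 6], (20136, 1177)⟩], [], (20144, 481)⟩

/-- entry -/
def ent66 : Ent := ⟨1, 4, (17531, 0), 2, (20151, 1291), 65, (0, 0), 0, 0, 0, [], [], [], (20161, 788)⟩

/-- entry -/
def ent67 : Ent := ⟨0, 4, (20169, 0), 4, (20177, 1129), 1, (20185, 1687), 2, 20193, 20194, [⟨60, [7, 6, 5, 6, 5, 6], (20201, 2024)⟩], [⟨60, [5, 6, 6, 6, 5, 6, 6], (20211, 1216)⟩], [], (20219, 1776)⟩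

/-- entry -/
def ent68 : Ent := ⟨0, 4, (5319, 1345), 1, (20229, 441), 1, (20235, 1827), 1, 20243, 20244, [⟨11, [6, 7, 5, 6, 6, 6, 5, 6], (20251, 177)⟩, ⟨19, [27, 27, 24, 24, 27], (20259, 1197)⟩, ⟨63, [24, 28], (20263, 66)⟩], [], [], (20271, 274)⟩

/-- entry -/
def ent69 : Ent := ⟨0, 4, (20279, 519), 4, (20289, 1829), 1, (20297, 1023), 0, 20307, 20308, [⟨60, [6, 6, 6, 5, 6, 5, 6, 6, 5, 6], (20315, 808)⟩], [⟨60, [7, 5, 6, 5, 6], (20322, 1811)⟩], [], (20332, 2024)⟩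

/-- entry -/
def ent70 : Ent := ⟨1, 4, (17882, 0), 4, (20342, 774), 69, (0, 0), 0, 0, 0, [], [], [], (20350, 1829)⟩

/-- entry -/
def ent71 : Ent := ⟨3, 4, (20358, 1677), 0, (0, 0), 4, (20368, 852), 1, 20376, 20377, [⟨68, [], (20384, 282)⟩, ⟨11, [6, 6, 7, 5, 7, 6, 6, 5, 6], (20392, 1910)⟩, ⟨19, [27, 28, 27, 27, 24], (20402, 1044)⟩, ⟨65, [], (20410, 1846)⟩], [], [], (0, 0)⟩

/-- entry -/
def ent72 : Ent := ⟨3, 4, (20418, 1840), 0, (0, 0), 4, (20428, 1185), 0, 20434, 20435, [⟨68, [71, 71], (20440, 860)⟩, ⟨60, [6, 5, 6, 6, 6, 5, 6], (20448, 535)⟩, ⟨70, [], (20457, 817)⟩], [], [], (0, 0)⟩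

/-- entry -/
def ent73 : Ent := ⟨2, 2, (3, 0), 5, (0, 0), 0, (0, 0), 0, 0, 0, [], [], [], (0, 0)⟩

/-- entry -/
def ent74 : Ent := ⟨1, 5, (0, 0), 2, (3, 0), 73, (0, 0), 0, 0, 0, [], [], [], (0, 0)⟩

/-- entry -/
def ent75 : Ent := ⟨0, 4, (20467, 1770), 5, (20475, 194), 4, (20484, 1429), 2, 20492, 20493, [], [⟨62, [71, 72], (20502, 1626)⟩, ⟨73, [27, 27, 24, 27, 27, 27, 24, 24], (20510, 39)⟩], [], (20518, 1866)⟩

/-- entry -/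
def ent76 : Ent := ⟨1, 5, (20526, 1923), 4, (20534, 1880), 75, (0, 0), 0, 0, 0, [], [], [], (20542, 624)⟩

/-- entry -/
def ent77 : Ent := ⟨0, 5, (20548, 0), 5, (20552, 570), 4, (20560, 805), 2, 20567, 20568, [⟨75, [71, 71, 72, 71, 71], (20573, 624)⟩], [⟨75, [72, 72, 72, 71, 72, 72, 71, 72, 72, 71, 72, 72, 72, 72], (20581, 898)⟩], [], (20589, 1145)⟩

/-- entry -/
def ent78 : Ent := ⟨0, 2, (20597, 0), 5, (20607, 1321), 4, (20615, 790), 1, 20623, 20624, [⟨62, [72, 72, 72, 71, 71, 72, 71, 71, 72], (20633, 1802)⟩, ⟨13, [24, 28], (20641, 2004)⟩], [⟨75, [72, 71, 72, 72, 71, 72, 72, 72, 71, 71, 72, 71, 71, 72, 71, 71], (20651, 1075)⟩], [], (20661, 2006)⟩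

/-- entry -/
def ent79 : Ent := ⟨1, 5, (20669, 0), 2, (20679, 179), 78, (0, 0), 0, 0, 0, [], [], [], (20687, 1321)⟩

/-- entry -/
def ent80 : Ent := ⟨0, 3, (129, 739), 5, (20695, 1293), 1, (20703, 340), 1, 20711, 20712, [⟨29, [6, 6, 6, 5, 6, 6, 5, 6, 5, 7, 6, 6, 6, 5, 6, 6, 5, 6, 5], (20719, 1197)⟩], [⟨11, [7, 6, 5, 6, 5, 6, 6, 6, 5, 6, 5, 6], (20728, 827)⟩, ⟨73, [28, 24, 27, 27, 28, 24, 24], (20738, 1591)⟩], [], (20746, 177)⟩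

/-- entry -/
def ent81 : Ent := ⟨1, 5, (20754, 1513), 3, (20758, 836), 80, (0, 0), 0, 0, 0, [], [], [], (20766, 1419)⟩

/-- entry -/
def ent82 : Ent := ⟨0, 3, (20773, 0), 5, (20781, 1312), 1, (20791, 420), 1, 20799, 20800, [⟨29, [6, 6, 5, 6, 6, 6, 5, 6, 6, 5, 6, 5, 6, 5, 6, 5, 6], (20807, 837)⟩], [⟨29, [6, 5, 6, 5, 6, 6, 6, 5, 6, 5, 6, 5, 6, 6, 5, 6, 6, 5], (20815, 413)⟩, ⟨80, [58, 57, 58, 56, 59, 58], (20821, 617)⟩], [], (20831, 695)⟩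

/-- entry -/
def ent83 : Ent := ⟨1, 5, (10, 455), 3, (20839, 241), 82, (0, 0), 0, 0, 0, [], [], [], (20847, 344)⟩

/-- entry -/
def ent84 : Ent := ⟨0, 5, (20855, 1324), 5, (20865, 1658), 3, (20875, 1007), 0, 20885, 20886, [⟨80, [57, 59, 59, 57, 58, 56, 57, 56], (20893, 619)⟩], [⟨80, [56, 59, 56, 58, 59, 56], (20903, 1636)⟩], [], (20912, 950)⟩

/-- entry -/
def ent85 : Ent := ⟨0, 3, (20920, 363), 5, (20928, 1166), 3, (20938, 1876), 0, 20946, 20947, [⟨31, [59, 58, 59, 57, 59], (20954, 489)⟩], [⟨80, [56, 58, 59, 59, 59, 59], (19435, 1417)⟩], [], (20964, 1533)⟩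

/-- entry -/
def ent86 : Ent := ⟨1, 5, (20023, 90), 3, (20972, 699), 85, (0, 0), 0, 0, 0, [], [], [], (20980, 1103)⟩

/-- entry -/
def ent87 : Ent := ⟨0, 5, (20989, 799), 5, (20997, 135), 4, (21007, 1218), 0, 21015, 21016, [⟨75, [71, 72, 71, 71, 72, 72, 72, 71, 72, 72, 71, 71], (21021, 1058)⟩], [⟨75, [72, 71, 71, 72, 72, 72, 72, 72, 71, 71, 71, 72, 71, 71], (21029, 923)⟩], [], (21037, 1241)⟩

/-- entry -/
def ent88 : Ent := ⟨0, 5, (21045, 792), 5, (21053, 1245), 4, (21061, 527), 2, 21071, 21072, [⟨75, [72, 72, 72, 71, 72, 72, 72, 71, 72, 71, 72, 71, 72], (21080, 1852)⟩], [⟨75, [72, 72, 71, 71, 71, 72, 72, 71, 72, 71, 71, 72], (21090, 52)⟩], [], (21098, 1313)⟩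

/-- entry -/
def ent89 : Ent := ⟨0, 5, (967, 0), 5, (21106, 38), 3, (21116, 1947), 0, 21123, 21124, [⟨80, [59, 56, 57, 57, 57], (21131, 1031)⟩], [⟨80, [58, 57, 59, 58, 59, 57], (21139, 1336)⟩], [], (21147, 1875)⟩

/-- entry -/
def ent90 : Ent := ⟨0, 5, (1240, 964), 5, (21155, 857), 4, (21163, 1729), 0, 21171, 21172, [⟨75, [71, 72, 72, 71, 71, 72, 71, 71, 71, 72, 72, 71, 72], (21180, 60)⟩], [⟨75, [71, 72, 72, 72, 71, 71, 71, 72, 71, 71, 72, 71, 72], (21190, 74)⟩], [], (21198, 1695)⟩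

/-- entry -/
def ent91 : Ent := ⟨0, 3, (21206, 616), 5, (21216, 101), 1, (21224, 1009), 1, 21232, 21233, [⟨29, [7, 6, 6, 6, 5, 6, 5, 6, 5, 6, 6, 6, 5, 6], (21242, 267)⟩], [⟨29, [5, 6, 6, 6, 5, 6, 6, 5, 6, 6, 6, 5, 6, 5], (21252, 1837)⟩, ⟨80, [58, 58, 58, 58], (21260, 1942)⟩], [], (21268, 66)⟩

/-- entry -/
def ent92 : Ent := ⟨1, 5, (21276, 0), 3, (21283, 744), 91, (0, 0), 0, 0, 0, [], [], [], (21291, 101)⟩

/-- entry -/
def ent93 : Ent := ⟨0, 5, (21299, 320), 5, (21305, 894), 4, (21315, 1649), 2, 21323, 21324, [⟨75, [71, 71, 72, 71, 72, 72, 72, 71, 71, 71, 72], (21333, 864)⟩], [⟨75, [71, 71, 71, 72, 71, 72, 71, 72, 72, 72, 72, 71, 72, 71, 72], (21339, 1778)⟩], [], (21345, 111)⟩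

/-- entry -/
def ent94 : Ent := ⟨0, 5, (21355, 0), 2, (21363, 71), 2, (21371, 1181), 0, 21381, 21382, [⟨33, [27, 24, 27, 28, 27, 24, 27, 27], (21389, 1722)⟩, ⟨85, [58, 59, 58, 58, 56], (21397, 1039)⟩], [], [], (21405, 64)⟩

/-- entry -/
def ent95 : Ent := ⟨1, 2, (21414, 1109), 5, (21422, 950), 94, (0, 0), 0, 0, 0, [], [], [], (21430, 1066)⟩

/-- entry -/
def ent96 : Ent := ⟨0, 5, (21439, 1297), 5, (21445, 1051), 2, (21453, 1079), 1, 21463, 21464, [⟨45, [28, 27, 27, 24, 27, 28, 27], (21473, 1618)⟩, ⟨91, [57, 57, 56, 58], (21483, 309)⟩], [⟨78, [27, 28, 24, 27, 28, 27], (21491, 1373)⟩], [], (21499, 405)⟩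

/-- entry -/
def ent97 : Ent := ⟨0, 5, (10551, 1637), 5, (21507, 782), 4, (21515, 1698), 1, 21521, 21522, [⟨75, [72, 72, 71, 71, 72, 71, 71, 72, 71, 71, 72, 72, 72, 72], (21529, 664)⟩], [⟨62, [72, 72, 71, 72, 71, 72, 72, 72, 71, 71, 72, 72], (21537, 765)⟩, ⟨73, [28, 27, 27, 24, 27, 27, 28], (21545, 1518)⟩], [], (21553, 757)⟩

/-- entry -/
def ent98 : Ent := ⟨0, 5, (21561, 0), 5, (21569, 1490), 4, (21577, 625), 0, 21585, 21586, [⟨75, [71, 71, 72, 71, 72, 71, 71, 72, 71, 72, 71, 71], (21591, 935)⟩], [⟨75, [71, 72, 71, 71, 71, 72, 71, 71, 71, 72, 71, 72, 71], (21601, 1591)⟩], [], (21609, 1769)⟩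

/-- entry -/
def ent99 : Ent := ⟨0, 5, (21617, 1038), 5, (21625, 1508), 2, (21633, 617), 2, 21643, 21644, [⟨73, [24, 27, 27, 28, 27, 28, 24, 24], (21653, 956)⟩], [⟨73, [24, 27, 28, 24, 24, 27, 28, 24, 27], (21661, 860)⟩], [], (21669, 1771)⟩

/-- entry -/
def ent100 : Ent := ⟨0, 5, (21677, 579), 5, (21685, 382), 2, (21693, 150), 2, 21703, 21704, [⟨73, [27, 27, 28, 27, 24, 28, 24, 24, 27, 24], (21711, 1714)⟩], [⟨73, [27, 28, 27, 24, 24, 27, 27, 28], (21719, 1020)⟩], [], (766, 251)⟩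

/-- entry -/
def ent101 : Ent := ⟨1, 5, (18589, 1217), 5, (21727, 787), 100, (0, 0), 0, 0, 0, [], [], [], (21736, 323)⟩

/-- entry -/
def ent102 : Ent := ⟨0, 5, (21742, 0), 5, (21752, 1103), 4, (21759, 509), 0, 21769, 21770, [⟨75, [72, 71, 72, 72, 71, 71, 71, 72, 71, 72, 71, 71], (21777, 1940)⟩], [⟨75, [72, 71, 72, 71, 71, 72, 71, 72, 71, 72, 71, 71, 71], (21785, 524)⟩], [], (21793, 1668)⟩

/-- entry -/
def ent103 : Ent := ⟨0, 5, (21803, 159), 5, (21811, 130), 2, (21821, 1870), 2, 21829, 21830, [⟨73, [28, 27, 27, 27, 24, 28, 24, 24], (21839, 1461)⟩], [⟨73, [24, 28, 28, 27, 28, 27], (21847, 432)⟩], [], (21857, 1597)⟩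

/-- entry -/
def ent104 : Ent := ⟨0, 5, (21865, 0), 5, (21872, 1210), 2, (21882, 1133), 2, 21892, 21893, [⟨73, [24, 27, 27, 27, 28, 24, 24, 24], (21898, 220)⟩], [⟨73, [27, 28, 27, 24, 24, 24, 28, 24, 28], (21906, 790)⟩], [], (21916, 83)⟩

/-- entry -/
def ent105 : Ent := ⟨1, 5, (20527, 380), 5, (21924, 1171), 104, (0, 0), 0, 0, 0, [], [], [], (21930, 516)⟩

/-- entry -/
def ent106 : Ent := ⟨0, 2, (21938, 850), 5, (21944, 832), 4, (21954, 1602), 0, 21962, 21963, [⟨66, [72, 71, 71, 72, 72, 72, 71, 71, 71, 72], (21970, 543)⟩], [⟨75, [72, 71, 71, 71, 72, 72, 72, 72, 72, 72, 71, 72, 71, 72], (21978, 1695)⟩], [], (21988, 405)⟩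

/-- entry -/
def ent107 : Ent := ⟨1, 5, (21742, 1923), 2, (21996, 1129), 106, (0, 0), 0, 0, 0, [], [], [], (22006, 1678)⟩

/-- entry -/
def ent108 : Ent := ⟨0, 5, (22012, 1397), 3, (22020, 897), 4, (22028, 774), 1, 22036, 22037, [⟨75, [72, 71, 71, 71, 72, 71, 71, 71, 72, 72, 71, 71, 72, 71, 72], (22044, 1375)⟩], [⟨62, [72, 71, 72, 72, 71, 71], (22052, 344)⟩, ⟨33, [28, 24, 27, 28, 24, 28, 24], (22062, 0)⟩], [], (22072, 1916)⟩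

/-- entry -/
def ent109 : Ent := ⟨3, 5, (22080, 1848), 0, (0, 0), 5, (22088, 1873), 2, 22097, 22098, [⟨108, [], (22105, 1653)⟩, ⟨42, [58, 59, 59, 57, 58, 59], (22107, 611)⟩, ⟨80, [58, 58, 57, 58, 58, 58, 57], (22115, 101)⟩], [], [], (0, 0)⟩

/-- entry -/
def ent110 : Ent := ⟨3, 5, (22121, 1806), 0, (0, 0), 5, (22129, 1746), 0, 22138, 22139, [⟨101, [109, 109, 109], (22146, 720)⟩, ⟨105, [109, 109, 109, 109, 109, 109, 109], (22156, 390)⟩, ⟨103, [109, 109, 109, 109, 109], (22164, 1075)⟩], [], [], (0, 0)⟩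

/-- entry -/
def ent111 : Ent := ⟨3, 5, (22172, 1806), 0, (0, 0), 5, (22180, 1350), 0, 22188, 22189, [⟨99, [110, 109, 109, 109, 109, 109, 110, 109, 109, 109, 109, 109, 109, 109, 109], (22196, 1394)⟩, ⟨84, [109, 109, 110, 110, 109, 109, 110, 110, 109, 110, 110, 109], (22206, 39)⟩, ⟨99, [110, 110, 109, 109, 109, 109, 109, 109, 109, 109], (22212, 872)⟩], [], [], (0, 0)⟩

/-- entry -/
def ent112 : Ent := ⟨2, 2, (5, 0), 6, (0, 0), 0, (0, 0), 0, 0, 0, [], [], [], (0, 0)⟩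

/-- entry -/
def ent113 : Ent := ⟨1, 6, (0, 0), 2, (5, 0), 112, (0, 0), 0, 0, 0, [], [], [], (0, 0)⟩

/-- entry -/
def ent114 : Ent := ⟨0, 6, (21206, 1492), 5, (22220, 1367), 2, (22226, 1178), 1, 22234, 22235, [⟨14, [27, 28, 24, 27, 28], (22242, 1402)⟩, ⟨112, [27, 28, 24, 27, 24, 24, 28, 24, 28], (22248, 1152)⟩], [⟨73, [24, 24, 27, 24, 28, 24, 28], (22258, 338)⟩], [], (22268, 1276)⟩

/-- entry -/
def ent115 : Ent := ⟨1, 5, (22274, 0), 6, (22284, 1541), 114, (0, 0), 0, 0, 0, [], [], [], (4915, 1367)⟩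

/-- entry -/
def ent116 : Ent := ⟨0, 3, (22294, 0), 6, (22302, 483), 3, (22310, 849), 0, 22318, 22319, [], [⟨32, [59, 59, 58, 57, 56, 57], (22325, 599)⟩, ⟨112, [27, 28, 27, 27, 24, 27, 28], (22331, 1323)⟩], [], (22337, 143)⟩

/-- entry -/
def ent117 : Ent := ⟨1, 6, (2161, 0), 3, (22343, 808), 116, (0, 0), 0, 0, 0, [], [], [], (22353, 483)⟩

/-- entry -/
def ent118 : Ent := ⟨0, 6, (22361, 738), 6, (22370, 1615), 2, (22379, 339), 2, 22387, 22388, [⟨112, [27, 28, 27, 27, 24, 28, 27], (22393, 366)⟩], [⟨112, [27, 24, 28, 27, 28, 27, 27, 27, 24, 24], (22403, 185)⟩], [], (22413, 124)⟩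

/-- entry -/
def ent119 : Ent := ⟨0, 6, (5890, 534), 6, (22423, 1053), 3, (22431, 1804), 2, 22439, 22440, [⟨116, [58, 57, 57, 56, 59, 58, 58], (22447, 1243)⟩], [⟨116, [58, 58, 57, 58, 59, 59, 56], (22455, 1678)⟩], [], (22465, 309)⟩

/-- entry -/
def ent120 : Ent := ⟨0, 5, (22473, 0), 6, (22483, 812), 2, (22491, 511), 0, 22501, 22502, [⟨78, [27, 28, 28, 27, 27], (22509, 703)⟩], [⟨112, [24, 24, 28, 27, 28, 27, 27, 24, 27], (22515, 1014)⟩], [], (22522, 1927)⟩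

/-- entry -/
def ent121 : Ent := ⟨1, 6, (17882, 1662), 5, (22532, 440), 120, (0, 0), 0, 0, 0, [], [], [], (22540, 1379)⟩

/-- entry -/
def ent122 : Ent := ⟨0, 6, (22548, 0), 5, (22554, 1517), 3, (22562, 1248), 2, 22572, 22573, [⟨116, [58, 59, 57, 59], (22578, 25)⟩], [⟨80, [56, 59, 58, 57, 56, 59], (22586, 477)⟩], [], (22594, 1699)⟩

/-- entry -/
def ent123 : Ent := ⟨1, 5, (22602, 1156), 6, (22610, 1952), 122, (0, 0), 0, 0, 0, [], [], [], (22620, 765)⟩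

/-- entry -/
def ent124 : Ent := ⟨0, 6, (22626, 1605), 6, (22636, 26), 5, (22644, 74), 0, 22650, 22651, [⟨123, [111, 111, 111, 111, 110, 111, 110, 111, 111], (22658, 1969)⟩], [⟨120, [109, 110, 109, 109, 110], (22662, 1029)⟩], [], (22670, 864)⟩

/-- entry -/
def ent125 : Ent := ⟨0, 3, (22678, 0), 6, (22688, 239), 3, (22696, 1001), 2, 22706, 22707, [], [⟨80, [58, 57, 59, 56, 58, 59, 58], (22715, 1214)⟩, ⟨115, [111, 111, 111, 111, 111, 109, 109], (22723, 39)⟩], [], (22731, 553)⟩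

/-- entry -/
def ent126 : Ent := ⟨1, 6, (22737, 2034), 3, (22747, 440), 125, (0, 0), 0, 0, 0, [], [], [], (22757, 1323)⟩

/-- entry -/
def ent127 : Ent := ⟨0, 6, (22767, 0), 6, (22775, 1783), 2, (22783, 1341), 1, 22790, 22791, [⟨95, [27, 24, 27, 24, 27], (22798, 1582)⟩, ⟨123, [110, 110, 109, 109, 109, 110, 110, 109], (22806, 1722)⟩], [⟨112, [24, 28, 27, 24, 27, 27, 27, 27, 27, 24], (22814, 64)⟩], [], (22822, 483)⟩

/-- entry -/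
def ent128 : Ent := ⟨0, 6, (8655, 0), 3, (22830, 873), 2, (22838, 616), 0, 22848, 22849, [⟨112, [27, 24, 27, 27, 28, 27, 28], (22854, 1989)⟩], [⟨45, [24, 24, 27, 27, 24], (22862, 588)⟩], [], (22870, 1611)⟩

/-- entry -/
def ent129 : Ent := ⟨0, 6, (22880, 1042), 3, (22888, 1669), 5, (22898, 704), 2, 22906, 22907, [⟨123, [109, 111, 111, 110, 111, 109, 110, 110], (22914, 1037)⟩], [⟨81, [109, 109, 109, 110, 111, 111, 110], (22924, 1118)⟩], [], (22932, 1811)⟩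

/-- entry -/
def ent130 : Ent := ⟨1, 3, (22940, 1656), 6, (22946, 371), 129, (0, 0), 0, 0, 0, [], [], [], (22954, 781)⟩

/-- entry -/
def ent131 : Ent := ⟨0, 6, (10133, 1300), 6, (22962, 1980), 2, (22970, 667), 1, 22978, 22979, [⟨73, [28, 24, 24, 27, 28, 28], (22986, 477)⟩, ⟨123, [109, 111, 110, 109, 109, 110, 110, 109, 109], (22994, 915)⟩], [⟨112, [27, 27, 27, 28, 24, 27, 28, 24], (23002, 715)⟩], [], (23010, 1204)⟩

/-- entry -/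
def ent132 : Ent := ⟨0, 6, (5850, 90), 3, (23018, 1652), 3, (23026, 221), 2, 23036, 23037, [⟨116, [59, 57, 57, 57, 56, 57, 56], (23044, 765)⟩], [⟨42, [59, 58, 59, 58, 59], (23052, 1601)⟩], [], (23060, 1742)⟩

/-- entry -/
def ent133 : Ent := ⟨0, 6, (23066, 332), 6, (23074, 1403), 3, (23082, 1698), 1, 23090, 23091, [⟨42, [56, 58, 59, 59, 58, 56], (23096, 1784)⟩, ⟨116, [58, 59, 58, 58, 57, 57, 57], (23104, 471)⟩], [⟨116, [57, 56, 57, 58, 56], (23114, 968)⟩], [], (23122, 1152)⟩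

/-- entry -/
def ent134 : Ent := ⟨3, 6, (23130, 624), 0, (0, 0), 6, (23138, 1816), 2, 23146, 23147, [⟨132, [], (23154, 1424)⟩, ⟨80, [57, 57, 59, 57, 58], (23164, 1646)⟩, ⟨115, [109, 111, 110, 110, 111, 110, 109], (23172, 294)⟩], [], [], (0, 0)⟩

/-- entry -/
def ent135 : Ent := ⟨3, 6, (23180, 1020), 0, (0, 0), 6, (23188, 1702), 2, 23196, 23197, [⟨128, [134, 134, 134, 134, 134, 134, 134, 134], (23206, 703)⟩, ⟨80, [58, 59, 56, 59, 58, 56], (23210, 1831)⟩, ⟨120, [110, 111, 109, 110, 110, 109, 110], (23216, 1918)⟩], [], [], (0, 0)⟩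

/-- the table -/
def entT : Tr Ent := (.node (.node (.node (.node (.node (.node (.node (.node (.leaf ent0) (.leaf ent128)) (.node (.leaf ent64) (.leaf ent0))) (.node (.node (.leaf ent32) (.leaf ent0)) (.node (.leaf ent96) (.leaf ent0)))) (.node (.node (.node (.leaf ent16) (.leaf ent0)) (.node (.leaf ent80) (.leaf ent0))) (.node (.node (.leaf ent48) (.leaf ent0)) (.node (.leaf ent112) (.leaf ent0))))) (.node (.node (.node (.node (.leaf ent8) (.leaf ent0)) (.node (.leaf ent72) (.leaf ent0))) (.node (.node (.leaf ent40) (.leaf ent0)) (.node (.leaf ent104) (.leaf ent0)))) (.node (.node (.node (.leaf ent24) (.leaf ent0)) (.node (.leaf ent88) (.leaf ent0))) (.node (.node (.leaf ent56) (.leaf ent0)) (.node (.leaf ent120) (.leaf ent0)))))) (.node (.node (.node (.node (.node (.leaf ent4) (.leaf ent132)) (.node (.leaf ent68) (.leaf ent0))) (.node (.node (.leaf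 ent36) (.leaf ent0)) (.node (.leaf ent100) (.leaf ent0)))) (.node (.node (.node (.leaf ent20) (.leaf ent0)) (.node (.leaf ent84) (.leaf ent0))) (.node (.node (.leaf ent52) (.leaf ent0)) (.node (.leaf ent116) (.leaf ent0))))) (.node (.node (.node (.node (.leaf ent12) (.leaf ent0)) (.node (.leaf ent76) (.leaf ent0))) (.node (.node (.leaf ent44) (.leaf ent0)) (.node (.leaf ent108) (.leaf ent0)))) (.node (.node (.node (.leaf ent28) (.leaf ent0)) (.node (.leaf ent92) (.leaf ent0))) (.node (.node (.leaf ent60) (.leaf ent0)) (.node (.leaf ent124) (.leaf ent0))))))) (.node (.node (.node (.node (.node (.node (.leaf ent2) (.leaf ent130)) (.node (.leaf ent66) (.leaf ent0))) (.node (.node (.leaf ent34) (.leaf ent0)) (.node (.leaf ent98) (.leaf ent0)))) (.node (.node (.node (.leaf ent18) (.leaf ent0)) (.node (.leaf ent82) (.leaf ent0))) (.node (.node (.leaf ent50)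 (.leaf ent0)) (.node (.leaf ent114) (.leaf ent0))))) (.node (.node (.node (.node (.leaf ent10) (.leaf ent0)) (.node (.leaf ent74) (.leaf ent0))) (.node (.node (.leaf ent42) (.leaf ent0)) (.node (.leaf ent106) (.leaf ent0)))) (.node (.node (.node (.leaf ent26) (.leaf ent0)) (.node (.leaf ent90) (.leaf ent0))) (.node (.node (.leaf ent58) (.leaf ent0)) (.node (.leaf ent122) (.leaf ent0)))))) (.node (.node (.node (.node (.node (.leaf ent6) (.leaf ent134)) (.node (.leaf ent70) (.leaf ent0))) (.node (.node (.leaf ent38) (.leaf ent0)) (.node (.leaf ent102) (.leaf ent0)))) (.node (.node (.node (.leaf ent22) (.leaf ent0)) (.node (.leaf ent86) (.leaf ent0))) (.node (.node (.leaf ent54) (.leaf ent0)) (.node (.leaf ent118) (.leaf ent0))))) (.node (.node (.node (.node (.leaf ent14) (.leaf ent0)) (.node (.leaf ent78) (.leaf ent0))) (.node (.node (.leaf ent46)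 (.leaf ent0)) (.node (.leaf ent110) (.leaf ent0)))) (.node (.node (.node (.leaf ent30) (.leaf ent0)) (.node (.leaf ent94) (.leaf ent0))) (.node (.node (.leaf ent62) (.leaf ent0)) (.node (.leaf ent126) (.leaf ent0)))))))) (.node (.node (.node (.node (.node (.node (.node (.leaf ent1) (.leaf ent129)) (.node (.leaf ent65) (.leaf ent0))) (.node (.node (.leaf ent33) (.leaf ent0)) (.node (.leaf ent97) (.leaf ent0)))) (.node (.node (.node (.leaf ent17) (.leaf ent0)) (.node (.leaf ent81) (.leaf ent0))) (.node (.node (.leaf ent49) (.leaf ent0)) (.node (.leaf ent113) (.leaf ent0))))) (.node (.node (.node (.node (.leaf ent9) (.leaf ent0)) (.node (.leaf ent73) (.leaf ent0))) (.node (.node (.leaf ent41) (.leaf ent0)) (.node (.leaf ent105) (.leaf ent0)))) (.node (.node (.node (.leaf ent25) (.leaf ent0)) (.node (.leaf ent89) (.leaf ent0))) (.node (.node (.leaf ent57)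 (.leaf ent0)) (.node (.leaf ent121) (.leaf ent0)))))) (.node (.node (.node (.node (.node (.leaf ent5) (.leaf ent133)) (.node (.leaf ent69) (.leaf ent0))) (.node (.node (.leaf ent37) (.leaf ent0)) (.node (.leaf ent101) (.leaf ent0)))) (.node (.node (.node (.leaf ent21) (.leaf ent0)) (.node (.leaf ent85) (.leaf ent0))) (.node (.node (.leaf ent53) (.leaf ent0)) (.node (.leaf ent117) (.leaf ent0))))) (.node (.node (.node (.node (.leaf ent13) (.leaf ent0)) (.node (.leaf ent77) (.leaf ent0))) (.node (.node (.leaf ent45) (.leaf ent0)) (.node (.leaf ent109) (.leaf ent0)))) (.node (.node (.node (.leaf ent29) (.leaf ent0)) (.node (.leaf ent93) (.leaf ent0))) (.node (.node (.leaf ent61) (.leaf ent0)) (.node (.leaf ent125) (.leaf ent0))))))) (.node (.node (.node (.node (.node (.node (.leaf ent3) (.leaf ent131)) (.node (.leaf ent67) (.leaf ent0))) (.node (.node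 (.leaf ent35) (.leaf ent0)) (.node (.leaf ent99) (.leaf ent0)))) (.node (.node (.node (.leaf ent19) (.leaf ent0)) (.node (.leaf ent83) (.leaf ent0))) (.node (.node (.leaf ent51) (.leaf ent0)) (.node (.leaf ent115) (.leaf ent0))))) (.node (.node (.node (.node (.leaf ent11) (.leaf ent0)) (.node (.leaf ent75) (.leaf ent0))) (.node (.node (.leaf ent43) (.leaf ent0)) (.node (.leaf ent107) (.leaf ent0)))) (.node (.node (.node (.leaf ent27) (.leaf ent0)) (.node (.leaf ent91) (.leaf ent0))) (.node (.node (.leaf ent59) (.leaf ent0)) (.node (.leaf ent123) (.leaf ent0)))))) (.node (.node (.node (.node (.node (.leaf ent7) (.leaf ent135)) (.node (.leaf ent71) (.leaf ent0))) (.node (.node (.leaf ent39) (.leaf ent0)) (.node (.leaf ent103) (.leaf ent0)))) (.node (.node (.node (.leaf ent23) (.leaf ent0)) (.node (.leaf ent87) (.leaf ent0))) (.node (.node (.leaf ent55)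 (.leaf ent0)) (.node (.leaf ent119) (.leaf ent0))))) (.node (.node (.node (.node (.leaf ent15) (.leaf ent0)) (.node (.leaf ent79) (.leaf ent0))) (.node (.node (.leaf ent47) (.leaf ent0)) (.node (.leaf ent111) (.leaf ent0)))) (.node (.node (.node (.leaf ent31) (.leaf ent0)) (.node (.leaf ent95) (.leaf ent0))) (.node (.node (.leaf ent63) (.leaf ent0)) (.node (.leaf ent127) (.leaf ent0)))))))))

/-- relators -/
def relL : List (List (Nat × Nat) × El) := [([(18, 19), (16, 17), (14, 15)], (0, 0)), ([(0, 0), (97, 98), (0, 0), (95, 96)], (58, 0)), ([(107, 108), (105, 106), (103, 104)], (0, 1))]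

/-- pushes -/
def pushL : List (Nat × Nat × El) := [(0, 585, (17479, 1670)), (1, 340, (17486, 1761)), (2, 900, (17479, 434)), (3, 1041, (17486, 1286)), (4, 510, (17493, 1952)), (5, 1450, (17502, 160)), (6, 604, (17513, 915)), (7, 1178, (17513, 837)), (8, 515, (17522, 1118))]

/-- nodes -/
def nodeL : List (Nat × El) := [(0, (0, 0)), (0, (0, 0)), (1, (3, 0)), (1, (21, 0)), (1, (10, 515)), (2, (3, 0)), (2, (5, 0))]

/-- number of entries -/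
def entN : Nat := 136

end CfsgLib.Coset.J4.Dat
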