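import Cfsg.Agent.Coset.Prim

set_option autoImplicit false
set_option maxRecDepth 100000
set_option Elab.async false

namespace CfsgLib.Coset.J4.Dat

open CfsgLib.Coset (Tr)

/-- part -/
def sextT_0 : Tr Nat := (.node (.node (.node (.node (.node (.node (.node (.node (.leaf 0x376000001000000) (.leaf 0x53c00062c0005b000270d)) (.node (.leaf 0xee0004ed0005070023a9) (.leaf 0x53800046200039f0023ed))) (.node (.node (.leaf 0x6380001bf00012300217d) (.leaf 0x26b00032c0005a3002076)) (.node (.leaf 0x26400061e0004cc000d85) (.leaf 0x376000001000000)))) (.node (.node (.node (.leaf 0x54f0006c200003800018e) (.leaf 0x5500005b400065c001fb1)) (.node (.leaf 0x62e000535000616000bcd) (.leaf 0x5480004180005dd00250d))) (.node (.node (.leaf 0x34d0002360002e0000a0f) (.leaf 0x1bf00069900033e00207b)) (.node (.leaf 0x6350006df0005980020dd) (.leaf 0x376000001000000))))) (.node (.node (.node (.node (.leaf 0x6dd0001ec000500002784) (.leaf 0x6510006840002770023c1)) (.node (.leaf 0x11900026800044d0000f0) (.leaf 0x62400054c0006f4002571)))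 (.node (.node (.leaf 0x49f0001d00002450021a5) (.leaf 0x16d0004a3000783000d7b)) (.node (.leaf 0x4e00005bc0000f2001ffa) (.leaf 0x376000001000000)))) (.node (.node (.node (.leaf 0x50600030f000250002643) (.leaf 0x21000017a0002b7002587)) (.node (.leaf 0x2520004d90007090024c3) (.leaf 0x3980004ca0003df0025d3))) (.node (.node (.leaf 0x3c100051f00050c001c2a) (.leaf 0x4dc00057e0007b0002415)) (.node (.leaf 0x2c700046000026e002563) (.leaf 0x376000001000000)))))) (.node (.node (.node (.node (.node (.leaf 0x614000489000081000967) (.leaf 0x4460002f600034b000a3f)) (.node (.leaf 0x35500024100051300255f) (.leaf 0x5fb0005b10006ea002067))) (.node (.node (.leaf 0x4d700029c0001540024db) (.leaf 0x4b200039b0006d800279f)) (.node (.leaf 0x2230003150000d70020fd) (.leaf 0x376000001000000)))) (.node (.node (.node (.leaf 0x50c00028900014100233b) (.leaf 0x6b50001f80005990022af)) (.node (.leaf 0x3ee00051500061900240b) (.leaf 0x33e000257000776000509))) (.node (.node (.leaf 0x4300003af0006810000fe) (.leaf 0x3120000ed0005f2000059))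 (.node (.leaf 0x6e20005e20001ad00282f) (.leaf 0x376000001000000))))) (.node (.node (.node (.node (.leaf 0x4fe00057000000f0028ab) (.leaf 0x69e0003c000035a002441)) (.node (.leaf 0x6530005190002c50021ff) (.leaf 0x3150000470006b700202d))) (.node (.node (.leaf 0x2f60002710006040021e7) (.leaf 0xbb00009b000597001c26)) (.node (.leaf 0x750002d70000f4002347) (.leaf 0x376000001000000)))) (.node (.node (.node (.leaf 0x2b500026b00018400227d) (.leaf 0x261000656000782002041)) (.node (.leaf 0x5f40001380002ca002280) (.leaf 0x4810002070006ff002481))) (.node (.node (.leaf 0x32d00057b00056000203f) (.leaf 0x5e700048100071b0021c1)) (.node (.leaf 0x1890001470001e400288b) (.leaf 0x376000001000000))))))) (.node (.node (.node (.node (.node (.node (.leaf 0x54100012700000c0020cb) (.leaf 0x11c00064c0000df002389)) (.node (.leaf 0x6a70005d100041b00235f) (.leaf 0xd8000243000793002249))) (.node (.node (.leaf 0x2bb00032500011600228c) (.leaf 0x5f60002320003e40027cf)) (.node (.leaf 0x171000233000137001c5b) (.leaf 0x376000001000000))))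 (.node (.node (.node (.leaf 0x1a3000641000422002499) (.leaf 0x10d0006950003e0000064)) (.node (.leaf 0x5c70004f80005860021a7) (.leaf 0x58b0003fa0007e5002101))) (.node (.node (.leaf 0x30a000190000431002005) (.leaf 0x28c0003630003ea0026a1)) (.node (.leaf 0x22f000538000473002157) (.leaf 0x376000001000000))))) (.node (.node (.node (.node (.leaf 0x69700062500010500209d) (.leaf 0x3090000110003c2001241)) (.node (.leaf 0x5ee0001720000e500291d) (.leaf 0x11600066d0004df002993))) (.node (.node (.leaf 0x20200001900021a00242d) (.leaf 0x5e00056600051f001fd9)) (.node (.leaf 0x2d90000a60002b2002825) (.leaf 0x376000001000000)))) (.node (.node (.node (.leaf 0x4070002580000a5000043) (.leaf 0x1ee0002f20006d100290f)) (.node (.leaf 0x4450006d300025a001fa1) (.leaf 0x23c0005570005fd0025f1))) (.node (.node (.leaf 0x37f000140000588002238) (.leaf 0x38b00022a000697002057)) (.node (.leaf 0x5ed0005220002ba0024c1) (.leaf 0x376000001000000)))))) (.node (.node (.node (.node (.node (.leaf 0x4550001f000020200299f) (.leaf 0x6840003d400017b00241f))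 (.node (.leaf 0x41700044f000643002425) (.leaf 0x49b0006880007b2001fea))) (.node (.node (.leaf 0x38c0006480001d00021db) (.leaf 0x4a500005e00033d00205b)) (.node (.leaf 0x5110001d300029b0028dd) (.leaf 0x376000001000000)))) (.node (.node (.node (.leaf 0x1c500019d0000560028aa) (.leaf 0x6e70001680001dd002859)) (.node (.leaf 0x50a0005a300006f002756) (.leaf 0x540001fd0007dc002731))) (.node (.node (.leaf 0x49c00039200051200266f) (.leaf 0x2e60004be0005ec002575)) (.node (.leaf 0x15600003800062b00004f) (.leaf 0x376000001000000))))) (.node (.node (.node (.node (.leaf 0x10c00011a000091002669) (.leaf 0x627000514000666002559)) (.node (.leaf 0x32b00027000041e0002c0) (.leaf 0x1ce0004e30006db002279))) (.node (.node (.leaf 0x2a30003f50002680025a5) (.leaf 0x4a700006000058f00281d)) (.node (.leaf 0x2ff00005a00061d00270b) (.leaf 0x376000001000000)))) (.node (.node (.node (.leaf 0x1500003df000290002331) (.leaf 0x6d20005880005e200262b)) (.node (.leaf 0x3670004b400031c0024b5) (.leaf 0x376000001000000))) (.node (.node (.leaf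 0x1be00003000004f00297d) (.leaf 0x67c0006140007390010bb)) (.node (.leaf 0x4370004470004bc0028a3) (.leaf 0x376000001000000)))))))) (.node (.node (.node (.node (.node (.node (.node (.leaf 0x6000005640001000022f7) (.leaf 0x23200036e0004c7002625)) (.node (.leaf 0x2a60000b800010f002411) (.leaf 0x18a0005c50003bb0024fd))) (.node (.node (.leaf 0x47600028f00016100208b) (.leaf 0x59900010e00059c0021cf)) (.node (.leaf 0x58f0002f10001710022dd) (.leaf 0x376000001000000)))) (.node (.node (.node (.leaf 0x4e40004fd00002b002829) (.leaf 0x2900001a1000378002062)) (.node (.leaf 0x4b3000078000526002778) (.leaf 0x1e70006300007d5002023))) (.node (.node (.leaf 0x6020000590004070023b1) (.leaf 0x1420004f0000762002513)) (.node (.leaf 0x2030001bc00016b001f95) (.leaf 0x376000001000000))))) (.node (.node (.node (.node (.leaf 0x633000121000103002469) (.leaf 0x5f20003ed00067100293d)) (.node (.leaf 0x28b0004780001950010ea) (.leaf 0x6030001300007e4002129))) (.node (.node (.leaf 0x36c0006a2000305002797) (.leaf 0x13b0004a800039d002623))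 (.node (.leaf 0x69300064b0005520028ef) (.leaf 0x376000001000000)))) (.node (.node (.node (.leaf 0x33a00064a000281002221) (.leaf 0x26a00025b0002db00003d)) (.node (.leaf 0x6220000d700024f002165) (.leaf 0x52b0005e900079f002429))) (.node (.node (.leaf 0x26d00004e0005080021ed) (.leaf 0x2980002690006570026ed)) (.node (.leaf 0x2c10004170005a200264f) (.leaf 0x376000001000000)))))) (.node (.node (.node (.node (.node (.leaf 0x6b30002f300010200201f) (.leaf 0x20a00029e0001d9000f7e)) (.node (.leaf 0x1400002b600046300210b) (.leaf 0x4cb0000eb000796002142))) (.node (.node (.leaf 0x2cc000202000168002185) (.leaf 0xd300034600070b00277c)) (.node (.leaf 0xe0000195000391002337) (.leaf 0x376000001000000)))) (.node (.node (.node (.leaf 0x22b0004f30000630027b3) (.leaf 0x4a80005480005a9002707)) (.node (.leaf 0x27800002b000269002889) (.leaf 0x2c0000870007ea002445))) (.node (.node (.leaf 0x1c20005a90004460029a7) (.leaf 0x3410001ca00078c001b24)) (.node (.leaf 0x19700068b0004a7001f99) (.leaf 0x376000001000000))))) (.node (.node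 (.node (.node (.leaf 0x1fb0001cd00002c00096e) (.leaf 0x30e00011f0003660020bc)) (.node (.leaf 0x53400024000009e000f47) (.leaf 0x17f00062a0004bf00255b))) (.node (.node (.leaf 0x3e60004b00002a40028e9) (.leaf 0x3310005ea0005cd000a15)) (.node (.leaf 0x6c8000536000534002655) (.leaf 0x376000001000000)))) (.node (.node (.node (.leaf 0x5aa00048c0000e4000a00) (.leaf 0x16b0006890003aa0014c3)) (.node (.leaf 0x6d000068c00068a0024d3) (.leaf 0x3100006570007fd002179))) (.node (.node (.leaf 0x2be00011200064100087b) (.leaf 0x2150006a300071d0005b4)) (.node (.leaf 0x42b0001a20003a4000498) (.leaf 0x376000001000000))))))) (.node (.node (.node (.node (.node (.node (.leaf 0x6520002530000280021a9) (.leaf 0x4ae0006800000f7002621)) (.node (.leaf 0x40c0003b30002330023c7) (.leaf 0x2a800005d00066e0027d7))) (.node (.node (.leaf 0x4e700029500018a0001ca) (.leaf 0x65d0005c30002fc00200b)) (.node (.leaf 0x3d60006a600023d00259f) (.leaf 0x376000001000000)))) (.node (.node (.node (.leaf 0x25400051d0000680022e1) (.leaf 0x24e00013b00038d0022fd))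 (.node (.leaf 0x68c00050e00019900005c) (.leaf 0x6540005d300067e00170a))) (.node (.node (.leaf 0xe90001980005050024c9) (.leaf 0x3e400011b0003ae0022f3)) (.node (.leaf 0x52100037e0005210023a5) (.leaf 0x376000001000000))))) (.node (.node (.node (.node (.leaf 0x587000193000406002903) (.leaf 0x5db0006660002ea0021af)) (.node (.leaf 0x820000d000052500006d) (.leaf 0x6b0006580005e7000fcf))) (.node (.node (.leaf 0x38000015800026200222c) (.leaf 0x20c00025d00055b001fff)) (.node (.leaf 0x1f3000427000532002961) (.leaf 0x376000001000000)))) (.node (.node (.node (.leaf 0x1830000e300048200208a) (.leaf 0x2900006b0004eb000fd3)) (.node (.leaf 0x26900055e0001aa00247e) (.leaf 0x4b10003d80006fe0022b1))) (.node (.node (.leaf 0x5730004e5000530002569) (.leaf 0x65a0001420006d5002228)) (.node (.leaf 0x6780006d80004b3002397) (.leaf 0x376000001000000)))))) (.node (.node (.node (.node (.node (.leaf 0x3870003b000040100004d) (.leaf 0x4490005e30002c70025af)) (.node (.leaf 0x5de00053100011d000a3e) (.leaf 0x3d40001940003ee00224d)))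 (.node (.node (.leaf 0x3af0002e00002070021b3) (.leaf 0x8000390000373002220)) (.node (.leaf 0x39700017500051b0022cd) (.leaf 0x376000001000000)))) (.node (.node (.node (.leaf 0x23100020800005c002317) (.leaf 0x2040000fc0006a100212e)) (.node (.leaf 0x300000010000cf0029a5) (.leaf 0xcf0000cd00073f00208c))) (.node (.node (.leaf 0x22a0006c5000702002163) (.leaf 0x5170006310005f8002216)) (.node (.leaf 0x1b900048e00063900206a) (.leaf 0x376000001000000))))) (.node (.node (.node (.node (.leaf 0x900028800041200269f) (.leaf 0x2b30002480002ec0012bb)) (.node (.leaf 0x61800059500011e0027df) (.leaf 0x8100048b0005b7002405))) (.node (.node (.leaf 0x6d60003360002700022cf) (.leaf 0x6740001c70001fd002201)) (.node (.leaf 0x23f0003070006380014bd) (.leaf 0x376000001000000)))) (.node (.node (.node (.leaf 0x1ac0006db0004c0002537) (.leaf 0x4b60002900003b2002274)) (.node (.leaf 0x6730001d20002ac002786) (.leaf 0x376000001000000))) (.node (.node (.leaf 0x990004a0000187002395) (.leaf 0x4e60004260007e100223d)) (.node (.leaf 0x4990003cf0006a8002109)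 (.leaf 0x376000001000000)))))))))

/-- part -/
def sextT_1 : Tr Nat := (.node (.node (.node (.node (.node (.node (.node (.node (.leaf 0x2920006a500001000018b) (.leaf 0xbf0002870003c1002321)) (.node (.leaf 0x47300042500006b0016d8) (.leaf 0x48c0005a40003e7000a06))) (.node (.node (.leaf 0x2fa0005dc000143001ffc) (.leaf 0x6860002bb0004ee00247b)) (.node (.leaf 0x1c10005cb00038c00238f) (.leaf 0x376000001000000)))) (.node (.node (.node (.leaf 0x4b90001620004180023e0) (.leaf 0xda00019c0001f800290b)) (.node (.leaf 0x2f00000760002a600239d) (.leaf 0x1a000044000075d0024d5))) (.node (.node (.leaf 0xf200034b0003c00022cb) (.leaf 0x1d90002bd00036e002744)) (.node (.leaf 0x2ca0004110005610000e6) (.leaf 0x376000001000000))))) (.node (.node (.node (.node (.leaf 0x5ca00023d000013002719) (.leaf 0x980001f100027d002207)) (.node (.leaf 0x4360004bd0000b5002033) (.leaf 0x1e50005490007cc0026d5))) (.node (.node (.leaf 0x53b00000c00028500283d) (.leaf 0x3220005090003cb0002b6)) (.node (.leaf 0x1df00037a0002d2002723) (.leaf 0x376000001000000))))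 (.node (.node (.node (.leaf 0x4da0006e90001600029a9) (.leaf 0x3050006340006a9002069)) (.node (.leaf 0xb80002b100022f00223f) (.leaf 0x37b00055a0006df00292f))) (.node (.node (.leaf 0x4f700036d0006140021aa) (.leaf 0x6700001430006370021ad)) (.node (.leaf 0x504000255000276002675) (.leaf 0x376000001000000)))))) (.node (.node (.node (.node (.node (.leaf 0xf40005a200009000207f) (.leaf 0x6440000370005530027cb)) (.node (.leaf 0x5ae0002b500016300219b) (.leaf 0x2810003dc00074e002198))) (.node (.node (.leaf 0x29a0002720001a4002941) (.leaf 0x3590001c30006f00023d1)) (.node (.leaf 0x3f60004cc00025b002577) (.leaf 0x376000001000000)))) (.node (.node (.node (.leaf 0x47400040b00004d000a69) (.leaf 0x5f300066f0001bb0028d7)) (.node (.leaf 0x27b0000b200041f002583) (.leaf 0x700057700077a001922))) (.node (.node (.leaf 0x6c700041600041a000083) (.leaf 0x18e000604000734000a08)) (.node (.leaf 0x6e100015500013f00260f) (.leaf 0x376000001000000))))) (.node (.node (.node (.node (.leaf 0x38100041400010a00133b) (.leaf 0x68200037b000572002933))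 (.node (.leaf 0x15400026200070500000c) (.leaf 0x1020000e40006e7002423))) (.node (.node (.leaf 0x3570002e4000254002909) (.leaf 0x2d70000080005d30023eb)) (.node (.leaf 0x59c0005ca0002b400269d) (.leaf 0x376000001000000)))) (.node (.node (.node (.leaf 0x1e90006640000b400253f) (.leaf 0x10600003b000596002316)) (.node (.leaf 0x19900016400064a0028ff) (.leaf 0x2890006850007fa00265b))) (.node (.node (.leaf 0xb300055b0006a0000c4b) (.leaf 0xc50002ce000763000880)) (.node (.leaf 0x5d400017d0005640022db) (.leaf 0x376000001000000))))))) (.node (.node (.node (.node (.node (.node (.leaf 0x382000391000018002691) (.leaf 0x3ca0000640002d9000f57)) (.node (.leaf 0x10100002c00007300258f) (.leaf 0x6cc0005f00006a7000969))) (.node (.node (.leaf 0x4ce0002f900014600272f) (.leaf 0x6680004700006cc002439)) (.node (.leaf 0x69f00052e00043b002601) (.leaf 0x376000001000000)))) (.node (.node (.node (.leaf 0x1130001d7000064002121) (.leaf 0x2b20000990002e50025c9)) (.node (.leaf 0x45f0005750000b90027fb) (.leaf 0x21400021d0004fe002471)))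 (.node (.node (.leaf 0x57f000638000489002323) (.leaf 0x17b00038c00053e0004ca)) (.node (.leaf 0x21900019b00047500248f) (.leaf 0x376000001000000))))) (.node (.node (.node (.node (.leaf 0x410003510000260027ef) (.leaf 0xe20004660004d6001ff5)) (.node (.leaf 0x4440004a50002a5002147) (.leaf 0x23b00001600056f00087c))) (.node (.node (.leaf 0x300000249000232001f7c) (.leaf 0x43400052100053b00248b)) (.node (.leaf 0x5ac000629000692002815) (.leaf 0x376000001000000)))) (.node (.node (.node (.leaf 0x1b00001da0000c900280d) (.leaf 0x7f0000830000ff000f70)) (.node (.leaf 0x37600040200051a000005) (.leaf 0x8700030e0007dd002687))) (.node (.node (.leaf 0x33400057d000688002075) (.leaf 0x5980001b90006cb00221c)) (.node (.leaf 0x100000430000336002325) (.leaf 0x376000001000000)))))) (.node (.node (.node (.node (.node (.leaf 0x2da000132000220000c33) (.leaf 0x55c0001770005690025a3)) (.node (.leaf 0x13600063b00003d0025e7) (.leaf 0x6c20004c40006ce002011))) (.node (.node (.leaf 0x65f0004fa000340002809) (.leaf 0x1e3000637000357001f87))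 (.node (.leaf 0x1db0002a900049d0020ed) (.leaf 0x376000001000000)))) (.node (.node (.node (.leaf 0x9500037d00007200250b) (.leaf 0x6a20002f00003d10025cd)) (.node (.leaf 0x3f80004010002c9001eec) (.leaf 0x33d00042100037f00285f))) (.node (.node (.leaf 0x3dd0004e6000612002073) (.leaf 0x3e0004800003dc0003ac)) (.node (.leaf 0x66b0002c30002b50027bd) (.leaf 0x376000001000000))))) (.node (.node (.node (.node (.leaf 0x7a00037100005200276a) (.leaf 0x4320003fd0005c4000a6b)) (.node (.leaf 0x39f00018100060e0010bc) (.leaf 0x4f60001220006eb002248))) (.node (.node (.leaf 0x347000623000328002413) (.leaf 0x2f70000520001f7002292)) (.node (.leaf 0x68e0006c30002b800223b) (.leaf 0x376000001000000)))) (.node (.node (.node (.leaf 0x18f00038f0001a0001ff0) (.leaf 0x470001970003a6001fc3)) (.node (.leaf 0x38f0000ff0000ec0001ce) (.leaf 0x376000001000000))) (.node (.node (.leaf 0x6900006670000c7002089) (.leaf 0x10700009d0007c9002359)) (.node (.leaf 0x3600032d0003680020ef) (.leaf 0x376000001000000)))))))) (.node (.node (.node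 (.node (.node (.node (.node (.leaf 0x4480001440000050028e1) (.leaf 0x1c70003560004cd0024df)) (.node (.leaf 0x2fc00034900022b00204f) (.leaf 0x14700000e0003bd002713))) (.node (.node (.leaf 0x9a0002130001a100243f) (.leaf 0x2d30003a50005cc002437)) (.node (.leaf 0x35c00030c000331000068) (.leaf 0x376000001000000)))) (.node (.node (.node (.leaf 0x6a0000412000032000208) (.leaf 0x910000e80006d0000a02)) (.node (.leaf 0x66f00065900054600277a) (.leaf 0x5c80002e80007d90025ef))) (.node (.node (.leaf 0x29100036c000419002505) (.leaf 0x4d00002ff0003e6002883)) (.node (.leaf 0xdc00059400046d0002b7) (.leaf 0x376000001000000))))) (.node (.node (.node (.node (.leaf 0x42f0006530000150023c3) (.leaf 0x69100044c000653001fec)) (.node (.leaf 0x380002fe00043500004b) (.leaf 0x7d0004100007b80024a3))) (.node (.node (.leaf 0x1b700039e000381002083) (.leaf 0x55b0006400003b9002679)) (.node (.leaf 0x9700018a00015e002701) (.leaf 0x376000001000000)))) (.node (.node (.node (.leaf 0x9f0000fd000093002671) (.leaf 0x1e40003240003c500019f))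 (.node (.leaf 0x10f0000d200013a002081) (.leaf 0x2000047700077b00096b))) (.node (.node (.leaf 0x24500039a00045800219f) (.leaf 0x68a00060f0006730027eb)) (.node (.leaf 0x1f600003a0004ae0005e9) (.leaf 0x376000001000000)))))) (.node (.node (.node (.node (.node (.leaf 0x2c5000214000120002565) (.leaf 0x1b20004b10003630024af)) (.node (.leaf 0x6500041d0001c30020ac) (.leaf 0x12100040000079a00276c))) (.node (.node (.leaf 0x52c00041c00031000242f) (.leaf 0x1a700033f00072300254f)) (.node (.leaf 0x4c700050000049700209b) (.leaf 0x376000001000000)))) (.node (.node (.node (.leaf 0x3b2000146000142000f76) (.leaf 0x4720006460001e70024e3)) (.node (.leaf 0x3d50004650004a90026eb) (.leaf 0x5a70001b50007bc0021c9))) (.node (.node (.leaf 0x28700057f000492002539) (.leaf 0xde0000d600071c002869)) (.node (.leaf 0x560004e900043f002187) (.leaf 0x376000001000000))))) (.node (.node (.node (.node (.leaf 0x8900037300020c0028f3) (.leaf 0x2700004300037200251f)) (.node (.leaf 0x62b0004a700014e002935) (.leaf 0x2410004cd0005db002341)))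 (.node (.node (.leaf 0x4200018d000344001fd5) (.leaf 0x6c900003c0005e9001c3f)) (.node (.leaf 0x37100018c00065400261b) (.leaf 0x376000001000000)))) (.node (.node (.node (.leaf 0x5570006e30000b8002491) (.leaf 0x27f0006470003ca000fdb)) (.node (.leaf 0x2ec00047600015c002197) (.leaf 0x376000001000000))) (.node (.node (.leaf 0x494000040000780002793) (.leaf 0x3fe0005bb000765001fe3)) (.node (.leaf 0xec00041f0001bc0026af) (.leaf 0x376000001000000))))))) (.node (.node (.node (.node (.node (.node (.leaf 0x1600012e0000440020af) (.leaf 0x64c00012c0002e900254d)) (.node (.leaf 0x31d0005e6000417002055) (.leaf 0x2e90006690006b6000873))) (.node (.node (.leaf 0x10a0004320005040024a5) (.leaf 0x1a50004c10003e8000149)) (.node (.leaf 0x12e00011d00035100229e) (.leaf 0x376000001000000)))) (.node (.node (.node (.leaf 0x9c0000610000b000225b) (.leaf 0xd40005a100019f002752)) (.node (.leaf 0x2600001200003190023c5) (.leaf 0x5c10001e900075e002733))) (.node (.node (.leaf 0x34c00048400058100287d) (.leaf 0x3de00033a00057a002477))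 (.node (.leaf 0x37500008b0001a7001245) (.leaf 0x376000001000000))))) (.node (.node (.node (.node (.leaf 0x1340004a6000089002861) (.leaf 0x44700001b000742002740)) (.node (.leaf 0xd0002030003450010e7) (.leaf 0x2ef0003e50006af0022b3))) (.node (.node (.leaf 0x1ad00029a00030a0027e5) (.leaf 0x5540005fd00055d00214a)) (.node (.leaf 0xdb00000d000632000074) (.leaf 0x376000001000000)))) (.node (.node (.node (.leaf 0x1300002450000b2001607) (.leaf 0x57c00038e0004f30024bf)) (.node (.leaf 0x5e600064500046a0021fd) (.leaf 0x48d00061f0007ee0024cf))) (.node (.node (.leaf 0x25c0002ca000710000048) (.leaf 0x6360001040006e9000d8d)) (.node (.leaf 0x64900062400017a001f12) (.leaf 0x376000001000000)))))) (.node (.node (.node (.node (.node (.leaf 0x18200056c0004100025ff) (.leaf 0x1400037700025f002589)) (.node (.leaf 0x2e800052600028d0023bf) (.leaf 0x3330000e20006ae0020a7))) (.node (.node (.leaf 0x40b0006b700021500005d) (.leaf 0x6e600017c000749001254)) (.node (.leaf 0x6df00060b000257000194) (.leaf 0x376000001000000)))) (.node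 (.node (.node (.leaf 0x600000ba000248002803) (.leaf 0x5e80006360006930000f4)) (.node (.leaf 0x3b70005c6000589002307) (.leaf 0x4e50005820006bf002617))) (.node (.node (.leaf 0x32100038800048c000874) (.leaf 0xf3000340000758001fcf)) (.node (.leaf 0x3bc00030b0004e2002715) (.leaf 0x376000001000000))))) (.node (.node (.node (.node (.leaf 0x5bf0004390000940020b5) (.leaf 0x6e400063f0001dc002555)) (.node (.leaf 0x3f10001ce000236002099) (.leaf 0x3530005790007b30010bd))) (.node (.node (.leaf 0x3d900053c000330001252) (.leaf 0x5c00006e70003e50025d9)) (.node (.leaf 0x5cc00056e0004d800272d) (.leaf 0x376000001000000)))) (.node (.node (.node (.leaf 0x5510004b800010b0021f5) (.leaf 0x5720000730002fa00220f)) (.node (.leaf 0x55800043a00062c0020bf) (.leaf 0x376000001000000))) (.node (.node (.leaf 0x5a4000551000307002051) (.leaf 0x6990005b60002df001fe8)) (.node (.leaf 0x850000b500037000220a) (.leaf 0x376000001000000)))))))))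

/-- part -/
def sextT_2 : Tr Nat := (.node (.node (.node (.node (.node (.node (.node (.node (.leaf 0x4030006d1000004002971) (.leaf 0x2490002d400073000003e)) (.node (.leaf 0xf000012800003b0021f4) (.leaf 0x5bd00026e0003770024c7))) (.node (.node (.leaf 0x5f100058a000129002251) (.leaf 0x2ae0005eb0005b2002768)) (.node (.leaf 0x13d00028600064c0026fb) (.leaf 0x376000001000000)))) (.node (.node (.node (.leaf 0x1fe0005f900009800006f) (.leaf 0x4580004820005c800210f)) (.node (.leaf 0x54b0002fd0001660020b7) (.leaf 0x51e0003e90006dd002977))) (.node (.node (.leaf 0x6650006d90003600023cf) (.leaf 0xfa0006bc000746002501)) (.node (.leaf 0x43c0004130002e1002346) (.leaf 0x376000001000000))))) (.node (.node (.node (.node (.leaf 0x335000156000007000053) (.leaf 0x1100006ca0003650021bd)) (.node (.leaf 0x44a0000f700050d0000ed) (.leaf 0xd900018b00076c001fc7))) (.node (.node (.leaf 0x4de0005d8000261002301) (.leaf 0x24b0000c70003ab002288)) (.node (.leaf 0x24200060a0001d20000ec) (.leaf 0x376000001000000)))) (.node (.node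 (.node (.leaf 0x369000463000074001f82) (.leaf 0x3b90002750003a50025c3)) (.node (.leaf 0x2c20001f900050f002194) (.leaf 0x60b0000800005df000190))) (.node (.node (.leaf 0xce0004da0005240029ad) (.leaf 0x16200028100061f002351)) (.node (.leaf 0x45a0002520000f60025bd) (.leaf 0x376000001000000)))))) (.node (.node (.node (.node (.node (.leaf 0x27700067e00008400212f) (.leaf 0x31800042200054d002483)) (.node (.leaf 0x31a0003b20000b3002725) (.leaf 0x34f00025a00071e002232))) (.node (.node (.leaf 0x63c00067400018c0021c5) (.leaf 0x5650003d00007900025db)) (.node (.leaf 0x1510000910004570002b8) (.leaf 0x376000001000000)))) (.node (.node (.node (.leaf 0x1040005670000470020ad) (.leaf 0x6c40006e50001af0028c1)) (.node (.leaf 0x45e00008a00009f00206d) (.leaf 0x1960001480007d60026cd))) (.node (.node (.leaf 0x32a0003e800040e0019da) (.leaf 0x58a0000240005ba0020f5)) (.node (.leaf 0x6c100049300052d002951) (.leaf 0x376000001000000))))) (.node (.node (.node (.node (.leaf 0x5600002da00002a000050) (.leaf 0x67600060000056600233f))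 (.node (.leaf 0x6370002640005850000e9) (.leaf 0x1c300048d0007370025fb))) (.node (.node (.leaf 0x31700008400022c002453) (.leaf 0x2b60003450005ab001fce)) (.node (.leaf 0x66a0003650001b4002479) (.leaf 0x376000001000000)))) (.node (.node (.node (.leaf 0x1d600063c000484002043) (.leaf 0x3f700044b00058e0026a3)) (.node (.leaf 0x4c0000e70004ca0025f5) (.leaf 0x19d00024a0007bf002811))) (.node (.node (.leaf 0x39e000276000628001fdd) (.leaf 0x3650003a0000733002774)) (.node (.leaf 0x1f5000117000364002091) (.leaf 0x376000001000000))))))) (.node (.node (.node (.node (.node (.node (.leaf 0x47000068600001200244f) (.leaf 0x29900008c0002d50001d3)) (.node (.leaf 0x6b400045b00050b0027ab) (.leaf 0x14a0003b60003f9000883))) (.node (.node (.leaf 0x6550001e8000126000879) (.leaf 0x5d90005120003b40021f9)) (.node (.leaf 0x1ae0005d900007b002053) (.leaf 0x376000001000000)))) (.node (.node (.node (.leaf 0x5700009a000036002667) (.leaf 0x3780006330006e00021b5)) (.node (.leaf 0x423000113000706000c37) (.leaf 0xf50006510007f10025f3)))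 (.node (.node (.leaf 0x1920006720004450028a1) (.leaf 0x6570000ad0007c2002237)) (.node (.leaf 0xcc0001b00000f500256b) (.leaf 0x376000001000000))))) (.node (.node (.node (.node (.leaf 0x5fd00057400000e0021c7) (.leaf 0x3030002a70001ce002766)) (.node (.leaf 0x16f0003c20001a500231a) (.leaf 0x49e0006270004f7002276))) (.node (.node (.leaf 0x5a200015d000226002253) (.leaf 0x2a40006bd00052f002467)) (.node (.leaf 0x59f0001590004b20027a3) (.leaf 0x376000001000000)))) (.node (.node (.node (.leaf 0x2480002cc0000c3002027) (.leaf 0x40200028300049f000017)) (.node (.leaf 0x6bf00053300043a0020d1) (.leaf 0x54e0006c600077d002480))) (.node (.node (.leaf 0x5550002f80006180026b7) (.leaf 0x4790001370006ab00274c)) (.node (.leaf 0x21d00043f0007220005ee) (.leaf 0x376000001000000)))))) (.node (.node (.node (.node (.node (.leaf 0x5cd000539000208000025) (.leaf 0xa400011c00017d000a6d)) (.node (.leaf 0x632000510000383002709) (.leaf 0x4080006320007e20027d1))) (.node (.node (.leaf 0x5dc000034000520001f9c) (.leaf 0x164000116000731002877))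 (.node (.leaf 0x2a70002ad00019d002905) (.leaf 0x376000001000000)))) (.node (.node (.node (.leaf 0x740002a400006600268b) (.leaf 0x4ca00012f0005c9002853)) (.node (.leaf 0x1ec0003e600042f0026c9) (.leaf 0x5e50006770001ff0022e7))) (.node (.node (.leaf 0xe600040500060600019e) (.leaf 0x2620005cd0007a4000d6b)) (.node (.leaf 0x550002220004ad000f78) (.leaf 0x376000001000000))))) (.node (.node (.node (.node (.leaf 0x4d900015f00021100266d) (.leaf 0x2f10003a700056a000676)) (.node (.leaf 0x1ef00012400048e0028fd) (.leaf 0x10b00019200075b0027f5))) (.node (.node (.leaf 0x4ad0002500002a8002963) (.leaf 0x5d10003890001df000195)) (.node (.leaf 0x3f20004950001780024b7) (.leaf 0x376000001000000)))) (.node (.node (.node (.leaf 0x6cf0005c70000d100234b) (.leaf 0x2f5000323000696001fde)) (.node (.leaf 0x31f0004d000049c0028a7) (.leaf 0x376000001000000))) (.node (.node (.leaf 0xa50001f2000067001938) (.leaf 0xc0000fb0007990028fb)) (.node (.leaf 0x32600041e00063c0025d1) (.leaf 0x376000001000000)))))))) (.node (.node (.node (.node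 (.node (.node (.node (.leaf 0x2860002190004000024f1) (.leaf 0x41b00035b0001cd001f9a)) (.node (.leaf 0x57100019600018b00284b) (.leaf 0x41100034200072b00000f))) (.node (.node (.leaf 0x4100003c10001890022a7) (.leaf 0x2960003860005b400280f)) (.node (.leaf 0x6de00042e000271001faf) (.leaf 0x376000001000000)))) (.node (.node (.node (.leaf 0x1f20002a2000035002015) (.leaf 0x6c60005a70003d000218a)) (.node (.leaf 0x3860004790003460028af) (.leaf 0x37c00068a0006f900289b))) (.node (.node (.leaf 0x2f00034c000413002613) (.leaf 0x1520001020003ce002181)) (.node (.leaf 0x34300055d0000ed002339) (.leaf 0x376000001000000))))) (.node (.node (.node (.node (.leaf 0x2000005160004030022c1) (.leaf 0x34200056d00046f000d6f)) (.node (.leaf 0x3ae0006e2000295002757) (.leaf 0x4150000c80006f80021bb))) (.node (.node (.leaf 0x11e000211000321000885) (.leaf 0x5260001670003c70021fb)) (.node (.leaf 0x3cd0000c600007e001fc0) (.leaf 0x376000001000000)))) (.node (.node (.node (.leaf 0x3400034100008b000187) (.leaf 0x5200006c00002eb0026d3))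 (.node (.leaf 0x3110001dc0000ba0000af) (.leaf 0x5770004420005fb002115))) (.node (.node (.leaf 0x6630005a8000438001f88) (.leaf 0x65e000364000667002776)) (.node (.leaf 0x69a00016d0001ae002061) (.leaf 0x376000001000000)))))) (.node (.node (.node (.node (.node (.leaf 0x48900014f0001080002b0) (.leaf 0x420000066000559000a3d)) (.node (.leaf 0x5190005d00005230020c7) (.leaf 0x5750006680007c600265f))) (.node (.node (.leaf 0x45200059f0001a8002685) (.leaf 0x56900062600031f0023db)) (.node (.leaf 0x68100014900069100204a) (.leaf 0x376000001000000)))) (.node (.node (.node (.leaf 0x4e000573000071002272) (.leaf 0x3320004b50001cf002875)) (.node (.leaf 0x40f00045d0003290000f3) (.leaf 0x1660002c10005fc002761))) (.node (.node (.leaf 0x3990003e300048300245d) (.leaf 0x49a0001fe000794000073)) (.node (.leaf 0x15500049e0000bf001ef2) (.leaf 0x376000001000000))))) (.node (.node (.node (.node (.leaf 0x30d00037500008c002106) (.leaf 0x18c0006af00066a0023e9)) (.node (.leaf 0x490003c60000ce00003f) (.leaf 0x32500016e00055f002597)))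 (.node (.node (.leaf 0x4f80003ae00030c00244d) (.leaf 0xb90001df0005e5002693)) (.node (.leaf 0x16e0001a90002d4002535) (.leaf 0x376000001000000)))) (.node (.node (.node (.leaf 0x41900025e000288002729) (.leaf 0x4f30002210001de002917)) (.node (.leaf 0x2560002c60000dc0029a3) (.leaf 0x1f10001cf0007ff0024e7))) (.node (.node (.leaf 0x720000cb000740002567) (.leaf 0x1f800056800074d000a17)) (.node (.leaf 0x2270003270007240024a9) (.leaf 0x376000001000000))))))) (.node (.node (.node (.node (.node (.node (.leaf 0x44c000611000041001fbf) (.leaf 0x60f0004190004e5002895)) (.node (.leaf 0x6070002390002930025cb) (.leaf 0x230003c3000676001f74))) (.node (.node (.leaf 0x1390000700001c20026b5) (.leaf 0x3cb0002a10005b80024f7)) (.node (.leaf 0x2f90005070001d10021ea) (.leaf 0x376000001000000)))) (.node (.node (.node (.leaf 0x70000092000428002561) (.leaf 0xe800034e000393000075)) (.node (.leaf 0x1ed00015c000259002893) (.leaf 0x4140000fe0006de0020d5))) (.node (.node (.leaf 0x4570000ae000511001fc9) (.leaf 0x23600018e000576000a0b))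 (.node (.leaf 0xaf0001cc0005a100050d) (.leaf 0x376000001000000))))) (.node (.node (.node (.node (.leaf 0x505000370000029002627) (.leaf 0x23e00020e0001f20021c4)) (.node (.leaf 0x5c900062200014d002309) (.leaf 0x46e00067500065f00124a))) (.node (.node (.leaf 0x32f0002e600028a0022a9) (.leaf 0x3190006c400056b002973)) (.node (.leaf 0x50f00035a00031e00228a) (.leaf 0x376000001000000)))) (.node (.node (.node (.leaf 0x39d00017900009a0027e3) (.leaf 0x10001c20004dd0029af)) (.node (.leaf 0xca0000620002aa001289) (.leaf 0x16000068e0007be002131))) (.node (.node (.leaf 0x2df0000d40006300028b5) (.leaf 0x15a0003610006b900201a)) (.node (.leaf 0x6e00003f700053600236f) (.leaf 0x376000001000000)))))) (.node (.node (.node (.node (.node (.leaf 0x14f0003cc0004040005e7) (.leaf 0x1c80002fc00064b002135)) (.node (.leaf 0x2eb00001f00022d0027c7) (.leaf 0x350005990003fa002327))) (.node (.node (.leaf 0x680001e700020d001653) (.leaf 0x4c900001700035d002911)) (.node (.leaf 0x43300059c00051d002367) (.leaf 0x376000001000000)))) (.node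 (.node (.node (.leaf 0x2200000bc0000c8002748) (.leaf 0x6aa00039900068b00267f)) (.node (.leaf 0xab00006f00044f0023c9) (.leaf 0x4530005f50006ef002901))) (.node (.node (.leaf 0xa0005130004340023d7) (.leaf 0x20006c100079800292d)) (.node (.leaf 0x58000008d0002e2002119) (.leaf 0x376000001000000))))) (.node (.node (.node (.node (.leaf 0xb20004d5000034002823) (.leaf 0x23d0003b70001f4002517)) (.node (.leaf 0x66c00058b000156002219) (.leaf 0x2a10004ae0006f30024fb))) (.node (.node (.leaf 0xbd0004c00002d000268f) (.leaf 0x69c0002d90005a7002801)) (.node (.leaf 0x2a000034400027800263d) (.leaf 0x376000001000000)))) (.node (.node (.node (.leaf 0x6b10005b7000501000fda) (.leaf 0x6bc0001340002de002750)) (.node (.leaf 0xa20004090004ac002045) (.leaf 0x376000001000000))) (.node (.node (.leaf 0x5790003fe00021700204d) (.leaf 0x30400047d00068f0022ab)) (.node (.leaf 0x3fa0006900005a8002193) (.leaf 0x376000001000000)))))))))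

/-- part -/
def sextT_3 : Tr Nat := (.node (.node (.node (.node (.node (.node (.node (.node (.leaf 0x3490005ed0000400021eb) (.leaf 0x3070005cf0005c1000fdf)) (.node (.leaf 0x17c0003470000ab001250) (.leaf 0x4ea0002560002fb0028f9))) (.node (.node (.leaf 0x8800042b000149002770) (.leaf 0xd10002cd0002ee00272b)) (.node (.leaf 0x4cf0004ad00068c002947) (.leaf 0x376000001000000)))) (.node (.node (.node (.leaf 0x26e0001890001210027a9) (.leaf 0x2d00004ef000578001f93)) (.node (.leaf 0x1ba000302000466002607) (.leaf 0x3c400001200077500256d))) (.node (.node (.leaf 0x19100018600070000240d) (.leaf 0x44b0006b10007520024ff)) (.node (.leaf 0x50b00050a0001670028b7) (.leaf 0x376000001000000))))) (.node (.node (.node (.node (.leaf 0x5e20003de00004300269b) (.leaf 0x42a0005ff0002f1000a41)) (.node (.leaf 0x5b7000301000135002151) (.leaf 0x1430004ac0007b4002457))) (.node (.node (.leaf 0x20b0000ac000291000c47) (.leaf 0x250002b30003e3001f85)) (.node (.leaf 0x1e60005280004720026a5) (.leaf 0x376000001000000)))) (.node (.node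 (.node (.leaf 0x18100034a000460000157) (.leaf 0x3730000210002cf0028a5)) (.node (.leaf 0x40e0002ea00030f00298f) (.leaf 0x1dd0006d20007d700248d))) (.node (.node (.leaf 0x2e70003d30006840023d3) (.leaf 0x2ee0002bc00063d002230)) (.node (.leaf 0xd000026a00047a000041) (.leaf 0x376000001000000)))))) (.node (.node (.node (.node (.node (.leaf 0x3600004990000c000221d) (.leaf 0x1860005f8000355002313)) (.node (.leaf 0x55d0005410002a300218d) (.leaf 0x18700052a000766002427))) (.node (.node (.leaf 0x5b90006a1000128001f7f) (.leaf 0x4d300023c0007c00022d1)) (.node (.leaf 0x3720006be00025d0026d1) (.leaf 0x376000001000000)))) (.node (.node (.node (.leaf 0x52f0003500000550028cb) (.leaf 0x29400005c0001bd0027ad)) (.node (.leaf 0x31300019100016900252f) (.leaf 0x6230003180007da0026a7))) (.node (.node (.leaf 0x41e00039500042a002605) (.leaf 0x5360002df00075400278b)) (.node (.leaf 0x5f0003a9000539002857) (.leaf 0x376000001000000))))) (.node (.node (.node (.node (.leaf 0xd500042a00040a00096f) (.leaf 0x129000454000656001fd1))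 (.node (.leaf 0x4a10000f600005e002927) (.leaf 0x3e30004580007a700227b))) (.node (.node (.leaf 0x4ba00051e00028c00281b) (.leaf 0x1270005500005b5002007)) (.node (.leaf 0x15700029600047400257d) (.leaf 0x376000001000000)))) (.node (.node (.node (.leaf 0x42c0003b50000cc0001a0) (.leaf 0x6c30001b40005a60020e9)) (.node (.leaf 0x51b00015a00058a00238b) (.leaf 0x4000004ce0007f7001256))) (.node (.node (.leaf 0x2070000ab0005420025f9) (.leaf 0x16700021c0007a30020c3)) (.node (.leaf 0xa90002b200027c002791) (.leaf 0x376000001000000))))))) (.node (.node (.node (.node (.node (.node (.leaf 0x9b00065400002200211f) (.leaf 0x5fe0001a40002e3000081)) (.node (.leaf 0x4e8000216000153001923) (.leaf 0x53000035900063e001c35))) (.node (.node (.leaf 0x67f000532000162002907) (.leaf 0x1d00004a0006e40023a7)) (.node (.leaf 0x2850004610000bd00226c) (.leaf 0x376000001000000)))) (.node (.node (.node (.leaf 0x15b00010f000424002183) (.leaf 0x46500062e0005870027f7)) (.node (.leaf 0x2b0000366000139002683) (.leaf 0x51800003e0005de001fdb)))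 (.node (.node (.leaf 0x4b400020a0004a1002799) (.leaf 0x3cc00054b00059e001fd3)) (.node (.leaf 0x1d20004f70002790025b5) (.leaf 0x376000001000000))))) (.node (.node (.node (.node (.leaf 0x3ce0001a7000086002257) (.leaf 0x55a00050b0001e600296b)) (.node (.leaf 0x427000606000465002953) (.leaf 0x6ca0004e00005cf0020a3))) (.node (.node (.leaf 0x42e00004200024a000051) (.leaf 0x53a0001b100054f002885)) (.node (.leaf 0x38a00040c00029e002553) (.leaf 0x376000001000000)))) (.node (.node (.node (.leaf 0x29e0005ac0001820027b9) (.leaf 0x1120002e90004af000877)) (.node (.leaf 0x42d0005e10000ea002071) (.leaf 0x9e0003a30003fe0023bd))) (.node (.node (.leaf 0x4540001410004b0001b0c) (.leaf 0x8b0001c10006c7001b30)) (.node (.leaf 0x4220005e700063a000a10) (.leaf 0x376000001000000)))))) (.node (.node (.node (.node (.node (.leaf 0x2f3000036000280002177) (.leaf 0x5310002850006c100208f)) (.node (.leaf 0x3d0001800000ad000a0d) (.leaf 0x1320004bc0003de000f4b))) (.node (.node (.leaf 0x4250001360005800026e7) (.leaf 0x27500036800036700273b))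 (.node (.leaf 0x6dc0001780005170023bb) (.leaf 0x376000001000000)))) (.node (.node (.node (.leaf 0x60c00022900014400262d) (.leaf 0x16a00009f0001f5002349)) (.node (.leaf 0x3610002280004c90020b1) (.leaf 0xb40000a30004ff0023f1))) (.node (.node (.leaf 0x3be00032900064200216b) (.leaf 0x6300005fc000738001fbd)) (.node (.leaf 0x5c6000612000179000881) (.leaf 0x376000001000000))))) (.node (.node (.node (.node (.leaf 0x6890002840001120022b7) (.leaf 0xb0002ec0004dc002103)) (.node (.leaf 0x5250001e20000b6001fc1) (.leaf 0x67b0004ee0007ab002191))) (.node (.node (.leaf 0x3e20000d9000388002035) (.leaf 0x5760002790001fb002931)) (.node (.leaf 0x25b000000000478000001) (.leaf 0x376000001000000)))) (.node (.node (.node (.leaf 0x5370002660001c00028ad) (.leaf 0x57800038b0002be002141)) (.node (.leaf 0x6da0004200001ac0020b9) (.leaf 0x376000001000000))) (.node (.node (.leaf 0x5960002990001270005eb) (.leaf 0x45b0003bb0007b1002881)) (.node (.leaf 0x55e000671000668002188) (.leaf 0x376000001000000)))))))) (.node (.node (.node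 (.node (.node (.node (.node (.leaf 0x5a100060c0000090027d9) (.leaf 0x2ad0000410002d300291f)) (.node (.leaf 0x2ce00045a00028b0022a5) (.leaf 0x33c0002650003ed000198))) (.node (.node (.leaf 0x105000508000302002153) (.leaf 0x39c0002980003d4001295)) (.node (.leaf 0x5eb0006d4000077002581) (.leaf 0x376000001000000)))) (.node (.node (.node (.leaf 0x61d0006bb0000a20025a1) (.leaf 0x19e0003b8000374002065)) (.node (.leaf 0x34e0005fe0002c600007b) (.leaf 0x59e0006da0006ed0021e5))) (.node (.node (.leaf 0x1fc00059a000425000a09) (.leaf 0x7800013f0003ba002599)) (.node (.leaf 0x3d00004dc0001730023ab) (.leaf 0x376000001000000))))) (.node (.node (.node (.node (.leaf 0x450001c80000450022c5) (.leaf 0x6b20001cb00066300220e)) (.node (.leaf 0x4f10005fb000515002159) (.leaf 0x60000ee0007e8002133))) (.node (.node (.leaf 0x25a00042f00020e00251b) (.leaf 0x4f00004510007910026ad)) (.node (.leaf 0x5ef00049a00045e000077) (.leaf 0x376000001000000)))) (.node (.node (.node (.leaf 0x1a8000201000099002995) (.leaf 0x6db0006e60002dd001258))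 (.node (.leaf 0x51f0005e400019a002387) (.leaf 0x860004490007eb0026df))) (.node (.node (.leaf 0x5c400027c0004a800206e) (.leaf 0x4690004de000679002511)) (.node (.leaf 0x3ac0006c90001b6002335) (.leaf 0x376000001000000)))))) (.node (.node (.node (.node (.node (.leaf 0x3a600067d000180002660) (.leaf 0x3b000030a00016f001f9f)) (.node (.leaf 0x6790004330004c3002290) (.leaf 0x190004960007ca00273e))) (.node (.node (.leaf 0x60900001c0001700020a8) (.leaf 0x3b400031400033b0026f5)) (.node (.leaf 0x48e0001050000db00200d) (.leaf 0x376000001000000)))) (.node (.node (.node (.leaf 0x36b00019a000442001fe7) (.leaf 0x1c900067a0001f3002611)) (.node (.leaf 0x2db000453000629002821) (.leaf 0x52200060100077c00067c))) (.node (.node (.leaf 0x5a00003350004c2000057) (.leaf 0x5030003c90005bc002268)) (.node (.leaf 0x5a300016a00046b000227) (.leaf 0x376000001000000))))) (.node (.node (.node (.node (.leaf 0x33f0003bd00003100249b) (.leaf 0x5d80003d900047e00124c)) (.node (.leaf 0x6ce00060200028e0025df) (.leaf 0x35a00027e00067b0021b7)))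 (.node (.node (.leaf 0xa300066a000238002647) (.leaf 0x5ab00037c0007a1002645)) (.node (.leaf 0x5a00040800059400250f) (.leaf 0x376000001000000)))) (.node (.node (.node (.leaf 0x4a00064e0000e80021e9) (.leaf 0x6600006760003d20020ff)) (.node (.leaf 0x3b60002be00025c00087f) (.leaf 0x376000001000000))) (.node (.node (.leaf 0x58c0001ee00002f00295d) (.leaf 0x3510002af000795002913)) (.node (.leaf 0x37a0001ad00053c002525) (.leaf 0x376000001000000))))))) (.node (.node (.node (.node (.node (.node (.leaf 0x1200001ef0000500026f3) (.leaf 0x5ad0003f20001f10026cf)) (.node (.leaf 0x21e0005d50004530010c4) (.leaf 0x1260003000006e6001f7d))) (.node (.node (.leaf 0x61200011e0001340023fd) (.leaf 0x4640001660003b80028c5)) (.node (.leaf 0x49d0001c90004d1002619) (.leaf 0x376000001000000)))) (.node (.node (.node (.leaf 0x17800005b0004300021f7) (.leaf 0x180003aa00059500234f)) (.node (.leaf 0xe700042800045900286b) (.leaf 0x2130002590005f600226a))) (.node (.node (.leaf 0x32e000071000611001fdc) (.leaf 0x3740004ab0005ae0022b9))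 (.node (.leaf 0x56300014c00032b00202b) (.leaf 0x376000001000000))))) (.node (.node (.node (.node (.leaf 0x480000530000209002009) (.leaf 0x38500045e0003560020e5)) (.node (.leaf 0x6a60000ea000545002641) (.leaf 0x440001f300078f002831))) (.node (.node (.leaf 0xa600009700032200287b) (.leaf 0x3240002d800057900245b)) (.node (.leaf 0x23a00035700061e0026fd) (.leaf 0x376000001000000)))) (.node (.node (.node (.leaf 0x3540004870000d200275b) (.leaf 0x5880005ce0004f90023f9)) (.node (.leaf 0x20d00029300062a002523) (.leaf 0x1900006150003ff001fd7))) (.node (.node (.leaf 0x1b10004690004e000270f) (.leaf 0x6130002c500070f00226e)) (.node (.leaf 0x36400004600033a002593) (.leaf 0x376000001000000)))))) (.node (.node (.node (.node (.node (.leaf 0x163000696000440001f47) (.leaf 0x584000297000659002661)) (.node (.leaf 0x3c20000d100041d0024a1) (.leaf 0x66900054f0006bc000188))) (.node (.node (.leaf 0x57b0004ff000231001fcd) (.leaf 0x1770000a1000375002657)) (.node (.leaf 0x8c0000cf0003170020d3) (.leaf 0x376000001000000)))) (.node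 (.node (.node (.leaf 0x50000015700007800227e) (.leaf 0x4b0005b0000695002459)) (.node (.leaf 0x6c50002ee00018f00087d) (.leaf 0x1b30003260005f700279d))) (.node (.node (.leaf 0x1e100026f0004a40028cf) (.leaf 0x1aa000393000792002681)) (.node (.leaf 0x21b00046f0000ee00206f) (.leaf 0x376000001000000))))) (.node (.node (.node (.node (.leaf 0x2fe000407000214000047) (.leaf 0x3fd00028d00036c002573)) (.node (.leaf 0x1e000066e000436002113) (.leaf 0x760000220004fd0021e3))) (.node (.node (.leaf 0x1090002a50003900024cb) (.leaf 0x5920005c000071a00231b)) (.node (.leaf 0x5ff0003980006580022bd) (.leaf 0x376000001000000)))) (.node (.node (.node (.leaf 0x5b800069a00011300214f) (.leaf 0xbc0001010002f600124f)) (.node (.leaf 0x29500024c0002cc000049) (.leaf 0x376000001000000))) (.node (.node (.leaf 0x2580005aa000447000071) (.leaf 0x25d00028e00033f00007d)) (.node (.leaf 0x6d30001fa00057000201b) (.leaf 0x376000001000000)))))))))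

/-- part -/
def sextT_4 : Tr Nat := (.node (.node (.node (.node (.node (.node (.node (.node (.leaf 0xc40002b80000020029ab) (.leaf 0x6420002b40006b0002037)) (.node (.leaf 0x2370000ce00060700295b) (.leaf 0x4310006ae0003af002847))) (.node (.node (.leaf 0x6940004fe000125002695) (.leaf 0x19f0006350004be00222a)) (.node (.leaf 0x2ed00024600054c002218) (.leaf 0x376000001000000)))) (.node (.node (.node (.leaf 0x3d80006a900005800231f) (.leaf 0x3da0005e00003c800226b)) (.node (.leaf 0x6400005c20000e6002451) (.leaf 0x1a200003100067d002697))) (.node (.node (.leaf 0x539000274000324001a1e) (.leaf 0x3a5000569000732002609)) (.node (.leaf 0x3c90006e10007180022ef) (.leaf 0x376000001000000))))) (.node (.node (.node (.node (.leaf 0x6b000040e00060000289f) (.leaf 0x64b00044300027b00297b)) (.node (.leaf 0x27a00022000048d00243d) (.leaf 0x11a00009000073c0025b1))) (.node (.node (.leaf 0x520001d6000249002070) (.leaf 0x36f000226000397002143)) (.node (.leaf 0x4c10000ca000172001f89) (.leaf 0x376000001000000)))) (.node (.node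 (.node (.leaf 0x35800016500045000291b) (.leaf 0x5a800051c0002bb001f7e)) (.node (.leaf 0x2930006aa00012f002737) (.leaf 0x4210005ba00057f00296f))) (.node (.node (.leaf 0x5fa0005d6000514002040) (.leaf 0x57a00060d0007e0002746)) (.node (.leaf 0x40d00010a00046e0021d5) (.leaf 0x376000001000000)))))) (.node (.node (.node (.node (.node (.leaf 0x62a0004c60000820027fd) (.leaf 0x3a20006b400054b0028f7)) (.node (.leaf 0x4a40004ea00061300288d) (.leaf 0x2660004970006f2002999))) (.node (.node (.leaf 0x3b1000048000164002585) (.leaf 0x6c00005540006e80024b9)) (.node (.leaf 0x59d00069d0001570011b9) (.leaf 0x376000001000000)))) (.node (.node (.node (.leaf 0x56c00053e000241002551) (.leaf 0x6210001c50003a3002969)) (.node (.leaf 0x3c700051a00005f00260b) (.leaf 0x5460001260007b6001f81))) (.node (.node (.leaf 0xae000488000701002095) (.leaf 0xfd00049c0005e600280b)) (.node (.leaf 0x22600056300032d000a0c) (.leaf 0x376000001000000))))) (.node (.node (.node (.node (.leaf 0x14c00009c00001a00218b) (.leaf 0x15300031600055a002160))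 (.node (.leaf 0x34000059b0003850020a5) (.leaf 0x6b80003cb0006d7002214))) (.node (.node (.leaf 0x60a00014d00021c0000ea) (.leaf 0x5fc0000bb00059b00207d)) (.node (.leaf 0x5620005da000174002123) (.leaf 0x376000001000000)))) (.node (.node (.node (.leaf 0x47e00044d000284002455) (.leaf 0x3660003ef00038e002461)) (.node (.leaf 0x3fb00050f00034a002475) (.leaf 0x5dd00038100077f0023df))) (.node (.node (.leaf 0x1f00000050005a0002939) (.leaf 0xad0002d600072700206c)) (.node (.leaf 0x2710001db0002e4002243) (.leaf 0x376000001000000))))))) (.node (.node (.node (.node (.node (.node (.leaf 0x527000450000011002047) (.leaf 0x1610003840001d50000e8)) (.node (.leaf 0x28d00014a00048b000887) (.leaf 0x27600001a0003f5001fa5))) (.node (.node (.leaf 0x7900042d00011a000f6e) (.leaf 0x66d00031f00069c002945)) (.node (.leaf 0x3840000490004370000e5) (.leaf 0x376000001000000)))) (.node (.node (.node (.leaf 0x60400032200002e000a04) (.leaf 0x37000068f0005e00027b1)) (.node (.leaf 0x46a0004df0006860022f5) (.leaf 0x1a0000f10007e9002029)))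 (.node (.node (.leaf 0x4260002a6000443002529) (.leaf 0x6660001390003f200245f)) (.node (.leaf 0x35000001400007f00276e) (.leaf 0x376000001000000))))) (.node (.node (.node (.node (.leaf 0x1fa000277000405001eaf) (.leaf 0x1d300054e0006c2002780)) (.node (.leaf 0x2f800066b0001650028e5) (.leaf 0x6450006920004ef0024d7))) (.node (.node (.leaf 0x54400032b0002230002ba) (.leaf 0x4bf0001fc000719000974)) (.node (.leaf 0x25000005400039200289d) (.leaf 0x376000001000000)))) (.node (.node (.node (.leaf 0xc000023e0000a90025bb) (.leaf 0x2aa0003530002f50010c1)) (.node (.leaf 0x3e800056500031a0027a7) (.leaf 0x1720000020006fd00299d))) (.node (.node (.leaf 0x2cf0003bf000609002521) (.leaf 0x4fc00021000069b000c41)) (.node (.leaf 0x6f00022f0004ba0022f9) (.leaf 0x376000001000000)))))) (.node (.node (.node (.node (.node (.leaf 0x4ed0006810002040026d9) (.leaf 0x4fb0003f90005650027f1)) (.node (.leaf 0x2c40003dd0002c3002171) (.leaf 0x31b0005b80007d2002210))) (.node (.node (.leaf 0x24600038d0003200020d7) (.leaf 0x244000238000729001361))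 (.node (.leaf 0x2d00033100049b0024c5) (.leaf 0x376000001000000)))) (.node (.node (.node (.leaf 0x56400068300005a002383) (.leaf 0x55300042c0003c9002399)) (.node (.leaf 0x1350002c40000af002315) (.leaf 0x5820005860007f80023e5))) (.node (.node (.leaf 0x2af0005560005820027d5) (.leaf 0x6750006200005f4001246)) (.node (.leaf 0x62c0000c50002ad00268d) (.leaf 0x376000001000000))))) (.node (.node (.node (.node (.leaf 0x1cd00019e000111001fb5) (.leaf 0x6ab00048f0001ea002241)) (.node (.leaf 0x49500016000042e0022bb) (.leaf 0x5d50003f600073b000161))) (.node (.node (.leaf 0x6e80006b30002980000fa) (.leaf 0x4280000550001bf000f7c)) (.node (.leaf 0x1480000740000f8002703) (.leaf 0x376000001000000)))) (.node (.node (.node (.leaf 0x4e9000691000490000f71) (.leaf 0x49800009500068e002224)) (.node (.leaf 0x4ac00030800043c0023cb) (.leaf 0x376000001000000))) (.node (.node (.leaf 0x25f0004440000570022df) (.leaf 0x6640001eb000769002329)) (.node (.leaf 0x2350001190002bc001ff3) (.leaf 0x376000001000000)))))))) (.node (.node (.node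 (.node (.node (.node (.node (.leaf 0x58e00000700020000247d) (.leaf 0x130002fa0004cb0020ab)) (.node (.leaf 0x1d10000f900012b00271f) (.leaf 0x31c0001a30003db0021d1))) (.node (.node (.leaf 0x17500045f0001850025e5) (.leaf 0x3a0005440003ac0002b4)) (.node (.leaf 0x3db0003090001b1002125) (.leaf 0x376000001000000)))) (.node (.node (.node (.leaf 0x1590000c300002d00294f) (.leaf 0x5f9000020000678000965)) (.node (.leaf 0x47c0000a0000626002435) (.leaf 0x67e0004e80005f900239f))) (.node (.node (.leaf 0xc300008600040b00285b) (.leaf 0x5470006070003b6002789)) (.node (.leaf 0x34a00057200026b002111) (.leaf 0x376000001000000))))) (.node (.node (.node (.node (.leaf 0x4c8000311000203000008) (.leaf 0x5b30006ce00045f0026b3)) (.node (.leaf 0x4d2000154000255000145) (.leaf 0x1850002c700075c0009a5))) (.node (.node (.leaf 0x3d200032a000311002473) (.leaf 0x5160006440003b50025d5)) (.node (.leaf 0x64e00020c0006520020bd) (.leaf 0x376000001000000)))) (.node (.node (.node (.leaf 0x4a30000630000870001cf) (.leaf 0x5560004c90002e700295f))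 (.node (.leaf 0x22e00033300007a0021c3) (.leaf 0xa10003ce0003fb002431))) (.node (.node (.leaf 0x41800031e00041c0026ff) (.leaf 0x14e00027b00065b002401)) (.node (.leaf 0x640005ae0006a2002138) (.leaf 0x376000001000000)))))) (.node (.node (.node (.node (.node (.leaf 0x6b90003db000104000fd5) (.leaf 0x32c0005db00035900203d)) (.node (.leaf 0x30b0000b60004a3002515) (.leaf 0x41a0003540007a60028bf))) (.node (.node (.leaf 0x64d0006430001980000bc) (.leaf 0x68800003500070d0020f3)) (.node (.leaf 0x37e0001b6000591000a45) (.leaf 0x376000001000000)))) (.node (.node (.node (.leaf 0x1680000ef000069002849) (.leaf 0x12f0002ab0003c30028eb)) (.node (.leaf 0x4710003340002a9002173) (.leaf 0x4040000810007f200224b))) (.node (.node (.leaf 0x5d300036a00044a002419) (.leaf 0x27d0001a80003ec0029a1)) (.node (.leaf 0x4b00003a60006270027a5) (.leaf 0x376000001000000))))) (.node (.node (.node (.node (.leaf 0x4af00061300004c0020b6) (.leaf 0x5d0001de00027e002629)) (.node (.leaf 0x19b0005c80000ae00267d) (.leaf 0x14d00061c0004fb000871)))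 (.node (.node (.leaf 0x5940005230002c4001603) (.leaf 0x6190005810005d50024f3)) (.node (.leaf 0x6a5000369000634001b28) (.leaf 0x376000001000000)))) (.node (.node (.node (.leaf 0x34b0000530001880025e3) (.leaf 0x730003ac0005c60020f9)) (.node (.leaf 0x5450004d600007c000875) (.leaf 0xb00000c40007fe00299b))) (.node (.node (.leaf 0x3f900069c0006c000264b) (.leaf 0x960006c800073500232f)) (.node (.leaf 0x6590006820005a400293f) (.leaf 0x376000001000000))))))) (.node (.node (.node (.node (.node (.node (.leaf 0x28000015000003000254b) (.leaf 0x16500041a0000fb0027e7)) (.node (.leaf 0x56f00000a0002530025a9) (.leaf 0x52a0000af00067a0022e9))) (.node (.node (.leaf 0x2b70003f10001a20005b0) (.leaf 0x1b800026000078800213f)) (.node (.leaf 0x45600019900043d00298d) (.leaf 0x376000001000000)))) (.node (.node (.node (.leaf 0x5ea0004940002280024ad) (.leaf 0x2b400002600058d0021a3)) (.node (.leaf 0x630001f60002390005ed) (.leaf 0x5610005800006be002021))) (.node (.node (.leaf 0x2c3000319000509002955) (.leaf 0x6a300063a0005ce00229a))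 (.node (.leaf 0x5be0004ba0003a1002579) (.leaf 0x376000001000000))))) (.node (.node (.node (.node (.leaf 0x1800001880000190022c9) (.leaf 0x5000047f0004ea000878)) (.node (.leaf 0x31600069e00062500219d) (.leaf 0x3ed00028c00063f002835))) (.node (.node (.leaf 0x6c000352000286002855) (.leaf 0x62d0006c7000567002137)) (.node (.leaf 0x6d900061600013e002209) (.leaf 0x376000001000000)))) (.node (.node (.node (.leaf 0x401000176000096001ff1) (.leaf 0x1ea0002c00004bd0025dd)) (.node (.leaf 0x39100057a00026a0028a9) (.leaf 0x52400018200077e001d5d))) (.node (.node (.leaf 0x43e0002cf00059000271d) (.leaf 0x5b0003120006e50020c1)) (.node (.leaf 0x20600046e00063300124e) (.leaf 0x376000001000000)))))) (.node (.node (.node (.node (.node (.leaf 0x1af0002ef0004020024b1) (.leaf 0x28200007c00034700204b)) (.node (.leaf 0x65c00021a00018d0024b3) (.leaf 0x4ab0005050003f60022ff))) (.node (.node (.leaf 0x64100059100020b00257b) (.leaf 0xc6000032000745000078)) (.node (.leaf 0x3b50005f300031d002717) (.leaf 0x376000001000000)))) (.node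 (.node (.node (.leaf 0x41300024b00006c00246f) (.leaf 0x5cb00029b00068700267b)) (.node (.leaf 0x6710005f700014f002000) (.leaf 0x4d800008f0005ef000fd7))) (.node (.node (.leaf 0x4df0005d400042c002155) (.leaf 0x61e0003f30007680013b1)) (.node (.leaf 0x33700030d0001e20026c1) (.leaf 0x376000001000000))))) (.node (.node (.node (.node (.leaf 0x56d00043b00001e00099f) (.leaf 0x24f00028a0004ec002807)) (.node (.leaf 0x29b0005760001360028c3) (.leaf 0x2c90001dd0005f3002373))) (.node (.node (.leaf 0x15c0000da0002b0002721) (.leaf 0x5100067c0003ad001ead)) (.node (.leaf 0x1180000150001d800065c) (.leaf 0x376000001000000)))) (.node (.node (.node (.leaf 0x170002090003010027e1) (.leaf 0x800002f50006c600018c)) (.node (.leaf 0x22200011400046c0027ed) (.leaf 0x376000001000000))) (.node (.node (.leaf 0x11f0002c200020f002284) (.leaf 0x2a00008200027f0002ae)) (.node (.leaf 0xe4000431000728002735) (.leaf 0x376000001000000)))))))))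

/-- part -/
def sextT_5 : Tr Nat := (.node (.node (.node (.node (.node (.node (.node (.node (.leaf 0x2b0001e10000200028d1) (.leaf 0x2330001b20004e100019c)) (.node (.leaf 0x28800048300009b001e22) (.leaf 0x5b1000585000787001244))) (.node (.node (.leaf 0x5b500032e000145002063) (.leaf 0x36e0006390004f60023f5)) (.node (.leaf 0x17300037f00058c0020df) (.leaf 0x376000001000000)))) (.node (.node (.node (.leaf 0x53300043d0000610022e3) (.leaf 0x5e400002f0004f800170e)) (.node (.leaf 0x259000436000326002084) (.leaf 0x5cf0006e400079d00264d))) (.node (.node (.leaf 0x3dc000215000680002008) (.leaf 0x4f200060500074a001242)) (.node (.leaf 0x2a20001ab000661002169) (.leaf 0x376000001000000))))) (.node (.node (.node (.node (.leaf 0xaa0001f50000230021a1) (.leaf 0x48600022d000669001fbb)) (.node (.leaf 0x1170000dc0000d5002270) (.leaf 0x4400002dc0007740022d3))) (.node (.node (.leaf 0x3c50003170002890021ab) (.leaf 0x61c0005450003d3000d78)) (.node (.leaf 0x11000562000352001b2c) (.leaf 0x376000001000000)))) (.node (.node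 (.node (.leaf 0x4850003b10002600025bf) (.leaf 0x7c0001030003b10021df)) (.node (.leaf 0x6a80005de00028f002184) (.leaf 0x1e80001b80007cf0020e1))) (.node (.node (.leaf 0x6e90004a100064400296d) (.leaf 0x30100060800063b0023e3)) (.node (.leaf 0x2530002350000fa002097) (.leaf 0x376000001000000)))))) (.node (.node (.node (.node (.node (.leaf 0x6a10005250000a0001f8d) (.leaf 0x23400020400015f0024cd)) (.node (.leaf 0x4a00002d50002630021d9) (.leaf 0x138000050000756002094))) (.node (.node (.leaf 0x3380004bf0001c40021f3) (.leaf 0x6110000250007a0001ee6)) (.node (.leaf 0x36200011000045b002369) (.leaf 0x376000001000000)))) (.node (.node (.node (.leaf 0x8a00003f000053001fe0) (.leaf 0x6160002540005a50020cf)) (.node (.leaf 0x3900017e0000e900251d) (.leaf 0xc20000040007ba001fad))) (.node (.node (.leaf 0x28300010d00042600001b) (.leaf 0x63900050d00037c002226)) (.node (.leaf 0x1b00050c000335002557) (.leaf 0x376000001000000))))) (.node (.node (.node (.node (.leaf 0x68300058d00020a0021d3) (.leaf 0x53d0002ac00064e0027b5))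 (.node (.leaf 0x40500060e00003e00019a) (.leaf 0x3c0006650007670024e9))) (.node (.node (.leaf 0xea0000c1000264002897) (.leaf 0x6ae0002d10005e30026dd)) (.node (.leaf 0x46000362000334002595) (.leaf 0x376000001000000)))) (.node (.node (.node (.leaf 0x6480006b50000c60020b3) (.leaf 0x4fa0001d800059a001a10)) (.node (.leaf 0x310000a700038a0025d7) (.leaf 0x2790004a20007fc002817))) (.node (.node (.leaf 0x4240000f50007200027a1) (.leaf 0x44e00046d00078b0021b9)) (.node (.leaf 0x55f00065c0000fc0021e1) (.leaf 0x376000001000000))))))) (.node (.node (.node (.node (.node (.node (.leaf 0x71000379000021000a03) (.leaf 0x46d00054d0004d90010ee)) (.node (.leaf 0x4bc0001850000d3001c55) (.leaf 0x5d00006de00074b002003))) (.node (.node (.leaf 0x54200039f000152002026) (.leaf 0x6170002a00006d4002311)) (.node (.leaf 0x4ee00032000007d002087) (.leaf 0x376000001000000)))) (.node (.node (.node (.leaf 0x6b60004f10001240022fb) (.leaf 0x3e10003720007810023a3)) (.node (.leaf 0x7e0001180000d90000b4) (.leaf 0x2e300049000057e0002af)))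 (.node (.node (.leaf 0x567000328000491002259) (.leaf 0x46c00027800039e00271b)) (.node (.leaf 0x11b0001a60000f90024ef) (.leaf 0x376000001000000))))) (.node (.node (.node (.node (.leaf 0xac000571000046000f7a) (.leaf 0x2b800067f0002da002991)) (.node (.leaf 0x47b0003c4000325002759) (.leaf 0x4d600068700059f002013))) (.node (.node (.leaf 0x4870003a400024600256f) (.leaf 0x3960002cb00053d002787)) (.node (.leaf 0xba00035500019e002665) (.leaf 0x376000001000000)))) (.node (.node (.node (.leaf 0x47700024d0000e1000971) (.leaf 0x21a00007a0004e7002795)) (.node (.leaf 0x32700022500061a0022ad) (.leaf 0x1d70000770007f5002385))) (.node (.node (.leaf 0x900005b300047000237f) (.leaf 0x2b900021e0006d3002355)) (.node (.leaf 0x61f0006cb0006360024f5) (.leaf 0x376000001000000)))))) (.node (.node (.node (.node (.node (.leaf 0x51d00052900024000217f) (.leaf 0x6ac00065b000571002377)) (.node (.leaf 0x27c0003c500009d00203b) (.leaf 0x1580005010003be00215d))) (.node (.node (.leaf 0x3ad00004b00054000240f) (.leaf 0x6be00028000035b00273d))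 (.node (.leaf 0x16c0001ae000711000055) (.leaf 0x376000001000000)))) (.node (.node (.node (.leaf 0x1c60003fc0000c40001fc) (.leaf 0xf0004aa0005d10027c3)) (.node (.leaf 0x328000224000349002267) (.leaf 0x2250000e50003bf002127))) (.node (.node (.leaf 0x6430006ac00062200211b) (.leaf 0x10e00031d0003bc0020d9)) (.node (.leaf 0x3a70000e60004b50001a2) (.leaf 0x376000001000000))))) (.node (.node (.node (.node (.leaf 0x2600055f00009200097f) (.leaf 0x6e300056f0002dc002298)) (.node (.leaf 0x5a60004c20000760026bf) (.leaf 0x60500065a00076b001248))) (.node (.node (.leaf 0x17e0003380003480023b5) (.leaf 0x210002940003a7002742)) (.node (.leaf 0x50e00006a000338002391) (.leaf 0x376000001000000)))) (.node (.node (.node (.leaf 0x6d0001e50002a00026ef) (.leaf 0x6a400014b0006a6001f51)) (.node (.leaf 0x5850004f900016c001240) (.leaf 0x376000001000000))) (.node (.node (.leaf 0x176000045000117002107) (.leaf 0x580006ba000771002873)) (.node (.leaf 0x47d000170000568002549) (.leaf 0x376000001000000)))))))) (.node (.node (.node (.node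 (.node (.node (.node (.leaf 0x1dc00035c000006000021) (.leaf 0x1c00004230001d3000054)) (.node (.leaf 0x3bf00064f00024b00230f) (.leaf 0x4cd0005c100072d002663))) (.node (.node (.leaf 0x4630001a50001c100006e) (.leaf 0x6200005a50001fc00215b)) (.node (.leaf 0x4eb0003b90005310025c5) (.leaf 0x376000001000000)))) (.node (.node (.node (.leaf 0x1b50003ba0000620020a9) (.leaf 0x3360006620007500025ed)) (.node (.leaf 0x61b00047e000646000889) (.leaf 0x4970004cf0005ed002949))) (.node (.node (.leaf 0x21c00016c000423002001) (.leaf 0x3bd00006500078a0022a2)) (.node (.leaf 0x5400001310000f3001d33) (.leaf 0x376000001000000))))) (.node (.node (.node (.node (.leaf 0x53f00052f0000250027cd) (.leaf 0x6460000e100047d002353)) (.node (.leaf 0x22d0000d5000455000973) (.leaf 0x46600046b0007d8001f94))) (.node (.node (.leaf 0x63e000161000602000186) (.leaf 0x13e0004150003d90012bf)) (.node (.leaf 0x5900002d00025e000a11) (.leaf 0x376000001000000)))) (.node (.node (.node (.leaf 0x5f70006b8000095001d53) (.leaf 0x29700066c0006c500243b))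 (.node (.leaf 0x30200050600015a0027e9) (.leaf 0x66200025f0007db0024e5))) (.node (.node (.leaf 0x1500006800049800135d) (.leaf 0x35b0005b200065d00004c)) (.node (.leaf 0x38900023f0002b300209f) (.leaf 0x376000001000000)))))) (.node (.node (.node (.node (.node (.leaf 0x56800034d000140000a13) (.leaf 0x46f000111000563001fe1)) (.node (.leaf 0x57d000445000343001fe5) (.leaf 0x62f00062d0007aa0021ef))) (.node (.node (.leaf 0x4d4000093000510000f74) (.leaf 0x4a90005ad00032f00284d)) (.node (.leaf 0x27e0003f40000bb0020a1) (.leaf 0x376000001000000)))) (.node (.node (.node (.leaf 0xeb00059200024200216d) (.leaf 0x6d10003060001eb002983)) (.node (.leaf 0x2c6000332000529002957) (.leaf 0x1da00024f0007ec0028e7))) (.node (.node (.leaf 0x1790003ee0004a200263b) (.leaf 0x1a600052d00057c00279b)) (.node (.leaf 0x2b10000270001ab00252d) (.leaf 0x376000001000000))))) (.node (.node (.node (.node (.leaf 0x69200053700040c0027b7) (.leaf 0x64a0005e5000672000f43)) (.node (.leaf 0x43a0005d700021e001c3b) (.leaf 0x3300006500005eb002981)))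 (.node (.node (.leaf 0x38d0003ca0003840011bf) (.leaf 0x11100044a0005f1000f6c)) (.node (.leaf 0x6d50001c40003940005b8) (.leaf 0x376000001000000)))) (.node (.node (.node (.leaf 0x13c0005a00000d800005b) (.leaf 0x2e50002000005ca0024bd)) (.node (.leaf 0x5c50003c700023c0022f1) (.leaf 0x376000001000000))) (.node (.node (.leaf 0x1240000d30007080028d9) (.leaf 0x38e00000600078d0022c3)) (.node (.leaf 0x3e900044800033c0028d5) (.leaf 0x376000001000000))))))) (.node (.node (.node (.node (.node (.node (.leaf 0x54900001d0000480024bb) (.leaf 0x9400022c0004e9000d91)) (.node (.leaf 0x149000694000433002363) (.leaf 0x69b00061d0006d60026a9))) (.node (.node (.leaf 0x59300031c00011c002174) (.leaf 0x63a0000980005e800224f)) (.node (.leaf 0x18d0005b50004710020c5) (.leaf 0x376000001000000)))) (.node (.node (.node (.leaf 0x2bc0005f4000130002463) (.leaf 0x6af0002f7000395002487)) (.node (.leaf 0x6280005ab00043900231d) (.leaf 0x280003210007ae001fe6))) (.node (.node (.leaf 0x3a00000b00006050028b9) (.leaf 0x1bc0004c30005da001702))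 (.node (.leaf 0x4840000b3000527002891) (.leaf 0x376000001000000))))) (.node (.node (.node (.node (.leaf 0x5ce000618000109002711) (.leaf 0x3f0002aa00034e0000f1)) (.node (.leaf 0x4160005580004c500007f) (.leaf 0x69600031b0006cf00205f))) (.node (.node (.leaf 0x23000015200031200232b) (.leaf 0x3a100038a00056d00225d)) (.node (.leaf 0x67200053b00023e002739) (.leaf 0x376000001000000)))) (.node (.node (.node (.leaf 0x3900001fb0000ca002082) (.leaf 0x4dd0004370004f5002965)) (.node (.leaf 0x3c00002dd00052a000165) (.leaf 0x5e30002db0007f900283f))) (.node (.node (.leaf 0x48a0006790004a0002485) (.leaf 0x3a40002eb0006f10024f9)) (.node (.leaf 0x5bb0002310001ba0020eb) (.leaf 0x376000001000000)))))) (.node (.node (.node (.node (.node (.leaf 0x59a0006cf000420002139) (.leaf 0x3950000850006550023d5)) (.node (.leaf 0x54300004400030d002633) (.leaf 0x1fd00063d00067c00253d))) (.node (.node (.leaf 0x2cd0001ff0002190027c1) (.leaf 0x49600053d000379002865)) (.node (.leaf 0x2120005bd0002970026e1) (.leaf 0x376000001000000))))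 (.node (.node (.node (.leaf 0x67d00020b0004480022d4) (.leaf 0x2f400024400029f000660)) (.node (.leaf 0x2f20005840006890027ff) (.leaf 0x480005520007af00235b))) (.node (.node (.leaf 0x58900007d00049400236a) (.leaf 0x18800033d0007700025e1)) (.node (.leaf 0x59700006e000662002381) (.leaf 0x376000001000000))))) (.node (.node (.node (.node (.leaf 0x41c0001bd0001140025c1) (.leaf 0x3df0005fa00055c00238d)) (.node (.leaf 0x6d7000263000256002943) (.leaf 0x17a00002e0007d3002727))) (.node (.node (.leaf 0x3080003e4000350002205) (.leaf 0x24d0001d400071600201d)) (.node (.leaf 0x2e10000b400055800261f) (.leaf 0x376000001000000)))) (.node (.node (.node (.leaf 0xe0000cc00010d002754) (.leaf 0x26c0000880006d20028cd)) (.node (.leaf 0x3e50002820001cc00212d) (.leaf 0x376000001000000))) (.node (.node (.leaf 0x1eb0006b000040f002649) (.leaf 0x14100055c0002f7002294)) (.node (.leaf 0xe10004740004f00023b9) (.leaf 0x376000001000000)))))))))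

/-- part -/
def sextT_6 : Tr Nat := (.node (.node (.node (.node (.node (.node (.node (.node (.leaf 0x6580005ef000008000fcd) (.leaf 0x5ba00047b0006700028bb)) (.node (.leaf 0x4ef00025c00005b001f83) (.leaf 0xe50003d70003d7002049))) (.node (.node (.leaf 0x1d00004c500013100222e) (.leaf 0x2240002170004de00205e)) (.node (.leaf 0x12a00010700019c00257f) (.leaf 0x376000001000000)))) (.node (.node (.node (.leaf 0x3230004d400021800015d) (.leaf 0x4c60002050006c800293b)) (.node (.leaf 0x51c0004d2000266000042) (.leaf 0x22c0000b100073d0022a3))) (.node (.node (.leaf 0x6100004cb0003a000217b) (.leaf 0x28f00021f00035e001fe2)) (.node (.leaf 0x62600015b00036100232d) (.leaf 0x376000001000000))))) (.node (.node (.node (.node (.leaf 0x1ab00046c00000b002407) (.leaf 0x6ba000441000665002937)) (.node (.leaf 0x1a900061000060d002164) (.leaf 0x8d0001290007ac0001d2))) (.node (.node (.leaf 0x44d0005c4000283002278) (.leaf 0x47a0005970003b3001f78)) (.node (.leaf 0x35600051b000272002433) (.leaf 0x376000001000000)))) (.node (.node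 (.node (.leaf 0x3e00000890000e00028f5) (.leaf 0xe300059d0002bd001fb0)) (.node (.leaf 0x2e40003b400021f00286f) (.leaf 0x5f800037400075f00216f))) (.node (.node (.leaf 0x6cd0005240005440023ae) (.leaf 0x2d200051800062f00205d)) (.node (.leaf 0x40900061a0001760021cd) (.leaf 0x376000001000000)))))) (.node (.node (.node (.node (.node (.leaf 0x14b0004af00008800237d) (.leaf 0x400040d00035300128d)) (.node (.leaf 0x4f0002d30000e300218f) (.leaf 0x25e000174000736002531))) (.node (.node (.leaf 0x2ba00036f0001940022d9) (.leaf 0x5d60001690003f0001fa4)) (.node (.leaf 0x43b0004f200015b00200f) (.leaf 0x376000001000000)))) (.node (.node (.node (.leaf 0x36a0006b600004b002509) (.leaf 0x35f0005400001b7001fb3)) (.node (.leaf 0x65b0006a700011f002494) (.leaf 0x5080005e80005fa002098))) (.node (.node (.leaf 0x1d500060900041600229c) (.leaf 0x24a0002b00007a2002673)) (.node (.leaf 0x5860006d60003330024d1) (.leaf 0x376000001000000))))) (.node (.node (.node (.node (.leaf 0x4120000c900004a0001d1) (.leaf 0x4900000c200036a00014d))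 (.node (.leaf 0x52800027d0006850028db) (.leaf 0x46b0000f3000797001f91))) (.node (.node (.leaf 0x5b4000387000234000f6d) (.leaf 0x1e20003a10005b3002085)) (.node (.leaf 0x4e200059000027400259b) (.leaf 0x376000001000000)))) (.node (.node (.node (.leaf 0x33b0000d800009c002079) (.leaf 0x4be000670000396002148)) (.node (.leaf 0x2fb00052700054a000614) (.leaf 0x1f70000ec0007df00237b))) (.node (.node (.leaf 0x268000457000660000d8a) (.leaf 0x400004380007470026b1)) (.node (.leaf 0x5910001aa0004e4002357) (.leaf 0x376000001000000))))))) (.node (.node (.node (.node (.node (.node (.leaf 0x3c30001f700001400211d) (.leaf 0x56a0003820004d500258d)) (.node (.leaf 0x46000010c00060b002343) (.leaf 0x2380000690006b5001657))) (.node (.node (.leaf 0x41d000292000132001fc8) (.leaf 0x11d0001ba0006b40022e5)) (.node (.leaf 0x2080004d700013b00263f) (.leaf 0x376000001000000)))) (.node (.node (.node (.leaf 0x14600012d00003a00019b) (.leaf 0xf90003a2000760002919)) (.node (.leaf 0x3c80002de000079002639) (.leaf 0x39b0006930007cd00294d)))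 (.node (.node (.leaf 0x2550000580004610028bd) (.leaf 0x5130006bf00070e00220c)) (.node (.leaf 0x5700005be000275002763) (.leaf 0x376000001000000))))) (.node (.node (.node (.node (.leaf 0x530000e900001600013e) (.leaf 0x4430002ae0004ce002542)) (.node (.leaf 0x14500001800026500210d) (.leaf 0x29c00004c00053f0022d5))) (.node (.node (.leaf 0x3b300015300022a002443) (.leaf 0x6d80005bf0005370021dd)) (.node (.leaf 0x5f00004d10005920010bf) (.leaf 0x376000001000000)))) (.node (.node (.node (.leaf 0x2630001ed0000c5002839) (.leaf 0x54a00000b0004b7002265)) (.node (.leaf 0xa000022300049a00225f) (.leaf 0x5ec0002d00007bd001fb9))) (.node (.node (.leaf 0x2ab00033000064800283b) (.leaf 0x2430006980006b30020c8)) (.node (.leaf 0x3140001c600062e0024eb) (.leaf 0x376000001000000)))))) (.node (.node (.node (.node (.node (.leaf 0x3f000062b000210002967) (.leaf 0xc800022e000369002371)) (.node (.leaf 0x265000310000583002305) (.leaf 0x6bd0004920002fe002286))) (.node (.node (.leaf 0x4410006d70001e0002989) (.leaf 0x3fc0002d2000743002149))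 (.node (.leaf 0x1220002c900029d002117) (.leaf 0x376000001000000)))) (.node (.node (.node (.leaf 0x4cc00039d00006a002819) (.leaf 0x2050004b30001f9002833)) (.node (.leaf 0x4bb0005460001c9001f8b) (.leaf 0x69d0001710002ff000f51))) (.node (.node (.leaf 0x53500056b00060a00284f) (.leaf 0x4380001d50007c4002497)) (.node (.leaf 0x46100021800062d0024dd) (.leaf 0x376000001000000))))) (.node (.node (.node (.node (.leaf 0xf10004fc00001d001f4d) (.leaf 0x4b800022b0003c40004dc)) (.node (.leaf 0x27300065f00050e002929) (.leaf 0x25100012b00079b002841))) (.node (.node (.leaf 0x4c40001730002c8002161) (.leaf 0xcb0000aa0001ef002345)) (.node (.leaf 0x48300006c0001b8002923) (.leaf 0x376000001000000)))) (.node (.node (.node (.leaf 0x4ff0006630000f0001f9d) (.leaf 0x6060000a800069a002863)) (.node (.leaf 0x3f400002800051c002077) (.leaf 0x376000001000000))) (.node (.node (.leaf 0xc100065e00008f0028d3) (.leaf 0x2210003390007a90027dd)) (.node (.leaf 0x68b0005b90002e8001f84) (.leaf 0x376000001000000)))))))) (.node (.node (.node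 (.node (.node (.node (.node (.leaf 0x1080004d3000003002199) (.leaf 0xed0000a40002cd00005f)) (.node (.leaf 0x930000bd00021b002527) (.leaf 0x63400033c0002fd000192))) (.node (.node (.leaf 0x35d000187000191002651) (.leaf 0x28a0004560003cc00292b)) (.node (.leaf 0x20f0003bc0002b100262f) (.leaf 0x376000001000000)))) (.node (.node (.node (.leaf 0x52300039c0000390021d7) (.leaf 0x430006780005d000230d)) (.node (.leaf 0xd200018f00044e000f3f) (.leaf 0xff0003a80007b9001f8f))) (.node (.node (.leaf 0x19a000642000415001fa9) (.leaf 0x1f400027a0003d6002195)) (.node (.leaf 0x6150004f600016d0020c9) (.leaf 0x376000001000000))))) (.node (.node (.node (.node (.leaf 0x4e300013500000d00252b) (.leaf 0x3a30004e2000477002615)) (.node (.leaf 0x1150000b9000315002361) (.leaf 0x13300034800077800294b))) (.node (.node (.leaf 0x61a0004f5000341002495) (.leaf 0x4390005960003cd001ffd)) (.node (.leaf 0x1980001840000de0023b3) (.leaf 0x376000001000000)))) (.node (.node (.node (.leaf 0x1d80001ea00008d002447) (.leaf 0x29d0001830002f3002247))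 (.node (.leaf 0x53e0005550000da00277e) (.leaf 0x51a0003d50006fb0023dd))) (.node (.node (.leaf 0x63100044e000449001677) (.leaf 0x8400030400066b0020ea)) (.node (.leaf 0x6cb0006610002ae0022eb) (.leaf 0x376000001000000)))))) (.node (.node (.node (.node (.node (.leaf 0x29f0002a8000110002915) (.leaf 0x2d10001060001e3002827)) (.node (.leaf 0x68f0004730006230025e9) (.leaf 0x4fd00003300073a002979))) (.node (.node (.leaf 0x3060006730001c80028e3) (.leaf 0x3680003ab000715002547)) (.node (.leaf 0x3d70001510001970002bc) (.leaf 0x376000001000000)))) (.node (.node (.node (.leaf 0x1230001e60000c20024e1) (.leaf 0x5a500059e0001d70023a1)) (.node (.leaf 0x4510004a90004690028df) (.leaf 0x2a90003e70006fc00220d))) (.node (.node (.leaf 0x48b000385000486002234) (.leaf 0x30f00029d0003f4002417)) (.node (.leaf 0x63b00052b00023f002653) (.leaf 0x376000001000000))))) (.node (.node (.node (.node (.leaf 0x30004d800010c000fd1) (.leaf 0x1ca00064d0002f20014af)) (.node (.leaf 0xbe0000e000012e0021b1) (.leaf 0x52e00025100057b002871)))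 (.node (.node (.leaf 0x21600007f000314001921) (.leaf 0x68d0001b30005d90028ed)) (.node (.leaf 0x1a100049f000354002039) (.leaf 0x376000001000000)))) (.node (.node (.node (.leaf 0x5e1000628000488002239) (.leaf 0x6a00005f0001ee0026c3)) (.node (.leaf 0x35e0005dd00013c00260d) (.leaf 0x376000001000000))) (.node (.node (.leaf 0x63d0005f1000690002421) (.leaf 0x468000502000755002689)) (.node (.leaf 0x690003eb00017c0025ad) (.leaf 0x376000001000000))))))) (.node (.node (.node (.node (.node (.node (.leaf 0x58100045c00004200265d) (.leaf 0x47f0004c70000fd001fcb)) (.node (.leaf 0x1b60006170003130020e7) (.leaf 0x21100061b00069e002631))) (.node (.node (.leaf 0x43d0005980003040023e7) (.leaf 0x5b00003430005d80024a7)) (.node (.leaf 0x1cb00065d0002d1000084) (.leaf 0x376000001000000)))) (.node (.node (.node (.leaf 0x1c000560000070001fc4) (.leaf 0x5b60004bb000593001fa3)) (.node (.leaf 0x6e50004b900029900275f) (.leaf 0x8e0004db00073e0026b9))) (.node (.node (.leaf 0x2d80003940005410025a7) (.leaf 0x5e00002610005d6002064))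 (.node (.leaf 0x348000520000721002851) (.leaf 0x376000001000000))))) (.node (.node (.node (.node (.leaf 0x51200009e00004900213b) (.leaf 0x5100002120004f200285d)) (.node (.leaf 0x2d40004c80001c500003b) (.leaf 0x17000043500066f0020ba))) (.node (.node (.leaf 0x5e9000383000306002255) (.leaf 0x63f0001e400057300275d)) (.node (.leaf 0x3200040a00051e001c22) (.leaf 0x376000001000000)))) (.node (.node (.node (.leaf 0x30c0000db0000aa000153) (.leaf 0x1c400069b0004ed0025b7)) (.node (.leaf 0x5020006dd00032a0028c9) (.leaf 0x1140000f80007de00232c))) (.node (.node (.leaf 0x1d40003e1000650002175) (.leaf 0x4820004290006d9000204)) (.node (.leaf 0x45000002900032e0020bb) (.leaf 0x376000001000000)))))) (.node (.node (.node (.node (.node (.leaf 0xc70004e400040800258b) (.leaf 0x8300007900064d00007e)) (.node (.leaf 0x69800023b00024d0022a0) (.leaf 0xef00023400075a0026e5))) (.node (.node (.leaf 0x6800004980002130023f3) (.leaf 0x41f00035d00036d0027f3)) (.node (.leaf 0x4c30000bf00023700002f) (.leaf 0x376000001000000)))) (.node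 (.node (.node (.leaf 0x62000561000148000029) (.leaf 0x47800049b00068d001f97)) (.node (.leaf 0x44200050400038900236b) (.leaf 0x57400008e00076f002489))) (.node (.node (.leaf 0x15f00029f000454002772) (.leaf 0x1b40005ec0007a8002019)) (.node (.leaf 0x2010005f600036200290d) (.leaf 0x376000001000000))))) (.node (.node (.node (.node (.leaf 0x3ea0004fb0000540026c7) (.leaf 0x193000403000744002813)) (.node (.leaf 0x5520005c9000196002519) (.leaf 0x46200017f000773002263))) (.node (.node (.leaf 0x1690002fb0003180002b3) (.leaf 0x54d0001e00005ad001ff8)) (.node (.leaf 0x4a20004640002d8002975) (.leaf 0x376000001000000)))) (.node (.node (.node (.leaf 0x2720005f200010700286d) (.leaf 0x60100007b0006ca00278f)) (.node (.leaf 0x69500017b00052c0004c6) (.leaf 0x376000001000000))) (.node (.node (.leaf 0x13a0000dd000287000bc0) (.leaf 0x50d00024e0002bf0020db)) (.node (.leaf 0x37d0005df0002f0002591) (.leaf 0x376000001000000)))))))))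

/-- part -/
def sextT_7 : Tr Nat := (.node (.node (.node (.node (.node (.node (.node (.node (.leaf 0x4f500000900008000236d) (.leaf 0x3c600007e0001c7000045)) (.node (.leaf 0x3460006e00000cb00259d) (.leaf 0x4d500058900037b0026cb))) (.node (.node (.leaf 0x2e0000303000151002465) (.leaf 0x7700031a00039c0026bd)) (.node (.leaf 0x64700037800070c00235d) (.leaf 0x376000001000000)))) (.node (.node (.node (.leaf 0x1370006a8000027002478) (.leaf 0x3aa0000de0002f8002677)) (.node (.leaf 0xf80004040004a600241b) (.leaf 0xd70006550007b500206b))) (.node (.node (.leaf 0x38300010b000411002545) (.leaf 0x5f500069f0003760027bf)) (.node (.leaf 0x24c000163000467001b04) (.leaf 0x376000001000000))))) (.node (.node (.node (.node (.leaf 0x667000660000083001fee) (.leaf 0x1f0003f00003710027f9)) (.node (.leaf 0x3d100053f000155002507) (.leaf 0x4060004ec0007d4000fdd))) (.node (.node (.leaf 0xb60003e00003030027db) (.leaf 0x1bd000547000785002843)) (.node (.leaf 0x48f0002060004d20023f7) (.leaf 0x376000001000000)))) (.node (.node (.node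 (.leaf 0x3770005420001810021ba) (.leaf 0x42900041b0002d7001ff4)) (.node (.leaf 0x2dd00064900060f0020be) (.leaf 0x3cf0005590007e7000085))) (.node (.node (.leaf 0x2180005780007040022d7) (.leaf 0x4880000f200064f00066a)) (.node (.leaf 0x67a0002ed0003a20023e1) (.leaf 0x376000001000000)))))) (.node (.node (.node (.node (.node (.leaf 0x5950003ad000101002635) (.leaf 0x2ea00035800055500298b)) (.node (.leaf 0x7b0000b70003230025c7) (.leaf 0x1200065200078e00234d))) (.node (.node (.leaf 0x267000010000138002059) (.leaf 0x3450002e3000707001f8c)) (.node (.leaf 0x3ef0003ea00045d002393) (.leaf 0x376000001000000)))) (.node (.node (.node (.leaf 0x3520002e50000590026d7) (.leaf 0x39300026c0003a90028c7)) (.node (.leaf 0x4aa0004520001a900281f) (.leaf 0x4c00002a30007e600246b))) (.node (.node (.leaf 0x12c000056000432002333) (.leaf 0x43500048a000764002296)) (.node (.leaf 0x3390004720002a70001a4) (.leaf 0x376000001000000))))) (.node (.node (.node (.node (.leaf 0x1950001b700001c002189) (.leaf 0x1f900069700065a002004)) (.node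 (.leaf 0x56600058f00006e0020cd) (.leaf 0x4f40001f40007c700202f))) (.node (.node (.leaf 0x2dc00054a00029400213d) (.leaf 0x670000a20005c7002078)) (.node (.leaf 0x2840003670004b40025cf) (.leaf 0x376000001000000)))) (.node (.node (.node (.leaf 0xd60002e20000d40026f1) (.leaf 0x37900035f0001be0001cb)) (.node (.leaf 0xb500000f00070a0024ed) (.leaf 0x3a900057c0007fb0026db))) (.node (.node (.leaf 0x52900013a0005c0001e18) (.leaf 0x59b0003d60007c300228e)) (.node (.leaf 0x6870006ab00047c002167) (.leaf 0x376000001000000))))))) (.node (.node (.node (.node (.node (.node (.leaf 0x49300053a00002400288f) (.leaf 0x15d0003c80000ef002543)) (.node (.leaf 0x58300050300019300208d) (.leaf 0x64f00021b00065e000200))) (.node (.node (.leaf 0x1cc0003e2000183002105) (.leaf 0xfe0005170004fc0022ed)) (.node (.leaf 0x5c200014500013d002246) (.leaf 0x376000001000000)))) (.node (.node (.node (.leaf 0x19c00015e00003c0027c9) (.leaf 0x56b00062100058b002987)) (.node (.leaf 0x60d00043e00015900255d) (.leaf 0x4590004670005ee001706))) (.node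 (.node (.leaf 0x21f0004f40004c1001fa7) (.leaf 0x58d0005430001fe00249d)) (.node (.leaf 0x1250003970004790023b7) (.leaf 0x376000001000000))))) (.node (.node (.node (.node (.leaf 0x2bf0004b700010600274a) (.leaf 0x18b0001e30000fe001f9b)) (.node (.leaf 0x39a0006a00004a500050b) (.leaf 0x57e0006e80005d7002245))) (.node (.node (.leaf 0x4e10000be0002520001dc) (.leaf 0x3ec0006d00005570025ab)) (.node (.leaf 0x53200035e00049e0027c5) (.leaf 0x376000001000000)))) (.node (.node (.node (.leaf 0x3e70002c80002820020e3) (.leaf 0x1e0003130004bb0025f7)) (.node (.leaf 0xb100036000016a002449) (.leaf 0x5a90001330005fe00297f))) (.node (.node (.leaf 0x36d0000940004d000012c) (.leaf 0x50100026d0006cd0023ad)) (.node (.leaf 0x27000060300052e0002be) (.leaf 0x376000001000000)))))) (.node (.node (.node (.node (.node (.leaf 0x4d000424000300002705) (.leaf 0x330004dd000741002921)) (.node (.leaf 0x3bb0002370000cd002997) (.leaf 0x5b200053400072e0003a5))) (.node (.node (.leaf 0x6d40005d200060100266b) (.leaf 0x4b700006d00036b002867))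 (.node (.leaf 0x4c200032f00031b00050c) (.leaf 0x376000001000000)))) (.node (.node (.node (.leaf 0xb70002270004440026c5) (.leaf 0xf60000570003e1002805)) (.node (.leaf 0x2400003ff000549001932) (.leaf 0x6b700013c0005bf000d34))) (.node (.node (.leaf 0x610000670006820020fb) (.leaf 0x1310000fa0003f800221a)) (.node (.leaf 0x9d00047a0004b90023ff) (.leaf 0x376000001000000))))) (.node (.node (.node (.node (.leaf 0x5af0006d50002120020cc) (.leaf 0x660006cc0001e500096d)) (.node (.leaf 0xdf0000510000d6001eb1) (.leaf 0x6e0006b20007cb0023d9))) (.node (.node (.leaf 0x2cb0004340006100026ab) (.leaf 0x6560006a400059d0021bf)) (.node (.leaf 0x3b00043c00053800246d) (.leaf 0x376000001000000)))) (.node (.node (.node (.leaf 0x45d0002420002c00000ef) (.leaf 0x4db0003960006aa00249f)) (.node (.leaf 0x6bb00049d00026c002375) (.leaf 0x376000001000000))) (.node (.node (.leaf 0x4750000130001470021cb) (.leaf 0x3ff0002b90007d10009a1)) (.node (.leaf 0x3630003da0003a800247f) (.leaf 0x376000001000000)))))))) (.node (.node (.node (.node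 (.node (.node (.node (.leaf 0x1ff0002e700000a002603) (.leaf 0x4d100040f0004d30000f5)) (.node (.leaf 0x22900019f00030b0023fb) (.leaf 0x6290005cc0003f3002899))) (.node (.node (.leaf 0x12800009600010e0020f7) (.leaf 0x66e0002e10005d4002365)) (.node (.leaf 0x56e0000c00000b7002533) (.leaf 0x376000001000000)))) (.node (.node (.node (.leaf 0x4ec0006b9000222000fd9) (.leaf 0x1740004710002f4002319)) (.node (.leaf 0x217000108000386002031) (.leaf 0xa80004910007ad0026e9))) (.node (.node (.leaf 0x2400028b000429002025) (.leaf 0x17d0002670003da002145)) (.node (.leaf 0x4bd0000f4000273001fc5) (.leaf 0x376000001000000))))) (.node (.node (.node (.node (.leaf 0x32000004f000085002261) (.leaf 0x6850002300001e9002541)) (.node (.leaf 0x5d20006ad0006150028b1) (.leaf 0x51500020d00047f002235))) (.node (.node (.leaf 0x50900002a0002160002b2) (.leaf 0x4f900063e0003f100018a)) (.node (.leaf 0x2c80001af0001b200230b) (.leaf 0x376000001000000)))) (.node (.node (.node (.leaf 0x66100033e0000a300214d) (.leaf 0x12b00068d0002ed002985))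 (.node (.leaf 0x2090001d900023a002637) (.leaf 0x18400003d0007f30021f1))) (.node (.node (.leaf 0x1cf0006ea0005180025fd) (.leaf 0x44f000406000675000fe1)) (.node (.leaf 0x1a40003f80002b6000087) (.leaf 0x376000001000000)))))) (.node (.node (.node (.node (.node (.leaf 0x608000485000201002200) (.leaf 0x2e200014e0001770024d9)) (.node (.leaf 0xdd0003d1000543002222) (.leaf 0x55900016f0007720022c7))) (.node (.node (.leaf 0x52d0004b20001b00028f1) (.leaf 0x15e00004d00072500287f)) (.node (.leaf 0x5da00033700019b0000c4) (.leaf 0x376000001000000)))) (.node (.node (.node (.leaf 0x25700061900004e002212) (.leaf 0x3eb0000230005c5002493)) (.node (.leaf 0x1de0005ee00003f002887) (.leaf 0x31e00046a0007f4002503))) (.node (.node (.leaf 0x2a500034f000506002403) (.leaf 0x5070002bf0005dc0025b9)) (.node (.leaf 0x6250001a00004ab002282) (.leaf 0x376000001000000))))) (.node (.node (.node (.node (.leaf 0x2470002ba0000510023ef) (.leaf 0x2d60003be0001da002017)) (.node (.leaf 0x3440001be00030e00282b) (.leaf 0x5900004a40006bb002837)))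 (.node (.node (.leaf 0x2c000062f0002580023af) (.leaf 0x39400047500038f002379)) (.node (.leaf 0x10000123000694002203) (.leaf 0x376000001000000)))) (.node (.node (.node (.leaf 0x3ab0000a90001900027af) (.leaf 0x3880004860005d2001cd7)) (.node (.leaf 0x23900003900029c00239b) (.leaf 0x376000001000000))) (.node (.node (.leaf 0xfb00001e0000370027bb) (.leaf 0x28e0000030007c5000079)) (.node (.leaf 0x2d50004e10006a40024ab) (.leaf 0x376000001000000))))))) (.node (.node (.node (.node (.node (.node (.leaf 0x45c00023a000060002879) (.leaf 0x1440003ec0004f1002782)) (.node (.leaf 0x3a8000583000493001b08) (.leaf 0x2ac0006dc0006da0025eb))) (.node (.node (.leaf 0x46700046800014c000033) (.leaf 0x20e0001c00006b800202e)) (.node (.leaf 0x2bd000511000651002925) (.leaf 0x376000001000000)))) (.node (.node (.node (.leaf 0x3920004b60000c100244b) (.leaf 0x22800036b000399002093)) (.node (.leaf 0x50001bb00049900282d) (.leaf 0x3d30005870006f60026f7))) (.node (.node (.leaf 0x5d700020f000621002303) (.leaf 0xa700012a0005b6002765))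 (.node (.leaf 0x43f00011500052b00061e) (.leaf 0x376000001000000))))) (.node (.node (.node (.node (.leaf 0x2e0004eb00040900278d) (.leaf 0x4a60001090005560026e3)) (.node (.leaf 0x6ea0006cd0006450023cd) (.leaf 0x5c0002730006770028b3))) (.node (.node (.leaf 0x5df00007200034200274e) (.leaf 0x2fd0000750005750022b5)) (.node (.leaf 0xc90004e700043e0001cd) (.leaf 0x376000001000000)))) (.node (.node (.node (.leaf 0x220000df0000e2001eb3) (.leaf 0x3b80002910006e100221e)) (.node (.leaf 0x6ad0005a60001ca002845) (.leaf 0x60e0003800005ff000196))) (.node (.node (.leaf 0x26f00056a0005280021f8) (.leaf 0x1bb0003fb000717002699)) (.node (.leaf 0x3f50000f000053a00242b) (.leaf 0x376000001000000)))))) (.node (.node (.node (.node (.node (.leaf 0xf70000a5000480001fb7) (.leaf 0x2740003d200026f0019aa)) (.node (.leaf 0x4920003cd00042d0020a4) (.leaf 0x54c00047c0006dc002659))) (.node (.node (.leaf 0x19400058e00024300253b) (.leaf 0x3700024700076100261d)) (.node (.leaf 0x67700052c0006170025b3) (.leaf 0x376000001000000)))) (.node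 (.node (.node (.leaf 0x6a900033b0000d0000fd4) (.leaf 0xfc0001250006a3000bc6)) (.node (.leaf 0x920005af00048f0026bb) (.leaf 0x5c30005930006f700214b))) (.node (.node (.leaf 0x3ba0001000004c40020f1) (.leaf 0x4c50005530007d000212b)) (.node (.leaf 0x2de0001d100016e002409) (.leaf 0x376000001000000))))) (.node (.node (.node (.node (.leaf 0x12d00016b000414000f72) (.leaf 0x40a000459000574001ff6)) (.node (.leaf 0x8f00027f0004560022bf) (.leaf 0x6500004550005bd002959))) (.node (.node (.leaf 0x51400067b00062000233d) (.leaf 0x13f0001ac00072600241d)) (.node (.leaf 0x1030003050004b800215f) (.leaf 0x376000001000000)))) (.node (.node (.node (.leaf 0x3f30002f40001150000b8) (.leaf 0x5bc00013e0006e2001fab)) (.node (.leaf 0x49100058c00034c0027d3) (.leaf 0x376000001000000))) (.node (.node (.leaf 0x4b500013d0004870026f9) (.leaf 0x32900044600036f000a43)) (.node (.leaf 0xcd0002b70003b0001fb2) (.leaf 0x376000001000000)))))))))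

/-- the table -/
def sextT : Tr Nat := (.node (.node (.node sextT_0 sextT_1) (.node sextT_2 sextT_3)) (.node (.node sextT_4 sextT_5) (.node sextT_6 sextT_7)))

/-- part -/
def sumT_0 : Tr Nat := (.node (.node (.node (.node (.node (.node (.node (.node (.leaf 0x0) (.leaf 0x4000009c003c9e)) (.node (.leaf 0x400000420037aa) (.leaf 0x12900013800409e))) (.node (.node (.leaf 0x160000270033f2) (.leaf 0x860000d8003e9e)) (.node (.leaf 0x3f000069003a7c) (.leaf 0x0)))) (.node (.node (.node (.leaf 0x5000014003054) (.leaf 0x830000b7003d9e)) (.node (.leaf 0x41000053003927) (.leaf 0x12b00018b00419e))) (.node (.node (.leaf 0x260000340035ff) (.leaf 0x9700010e003f9e)) (.node (.leaf 0x40000082003b9a) (.leaf 0x0))))) (.node (.node (.node (.node (.leaf 0x800000a002e57) (.leaf 0x920000a1003d1e)) (.node (.leaf 0x3e00004b00386d) (.leaf 0xf300016000411e))) (.node (.node (.leaf 0x1c00002f00351f) (.leaf 0xd80000f9003f1e)) (.node (.leaf 0x25000074003b10) (.leaf 0x0)))) (.node (.node (.node (.leaf 0x900001e003269) (.leaf 0x920000c8003e1e))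 (.node (.leaf 0x4100005d0039d9) (.leaf 0x17e0001f000421e))) (.node (.node (.leaf 0x2a00003a0036d9) (.leaf 0xf500012d00401e)) (.node (.leaf 0x6c00008d003c1e) (.leaf 0x0)))))) (.node (.node (.node (.node (.node (.leaf 0x7002d8e) (.leaf 0x650000a0003cde)) (.node (.leaf 0x400000440037fd) (.leaf 0xee00014d0040de))) (.node (.node (.leaf 0x1e00002900346e) (.leaf 0xc10000ea003ede)) (.node (.leaf 0x5600006f003ac2) (.leaf 0x0)))) (.node (.node (.node (.leaf 0x800001a003175) (.leaf 0x840000c7003dde)) (.node (.leaf 0x4100005900398b) (.leaf 0x1820001a30041de))) (.node (.node (.leaf 0x36000038003687) (.leaf 0xf8000113003fde)) (.node (.leaf 0x6a000086003bda) (.leaf 0x0))))) (.node (.node (.node (.node (.leaf 0xd00000e002f6f) (.leaf 0x830000ac003d5e)) (.node (.leaf 0x3500004f0038cf) (.leaf 0x17900018800415e))) (.node (.node (.leaf 0xa00003100357d) (.leaf 0xd90000fa003f5e)) (.node (.leaf 0x2600007a003b56) (.leaf 0x0)))) (.node (.node (.node (.leaf 0x8000022003300) (.leaf 0x410000d6003e5e)) (.node (.leaf 0x36000063003a2d)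 (.leaf 0x29100029300425e))) (.node (.node (.leaf 0x2d00003d003736) (.leaf 0x11100013700405e)) (.node (.leaf 0x2e000094003c5e) (.leaf 0x0))))))) (.node (.node (.node (.node (.node (.node (.leaf 0x2000003002d3e) (.leaf 0x7900009f003cbe)) (.node (.leaf 0x3c0000430037d1) (.leaf 0x13600013b0040be))) (.node (.node (.leaf 0x13000028003428) (.leaf 0xc50000e0003ebe)) (.node (.leaf 0x5700006e003aa2) (.leaf 0x0)))) (.node (.node (.node (.leaf 0xa0000160030c4) (.leaf 0x370000c3003dbe)) (.node (.leaf 0x40000056003955) (.leaf 0x18400018e0041be))) (.node (.node (.leaf 0x19000038003661) (.leaf 0xee00010e003fbe)) (.node (.leaf 0x78000085003bba) (.leaf 0x0))))) (.node (.node (.node (.node (.leaf 0x800000c002eec) (.leaf 0x370000ab003d3e)) (.node (.leaf 0x2600004d003897) (.leaf 0xed00018800413e))) (.node (.node (.leaf 0x1400003000354d) (.leaf 0x790000fa003f3e)) (.node (.leaf 0x34000075003b30) (.leaf 0x0)))) (.node (.node (.node (.leaf 0x170000200032be) (.leaf 0xc10000c8003e3e)) (.node (.leaf 0x35000061003a05) (.leaf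 0x1e700023400423e))) (.node (.node (.leaf 0x2e00003b003703) (.leaf 0xd900013700403e)) (.node (.leaf 0x8300008e003c3e) (.leaf 0x0)))))) (.node (.node (.node (.node (.node (.leaf 0x1000009002dfa) (.leaf 0x930000a0003cfe)) (.node (.leaf 0x4100004600382d) (.leaf 0x12f00014d0040fe))) (.node (.node (.leaf 0x2600002b0034b8) (.leaf 0x970000f9003efe)) (.node (.leaf 0x65000070003ae6) (.leaf 0x0)))) (.node (.node (.node (.leaf 0x1300001b0031bf) (.leaf 0xb80000c7003dfe)) (.node (.leaf 0x5500005a0039af) (.leaf 0x1760001bb0041fe))) (.node (.node (.leaf 0x2b0000390036ad) (.leaf 0xee00011c003ffe)) (.node (.leaf 0x41000088003bfa) (.leaf 0x0))))) (.node (.node (.node (.node (.leaf 0x7000011002ffd) (.leaf 0x410000b2003d7e)) (.node (.leaf 0x3c000052003903) (.leaf 0x17a00018900417e))) (.node (.node (.leaf 0x1f0000320035bb) (.leaf 0xeb0000fb003f7e)) (.node (.leaf 0x5f00007e003b78) (.leaf 0x0)))) (.node (.node (.node (.leaf 0x9000024003365) (.leaf 0xc60000d6003e7e)) (.node (.leaf 0x37000067003a50) (.leaf 0x0))) (.node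 (.node (.leaf 0x1d000042003788) (.leaf 0x12700013700407e)) (.node (.leaf 0x82000096003c7e) (.leaf 0x0)))))))) (.node (.node (.node (.node (.node (.node (.node (.leaf 0x0) (.leaf 0x5800009f003cae)) (.node (.leaf 0x290000430037c0) (.leaf 0x12f0001390040ae))) (.node (.node (.leaf 0x1f00002700340c) (.leaf 0x840000e0003eae)) (.node (.leaf 0x2d00006e003a92) (.leaf 0x0)))) (.node (.node (.node (.leaf 0xf00001500308e) (.leaf 0x9d0000bc003dae)) (.node (.leaf 0x40000054003939) (.leaf 0x18400018b0041ae))) (.node (.node (.leaf 0xd00003800364b) (.leaf 0xc600010e003fae)) (.node (.leaf 0x64000085003baa) (.leaf 0x0))))) (.node (.node (.node (.node (.leaf 0x800000b002eb1) (.leaf 0x9e0000a1003d2e)) (.node (.leaf 0x2e00004c003881) (.leaf 0x13300016000412e))) (.node (.node (.leaf 0x2900002f003533) (.leaf 0xe30000f9003f2e)) (.node (.leaf 0x40000074003b20) (.leaf 0x0)))) (.node (.node (.node (.leaf 0x90000200032aa) (.leaf 0xb10000c8003e2e)) (.node (.leaf 0x350000600039ef) (.leaf 0x1dc0001f300422e))) (.node (.node (.leaf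 0x800003b0036ef) (.leaf 0xb000013700402e)) (.node (.leaf 0x4000008e003c2e) (.leaf 0x0)))))) (.node (.node (.node (.node (.node (.leaf 0x1000008002dda) (.leaf 0x820000a0003cee)) (.node (.leaf 0x3e000045003813) (.leaf 0x12300014d0040ee))) (.node (.node (.leaf 0x1f00002a00348a) (.leaf 0x660000f9003eee)) (.node (.leaf 0x37000070003ad4) (.leaf 0x0)))) (.node (.node (.node (.leaf 0x1600001a003193) (.leaf 0x9a0000c7003dee)) (.node (.leaf 0x3500005a00399f) (.leaf 0x1840001a60041ee))) (.node (.node (.leaf 0x1c00003900369b) (.leaf 0xeb00011b003fee)) (.node (.leaf 0x3f000087003bea) (.leaf 0x0))))) (.node (.node (.node (.node (.leaf 0x5000010002fad) (.leaf 0x950000ad003d6e)) (.node (.leaf 0x240000520038f3) (.leaf 0xe400018900416e))) (.node (.node (.leaf 0x25000031003593) (.leaf 0xe60000fa003f6e)) (.node (.leaf 0x4000007a003b68) (.leaf 0x0)))) (.node (.node (.node (.leaf 0x1f00002200332a) (.leaf 0x990000d6003e6e)) (.node (.leaf 0x3f000065003a40) (.leaf 0x30600030800426e))) (.node (.node (.leaf 0x2f00003e003750)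 (.leaf 0x11d00013700406e)) (.node (.leaf 0x36000095003c6e) (.leaf 0x0))))))) (.node (.node (.node (.node (.node (.node (.leaf 0x3000005002d69) (.leaf 0x9200009f003cce)) (.node (.leaf 0x340000440037e9) (.leaf 0xb900014d0040ce))) (.node (.node (.leaf 0x23000028003438) (.leaf 0xc50000e3003ece)) (.node (.leaf 0x6c00006e003ab2) (.leaf 0x0)))) (.node (.node (.node (.leaf 0x6000018003126) (.leaf 0x6c0000c7003dce)) (.node (.leaf 0x2e00005900397b) (.leaf 0x1780001a20041ce))) (.node (.node (.leaf 0x29000038003671) (.leaf 0xf500010f003fce)) (.node (.leaf 0xa000086003bca) (.leaf 0x0))))) (.node (.node (.node (.node (.leaf 0xa00000d002f2a) (.leaf 0x990000ab003d4e)) (.node (.leaf 0x4000004d0038a7) (.leaf 0x13300018800414e))) (.node (.node (.leaf 0x1f000030003565) (.leaf 0xb10000fa003f4e)) (.node (.leaf 0x3d000076003b40) (.leaf 0x0)))) (.node (.node (.node (.leaf 0xa0000210032d8) (.leaf 0xc60000ca003e4e)) (.node (.leaf 0x2e000062003a19) (.leaf 0x1e900026500424e))) (.node (.node (.leaf 0x2c00003c003719) (.leaf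 0xe700013700404e)) (.node (.leaf 0x70000090003c4e) (.leaf 0x0)))))) (.node (.node (.node (.node (.node (.leaf 0xa002e22) (.leaf 0x560000a1003d0e)) (.node (.leaf 0x2b00004b00385d) (.leaf 0x13300014e00410e))) (.node (.node (.leaf 0xd00002f00350d) (.leaf 0xb40000f9003f0e)) (.node (.leaf 0x66000071003af8) (.leaf 0x0)))) (.node (.node (.node (.leaf 0x1400001c0031fd) (.leaf 0x3d0000c8003e0e)) (.node (.leaf 0x5600005b0039c7) (.leaf 0x1dc0001ee00420e))) (.node (.node (.leaf 0x370000390036c1) (.leaf 0xf800012700400e)) (.node (.leaf 0x4100008b003c0c) (.leaf 0x0))))) (.node (.node (.node (.node (.leaf 0xa000012003015) (.leaf 0x990000b5003d8e)) (.node (.leaf 0x2a000053003917) (.leaf 0x12400018a00418e))) (.node (.node (.leaf 0x1f0000330035e9) (.leaf 0xf30000fd003f8e)) (.node (.leaf 0x41000080003b8a) (.leaf 0x0)))) (.node (.node (.node (.leaf 0xa0000260033bb) (.leaf 0x9d0000d7003e8e)) (.node (.leaf 0x36000068003a62) (.leaf 0x0))) (.node (.node (.leaf 0x2e000042003798) (.leaf 0x13300013700408e)) (.node (.leaf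 0x3f000099003c8e) (.leaf 0x0)))))))))

/-- part -/
def sumT_1 : Tr Nat := (.node (.node (.node (.node (.node (.node (.node (.node (.leaf 0x0) (.leaf 0x3700009f003ca6)) (.node (.leaf 0x1f0000430037b8) (.leaf 0x1330001380040a6))) (.node (.node (.leaf 0x1b000027003400) (.leaf 0xb90000d8003ea6)) (.node (.leaf 0x3700006a003a84) (.leaf 0x0)))) (.node (.node (.node (.leaf 0xa00001400305c) (.leaf 0x9d0000ba003da6)) (.node (.leaf 0x3600005400392f) (.leaf 0x17500018b0041a6))) (.node (.node (.leaf 0x2e000035003619) (.leaf 0xb900010e003fa6)) (.node (.leaf 0x40000085003ba2) (.leaf 0x0))))) (.node (.node (.node (.node (.leaf 0x400000b002e7f) (.leaf 0x970000a1003d26)) (.node (.leaf 0x2500004c003879) (.leaf 0x12b000160004126))) (.node (.node (.leaf 0x2200002f003527) (.leaf 0xdd0000f9003f26)) (.node (.leaf 0x36000074003b18) (.leaf 0x0)))) (.node (.node (.node (.leaf 0x800001f00328a) (.leaf 0x9a0000c8003e26)) (.node (.leaf 0x5400005e0039e1) (.leaf 0x1eb0001f0004226))) (.node (.node (.leaf 0x3300003a0036e1) (.leaf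 0x92000137004026)) (.node (.leaf 0x7e00008d003c26) (.leaf 0x0)))))) (.node (.node (.node (.node (.node (.leaf 0x4000007002db6) (.leaf 0x780000a0003ce6)) (.node (.leaf 0x2d000045003807) (.leaf 0x11f00014d0040e6))) (.node (.node (.leaf 0x25000029003478) (.leaf 0xc60000f0003ee6)) (.node (.leaf 0x6500006f003aca) (.leaf 0x0)))) (.node (.node (.node (.leaf 0x1000001a003189) (.leaf 0x930000c7003de6)) (.node (.leaf 0x58000059003997) (.leaf 0x1820001a40041e6))) (.node (.node (.leaf 0x14000039003691) (.leaf 0x9e00011b003fe6)) (.node (.leaf 0x79000086003be2) (.leaf 0x0))))) (.node (.node (.node (.node (.leaf 0x800000f002f87) (.leaf 0x9e0000ac003d66)) (.node (.leaf 0x410000500038e5) (.leaf 0x180000188004166))) (.node (.node (.leaf 0x1e000031003589) (.leaf 0xde0000fa003f66)) (.node (.leaf 0x3600007a003b60) (.leaf 0x0)))) (.node (.node (.node (.leaf 0x19000022003314) (.leaf 0x7f0000d6003e66)) (.node (.leaf 0x41000063003a35) (.leaf 0x1ec0002c9004266))) (.node (.node (.leaf 0x3600003d003742) (.leaf 0x116000137004066))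 (.node (.leaf 0x40000094003c66) (.leaf 0x0))))))) (.node (.node (.node (.node (.node (.node (.leaf 0x3000004002d53) (.leaf 0x8300009f003cc6)) (.node (.leaf 0x1f0000440037dd) (.leaf 0x960001430040c6))) (.node (.node (.leaf 0x1c000028003430) (.leaf 0xbd0000e1003ec6)) (.node (.leaf 0x6600006e003aaa) (.leaf 0x0)))) (.node (.node (.node (.leaf 0x60000170030e5) (.leaf 0x4f0000c5003dc6)) (.node (.leaf 0x25000059003973) (.leaf 0xf30001a20041c6))) (.node (.node (.leaf 0x23000038003669) (.leaf 0x9e00010f003fc6)) (.node (.leaf 0x7f000085003bc2) (.leaf 0x0))))) (.node (.node (.node (.node (.leaf 0x500000d002f10) (.leaf 0x7f0000ab003d46)) (.node (.leaf 0x3600004d00389f) (.leaf 0x128000188004146))) (.node (.node (.leaf 0x19000030003557) (.leaf 0x930000fa003f46)) (.node (.leaf 0x41000075003b38) (.leaf 0x0)))) (.node (.node (.node (.leaf 0x1d0000200032c8) (.leaf 0xbe0000c9003e46)) (.node (.leaf 0x40000061003a0d) (.leaf 0x1ea000235004246))) (.node (.node (.leaf 0x3600003b00370b) (.leaf 0xdd000137004046)) (.node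 (.leaf 0x7d00008f003c46) (.leaf 0x0)))))) (.node (.node (.node (.node (.node (.leaf 0x5000009002e04) (.leaf 0x9a0000a0003d06)) (.node (.leaf 0x1900004b003855) (.leaf 0xf800014e004106))) (.node (.node (.leaf 0x900002d0034d9) (.leaf 0xb00000f9003f06)) (.node (.leaf 0x6d000070003aee) (.leaf 0x0)))) (.node (.node (.node (.leaf 0x1900001b0031d5) (.leaf 0xc00000c7003e06)) (.node (.leaf 0x3600005b0039bd) (.leaf 0x17d0001ee004206))) (.node (.node (.leaf 0x330000390036b7) (.leaf 0xf700011d004006)) (.node (.leaf 0x3600008a003c04) (.leaf 0x0))))) (.node (.node (.node (.node (.leaf 0x600001200300b) (.leaf 0x400000b5003d86)) (.node (.leaf 0x4100005200390b) (.leaf 0x180000189004186))) (.node (.node (.leaf 0x2c0000320035c7) (.leaf 0xf30000fb003f86)) (.node (.leaf 0x36000080003b82) (.leaf 0x0)))) (.node (.node (.node (.leaf 0x800002500339f) (.leaf 0x950000d7003e86)) (.node (.leaf 0x26000068003a5a) (.leaf 0x0))) (.node (.node (.leaf 0x26000042003790) (.leaf 0x12b000137004086)) (.node (.leaf 0x37000098003c86) (.leaf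 0x0)))))))) (.node (.node (.node (.node (.node (.node (.node (.leaf 0x2002d24) (.leaf 0x6d00009f003cb6)) (.node (.leaf 0x340000430037c8) (.leaf 0x12f00013a0040b6))) (.node (.node (.leaf 0x2500002700341a) (.leaf 0xbd0000e0003eb6)) (.node (.leaf 0x3700006e003a9a) (.leaf 0x0)))) (.node (.node (.node (.leaf 0x40000160030b4) (.leaf 0x410000bf003db6)) (.node (.leaf 0x40000055003949) (.leaf 0x18400018c0041b6))) (.node (.node (.leaf 0x14000038003653) (.leaf 0xe800010e003fb6)) (.node (.leaf 0x6d000085003bb2) (.leaf 0x0))))) (.node (.node (.node (.node (.leaf 0x400000c002ed4) (.leaf 0x410000a5003d36)) (.node (.leaf 0x3d00004c00388b) (.leaf 0x13600016e004136))) (.node (.node (.leaf 0x2e00002f00353d) (.leaf 0xec0000f9003f36)) (.node (.leaf 0x6b000074003b28) (.leaf 0x0)))) (.node (.node (.node (.leaf 0x120000200032b4) (.leaf 0xb60000c8003e36)) (.node (.leaf 0x2c0000610039fb) (.leaf 0x1ea000202004236))) (.node (.node (.leaf 0x1e00003b0036f9) (.leaf 0xb4000137004036)) (.node (.leaf 0x6d00008e003c36) (.leaf 0x0))))))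 (.node (.node (.node (.node (.node (.leaf 0x5000008002dec) (.leaf 0x8f0000a0003cf6)) (.node (.leaf 0x2e000046003823) (.leaf 0x12900014d0040f6))) (.node (.node (.leaf 0x900002b0034a2) (.leaf 0x900000f9003ef6)) (.node (.leaf 0x58000070003ade) (.leaf 0x0)))) (.node (.node (.node (.leaf 0x800001b0031a3) (.leaf 0xb20000c7003df6)) (.node (.leaf 0x3f00005a0039a7) (.leaf 0x17e0001b90041f6))) (.node (.node (.leaf 0x240000390036a3) (.leaf 0x8300011c003ff6)) (.node (.leaf 0x84000087003bf2) (.leaf 0x0))))) (.node (.node (.node (.node (.leaf 0x9000010002fc1) (.leaf 0x9d0000ad003d76)) (.node (.leaf 0x2d0000520038fb) (.leaf 0x130000189004176))) (.node (.node (.leaf 0x2d0000310035a1) (.leaf 0xee0000fa003f76)) (.node (.leaf 0x4100007b003b70) (.leaf 0x0)))) (.node (.node (.node (.leaf 0x19000023003347) (.leaf 0xbc0000d6003e76)) (.node (.leaf 0x2d000067003a48) (.leaf 0x0))) (.node (.node (.leaf 0x3700003f003762) (.leaf 0x121000137004076)) (.node (.leaf 0x82000095003c76) (.leaf 0x0))))))) (.node (.node (.node (.node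 (.node (.node (.leaf 0x2000006002d81) (.leaf 0x9900009f003cd6)) (.node (.leaf 0x3a0000440037f5) (.leaf 0xe400014d0040d6))) (.node (.node (.leaf 0xa000029003456) (.leaf 0xc50000e9003ed6)) (.node (.leaf 0x3700006f003aba) (.leaf 0x0)))) (.node (.node (.node (.leaf 0x7000019003155) (.leaf 0x790000c7003dd6)) (.node (.leaf 0x37000059003983) (.leaf 0x17d0001a20041d6))) (.node (.node (.leaf 0x2e00003800367f) (.leaf 0xc6000111003fd6)) (.node (.leaf 0x56000086003bd2) (.leaf 0x0))))) (.node (.node (.node (.node (.leaf 0x700000e002f51) (.leaf 0x410000ac003d56)) (.node (.leaf 0x3700004e0038bf) (.leaf 0x172000188004156))) (.node (.node (.leaf 0x2a000030003575) (.leaf 0xb80000fa003f56)) (.node (.leaf 0x3d000077003b4a) (.leaf 0x0)))) (.node (.node (.node (.leaf 0x190000210032ec) (.leaf 0xc60000cc003e56)) (.node (.leaf 0x3e000062003a21) (.leaf 0x1ec000267004256))) (.node (.node (.leaf 0x3700003c003723) (.leaf 0xee000137004056)) (.node (.leaf 0x2d000093003c56) (.leaf 0x0)))))) (.node (.node (.node (.node (.node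 (.leaf 0x400000a002e3f) (.leaf 0x790000a1003d16)) (.node (.leaf 0x3600004b003865) (.leaf 0xeb000152004116))) (.node (.node (.leaf 0x1300002f003517) (.leaf 0xbd0000f9003f16)) (.node (.leaf 0x55000072003b02) (.leaf 0x0)))) (.node (.node (.node (.leaf 0x900001d00322d) (.leaf 0x780000c8003e16)) (.node (.leaf 0x4000005c0039d1) (.leaf 0x1eb0001ee004216))) (.node (.node (.leaf 0x2300003a0036cf) (.leaf 0xbd00012c004016)) (.node (.leaf 0x3f00008d003c14) (.leaf 0x0))))) (.node (.node (.node (.node (.leaf 0x700001300303f) (.leaf 0x820000b6003d96)) (.node (.leaf 0x3400005300391f) (.leaf 0x18300018a004196))) (.node (.node (.leaf 0x2c0000330035f1) (.leaf 0xf7000101003f96)) (.node (.leaf 0x3f000081003b92) (.leaf 0x0)))) (.node (.node (.node (.leaf 0xf0000270033e2) (.leaf 0xbe0000d7003e96)) (.node (.leaf 0x41000068003a6a) (.leaf 0x0))) (.node (.node (.leaf 0x370000420037a2) (.leaf 0xed000138004096)) (.node (.leaf 0x3700009b003c96) (.leaf 0x0)))))))))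

/-- part -/
def sumT_2 : Tr Nat := (.node (.node (.node (.node (.node (.node (.node (.node (.leaf 0x0) (.leaf 0x4100009d003ca2)) (.node (.leaf 0x190000430037b2) (.leaf 0x12e0001380040a2))) (.node (.node (.leaf 0x180000270033fc) (.leaf 0x9d0000d8003ea2)) (.node (.leaf 0x41000069003a80) (.leaf 0x0)))) (.node (.node (.node (.leaf 0x7000014003058) (.leaf 0x400000ba003da2)) (.node (.leaf 0x2d00005400392b) (.leaf 0x17300018b0041a2))) (.node (.node (.leaf 0x2d000034003603) (.leaf 0xb700010e003fa2)) (.node (.leaf 0x36000085003b9e) (.leaf 0x0))))) (.node (.node (.node (.node (.leaf 0x200000b002e75) (.leaf 0x950000a1003d22)) (.node (.leaf 0x4000004b003871) (.leaf 0x128000160004122))) (.node (.node (.leaf 0x1f00002f003523) (.leaf 0xdb0000f9003f22)) (.node (.leaf 0x2e000074003b14) (.leaf 0x0)))) (.node (.node (.node (.leaf 0x1700001e003279) (.leaf 0x950000c8003e22)) (.node (.leaf 0x5800005d0039dd) (.leaf 0x1d90001f0004222))) (.node (.node (.leaf 0x2c00003a0036dd) (.leaf 0x79000137004022)) (.node (.leaf 0x7c00008d003c22)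 (.leaf 0x0)))))) (.node (.node (.node (.node (.node (.leaf 0x2000007002da4) (.leaf 0x6d0000a0003ce2)) (.node (.leaf 0x24000045003803) (.leaf 0x11d00014d0040e2))) (.node (.node (.leaf 0x23000029003472) (.leaf 0x410000ef003ee2)) (.node (.leaf 0x5800006f003ac6) (.leaf 0x0)))) (.node (.node (.node (.leaf 0xd00001a003185) (.leaf 0x910000c7003de2)) (.node (.leaf 0x56000059003991) (.leaf 0x1840001a30041e2))) (.node (.node (.leaf 0x1000003900368b) (.leaf 0x9e000118003fe2)) (.node (.leaf 0x6d000086003bde) (.leaf 0x0))))) (.node (.node (.node (.node (.leaf 0x500000f002f7b) (.leaf 0x960000ac003d62)) (.node (.leaf 0x4000004f0038d5) (.leaf 0x17c000188004162))) (.node (.node (.leaf 0x18000031003585) (.leaf 0xdb0000fa003f62)) (.node (.leaf 0x2e00007a003b5a) (.leaf 0x0)))) (.node (.node (.node (.leaf 0xa000022003306) (.leaf 0x6d0000d6003e62)) (.node (.leaf 0x3f000063003a31) (.leaf 0x292000294004262))) (.node (.node (.leaf 0x3200003d00373e) (.leaf 0x113000137004062)) (.node (.leaf 0x37000094003c62) (.leaf 0x0)))))))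 (.node (.node (.node (.node (.node (.node (.leaf 0x1000004002d46) (.leaf 0x7e00009f003cc2)) (.node (.leaf 0x400000430037d5) (.leaf 0x13300013d0040c2))) (.node (.node (.leaf 0x1700002800342c) (.leaf 0x9d0000e1003ec2)) (.node (.leaf 0x6300006e003aa6) (.leaf 0x0)))) (.node (.node (.node (.leaf 0x130000160030d5) (.leaf 0x410000c3003dc2)) (.node (.leaf 0x4100005700395d) (.leaf 0x1840001900041c2))) (.node (.node (.leaf 0x1c000038003665) (.leaf 0xf800010e003fc2)) (.node (.leaf 0x7c000085003bbe) (.leaf 0x0))))) (.node (.node (.node (.node (.leaf 0x300000d002f02) (.leaf 0x6b0000ab003d42)) (.node (.leaf 0x2e00004d00389b) (.leaf 0xf3000188004142))) (.node (.node (.leaf 0x17000030003553) (.leaf 0x910000fa003f42)) (.node (.leaf 0x3d000075003b34) (.leaf 0x0)))) (.node (.node (.node (.leaf 0x1b0000200032c4) (.leaf 0x840000c9003e42)) (.node (.leaf 0x3d000061003a09) (.leaf 0x1ea000234004242))) (.node (.node (.leaf 0x3300003b003707) (.leaf 0xdb000137004042)) (.node (.leaf 0x4000008f003c42) (.leaf 0x0)))))) (.node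 (.node (.node (.node (.node (.leaf 0x3000009002e00) (.leaf 0x970000a0003d02)) (.node (.leaf 0x3700004700383b) (.leaf 0x13300014d004102))) (.node (.node (.leaf 0xa00002c0034c1) (.leaf 0x9e0000f9003f02)) (.node (.leaf 0x6b000070003aea) (.leaf 0x0)))) (.node (.node (.node (.leaf 0x1700001b0031c5) (.leaf 0xbd0000c7003e02)) (.node (.leaf 0x5800005a0039b3) (.leaf 0x1300001ee004202))) (.node (.node (.leaf 0x310000390036b1) (.leaf 0xf500011c004002)) (.node (.leaf 0x3f000089003bfe) (.leaf 0x0))))) (.node (.node (.node (.node (.leaf 0x9000011003001) (.leaf 0x400000b3003d82)) (.node (.leaf 0x3f000052003907) (.leaf 0x17d000189004182))) (.node (.node (.leaf 0x250000320035bf) (.leaf 0xed0000fb003f82)) (.node (.leaf 0x2d000080003b7e) (.leaf 0x0)))) (.node (.node (.node (.leaf 0x1a000024003387) (.leaf 0x7f0000d7003e82)) (.node (.leaf 0x3f000067003a54) (.leaf 0x0))) (.node (.node (.leaf 0x1f00004200378c) (.leaf 0x129000137004082)) (.node (.leaf 0x41000097003c82) (.leaf 0x0)))))))) (.node (.node (.node (.node (.node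 (.node (.node (.leaf 0x0) (.leaf 0x6b00009f003cb2)) (.node (.leaf 0x2e0000430037c4) (.leaf 0x1320001390040b2))) (.node (.node (.leaf 0x23000027003414) (.leaf 0x9e0000e0003eb2)) (.node (.leaf 0x3500006e003a96) (.leaf 0x0)))) (.node (.node (.node (.leaf 0x1300001500309c) (.leaf 0x370000bf003db2)) (.node (.leaf 0x37000055003943) (.leaf 0x18000018c0041b2))) (.node (.node (.leaf 0x1200003800364f) (.leaf 0xe600010e003fb2)) (.node (.leaf 0x6a000085003bae) (.leaf 0x0))))) (.node (.node (.node (.node (.leaf 0xa00000b002ec1) (.leaf 0x9a0000a2003d32)) (.node (.leaf 0x3600004c003887) (.leaf 0xf800016e004132))) (.node (.node (.leaf 0x2c00002f003539) (.leaf 0xe50000f9003f32)) (.node (.leaf 0x68000074003b24) (.leaf 0x0)))) (.node (.node (.node (.leaf 0xf0000200032ae) (.leaf 0xb30000c8003e32)) (.node (.leaf 0x250000610039f7) (.leaf 0x1e7000202004232))) (.node (.node (.leaf 0x1900003b0036f3) (.leaf 0xb2000137004032)) (.node (.leaf 0x6b00008e003c32) (.leaf 0x0)))))) (.node (.node (.node (.node (.node (.leaf 0x3000008002de2)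 (.leaf 0x840000a0003cf2)) (.node (.leaf 0x40000045003817) (.leaf 0x12500014d0040f2))) (.node (.node (.leaf 0x2500002a00349a) (.leaf 0x790000f9003ef2)) (.node (.leaf 0x41000070003ad8) (.leaf 0x0)))) (.node (.node (.node (.leaf 0x1900001a003197) (.leaf 0xaf0000c7003df2)) (.node (.leaf 0x3700005a0039a3) (.leaf 0x1300001b90041f2))) (.node (.node (.leaf 0x2000003900369f) (.leaf 0xf100011b003ff2)) (.node (.leaf 0x82000087003bee) (.leaf 0x0))))) (.node (.node (.node (.node (.leaf 0x7000010002fbb) (.leaf 0x9a0000ad003d72)) (.node (.leaf 0x260000520038f7) (.leaf 0x120000189004172))) (.node (.node (.leaf 0x2a00003100359d) (.leaf 0xe80000fa003f72)) (.node (.leaf 0x3600007b003b6c) (.leaf 0x0)))) (.node (.node (.node (.leaf 0x9000023003338) (.leaf 0xb80000d6003e72)) (.node (.leaf 0x26000067003a44) (.leaf 0x35b000382004272))) (.node (.node (.leaf 0x3700003e003756) (.leaf 0x11f000137004072)) (.node (.leaf 0x41000095003c72) (.leaf 0x0))))))) (.node (.node (.node (.node (.node (.node (.leaf 0x6002d79) (.leaf 0x9600009f003cd2))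 (.node (.leaf 0x360000440037ef) (.leaf 0xc200014d0040d2))) (.node (.node (.leaf 0x26000028003440) (.leaf 0x9e0000e9003ed2)) (.node (.leaf 0x2e00006f003ab6) (.leaf 0x0)))) (.node (.node (.node (.leaf 0xa00001800312a) (.leaf 0x770000c7003dd2)) (.node (.leaf 0x3500005900397f) (.leaf 0x17a0001a20041d2))) (.node (.node (.leaf 0x2b000038003679) (.leaf 0xc6000110003fd2)) (.node (.leaf 0x3f000086003bce) (.leaf 0x0))))) (.node (.node (.node (.node (.leaf 0x500000e002f4a) (.leaf 0x9d0000ab003d52)) (.node (.leaf 0x2a00004e0038b5) (.leaf 0x16f000188004152))) (.node (.node (.leaf 0x23000030003569) (.leaf 0xb30000fa003f52)) (.node (.leaf 0x6c000076003b44) (.leaf 0x0)))) (.node (.node (.node (.leaf 0x140000210032e2) (.leaf 0xc10000cb003e52)) (.node (.leaf 0x36000062003a1d) (.leaf 0x1ec000265004252))) (.node (.node (.leaf 0x3400003c00371f) (.leaf 0xec000137004052)) (.node (.leaf 0x7d000090003c52) (.leaf 0x0)))))) (.node (.node (.node (.node (.node (.leaf 0x200000a002e39) (.leaf 0x660000a1003d12)) (.node (.leaf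 0x3400004b003861) (.leaf 0x133000150004112))) (.node (.node (.leaf 0x1000002f003513) (.leaf 0xb80000f9003f12)) (.node (.leaf 0x6d000071003afc) (.leaf 0x0)))) (.node (.node (.node (.leaf 0x700001d00321f) (.leaf 0x660000c8003e12)) (.node (.leaf 0x5800005b0039cb) (.leaf 0x1e90001ee004212))) (.node (.node (.leaf 0x1900003a0036cb) (.leaf 0x41000129004012)) (.node (.leaf 0x3600008d003c10) (.leaf 0x0))))) (.node (.node (.node (.node (.leaf 0x500001300303b) (.leaf 0x9d0000b5003d92)) (.node (.leaf 0x2d00005300391b) (.leaf 0x18000018a004192))) (.node (.node (.leaf 0x260000330035ed) (.leaf 0xe2000100003f92)) (.node (.leaf 0x34000081003b8e) (.leaf 0x0)))) (.node (.node (.node (.leaf 0xa0000270033dc) (.leaf 0xb80000d7003e92)) (.node (.leaf 0x3f000068003a66) (.leaf 0x0))) (.node (.node (.leaf 0x3300004200379e) (.leaf 0xeb000138004092)) (.node (.leaf 0x2e00009a003c92) (.leaf 0x0)))))))))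

/-- part -/
def sumT_3 : Tr Nat := (.node (.node (.node (.node (.node (.node (.node (.node (.leaf 0x0) (.leaf 0x4000009f003caa)) (.node (.leaf 0x250000430037bc) (.leaf 0xf30001390040aa))) (.node (.node (.leaf 0x1d000027003408) (.leaf 0x6c0000df003eaa)) (.node (.leaf 0x4100006a003a88) (.leaf 0x0)))) (.node (.node (.node (.leaf 0x8000015003074) (.leaf 0x9e0000bb003daa)) (.node (.leaf 0x3e000054003935) (.leaf 0x18200018b0041aa))) (.node (.node (.leaf 0xa000037003631) (.leaf 0xc100010e003faa)) (.node (.leaf 0x57000085003ba6) (.leaf 0x0))))) (.node (.node (.node (.node (.leaf 0x600000b002e9b) (.leaf 0x9c0000a1003d2a)) (.node (.leaf 0x2c00004c00387d) (.leaf 0x12f00016000412a))) (.node (.node (.leaf 0x2400002f00352f) (.leaf 0xdf0000f9003f2a)) (.node (.leaf 0x3d000074003b1c) (.leaf 0x0)))) (.node (.node (.node (.leaf 0xa00001f00328e) (.leaf 0xaf0000c8003e2a)) (.node (.leaf 0x5700005e0039e5) (.leaf 0x1ec0001f100422a))) (.node (.node (.leaf 0x3600003a0036e5) (.leaf 0x9700013700402a)) (.node (.leaf 0x8400008d003c2a)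 (.leaf 0x0)))))) (.node (.node (.node (.node (.node (.leaf 0x6000007002dc6) (.leaf 0x7e0000a0003cea)) (.node (.leaf 0x3600004500380f) (.leaf 0x12100014d0040ea))) (.node (.node (.leaf 0x500002a003482) (.leaf 0x410000f6003eea)) (.node (.leaf 0x6c00006f003ace) (.leaf 0x0)))) (.node (.node (.node (.leaf 0x1300001a00318d) (.leaf 0x970000c7003dea)) (.node (.leaf 0x2d00005a00399b) (.leaf 0x1840001a40041ea))) (.node (.node (.leaf 0x18000039003695) (.leaf 0xc100011b003fea)) (.node (.leaf 0x84000086003be6) (.leaf 0x0))))) (.node (.node (.node (.node (.leaf 0xa00000f002f95) (.leaf 0x7f0000ad003d6a)) (.node (.leaf 0x1e0000520038ef) (.leaf 0x18300018800416a))) (.node (.node (.leaf 0x2300003100358d) (.leaf 0xe40000fa003f6a)) (.node (.leaf 0x3e00007a003b64) (.leaf 0x0)))) (.node (.node (.node (.leaf 0x1d000022003322) (.leaf 0x960000d6003e6a)) (.node (.leaf 0x3f000064003a3b) (.leaf 0x29100030800426a))) (.node (.node (.leaf 0x2800003e00374a) (.leaf 0x11900013700406a)) (.node (.leaf 0x83000094003c6a) (.leaf 0x0)))))))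 (.node (.node (.node (.node (.node (.node (.leaf 0x1000005002d5f) (.leaf 0x8f00009f003cca)) (.node (.leaf 0x2d0000440037e5) (.leaf 0x9700014d0040ca))) (.node (.node (.leaf 0x1f000028003434) (.leaf 0xc60000e1003eca)) (.node (.leaf 0x6a00006e003aae) (.leaf 0x0)))) (.node (.node (.node (.leaf 0xa0000170030e9) (.leaf 0x580000c7003dca)) (.node (.leaf 0x2c000059003977) (.leaf 0x1300001a20041ca))) (.node (.node (.leaf 0x2500003800366d) (.leaf 0xf100010f003fca)) (.node (.leaf 0x83000085003bc6) (.leaf 0x0))))) (.node (.node (.node (.node (.leaf 0x700000d002f26) (.leaf 0x950000ab003d4a)) (.node (.leaf 0x3e00004d0038a3) (.leaf 0x12b00018800414a))) (.node (.node (.leaf 0x1d00003000355b) (.leaf 0xaf0000fa003f4a)) (.node (.leaf 0x6c000075003b3c) (.leaf 0x0)))) (.node (.node (.node (.leaf 0x80000210032d0) (.leaf 0x960000ca003e4a)) (.node (.leaf 0x26000062003a15) (.leaf 0x18400026500424a))) (.node (.node (.leaf 0x2500003c003713) (.leaf 0xe500013700404a)) (.node (.leaf 0x8400008f003c4a) (.leaf 0x0)))))) (.node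 (.node (.node (.node (.node (.leaf 0x7000009002e16) (.leaf 0x3f0000a1003d0a)) (.node (.leaf 0x2500004b003859) (.leaf 0x13000014e00410a))) (.node (.node (.leaf 0xa00002e0034f1) (.leaf 0xb20000f9003f0a)) (.node (.leaf 0x58000071003af4) (.leaf 0x0)))) (.node (.node (.node (.leaf 0x800001c0031e7) (.leaf 0xc20000c7003e0a)) (.node (.leaf 0x3f00005b0039c1) (.leaf 0x1d70001ee00420a))) (.node (.node (.leaf 0x350000390036bb) (.leaf 0x4100012700400a)) (.node (.leaf 0x2d00008b003c08) (.leaf 0x0))))) (.node (.node (.node (.node (.leaf 0x8000012003011) (.leaf 0x840000b5003d8a)) (.node (.leaf 0x25000053003913) (.leaf 0x18300018900418a))) (.node (.node (.leaf 0x2e0000320035cd) (.leaf 0xf30000fc003f8a)) (.node (.leaf 0x3e000080003b86) (.leaf 0x0)))) (.node (.node (.node (.leaf 0x80000260033b3) (.leaf 0x970000d7003e8a)) (.node (.leaf 0x2e000068003a5e) (.leaf 0x0))) (.node (.node (.leaf 0x2c000042003794) (.leaf 0x12f00013700408a)) (.node (.leaf 0x41000098003c8a) (.leaf 0x0)))))))) (.node (.node (.node (.node (.node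 (.node (.node (.leaf 0x3002d2e) (.leaf 0x7700009f003cba)) (.node (.leaf 0x360000430037cc) (.leaf 0x13300013a0040ba))) (.node (.node (.leaf 0x9000028003424) (.leaf 0xc00000e0003eba)) (.node (.leaf 0x5500006e003a9e) (.leaf 0x0)))) (.node (.node (.node (.leaf 0x70000160030be) (.leaf 0x950000c0003dba)) (.node (.leaf 0x3500005600394f) (.leaf 0x17300018e0041ba))) (.node (.node (.leaf 0x17000038003659) (.leaf 0xec00010e003fba)) (.node (.leaf 0x76000085003bb6) (.leaf 0x0))))) (.node (.node (.node (.node (.leaf 0x600000c002ee6) (.leaf 0x410000a8003d3a)) (.node (.leaf 0x4000004c00388f) (.leaf 0x13600017000413a))) (.node (.node (.leaf 0x10000030003547) (.leaf 0xf10000f9003f3a)) (.node (.leaf 0x6d000074003b2c) (.leaf 0x0)))) (.node (.node (.node (.leaf 0x140000200032b8) (.leaf 0xb80000c8003e3a)) (.node (.leaf 0x2e0000610039ff) (.leaf 0x1ec00020400423a))) (.node (.node (.leaf 0x2500003b0036fd) (.leaf 0xbe00013700403a)) (.node (.leaf 0x7d00008e003c3a) (.leaf 0x0)))))) (.node (.node (.node (.node (.node (.leaf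 0x7000008002df2) (.leaf 0x910000a0003cfa)) (.node (.leaf 0x3f000046003829) (.leaf 0x12b00014d0040fa))) (.node (.node (.leaf 0x1f00002b0034b4) (.leaf 0x930000f9003efa)) (.node (.leaf 0x63000070003ae2) (.leaf 0x0)))) (.node (.node (.node (.leaf 0xa00001b0031ab) (.leaf 0xb40000c7003dfa)) (.node (.leaf 0x4100005a0039ab) (.leaf 0x1750001ba0041fa))) (.node (.node (.leaf 0x260000390036a7) (.leaf 0xec00011c003ffa)) (.node (.leaf 0x3e000088003bf6) (.leaf 0x0))))) (.node (.node (.node (.node (.leaf 0x5000011002ff5) (.leaf 0x970000ae003d7a)) (.node (.leaf 0x360000520038ff) (.leaf 0x17800018900417a))) (.node (.node (.leaf 0x190000320035ad) (.leaf 0xf50000fa003f7a)) (.node (.leaf 0x4000007c003b74) (.leaf 0x0)))) (.node (.node (.node (.leaf 0x1f000023003353) (.leaf 0xc00000d6003e7a)) (.node (.leaf 0x35000067003a4c) (.leaf 0x0))) (.node (.node (.leaf 0x18000042003784) (.leaf 0x12300013700407a)) (.node (.leaf 0x84000095003c7a) (.leaf 0x0))))))) (.node (.node (.node (.node (.node (.node (.leaf 0x4000006002d85)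 (.leaf 0x9d00009f003cda)) (.node (.leaf 0x3e0000440037f9) (.leaf 0xe800014d0040da))) (.node (.node (.leaf 0x19000029003466) (.leaf 0x9d0000ea003eda)) (.node (.leaf 0x3f00006f003abe) (.leaf 0x0)))) (.node (.node (.node (.leaf 0xa00001900315d) (.leaf 0x7f0000c7003dda)) (.node (.leaf 0x3e000059003987) (.leaf 0x1330001a30041da))) (.node (.node (.leaf 0x33000038003683) (.leaf 0xeb000112003fda)) (.node (.leaf 0x65000086003bd6) (.leaf 0x0))))) (.node (.node (.node (.node (.leaf 0x900000e002f67) (.leaf 0x7e0000ac003d5a)) (.node (.leaf 0x4000004e0038c3) (.leaf 0x17600018800415a))) (.node (.node (.leaf 0x2c000030003579) (.leaf 0xbe0000fa003f5a)) (.node (.leaf 0x6d000077003b4e) (.leaf 0x0)))) (.node (.node (.node (.leaf 0x1e0000210032f4) (.leaf 0xc60000ce003e5a)) (.node (.leaf 0x41000062003a25) (.leaf 0x28f00029300425a))) (.node (.node (.leaf 0x2600003d003732) (.leaf 0x10f00013700405a)) (.node (.leaf 0x37000093003c5a) (.leaf 0x0)))))) (.node (.node (.node (.node (.node (.leaf 0x600000a002e4b) (.leaf 0x840000a1003d1a))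 (.node (.leaf 0x3c00004b003869) (.leaf 0xec00016000411a))) (.node (.node (.leaf 0x1900002f00351b) (.leaf 0xc20000f9003f1a)) (.node (.leaf 0x57000072003b06) (.leaf 0x0)))) (.node (.node (.node (.leaf 0x1900001d003251) (.leaf 0x7f0000c8003e1a)) (.node (.leaf 0x5700005c0039d5) (.leaf 0x1e70001ef00421a))) (.node (.node (.leaf 0x2500003a0036d3) (.leaf 0xd800012c00401a)) (.node (.leaf 0x6a00008d003c1a) (.leaf 0x0))))) (.node (.node (.node (.node (.leaf 0x9000013003045) (.leaf 0x990000b6003d9a)) (.node (.leaf 0x3d000053003923) (.leaf 0xee00018b00419a))) (.node (.node (.leaf 0x2e0000330035f5) (.leaf 0x8400010e003f9a)) (.node (.leaf 0x41000081003b96) (.leaf 0x0)))) (.node (.node (.node (.leaf 0x120000270033e8) (.leaf 0xc20000d7003e9a)) (.node (.leaf 0x36000069003a78) (.leaf 0x0))) (.node (.node (.leaf 0x3e0000420037a6) (.leaf 0x12700013800409a)) (.node (.leaf 0x4000009b003c9a) (.leaf 0x0)))))))))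

/-- part -/
def sumT_4 : Tr Nat := (.node (.node (.node (.node (.node (.node (.node (.node (.leaf 0x0) (.leaf 0x4100009c003ca0)) (.node (.leaf 0x410000420037ac) (.leaf 0x12a0001380040a0))) (.node (.node (.leaf 0x170000270033f6) (.leaf 0x970000d8003ea0)) (.node (.leaf 0x40000069003a7e) (.leaf 0x0)))) (.node (.node (.node (.leaf 0x6000014003056) (.leaf 0x370000ba003da0)) (.node (.leaf 0x26000054003929) (.leaf 0x17000018b0041a0))) (.node (.node (.leaf 0x29000034003601) (.leaf 0x9e00010e003fa0)) (.node (.leaf 0x40000083003b9c) (.leaf 0x0))))) (.node (.node (.node (.node (.leaf 0x900000a002e63) (.leaf 0x930000a1003d20)) (.node (.leaf 0x3f00004b00386f) (.leaf 0x127000160004120))) (.node (.node (.leaf 0x1d00002f003521) (.leaf 0xd90000f9003f20)) (.node (.leaf 0x2c000074003b12) (.leaf 0x0)))) (.node (.node (.node (.leaf 0xa00001e00326d) (.leaf 0x930000c8003e20)) (.node (.leaf 0x5400005d0039db) (.leaf 0x1d80001f0004220))) (.node (.node (.leaf 0x2b00003a0036db) (.leaf 0xf8000131004020)) (.node (.leaf 0x6d00008d003c20)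 (.leaf 0x0)))))) (.node (.node (.node (.node (.node (.leaf 0x1000007002d98) (.leaf 0x660000a0003ce0)) (.node (.leaf 0x410000440037ff) (.leaf 0xf300014d0040e0))) (.node (.node (.leaf 0x1f000029003470) (.leaf 0xc60000ea003ee0)) (.node (.leaf 0x5700006f003ac4) (.leaf 0x0)))) (.node (.node (.node (.leaf 0x900001a00317b) (.leaf 0x8f0000c7003de0)) (.node (.leaf 0x5500005900398f) (.leaf 0x1830001a30041e0))) (.node (.node (.leaf 0x37000038003689) (.leaf 0xe2000116003fe0)) (.node (.leaf 0x6c000086003bdc) (.leaf 0x0))))) (.node (.node (.node (.node (.leaf 0x400000f002f79) (.leaf 0x840000ac003d60)) (.node (.leaf 0x3700004f0038d1) (.leaf 0x17a000188004160))) (.node (.node (.leaf 0x1400003100357f) (.leaf 0xda0000fa003f60)) (.node (.leaf 0x2d00007a003b58) (.leaf 0x0)))) (.node (.node (.node (.leaf 0x9000022003304) (.leaf 0x6c0000d6003e60)) (.node (.leaf 0x37000063003a2f) (.leaf 0x292000293004260))) (.node (.node (.leaf 0x2e00003d003738) (.leaf 0x112000137004060)) (.node (.leaf 0x36000094003c60) (.leaf 0x0)))))))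 (.node (.node (.node (.node (.node (.node (.leaf 0x4002d42) (.leaf 0x7d00009f003cc0)) (.node (.leaf 0x3f0000430037d3) (.leaf 0x13300013c0040c0))) (.node (.node (.leaf 0x1400002800342a) (.leaf 0x840000e1003ec0)) (.node (.leaf 0x5800006e003aa4) (.leaf 0x0)))) (.node (.node (.node (.leaf 0x100000160030cc) (.leaf 0x400000c3003dc0)) (.node (.leaf 0x41000056003959) (.leaf 0x18400018f0041c0))) (.node (.node (.leaf 0x1b000038003663) (.leaf 0xf300010e003fc0)) (.node (.leaf 0x79000085003bbc) (.leaf 0x0))))) (.node (.node (.node (.node (.leaf 0xa00000c002ef0) (.leaf 0x410000ab003d40)) (.node (.leaf 0x2d00004d003899) (.leaf 0xee000188004140))) (.node (.node (.leaf 0x1500003000354f) (.leaf 0x830000fa003f40)) (.node (.leaf 0x37000075003b32) (.leaf 0x0)))) (.node (.node (.node (.leaf 0x180000200032c0) (.leaf 0xc20000c8003e40)) (.node (.leaf 0x37000061003a07) (.leaf 0x1e9000234004240))) (.node (.node (.leaf 0x2f00003b003705) (.leaf 0xda000137004040)) (.node (.leaf 0x8400008e003c40) (.leaf 0x0)))))) (.node (.node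 (.node (.node (.node (.leaf 0x2000009002dfe) (.leaf 0x960000a0003d00)) (.node (.leaf 0x35000047003839) (.leaf 0x13000014d004100))) (.node (.node (.leaf 0x900002c0034bd) (.leaf 0x9a0000f9003f00)) (.node (.leaf 0x66000070003ae8) (.leaf 0x0)))) (.node (.node (.node (.leaf 0x1400001b0031c3) (.leaf 0xbc0000c7003e00)) (.node (.leaf 0x5600005a0039b1) (.leaf 0x1840001ca004200))) (.node (.node (.leaf 0x2e0000390036af) (.leaf 0xf300011c004000)) (.node (.leaf 0x36000089003bfc) (.leaf 0x0))))) (.node (.node (.node (.node (.leaf 0x8000011002fff) (.leaf 0x2e0000b3003d80)) (.node (.leaf 0x3d000052003905) (.leaf 0x17c000189004180))) (.node (.node (.leaf 0x240000320035bd) (.leaf 0xec0000fb003f80)) (.node (.leaf 0x26000080003b7c) (.leaf 0x0)))) (.node (.node (.node (.leaf 0xa000024003367) (.leaf 0x6d0000d7003e80)) (.node (.leaf 0x3d000067003a52) (.leaf 0x0))) (.node (.node (.leaf 0x1e00004200378a) (.leaf 0x128000137004080)) (.node (.leaf 0x36000097003c80) (.leaf 0x0)))))))) (.node (.node (.node (.node (.node (.node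 (.node (.leaf 0x0) (.leaf 0x6600009f003cb0)) (.node (.leaf 0x2c0000430037c2) (.leaf 0x1300001390040b0))) (.node (.node (.leaf 0x22000027003412) (.leaf 0x990000e0003eb0)) (.node (.leaf 0x2e00006e003a94) (.leaf 0x0)))) (.node (.node (.node (.leaf 0x10000015003090) (.leaf 0x410000be003db0)) (.node (.leaf 0x4100005400393b) (.leaf 0x13300018c0041b0))) (.node (.node (.leaf 0xf00003800364d) (.leaf 0xe400010e003fb0)) (.node (.leaf 0x65000085003bac) (.leaf 0x0))))) (.node (.node (.node (.node (.leaf 0x900000b002ebb) (.leaf 0x840000a2003d30)) (.node (.leaf 0x3500004c003883) (.leaf 0x135000161004130))) (.node (.node (.leaf 0x2b00002f003535) (.leaf 0xe40000f9003f30)) (.node (.leaf 0x41000074003b22) (.leaf 0x0)))) (.node (.node (.node (.leaf 0xd0000200032ac) (.leaf 0xb20000c8003e30)) (.node (.leaf 0x1f0000610039f5) (.leaf 0x184000202004230))) (.node (.node (.leaf 0x1300003b0036f1) (.leaf 0xb1000137004030)) (.node (.leaf 0x4100008e003c30) (.leaf 0x0)))))) (.node (.node (.node (.node (.node (.leaf 0x2000008002de0)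 (.leaf 0x830000a0003cf0)) (.node (.leaf 0x3f000045003815) (.leaf 0x12400014d0040f0))) (.node (.node (.leaf 0x2400002a003492) (.leaf 0x6d0000f9003ef0)) (.node (.leaf 0x40000070003ad6) (.leaf 0x0)))) (.node (.node (.node (.leaf 0x1800001a003195) (.leaf 0xad0000c7003df0)) (.node (.leaf 0x3600005a0039a1) (.leaf 0x1840001a70041f0))) (.node (.node (.leaf 0x1d00003900369d) (.leaf 0xee00011b003ff0)) (.node (.leaf 0x41000087003bec) (.leaf 0x0))))) (.node (.node (.node (.node (.leaf 0x6000010002fb5) (.leaf 0x970000ad003d70)) (.node (.leaf 0x250000520038f5) (.leaf 0xf3000189004170))) (.node (.node (.leaf 0x26000031003595) (.leaf 0xe70000fa003f70)) (.node (.leaf 0x4100007a003b6a) (.leaf 0x0)))) (.node (.node (.node (.leaf 0x8000023003336) (.leaf 0xb70000d6003e70)) (.node (.leaf 0x1f000067003a42) (.leaf 0x307000340004270))) (.node (.node (.leaf 0x3600003e003752) (.leaf 0x11e000137004070)) (.node (.leaf 0x3f000095003c70) (.leaf 0x0))))))) (.node (.node (.node (.node (.node (.node (.leaf 0x4000005002d6b) (.leaf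 0x9300009f003cd0)) (.node (.leaf 0x350000440037eb) (.leaf 0xbe00014d0040d0))) (.node (.node (.leaf 0x2500002800343e) (.leaf 0x410000e9003ed0)) (.node (.leaf 0x6d00006e003ab4) (.leaf 0x0)))) (.node (.node (.node (.leaf 0x9000018003128) (.leaf 0x6d0000c7003dd0)) (.node (.leaf 0x3400005900397d) (.leaf 0x1790001a20041d0))) (.node (.node (.leaf 0x2a000038003677) (.leaf 0xf800010f003fd0)) (.node (.leaf 0x36000086003bcc) (.leaf 0x0))))) (.node (.node (.node (.node (.leaf 0x400000e002f48) (.leaf 0x9a0000ab003d50)) (.node (.leaf 0x4100004d0038ab) (.leaf 0x16e000188004150))) (.node (.node (.leaf 0x22000030003567) (.leaf 0xb20000fa003f50)) (.node (.leaf 0x68000076003b42) (.leaf 0x0)))) (.node (.node (.node (.leaf 0x130000210032e0) (.leaf 0x9e0000cb003e50)) (.node (.leaf 0x35000062003a1b) (.leaf 0x1ea000265004250))) (.node (.node (.leaf 0x2e00003c00371d) (.leaf 0xe8000137004050)) (.node (.leaf 0x72000090003c50) (.leaf 0x0)))))) (.node (.node (.node (.node (.node (.leaf 0x100000a002e2c) (.leaf 0x570000a1003d10))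 (.node (.leaf 0x2e00004b00385f) (.leaf 0x13300014f004110))) (.node (.node (.leaf 0xf00002f003511) (.leaf 0xb70000f9003f10)) (.node (.leaf 0x6c000071003afa) (.leaf 0x0)))) (.node (.node (.node (.leaf 0x1800001c003207) (.leaf 0x580000c8003e10)) (.node (.leaf 0x5700005b0039c9) (.leaf 0x1e70001ee004210))) (.node (.node (.leaf 0x1800003a0036c9) (.leaf 0x41000128004010)) (.node (.leaf 0x2e00008d003c0e) (.leaf 0x0))))) (.node (.node (.node (.node (.leaf 0x1000001200302b) (.leaf 0x9a0000b5003d90)) (.node (.leaf 0x2c000053003919) (.leaf 0x13300018a004190))) (.node (.node (.leaf 0x250000330035eb) (.leaf 0xf50000fd003f90)) (.node (.leaf 0x2e000081003b8c) (.leaf 0x0)))) (.node (.node (.node (.leaf 0x90000270033d8) (.leaf 0xb70000d7003e90)) (.node (.leaf 0x3e000068003a64) (.leaf 0x0))) (.node (.node (.leaf 0x3200004200379a) (.leaf 0xbe000138004090)) (.node (.leaf 0x40000099003c90) (.leaf 0x0)))))))))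

/-- part -/
def sumT_5 : Tr Nat := (.node (.node (.node (.node (.node (.node (.node (.node (.leaf 0x0) (.leaf 0x3d00009f003ca8)) (.node (.leaf 0x240000430037ba) (.leaf 0x1360001380040a8))) (.node (.node (.leaf 0x1c000027003402) (.leaf 0xc20000d8003ea8)) (.node (.leaf 0x4000006a003a86) (.leaf 0x0)))) (.node (.node (.node (.leaf 0x6000015003068) (.leaf 0x9e0000ba003da8)) (.node (.leaf 0x37000054003931) (.leaf 0x17600018b0041a8))) (.node (.node (.leaf 0xa00003600361b) (.leaf 0xbd00010e003fa8)) (.node (.leaf 0x41000085003ba4) (.leaf 0x0))))) (.node (.node (.node (.node (.leaf 0x500000b002e8d) (.leaf 0x9a0000a1003d28)) (.node (.leaf 0x2600004c00387b) (.leaf 0x12e000160004128))) (.node (.node (.leaf 0x2300002f003529) (.leaf 0xde0000f9003f28)) (.node (.leaf 0x37000074003b1a) (.leaf 0x0)))) (.node (.node (.node (.leaf 0x900001f00328c) (.leaf 0x9d0000c8003e28)) (.node (.leaf 0x5600005e0039e3) (.leaf 0x1ec0001f0004228))) (.node (.node (.leaf 0x3500003a0036e3) (.leaf 0x93000137004028)) (.node (.leaf 0x8200008d003c28)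 (.leaf 0x0)))))) (.node (.node (.node (.node (.node (.leaf 0x5000007002dc4) (.leaf 0x790000a0003ce8)) (.node (.leaf 0x3500004500380d) (.leaf 0x12000014d0040e8))) (.node (.node (.leaf 0x2600002900347a) (.leaf 0x410000f4003ee8)) (.node (.leaf 0x6600006f003acc) (.leaf 0x0)))) (.node (.node (.node (.leaf 0x1200001a00318b) (.leaf 0x960000c7003de8)) (.node (.leaf 0x2600005a003999) (.leaf 0x1830001a40041e8))) (.node (.node (.leaf 0x17000039003693) (.leaf 0xbe00011b003fe8)) (.node (.leaf 0x7e000086003be4) (.leaf 0x0))))) (.node (.node (.node (.node (.leaf 0x900000f002f89) (.leaf 0x6d0000ad003d68)) (.node (.leaf 0x190000520038ed) (.leaf 0x182000188004168))) (.node (.node (.leaf 0x1f00003100358b) (.leaf 0xdf0000fa003f68)) (.node (.leaf 0x3700007a003b62) (.leaf 0x0)))) (.node (.node (.node (.leaf 0x1b00002200331a) (.leaf 0x840000d6003e68)) (.node (.leaf 0x36000064003a39) (.leaf 0x1ec0002e9004268))) (.node (.node (.leaf 0x3700003d003744) (.leaf 0x118000137004068)) (.node (.leaf 0x82000094003c68) (.leaf 0x0)))))))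 (.node (.node (.node (.node (.node (.node (.leaf 0x5002d55) (.leaf 0x8400009f003cc8)) (.node (.leaf 0x260000440037df) (.leaf 0xbd0001470040c8))) (.node (.node (.leaf 0x1e000028003432) (.leaf 0xc10000e1003ec8)) (.node (.leaf 0x6900006e003aac) (.leaf 0x0)))) (.node (.node (.node (.leaf 0x80000170030e7) (.leaf 0x410000c7003dc8)) (.node (.leaf 0x26000059003975) (.leaf 0x12e0001a20041c8))) (.node (.node (.leaf 0x2400003800366b) (.leaf 0xf000010f003fc8)) (.node (.leaf 0x82000085003bc4) (.leaf 0x0))))) (.node (.node (.node (.node (.leaf 0x600000d002f16) (.leaf 0x830000ab003d48)) (.node (.leaf 0x3700004d0038a1) (.leaf 0x129000188004148))) (.node (.node (.leaf 0x1c000030003559) (.leaf 0x970000fa003f48)) (.node (.leaf 0x6b000075003b3a) (.leaf 0x0)))) (.node (.node (.node (.leaf 0x1f0000200032ca) (.leaf 0xc60000c9003e48)) (.node (.leaf 0x41000061003a0f) (.leaf 0x1ea000244004248))) (.node (.node (.leaf 0x1f00003c003711) (.leaf 0xde000137004048)) (.node (.leaf 0x7f00008f003c48) (.leaf 0x0)))))) (.node (.node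 (.node (.node (.node (.leaf 0x6000009002e14) (.leaf 0x9e0000a0003d08)) (.node (.leaf 0x2400004b003857) (.leaf 0x12f00014e004108))) (.node (.node (.leaf 0xa00002d0034db) (.leaf 0xb10000f9003f08)) (.node (.leaf 0x41000071003af0) (.leaf 0x0)))) (.node (.node (.node (.leaf 0x700001c0031e3) (.leaf 0xc10000c7003e08)) (.node (.leaf 0x3700005b0039bf) (.leaf 0x17e0001ee004208))) (.node (.node (.leaf 0x340000390036b9) (.leaf 0xea00011e004008)) (.node (.leaf 0x3f00008a003c06) (.leaf 0x0))))) (.node (.node (.node (.node (.leaf 0x700001200300f) (.leaf 0x830000b5003d88)) (.node (.leaf 0x1f000053003911) (.leaf 0x182000189004188))) (.node (.node (.leaf 0x2d0000320035c9) (.leaf 0xf50000fb003f88)) (.node (.leaf 0x37000080003b84) (.leaf 0x0)))) (.node (.node (.node (.leaf 0x90000250033a1) (.leaf 0x960000d7003e88)) (.node (.leaf 0x2d000068003a5c) (.leaf 0x0))) (.node (.node (.leaf 0x2b000042003792) (.leaf 0x12e000137004088)) (.node (.leaf 0x40000098003c88) (.leaf 0x0)))))))) (.node (.node (.node (.node (.node (.node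 (.node (.leaf 0x1000002002d26) (.leaf 0x7600009f003cb8)) (.node (.leaf 0x350000430037ca) (.leaf 0x13200013a0040b8))) (.node (.node (.leaf 0x2600002700341c) (.leaf 0xbe0000e0003eb8)) (.node (.leaf 0x4000006e003a9c) (.leaf 0x0)))) (.node (.node (.node (.leaf 0x60000160030bc) (.leaf 0x400000c0003db8)) (.node (.leaf 0x4100005500394b) (.leaf 0x12b00018e0041b8))) (.node (.node (.leaf 0x16000038003655) (.leaf 0xeb00010e003fb8)) (.node (.leaf 0x75000085003bb4) (.leaf 0x0))))) (.node (.node (.node (.node (.leaf 0x500000c002ee4) (.leaf 0x9a0000a6003d38)) (.node (.leaf 0x3e00004c00388d) (.leaf 0x13600016f004138))) (.node (.node (.leaf 0xa000030003543) (.leaf 0xed0000f9003f38)) (.node (.leaf 0x6c000074003b2a) (.leaf 0x0)))) (.node (.node (.node (.leaf 0x130000200032b6) (.leaf 0xb70000c8003e38)) (.node (.leaf 0x2d0000610039fd) (.leaf 0x1ec000203004238))) (.node (.node (.leaf 0x2400003b0036fb) (.leaf 0xb8000137004038)) (.node (.leaf 0x7200008e003c38) (.leaf 0x0)))))) (.node (.node (.node (.node (.node (.leaf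 0x6000008002df0) (.leaf 0x900000a0003cf8)) (.node (.leaf 0x37000046003827) (.leaf 0x12a00014d0040f8))) (.node (.node (.leaf 0xa00002b0034a4) (.leaf 0x910000f9003ef8)) (.node (.leaf 0x62000070003ae0) (.leaf 0x0)))) (.node (.node (.node (.leaf 0x900001b0031a9) (.leaf 0xb30000c7003df8)) (.node (.leaf 0x4000005a0039a9) (.leaf 0x1840001b90041f8))) (.node (.node (.leaf 0x250000390036a5) (.leaf 0xbe00011c003ff8)) (.node (.leaf 0x2e000088003bf4) (.leaf 0x0))))) (.node (.node (.node (.node (.leaf 0xa000010002fc3) (.leaf 0x9e0000ad003d78)) (.node (.leaf 0x330000520038fd) (.leaf 0x133000189004178))) (.node (.node (.leaf 0x2e0000310035a7) (.leaf 0xf30000fa003f78)) (.node (.leaf 0x3700007c003b72) (.leaf 0x0)))) (.node (.node (.node (.leaf 0x1e00002300334f) (.leaf 0xbd0000d6003e78)) (.node (.leaf 0x34000067003a4a) (.leaf 0x0))) (.node (.node (.leaf 0x3200004000376e) (.leaf 0x122000137004078)) (.node (.leaf 0x83000095003c78) (.leaf 0x0))))))) (.node (.node (.node (.node (.node (.node (.leaf 0x3000006002d83)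 (.leaf 0x9a00009f003cd8)) (.node (.leaf 0x3d0000440037f7) (.leaf 0xe700014d0040d8))) (.node (.node (.leaf 0x1400002900345e) (.leaf 0xc60000e9003ed8)) (.node (.leaf 0x3d00006f003abc) (.leaf 0x0)))) (.node (.node (.node (.leaf 0x8000019003157) (.leaf 0x7e0000c7003dd8)) (.node (.leaf 0x3d000059003985) (.leaf 0x1830001a20041d8))) (.node (.node (.leaf 0x31000038003681) (.leaf 0xf8000111003fd8)) (.node (.leaf 0x58000086003bd4) (.leaf 0x0))))) (.node (.node (.node (.node (.leaf 0x800000e002f55) (.leaf 0x6c0000ac003d58)) (.node (.leaf 0x3f00004e0038c1) (.leaf 0x173000188004158))) (.node (.node (.leaf 0x2b000030003577) (.leaf 0xb90000fa003f58)) (.node (.leaf 0x68000077003b4c) (.leaf 0x0)))) (.node (.node (.node (.leaf 0x1d0000210032ee) (.leaf 0xc60000cd003e58)) (.node (.leaf 0x40000062003a23) (.leaf 0x1ec000293004258))) (.node (.node (.leaf 0x700003d003727) (.leaf 0xf3000137004058)) (.node (.leaf 0x2e000093003c58) (.leaf 0x0)))))) (.node (.node (.node (.node (.node (.leaf 0x500000a002e49) (.leaf 0x7f0000a1003d18))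 (.node (.leaf 0x3700004b003867) (.leaf 0xbe000160004118))) (.node (.node (.leaf 0x1400002f003519) (.leaf 0xbe0000f9003f18)) (.node (.leaf 0x56000072003b04) (.leaf 0x0)))) (.node (.node (.node (.leaf 0xa00001d003237) (.leaf 0x790000c8003e18)) (.node (.leaf 0x4100005c0039d3) (.leaf 0x1ec0001ee004218))) (.node (.node (.leaf 0x2400003a0036d1) (.leaf 0xc600012c004018)) (.node (.leaf 0x4100008d003c16) (.leaf 0x0))))) (.node (.node (.node (.node (.leaf 0x8000013003043) (.leaf 0x840000b6003d98)) (.node (.leaf 0x35000053003921) (.leaf 0x18400018a004198))) (.node (.node (.leaf 0x2d0000330035f3) (.leaf 0x7f00010e003f98)) (.node (.leaf 0x40000081003b94) (.leaf 0x0)))) (.node (.node (.node (.leaf 0x100000270033e4) (.leaf 0xc10000d7003e98)) (.node (.leaf 0x2e000069003a74) (.leaf 0x0))) (.node (.node (.leaf 0x3b0000420037a4) (.leaf 0xf3000138004098)) (.node (.leaf 0x3f00009b003c98) (.leaf 0x0)))))))))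

/-- part -/
def sumT_6 : Tr Nat := (.node (.node (.node (.node (.node (.node (.node (.node (.leaf 0x0) (.leaf 0x3500009e003ca4)) (.node (.leaf 0x1e0000430037b4) (.leaf 0x1300001380040a4))) (.node (.node (.leaf 0x190000270033fe) (.leaf 0xb80000d8003ea4)) (.node (.leaf 0x2b00006a003a82) (.leaf 0x0)))) (.node (.node (.node (.leaf 0x900001400305a) (.leaf 0x410000ba003da4)) (.node (.leaf 0x3500005400392d) (.leaf 0x17400018b0041a4))) (.node (.node (.leaf 0x2e000034003607) (.leaf 0xb800010e003fa4)) (.node (.leaf 0x37000085003ba0) (.leaf 0x0))))) (.node (.node (.node (.node (.leaf 0x300000b002e77) (.leaf 0x960000a1003d24)) (.node (.leaf 0x4100004b003873) (.leaf 0x12a000160004124))) (.node (.node (.leaf 0x2100002f003525) (.leaf 0xdc0000f9003f24)) (.node (.leaf 0x34000074003b16) (.leaf 0x0)))) (.node (.node (.node (.leaf 0x700001f003288) (.leaf 0x970000c8003e24)) (.node (.leaf 0x5300005e0039df) (.leaf 0x1dc0001f0004224))) (.node (.node (.leaf 0x2d00003a0036df) (.leaf 0x91000137004024)) (.node (.leaf 0x7d00008d003c24)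 (.leaf 0x0)))))) (.node (.node (.node (.node (.node (.leaf 0x3000007002dac) (.leaf 0x770000a0003ce4)) (.node (.leaf 0x26000045003805) (.leaf 0x11e00014d0040e4))) (.node (.node (.leaf 0x24000029003474) (.leaf 0xc50000ef003ee4)) (.node (.leaf 0x6400006f003ac8) (.leaf 0x0)))) (.node (.node (.node (.leaf 0xf00001a003187) (.leaf 0x920000c7003de4)) (.node (.leaf 0x57000059003993) (.leaf 0x1330001a40041e4))) (.node (.node (.leaf 0x1300003900368f) (.leaf 0x41000119003fe4)) (.node (.leaf 0x77000086003be0) (.leaf 0x0))))) (.node (.node (.node (.node (.leaf 0x600000f002f7d) (.leaf 0x990000ac003d64)) (.node (.leaf 0x4100004f0038d7) (.leaf 0x17e000188004164))) (.node (.node (.leaf 0x19000031003587) (.leaf 0xdc0000fa003f64)) (.node (.leaf 0x3500007a003b5e) (.leaf 0x0)))) (.node (.node (.node (.leaf 0x14000022003312) (.leaf 0x7e0000d6003e64)) (.node (.leaf 0x40000063003a33) (.leaf 0x292000295004264))) (.node (.node (.leaf 0x3500003d003740) (.leaf 0x114000137004064)) (.node (.leaf 0x3f000094003c64) (.leaf 0x0)))))))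 (.node (.node (.node (.node (.node (.node (.leaf 0x2000004002d4e) (.leaf 0x7f00009f003cc4)) (.node (.leaf 0x410000430037d7) (.leaf 0xe200013e0040c4))) (.node (.node (.leaf 0x1900002800342e) (.leaf 0x9e0000e1003ec4)) (.node (.leaf 0x6400006e003aa8) (.leaf 0x0)))) (.node (.node (.node (.leaf 0x140000160030d7) (.leaf 0x410000c4003dc4)) (.node (.leaf 0x1f000059003971) (.leaf 0x1760001920041c4))) (.node (.node (.leaf 0x1f000038003667) (.leaf 0x4100010f003fc4)) (.node (.leaf 0x7e000085003bc0) (.leaf 0x0))))) (.node (.node (.node (.node (.leaf 0x400000d000191) (.leaf 0x6d0000ab003d44)) (.node (.leaf 0x3500004d00389d) (.leaf 0x127000188004144))) (.node (.node (.leaf 0x18000030003555) (.leaf 0x920000fa003f44)) (.node (.leaf 0x40000075003b36) (.leaf 0x0)))) (.node (.node (.node (.leaf 0x1c0000200032c6) (.leaf 0x9e0000c9003e44)) (.node (.leaf 0x3f000061003a0b) (.leaf 0x1ec000234004244))) (.node (.node (.leaf 0x3500003b003709) (.leaf 0xdc000137004044)) (.node (.leaf 0x6d00008f003c44) (.leaf 0x0)))))) (.node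 (.node (.node (.node (.node (.leaf 0x4000009002e02) (.leaf 0x990000a0003d04)) (.node (.leaf 0x4000004700383d) (.leaf 0xf300014e004104))) (.node (.node (.leaf 0x2600002c0034cd) (.leaf 0xae0000f9003f04)) (.node (.leaf 0x6c000070003aec) (.leaf 0x0)))) (.node (.node (.node (.leaf 0x1800001b0031d1) (.leaf 0xbe0000c7003e04)) (.node (.leaf 0x2e00005b0039bb) (.leaf 0x17a0001ee004204))) (.node (.node (.leaf 0x320000390036b3) (.leaf 0xf700011c004004)) (.node (.leaf 0x41000089003c00) (.leaf 0x0))))) (.node (.node (.node (.node (.leaf 0x10000011003007) (.leaf 0x370000b5003d84)) (.node (.leaf 0x40000052003909) (.leaf 0x17e000189004184))) (.node (.node (.leaf 0x260000320035c1) (.leaf 0xee0000fb003f84)) (.node (.leaf 0x2e000080003b80) (.leaf 0x0)))) (.node (.node (.node (.leaf 0x1f000024003393) (.leaf 0x840000d7003e84)) (.node (.leaf 0x40000067003a56) (.leaf 0x0))) (.node (.node (.leaf 0x2300004200378e) (.leaf 0x12a000137004084)) (.node (.leaf 0x36000098003c84) (.leaf 0x0)))))))) (.node (.node (.node (.node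 (.node (.node (.node (.leaf 0x1002d1c) (.leaf 0x6c00009f003cb4)) (.node (.leaf 0x330000430037c6) (.leaf 0xf300013a0040b4))) (.node (.node (.leaf 0x24000027003416) (.leaf 0xbc0000e0003eb4)) (.node (.leaf 0x3600006e003a98) (.leaf 0x0)))) (.node (.node (.node (.leaf 0x1400001500309e) (.leaf 0x400000bf003db4)) (.node (.leaf 0x3b000055003945) (.leaf 0x18300018c0041b4))) (.node (.node (.leaf 0x13000038003651) (.leaf 0xe700010e003fb4)) (.node (.leaf 0x6b000085003bb0) (.leaf 0x0))))) (.node (.node (.node (.node (.leaf 0x300000c002ed2) (.leaf 0x9e0000a2003d34)) (.node (.leaf 0x3700004c003889) (.leaf 0x13500016e004134))) (.node (.node (.leaf 0x2d00002f00353b) (.leaf 0xe60000f9003f34)) (.node (.leaf 0x6a000074003b26) (.leaf 0x0)))) (.node (.node (.node (.leaf 0x100000200032b0) (.leaf 0xb40000c8003e34)) (.node (.leaf 0x260000610039f9) (.leaf 0x1e9000202004234))) (.node (.node (.leaf 0x1a00003b0036f5) (.leaf 0xb3000137004034)) (.node (.leaf 0x6c00008e003c34) (.leaf 0x0)))))) (.node (.node (.node (.node (.node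 (.leaf 0x4000008002de6) (.leaf 0x8e0000a0003cf4)) (.node (.leaf 0x41000045003819) (.leaf 0x12700014d0040f4))) (.node (.node (.leaf 0x2600002a0034a0) (.leaf 0x7f0000f9003ef4)) (.node (.leaf 0x57000070003adc) (.leaf 0x0)))) (.node (.node (.node (.leaf 0x700001b0031a1) (.leaf 0xb00000c7003df4)) (.node (.leaf 0x3e00005a0039a5) (.leaf 0x17a0001b90041f4))) (.node (.node (.leaf 0x220000390036a1) (.leaf 0xf300011b003ff4)) (.node (.leaf 0x83000087003bf0) (.leaf 0x0))))) (.node (.node (.node (.node (.leaf 0x8000010002fbf) (.leaf 0x9c0000ad003d74)) (.node (.leaf 0x2c0000520038f9) (.leaf 0x12e000189004174))) (.node (.node (.leaf 0x2b00003100359f) (.leaf 0xed0000fa003f74)) (.node (.leaf 0x3700007b003b6e) (.leaf 0x0)))) (.node (.node (.node (.leaf 0xa00002300333a) (.leaf 0xb90000d6003e74)) (.node (.leaf 0x2c000067003a46) (.leaf 0x0))) (.node (.node (.leaf 0x3300003f003760) (.leaf 0x120000137004074)) (.node (.leaf 0x81000095003c74) (.leaf 0x0))))))) (.node (.node (.node (.node (.node (.node (.leaf 0x1000006002d7b)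 (.leaf 0x9700009f003cd4)) (.node (.leaf 0x370000440037f1) (.leaf 0xe300014d0040d4))) (.node (.node (.leaf 0x9000029003452) (.leaf 0xc10000e9003ed4)) (.node (.leaf 0x3600006f003ab8) (.leaf 0x0)))) (.node (.node (.node (.leaf 0x6000019003153) (.leaf 0x780000c7003dd4)) (.node (.leaf 0x36000059003981) (.leaf 0x17c0001a20041d4))) (.node (.node (.leaf 0x2d00003800367d) (.leaf 0xf8000110003fd4)) (.node (.leaf 0x41000086003bd0) (.leaf 0x0))))) (.node (.node (.node (.node (.leaf 0x600000e002f4d) (.leaf 0x9e0000ab003d54)) (.node (.leaf 0x2e00004e0038bb) (.leaf 0x170000188004154))) (.node (.node (.leaf 0x29000030003573) (.leaf 0xb40000fa003f54)) (.node (.leaf 0x6d000076003b46) (.leaf 0x0)))) (.node (.node (.node (.leaf 0x180000210032e4) (.leaf 0xc60000cb003e54)) (.node (.leaf 0x37000062003a1f) (.leaf 0x1ec000266004254))) (.node (.node (.leaf 0x3500003c003721) (.leaf 0xed000137004054)) (.node (.leaf 0x37000091003c54) (.leaf 0x0)))))) (.node (.node (.node (.node (.node (.leaf 0x300000a002e3b) (.leaf 0x6d0000a1003d14))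 (.node (.leaf 0x3500004b003863) (.leaf 0x135000150004114))) (.node (.node (.leaf 0x1200002f003515) (.leaf 0xb90000f9003f14)) (.node (.leaf 0x54000072003b00) (.leaf 0x0)))) (.node (.node (.node (.leaf 0x800001d003229) (.leaf 0x6d0000c8003e14)) (.node (.leaf 0x3700005c0039cf) (.leaf 0x1ea0001ee004214))) (.node (.node (.leaf 0x1e00003a0036cd) (.leaf 0x4100012a004014)) (.node (.leaf 0x3700008d003c12) (.leaf 0x0))))) (.node (.node (.node (.node (.leaf 0x600001300303d) (.leaf 0x410000b6003d94)) (.node (.leaf 0x2e00005300391d) (.leaf 0x18200018a004194))) (.node (.node (.leaf 0x2a0000330035ef) (.leaf 0xeb000101003f94)) (.node (.leaf 0x36000081003b90) (.leaf 0x0)))) (.node (.node (.node (.leaf 0xd0000270033e0) (.leaf 0xbd0000d7003e94)) (.node (.leaf 0x40000068003a68) (.leaf 0x0))) (.node (.node (.leaf 0x360000420037a0) (.leaf 0xec000138004094)) (.node (.leaf 0x3600009b003c94) (.leaf 0x0)))))))))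

/-- part -/
def sumT_7 : Tr Nat := (.node (.node (.node (.node (.node (.node (.node (.node (.leaf 0x0) (.leaf 0x5700009f003cac)) (.node (.leaf 0x260000430037be) (.leaf 0x12e0001390040ac))) (.node (.node (.leaf 0x1e00002700340a) (.leaf 0x830000e0003eac)) (.node (.leaf 0x4100006b003a8e) (.leaf 0x0)))) (.node (.node (.node (.leaf 0xd00001500308a) (.leaf 0x9c0000bc003dac)) (.node (.leaf 0x3f000054003937) (.leaf 0x18300018b0041ac))) (.node (.node (.leaf 0x4000038003647) (.leaf 0xc200010e003fac)) (.node (.leaf 0x58000085003ba8) (.leaf 0x0))))) (.node (.node (.node (.node (.leaf 0x700000b002ea9) (.leaf 0x9d0000a1003d2c)) (.node (.leaf 0x2d00004c00387f) (.leaf 0x13000016000412c))) (.node (.node (.leaf 0x2800002f003531) (.leaf 0xe20000f9003f2c)) (.node (.leaf 0x3f000074003b1e) (.leaf 0x0)))) (.node (.node (.node (.leaf 0x80000200032a8) (.leaf 0xb00000c8003e2c)) (.node (.leaf 0x5800005e0039e7) (.leaf 0x1ec0001f200422c))) (.node (.node (.leaf 0x3700003a0036e7) (.leaf 0xaf00013700402c)) (.node (.leaf 0x3700008e003c2c)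 (.leaf 0x0)))))) (.node (.node (.node (.node (.node (.leaf 0x8002dd6) (.leaf 0x7f0000a0003cec)) (.node (.leaf 0x37000045003811) (.leaf 0x12200014d0040ec))) (.node (.node (.leaf 0x1900002a003488) (.leaf 0x580000f9003eec)) (.node (.leaf 0x6d00006f003ad0) (.leaf 0x0)))) (.node (.node (.node (.leaf 0x1400001a00318f) (.leaf 0x990000c7003dec)) (.node (.leaf 0x2e00005a00399d) (.leaf 0x1840001a50041ec))) (.node (.node (.leaf 0x19000039003697) (.leaf 0xc600011b003fec)) (.node (.leaf 0x36000087003be8) (.leaf 0x0))))) (.node (.node (.node (.node (.leaf 0x4000010002fab) (.leaf 0x840000ad003d6c)) (.node (.leaf 0x1f0000520038f1) (.leaf 0x18400018800416c))) (.node (.node (.leaf 0x2400003100358f) (.leaf 0xe50000fa003f6c)) (.node (.leaf 0x3f00007a003b66) (.leaf 0x0)))) (.node (.node (.node (.leaf 0x1e000022003328) (.leaf 0x970000d6003e6c)) (.node (.leaf 0x41000064003a3d) (.leaf 0x2e800030800426c))) (.node (.node (.leaf 0x2e00003e00374e) (.leaf 0x11a00013700406c)) (.node (.leaf 0x84000094003c6c) (.leaf 0x0)))))))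 (.node (.node (.node (.node (.node (.node (.leaf 0x2000005002d61) (.leaf 0x9100009f003ccc)) (.node (.leaf 0x2e0000440037e7) (.leaf 0xb800014d0040cc))) (.node (.node (.leaf 0x20000028003436) (.leaf 0xbe0000e2003ecc)) (.node (.leaf 0x6b00006e003ab0) (.leaf 0x0)))) (.node (.node (.node (.leaf 0x1400001700310c) (.leaf 0x660000c7003dcc)) (.node (.leaf 0x2d000059003979) (.leaf 0x1330001a20041cc))) (.node (.node (.leaf 0x2600003800366f) (.leaf 0xf300010f003fcc)) (.node (.leaf 0x84000085003bc8) (.leaf 0x0))))) (.node (.node (.node (.node (.leaf 0x800000d002f28) (.leaf 0x970000ab003d4c)) (.node (.leaf 0x3f00004d0038a5) (.leaf 0x13000018800414c))) (.node (.node (.leaf 0x1e00003000355d) (.leaf 0xb00000fa003f4c)) (.node (.leaf 0x6d000075003b3e) (.leaf 0x0)))) (.node (.node (.node (.leaf 0x90000210032d2) (.leaf 0x9e0000ca003e4c)) (.node (.leaf 0x2d000062003a17) (.leaf 0x1e700026500424c))) (.node (.node (.leaf 0x2600003c003717) (.leaf 0xe600013700404c)) (.node (.leaf 0x6b000090003c4c) (.leaf 0x0)))))) (.node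 (.node (.node (.node (.node (.leaf 0x8000009002e1c) (.leaf 0x400000a1003d0c)) (.node (.leaf 0x2600004b00385b) (.leaf 0x13200014e00410c))) (.node (.node (.leaf 0xa00002f003505) (.leaf 0xb30000f9003f0c)) (.node (.leaf 0x65000071003af6) (.leaf 0x0)))) (.node (.node (.node (.leaf 0xa00001c0031e9) (.leaf 0xc50000c7003e0c)) (.node (.leaf 0x4000005b0039c3) (.leaf 0x1d90001ee00420c))) (.node (.node (.leaf 0x360000390036bf) (.leaf 0xf700012700400c)) (.node (.leaf 0x3f00008b003c0a) (.leaf 0x0))))) (.node (.node (.node (.node (.leaf 0x9000012003013) (.leaf 0x860000b5003d8c)) (.node (.leaf 0x26000053003915) (.leaf 0x18400018900418c))) (.node (.node (.leaf 0xa0000330035d9) (.leaf 0xf10000fd003f8c)) (.node (.leaf 0x40000080003b88) (.leaf 0x0)))) (.node (.node (.node (.leaf 0x90000260033b9) (.leaf 0x9a0000d7003e8c)) (.node (.leaf 0x35000068003a60) (.leaf 0x0))) (.node (.node (.leaf 0x2d000042003796) (.leaf 0x13000013700408c)) (.node (.leaf 0x2e000099003c8c) (.leaf 0x0)))))))) (.node (.node (.node (.node (.node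 (.node (.node (.leaf 0x1000003002d3c) (.leaf 0x7800009f003cbc)) (.node (.leaf 0x370000430037ce) (.leaf 0x13300013b0040bc))) (.node (.node (.leaf 0x10000028003426) (.leaf 0xc10000e0003ebc)) (.node (.leaf 0x5600006e003aa0) (.leaf 0x0)))) (.node (.node (.node (.leaf 0x90000160030c0) (.leaf 0x360000c2003dbc)) (.node (.leaf 0x37000056003951) (.leaf 0x17600018e0041bc))) (.node (.node (.leaf 0x1800003800365f) (.leaf 0xed00010e003fbc)) (.node (.leaf 0x77000085003bb8) (.leaf 0x0))))) (.node (.node (.node (.node (.leaf 0x700000c002eea) (.leaf 0x2e0000a9003d3c)) (.node (.leaf 0x4100004c003891) (.leaf 0xbe00018800413c))) (.node (.node (.leaf 0x1300003000354b) (.leaf 0xf30000f9003f3c)) (.node (.leaf 0x2c000075003b2e) (.leaf 0x0)))) (.node (.node (.node (.leaf 0x160000200032ba) (.leaf 0xb90000c8003e3c)) (.node (.leaf 0x34000061003a03) (.leaf 0x1ec00021400423c))) (.node (.node (.leaf 0x2b00003b003701) (.leaf 0xc200013700403c)) (.node (.leaf 0x7e00008e003c3c) (.leaf 0x0)))))) (.node (.node (.node (.node (.node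 (.leaf 0x9002df4) (.leaf 0x920000a0003cfc)) (.node (.leaf 0x4000004600382b) (.leaf 0x12e00014d0040fc))) (.node (.node (.leaf 0x2500002b0034b6) (.leaf 0x960000f9003efc)) (.node (.leaf 0x64000070003ae4) (.leaf 0x0)))) (.node (.node (.node (.leaf 0x1000001b0031b3) (.leaf 0xb70000c7003dfc)) (.node (.leaf 0x5300005a0039ad) (.leaf 0x1840001ba0041fc))) (.node (.node (.leaf 0x290000390036ab) (.leaf 0xed00011c003ffc)) (.node (.leaf 0x3f000088003bf8) (.leaf 0x0))))) (.node (.node (.node (.node (.leaf 0x6000011002ff7) (.leaf 0x2e0000b1003d7c)) (.node (.leaf 0x37000052003901) (.leaf 0x17900018900417c))) (.node (.node (.leaf 0x1e0000320035b9) (.leaf 0xea0000fb003f7c)) (.node (.leaf 0x4100007c003b76) (.leaf 0x0)))) (.node (.node (.node (.leaf 0x8000024003361) (.leaf 0xc10000d6003e7c)) (.node (.leaf 0x36000067003a4e) (.leaf 0x0))) (.node (.node (.leaf 0x19000042003786) (.leaf 0x12500013700407c)) (.node (.leaf 0x36000096003c7c) (.leaf 0x0))))))) (.node (.node (.node (.node (.node (.node (.leaf 0x5000006002d8c)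 (.leaf 0x9e00009f003cdc)) (.node (.leaf 0x3f0000440037fb) (.leaf 0xed00014d0040dc))) (.node (.node (.leaf 0x1d000029003468) (.leaf 0x9e0000ea003edc)) (.node (.leaf 0x4100006f003ac0) (.leaf 0x0)))) (.node (.node (.node (.leaf 0x700001a003173) (.leaf 0x830000c7003ddc)) (.node (.leaf 0x3f000059003989) (.leaf 0x1800001a30041dc))) (.node (.node (.leaf 0x34000038003685) (.leaf 0xf1000112003fdc)) (.node (.leaf 0x66000086003bd8) (.leaf 0x0))))) (.node (.node (.node (.node (.leaf 0xa00000e002f69) (.leaf 0x7f0000ac003d5c)) (.node (.leaf 0x4100004e0038c5) (.leaf 0x17800018800415c))) (.node (.node (.leaf 0x2d00003000357b) (.leaf 0xc20000fa003f5c)) (.node (.leaf 0x3d000079003b52) (.leaf 0x0)))) (.node (.node (.node (.leaf 0x1f0000210032f6) (.leaf 0x410000d5003e5c)) (.node (.leaf 0x2e000063003a29) (.leaf 0x29000029300425c))) (.node (.node (.leaf 0x2a00003d003734) (.leaf 0x11000013700405c)) (.node (.leaf 0x40000093003c5c) (.leaf 0x0)))))) (.node (.node (.node (.node (.node (.leaf 0x700000a002e53) (.leaf 0x910000a1003d1c))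 (.node (.leaf 0x3d00004b00386b) (.leaf 0xed00016000411c))) (.node (.node (.leaf 0x1b00002f00351d) (.leaf 0xc60000f9003f1c)) (.node (.leaf 0x58000072003b08) (.leaf 0x0)))) (.node (.node (.node (.leaf 0x700001e003265) (.leaf 0x900000c8003e1c)) (.node (.leaf 0x5800005c0039d7) (.leaf 0x1e90001ef00421c))) (.node (.node (.leaf 0x2600003a0036d7) (.leaf 0xf800012c00401c)) (.node (.leaf 0x6b00008d003c1c) (.leaf 0x0))))) (.node (.node (.node (.node (.leaf 0xa000013003047) (.leaf 0x9e0000b6003d9c)) (.node (.leaf 0x3e000053003925) (.leaf 0x12a00018b00419c))) (.node (.node (.leaf 0xa0000340035fb) (.leaf 0x9600010e003f9c)) (.node (.leaf 0x3d000082003b98) (.leaf 0x0)))) (.node (.node (.node (.leaf 0x130000270033ec) (.leaf 0xc60000d7003e9c)) (.node (.leaf 0x37000069003a7a) (.leaf 0x0))) (.node (.node (.leaf 0x3f0000420037a8) (.leaf 0x12800013800409c)) (.node (.leaf 0x3700009c003c9c) (.leaf 0x0)))))))))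

/-- the table -/
def sumT : Tr Nat := (.node (.node (.node sumT_0 sumT_1) (.node sumT_2 sumT_3)) (.node (.node sumT_4 sumT_5) (.node sumT_6 sumT_7)))

/-- pairs of basis sextets -/
def pairL : List (Nat × Nat × Nat × Nat) := [(10697, 0, 1, 11), (10717, 0, 2, 12), (10756, 0, 3, 14), (10774, 0, 4, 17), (10903, 0, 5, 21), (10992, 0, 6, 26), (11246, 0, 7, 32), (11302, 0, 8, 39), (11141, 0, 9, 47), (11428, 0, 10, 56), (11456, 1, 2, 13), (11458, 1, 3, 15), (11460, 1, 4, 18), (11462, 1, 5, 22), (11464, 1, 6, 27), (11466, 1, 7, 33), (11468, 1, 8, 40), (11470, 1, 9, 48), (11472, 1, 10, 57), (11474, 2, 3, 16), (11476, 2, 4, 19), (11478, 2, 5, 23), (11480, 2, 6, 28), (11482, 2, 7, 34), (11484, 2, 8, 41), (11486, 2, 9, 49), (11488, 2, 10, 58), (11490, 3, 4, 20), (11492, 3, 5, 24), (11494, 3, 6, 29), (11496, 3, 7, 35), (11498, 3, 8, 42), (11500, 3, 9, 50), (11502, 3, 10, 59), (11504, 4, 5, 25), (11506, 4, 6, 30), (11508, 4, 7, 36), (11510, 4, 8, 43), (11512, 4, 9, 51), (11514, 4, 10, 60), (11516, 5, 6, 31),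 (11518, 5, 7, 37), (11520, 5, 8, 44), (11522, 5, 9, 52), (11524, 5, 10, 61), (11526, 6, 7, 38), (11528, 6, 8, 45), (11530, 6, 9, 53), (11532, 6, 10, 62), (11534, 7, 8, 46), (11536, 7, 9, 54), (11538, 7, 10, 63), (11540, 8, 9, 55), (11542, 8, 10, 64), (11544, 9, 10, 65)]

/-- basis -/
def basisL : List Nat := [0xbdab49ca307b9ac5a928398a418820, 0xacd0e0c8e2195546c18925df102cd6, 0xca8e49a0d3b237b0064988aa7a175, 0x18173abc8e82441914c7bd1568a18d, 0x136c4b9d898ba0a302a82ce921ac2f, 0x1a049bc228b245521761d6893baed, 0xdaed5b048a24643c95504265899cf, 0x2c9f348048a1e230aee473556642a6, 0x95cb16b17300dd03d1490910615aaf, 0xb2161026f28b2869bc4e256053a9a3, 0x6448bb86674984aad9ee902144146d]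
/-- functionals -/
def funcL : List Nat := [1535022, 10864326, 12933816, 6688371, 9939838, 9198654, 4605944, 3348969, 11899662, 12060531, 15809620]

/-- part -/
def decT_0 : Tr Nat := (.node (.node (.node (.node (.node (.node (.node (.node (.leaf 0) (.leaf 0)) (.node (.leaf 0) (.leaf 0))) (.node (.node (.leaf 0) (.leaf 0)) (.node (.leaf 0) (.leaf 63)))) (.node (.node (.node (.leaf 0) (.leaf 54)) (.node (.leaf 0) (.leaf 0))) (.node (.node (.leaf 0) (.leaf 0)) (.node (.leaf 9) (.leaf 0))))) (.node (.node (.node (.node (.leaf 176) (.leaf 0)) (.node (.leaf 0) (.leaf 0))) (.node (.node (.leaf 0) (.leaf 0)) (.node (.leaf 0) (.leaf 143)))) (.node (.node (.node (.leaf 0) (.leaf 134)) (.node (.leaf 0) (.leaf 0))) (.node (.node (.leaf 0) (.leaf 0)) (.node (.leaf 185) (.leaf 0)))))) (.node (.node (.node (.node (.node (.leaf 0) (.leaf 19)) (.node (.leaf 0) (.leaf 0))) (.node (.node (.leaf 0) (.leaf 0)) (.node (.leaf 44) (.leaf 0)))) (.node (.node (.node (.leaf 37) (.leaf 0)) (.node (.leaf 0) (.leaf 0))) (.node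 (.node (.leaf 0) (.leaf 0)) (.node (.leaf 0) (.leaf 26))))) (.node (.node (.node (.node (.leaf 0) (.leaf 163)) (.node (.leaf 0) (.leaf 0))) (.node (.node (.leaf 0) (.leaf 0)) (.node (.leaf 156) (.leaf 0)))) (.node (.node (.node (.leaf 149) (.leaf 0)) (.node (.leaf 0) (.leaf 0))) (.node (.node (.leaf 0) (.leaf 0)) (.node (.leaf 0) (.leaf 170))))))) (.node (.node (.node (.node (.node (.node (.leaf 0) (.leaf 0)) (.node (.leaf 0) (.leaf 126))) (.node (.node (.leaf 65) (.leaf 0)) (.node (.leaf 0) (.leaf 0)))) (.node (.node (.node (.leaf 0) (.leaf 0)) (.node (.leaf 72) (.leaf 0))) (.node (.node (.leaf 0) (.leaf 119)) (.node (.leaf 0) (.leaf 0))))) (.node (.node (.node (.node (.leaf 0) (.leaf 0)) (.node (.leaf 0) (.leaf 206))) (.node (.node (.leaf 241) (.leaf 0)) (.node (.leaf 0) (.leaf 0)))) (.node (.node (.node (.leaf 0) (.leaf 0)) (.node (.leaf 248) (.leaf 0))) (.node (.node (.leaf 0) (.leaf 199)) (.node (.leaf 0) (.leaf 0)))))) (.node (.node (.node (.node (.node (.leaf 0) (.leaf 0)) (.node (.leaf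 109) (.leaf 0))) (.node (.node (.leaf 0) (.leaf 82)) (.node (.leaf 0) (.leaf 0)))) (.node (.node (.node (.leaf 0) (.leaf 0)) (.node (.leaf 0) (.leaf 91))) (.node (.node (.leaf 100) (.leaf 0)) (.node (.leaf 0) (.leaf 0))))) (.node (.node (.node (.node (.leaf 0) (.leaf 0)) (.node (.leaf 221) (.leaf 0))) (.node (.node (.leaf 0) (.leaf 226)) (.node (.leaf 0) (.leaf 0)))) (.node (.node (.node (.leaf 0) (.leaf 0)) (.node (.leaf 0) (.leaf 235))) (.node (.node (.leaf 212) (.leaf 0)) (.node (.leaf 0) (.leaf 0)))))))) (.node (.node (.node (.node (.node (.node (.node (.leaf 313) (.leaf 0)) (.node (.leaf 0) (.leaf 0))) (.node (.node (.leaf 0) (.leaf 0)) (.node (.leaf 0) (.leaf 262)))) (.node (.node (.node (.leaf 0) (.leaf 271)) (.node (.leaf 0) (.leaf 0))) (.node (.node (.leaf 0) (.leaf 0)) (.node (.leaf 304) (.leaf 0))))) (.node (.node (.node (.node (.leaf 393) (.leaf 0)) (.node (.leaf 0) (.leaf 0))) (.node (.node (.leaf 0) (.leaf 0)) (.node (.leaf 0) (.leaf 438)))) (.node (.node (.node (.leaf 0) (.leaf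 447)) (.node (.leaf 0) (.leaf 0))) (.node (.node (.leaf 0) (.leaf 0)) (.node (.leaf 384) (.leaf 0)))))) (.node (.node (.node (.node (.node (.leaf 0) (.leaf 298)) (.node (.leaf 0) (.leaf 0))) (.node (.node (.leaf 0) (.leaf 0)) (.node (.leaf 277) (.leaf 0)))) (.node (.node (.node (.leaf 284) (.leaf 0)) (.node (.leaf 0) (.leaf 0))) (.node (.node (.leaf 0) (.leaf 0)) (.node (.leaf 0) (.leaf 291))))) (.node (.node (.node (.node (.leaf 0) (.leaf 410)) (.node (.leaf 0) (.leaf 0))) (.node (.node (.leaf 0) (.leaf 0)) (.node (.leaf 421) (.leaf 0)))) (.node (.node (.node (.leaf 428) (.leaf 0)) (.node (.leaf 0) (.leaf 0))) (.node (.node (.leaf 0) (.leaf 0)) (.node (.leaf 0) (.leaf 403))))))) (.node (.node (.node (.node (.node (.node (.leaf 0) (.leaf 0)) (.node (.leaf 0) (.leaf 327))) (.node (.node (.leaf 376) (.leaf 0)) (.node (.leaf 0) (.leaf 0)))) (.node (.node (.node (.leaf 0) (.leaf 0)) (.node (.leaf 369) (.leaf 0))) (.node (.node (.leaf 0) (.leaf 334)) (.node (.leaf 0) (.leaf 0))))) (.node (.node (.node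 (.node (.leaf 0) (.leaf 0)) (.node (.leaf 0) (.leaf 503))) (.node (.node (.leaf 456) (.leaf 0)) (.node (.leaf 0) (.leaf 0)))) (.node (.node (.node (.leaf 0) (.leaf 0)) (.node (.leaf 449) (.leaf 0))) (.node (.node (.leaf 0) (.leaf 510)) (.node (.leaf 0) (.leaf 0)))))) (.node (.node (.node (.node (.node (.leaf 0) (.leaf 0)) (.node (.leaf 340) (.leaf 0))) (.node (.node (.leaf 0) (.leaf 363)) (.node (.leaf 0) (.leaf 0)))) (.node (.node (.node (.leaf 0) (.leaf 0)) (.node (.leaf 0) (.leaf 354))) (.node (.node (.leaf 349) (.leaf 0)) (.node (.leaf 0) (.leaf 0))))) (.node (.node (.node (.node (.leaf 0) (.leaf 0)) (.node (.leaf 484) (.leaf 0))) (.node (.node (.leaf 0) (.leaf 475)) (.node (.leaf 0) (.leaf 0)))) (.node (.node (.node (.leaf 0) (.leaf 0)) (.node (.leaf 0) (.leaf 466))) (.node (.node (.leaf 493) (.leaf 0)) (.node (.leaf 0) (.leaf 0)))))))))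

/-- part -/
def decT_1 : Tr Nat := (.node (.node (.node (.node (.node (.node (.node (.node (.leaf 0) (.leaf 0)) (.node (.leaf 87) (.leaf 0))) (.node (.node (.leaf 0) (.leaf 104)) (.node (.leaf 0) (.leaf 0)))) (.node (.node (.node (.leaf 0) (.leaf 0)) (.node (.leaf 0) (.leaf 97))) (.node (.node (.leaf 94) (.leaf 0)) (.node (.leaf 0) (.leaf 0))))) (.node (.node (.node (.node (.leaf 0) (.leaf 0)) (.node (.leaf 231) (.leaf 0))) (.node (.node (.leaf 0) (.leaf 216)) (.node (.leaf 0) (.leaf 0)))) (.node (.node (.node (.leaf 0) (.leaf 0)) (.node (.leaf 0) (.leaf 209))) (.node (.node (.leaf 238) (.leaf 0)) (.node (.leaf 0) (.leaf 0)))))) (.node (.node (.node (.node (.node (.leaf 0) (.leaf 0)) (.node (.leaf 0) (.leaf 68))) (.node (.node (.leaf 123) (.leaf 0)) (.node (.leaf 0) (.leaf 0)))) (.node (.node (.node (.leaf 0) (.leaf 0)) (.node (.leaf 114) (.leaf 0))) (.node (.node (.leaf 0) (.leaf 77)) (.node (.leaf 0) (.leaf 0))))) (.node (.node (.node (.node (.leaf 0) (.leaf 0)) (.node (.leaf 0) (.leaf 244)))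 (.node (.node (.leaf 203) (.leaf 0)) (.node (.leaf 0) (.leaf 0)))) (.node (.node (.node (.leaf 0) (.leaf 0)) (.node (.leaf 194) (.leaf 0))) (.node (.node (.leaf 0) (.leaf 253)) (.node (.leaf 0) (.leaf 0))))))) (.node (.node (.node (.node (.node (.node (.leaf 0) (.leaf 41)) (.node (.leaf 0) (.leaf 0))) (.node (.node (.leaf 0) (.leaf 0)) (.node (.leaf 22) (.leaf 0)))) (.node (.node (.node (.leaf 31) (.leaf 0)) (.node (.leaf 0) (.leaf 0))) (.node (.node (.leaf 0) (.leaf 0)) (.node (.leaf 0) (.leaf 32))))) (.node (.node (.node (.node (.leaf 0) (.leaf 153)) (.node (.leaf 0) (.leaf 0))) (.node (.node (.leaf 0) (.leaf 0)) (.node (.leaf 166) (.leaf 0)))) (.node (.node (.node (.leaf 175) (.leaf 0)) (.node (.leaf 0) (.leaf 0))) (.node (.node (.leaf 0) (.leaf 0)) (.node (.leaf 0) (.leaf 144)))))) (.node (.node (.node (.node (.node (.leaf 58) (.leaf 0)) (.node (.leaf 0) (.leaf 0))) (.node (.node (.leaf 0) (.leaf 0)) (.node (.leaf 0) (.leaf 5)))) (.node (.node (.node (.leaf 0) (.leaf 12)) (.node (.leaf 0)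 (.leaf 0))) (.node (.node (.leaf 0) (.leaf 0)) (.node (.leaf 51) (.leaf 0))))) (.node (.node (.node (.node (.leaf 138) (.leaf 0)) (.node (.leaf 0) (.leaf 0))) (.node (.node (.leaf 0) (.leaf 0)) (.node (.leaf 0) (.leaf 181)))) (.node (.node (.node (.leaf 0) (.leaf 188)) (.node (.leaf 0) (.leaf 0))) (.node (.node (.leaf 0) (.leaf 0)) (.node (.leaf 131) (.leaf 0)))))))) (.node (.node (.node (.node (.node (.node (.node (.leaf 0) (.leaf 0)) (.node (.leaf 366) (.leaf 0))) (.node (.node (.leaf 0) (.leaf 337)) (.node (.leaf 0) (.leaf 0)))) (.node (.node (.node (.leaf 0) (.leaf 0)) (.node (.leaf 0) (.leaf 344))) (.node (.node (.leaf 359) (.leaf 0)) (.node (.leaf 0) (.leaf 0))))) (.node (.node (.node (.node (.leaf 0) (.leaf 0)) (.node (.leaf 478) (.leaf 0))) (.node (.node (.leaf 0) (.leaf 481)) (.node (.leaf 0) (.leaf 0)))) (.node (.node (.node (.leaf 0) (.leaf 0)) (.node (.leaf 0) (.leaf 488))) (.node (.node (.leaf 471) (.leaf 0)) (.node (.leaf 0) (.leaf 0)))))) (.node (.node (.node (.node (.node (.leaf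 0) (.leaf 0)) (.node (.leaf 0) (.leaf 381))) (.node (.node (.leaf 322) (.leaf 0)) (.node (.leaf 0) (.leaf 0)))) (.node (.node (.node (.leaf 0) (.leaf 0)) (.node (.leaf 331) (.leaf 0))) (.node (.node (.leaf 0) (.leaf 372)) (.node (.leaf 0) (.leaf 0))))) (.node (.node (.node (.node (.leaf 0) (.leaf 0)) (.node (.leaf 0) (.leaf 461))) (.node (.node (.leaf 498) (.leaf 0)) (.node (.leaf 0) (.leaf 0)))) (.node (.node (.node (.leaf 0) (.leaf 0)) (.node (.leaf 507) (.leaf 0))) (.node (.node (.leaf 0) (.leaf 452)) (.node (.leaf 0) (.leaf 0))))))) (.node (.node (.node (.node (.node (.node (.leaf 0) (.leaf 272)) (.node (.leaf 0) (.leaf 0))) (.node (.node (.leaf 0) (.leaf 0)) (.node (.leaf 303) (.leaf 0)))) (.node (.node (.node (.leaf 294) (.leaf 0)) (.node (.leaf 0) (.leaf 0))) (.node (.node (.leaf 0) (.leaf 0)) (.node (.leaf 0) (.leaf 281))))) (.node (.node (.node (.node (.leaf 0) (.leaf 416)) (.node (.leaf 0) (.leaf 0))) (.node (.node (.leaf 0) (.leaf 0)) (.node (.leaf 415) (.leaf 0)))) (.node (.node (.node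 (.leaf 406) (.leaf 0)) (.node (.leaf 0) (.leaf 0))) (.node (.node (.leaf 0) (.leaf 0)) (.node (.leaf 0) (.leaf 425)))))) (.node (.node (.node (.node (.node (.leaf 259) (.leaf 0)) (.node (.leaf 0) (.leaf 0))) (.node (.node (.leaf 0) (.leaf 0)) (.node (.leaf 0) (.leaf 316)))) (.node (.node (.node (.leaf 0) (.leaf 309)) (.node (.leaf 0) (.leaf 0))) (.node (.node (.leaf 0) (.leaf 0)) (.node (.leaf 266) (.leaf 0))))) (.node (.node (.node (.node (.leaf 435) (.leaf 0)) (.node (.leaf 0) (.leaf 0))) (.node (.node (.leaf 0) (.leaf 0)) (.node (.leaf 0) (.leaf 396)))) (.node (.node (.node (.leaf 0) (.leaf 389)) (.node (.leaf 0) (.leaf 0))) (.node (.node (.leaf 0) (.leaf 0)) (.node (.leaf 442) (.leaf 0)))))))))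

/-- part -/
def decT_2 : Tr Nat := (.node (.node (.node (.node (.node (.node (.node (.node (.leaf 111) (.leaf 0)) (.node (.leaf 0) (.leaf 0))) (.node (.node (.leaf 0) (.leaf 0)) (.node (.leaf 0) (.leaf 80)))) (.node (.node (.node (.leaf 0) (.leaf 89)) (.node (.leaf 0) (.leaf 0))) (.node (.node (.leaf 0) (.leaf 0)) (.node (.leaf 102) (.leaf 0))))) (.node (.node (.node (.node (.leaf 223) (.leaf 0)) (.node (.leaf 0) (.leaf 0))) (.node (.node (.leaf 0) (.leaf 0)) (.node (.leaf 0) (.leaf 224)))) (.node (.node (.node (.leaf 0) (.leaf 233)) (.node (.leaf 0) (.leaf 0))) (.node (.node (.leaf 0) (.leaf 0)) (.node (.leaf 214) (.leaf 0)))))) (.node (.node (.node (.node (.node (.leaf 0) (.leaf 124)) (.node (.leaf 0) (.leaf 0))) (.node (.node (.leaf 0) (.leaf 0)) (.node (.leaf 67) (.leaf 0)))) (.node (.node (.node (.leaf 74) (.leaf 0)) (.node (.leaf 0) (.leaf 0))) (.node (.node (.leaf 0) (.leaf 0)) (.node (.leaf 0) (.leaf 117))))) (.node (.node (.node (.node (.leaf 0) (.leaf 204)) (.node (.leaf 0) (.leaf 0)))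 (.node (.node (.leaf 0) (.leaf 0)) (.node (.leaf 243) (.leaf 0)))) (.node (.node (.node (.leaf 250) (.leaf 0)) (.node (.leaf 0) (.leaf 0))) (.node (.node (.leaf 0) (.leaf 0)) (.node (.leaf 0) (.leaf 197))))))) (.node (.node (.node (.node (.node (.node (.leaf 0) (.leaf 0)) (.node (.leaf 0) (.leaf 17))) (.node (.node (.leaf 46) (.leaf 0)) (.node (.leaf 0) (.leaf 0)))) (.node (.node (.node (.leaf 0) (.leaf 0)) (.node (.leaf 39) (.leaf 0))) (.node (.node (.leaf 0) (.leaf 24)) (.node (.leaf 0) (.leaf 0))))) (.node (.node (.node (.node (.leaf 0) (.leaf 0)) (.node (.leaf 0) (.leaf 161))) (.node (.node (.leaf 158) (.leaf 0)) (.node (.leaf 0) (.leaf 0)))) (.node (.node (.node (.leaf 0) (.leaf 0)) (.node (.leaf 151) (.leaf 0))) (.node (.node (.leaf 0) (.leaf 168)) (.node (.leaf 0) (.leaf 0)))))) (.node (.node (.node (.node (.node (.leaf 0) (.leaf 0)) (.node (.leaf 2) (.leaf 0))) (.node (.node (.leaf 0) (.leaf 61)) (.node (.leaf 0) (.leaf 0)))) (.node (.node (.node (.leaf 0) (.leaf 0)) (.node (.leaf 0) (.leaf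 52))) (.node (.node (.leaf 11) (.leaf 0)) (.node (.leaf 0) (.leaf 0))))) (.node (.node (.node (.node (.leaf 0) (.leaf 0)) (.node (.leaf 178) (.leaf 0))) (.node (.node (.leaf 0) (.leaf 141)) (.node (.leaf 0) (.leaf 0)))) (.node (.node (.node (.leaf 0) (.leaf 0)) (.node (.leaf 0) (.leaf 132))) (.node (.node (.leaf 187) (.leaf 0)) (.node (.leaf 0) (.leaf 0)))))))) (.node (.node (.node (.node (.node (.node (.node (.leaf 342) (.leaf 0)) (.node (.leaf 0) (.leaf 0))) (.node (.node (.leaf 0) (.leaf 0)) (.node (.leaf 0) (.leaf 361)))) (.node (.node (.node (.leaf 0) (.leaf 352)) (.node (.leaf 0) (.leaf 0))) (.node (.node (.leaf 0) (.leaf 0)) (.node (.leaf 351) (.leaf 0))))) (.node (.node (.node (.node (.leaf 486) (.leaf 0)) (.node (.leaf 0) (.leaf 0))) (.node (.node (.leaf 0) (.leaf 0)) (.node (.leaf 0) (.leaf 473)))) (.node (.node (.node (.leaf 0) (.leaf 464)) (.node (.leaf 0) (.leaf 0))) (.node (.node (.leaf 0) (.leaf 0)) (.node (.leaf 495) (.leaf 0)))))) (.node (.node (.node (.node (.node (.leaf 0) (.leaf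 325)) (.node (.leaf 0) (.leaf 0))) (.node (.node (.leaf 0) (.leaf 0)) (.node (.leaf 378) (.leaf 0)))) (.node (.node (.node (.leaf 371) (.leaf 0)) (.node (.leaf 0) (.leaf 0))) (.node (.node (.leaf 0) (.leaf 0)) (.node (.leaf 0) (.leaf 332))))) (.node (.node (.node (.node (.leaf 0) (.leaf 501)) (.node (.leaf 0) (.leaf 0))) (.node (.node (.leaf 0) (.leaf 0)) (.node (.leaf 458) (.leaf 0)))) (.node (.node (.node (.leaf 451) (.leaf 0)) (.node (.leaf 0) (.leaf 0))) (.node (.node (.leaf 0) (.leaf 0)) (.node (.leaf 0) (.leaf 508))))))) (.node (.node (.node (.node (.node (.node (.leaf 0) (.leaf 0)) (.node (.leaf 0) (.leaf 296))) (.node (.node (.leaf 279) (.leaf 0)) (.node (.leaf 0) (.leaf 0)))) (.node (.node (.node (.leaf 0) (.leaf 0)) (.node (.leaf 286) (.leaf 0))) (.node (.node (.leaf 0) (.leaf 289)) (.node (.leaf 0) (.leaf 0))))) (.node (.node (.node (.node (.leaf 0) (.leaf 0)) (.node (.leaf 0) (.leaf 408))) (.node (.node (.leaf 423) (.leaf 0)) (.node (.leaf 0) (.leaf 0)))) (.node (.node (.node (.leaf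 0) (.leaf 0)) (.node (.leaf 430) (.leaf 0))) (.node (.node (.leaf 0) (.leaf 401)) (.node (.leaf 0) (.leaf 0)))))) (.node (.node (.node (.node (.node (.leaf 0) (.leaf 0)) (.node (.leaf 315) (.leaf 0))) (.node (.node (.leaf 0) (.leaf 260)) (.node (.leaf 0) (.leaf 0)))) (.node (.node (.node (.leaf 0) (.leaf 0)) (.node (.leaf 0) (.leaf 269))) (.node (.node (.leaf 306) (.leaf 0)) (.node (.leaf 0) (.leaf 0))))) (.node (.node (.node (.node (.leaf 0) (.leaf 0)) (.node (.leaf 395) (.leaf 0))) (.node (.node (.leaf 0) (.leaf 436)) (.node (.leaf 0) (.leaf 0)))) (.node (.node (.node (.leaf 0) (.leaf 0)) (.node (.leaf 0) (.leaf 445))) (.node (.node (.leaf 386) (.leaf 0)) (.node (.leaf 0) (.leaf 0)))))))))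

/-- part -/
def decT_3 : Tr Nat := (.node (.node (.node (.node (.node (.node (.node (.node (.leaf 0) (.leaf 0)) (.node (.leaf 56) (.leaf 0))) (.node (.node (.leaf 0) (.leaf 7)) (.node (.leaf 0) (.leaf 0)))) (.node (.node (.node (.leaf 0) (.leaf 0)) (.node (.leaf 0) (.leaf 14))) (.node (.node (.leaf 49) (.leaf 0)) (.node (.leaf 0) (.leaf 0))))) (.node (.node (.node (.node (.leaf 0) (.leaf 0)) (.node (.leaf 136) (.leaf 0))) (.node (.node (.leaf 0) (.leaf 183)) (.node (.leaf 0) (.leaf 0)))) (.node (.node (.node (.leaf 0) (.leaf 0)) (.node (.leaf 0) (.leaf 190))) (.node (.node (.leaf 129) (.leaf 0)) (.node (.leaf 0) (.leaf 0)))))) (.node (.node (.node (.node (.node (.leaf 0) (.leaf 0)) (.node (.leaf 0) (.leaf 43))) (.node (.node (.leaf 20) (.leaf 0)) (.node (.leaf 0) (.leaf 0)))) (.node (.node (.node (.leaf 0) (.leaf 0)) (.node (.leaf 29) (.leaf 0))) (.node (.node (.leaf 0) (.leaf 34)) (.node (.leaf 0) (.leaf 0))))) (.node (.node (.node (.node (.leaf 0) (.leaf 0)) (.node (.leaf 0) (.leaf 155))) (.node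 (.node (.leaf 164) (.leaf 0)) (.node (.leaf 0) (.leaf 0)))) (.node (.node (.node (.leaf 0) (.leaf 0)) (.node (.leaf 173) (.leaf 0))) (.node (.node (.leaf 0) (.leaf 146)) (.node (.leaf 0) (.leaf 0))))))) (.node (.node (.node (.node (.node (.node (.leaf 0) (.leaf 70)) (.node (.leaf 0) (.leaf 0))) (.node (.node (.leaf 0) (.leaf 0)) (.node (.leaf 121) (.leaf 0)))) (.node (.node (.node (.leaf 112) (.leaf 0)) (.node (.leaf 0) (.leaf 0))) (.node (.node (.leaf 0) (.leaf 0)) (.node (.leaf 0) (.leaf 79))))) (.node (.node (.node (.node (.leaf 0) (.leaf 246)) (.node (.leaf 0) (.leaf 0))) (.node (.node (.leaf 0) (.leaf 0)) (.node (.leaf 201) (.leaf 0)))) (.node (.node (.node (.leaf 192) (.leaf 0)) (.node (.leaf 0) (.leaf 0))) (.node (.node (.leaf 0) (.leaf 0)) (.node (.leaf 0) (.leaf 255)))))) (.node (.node (.node (.node (.node (.leaf 85) (.leaf 0)) (.node (.leaf 0) (.leaf 0))) (.node (.node (.leaf 0) (.leaf 0)) (.node (.leaf 0) (.leaf 106)))) (.node (.node (.node (.leaf 0) (.leaf 99)) (.node (.leaf 0) (.leaf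 0))) (.node (.node (.leaf 0) (.leaf 0)) (.node (.leaf 92) (.leaf 0))))) (.node (.node (.node (.node (.leaf 229) (.leaf 0)) (.node (.leaf 0) (.leaf 0))) (.node (.node (.leaf 0) (.leaf 0)) (.node (.leaf 0) (.leaf 218)))) (.node (.node (.node (.leaf 0) (.leaf 211)) (.node (.leaf 0) (.leaf 0))) (.node (.node (.leaf 0) (.leaf 0)) (.node (.leaf 236) (.leaf 0)))))))) (.node (.node (.node (.node (.node (.node (.node (.leaf 0) (.leaf 0)) (.node (.leaf 257) (.leaf 0))) (.node (.node (.leaf 0) (.leaf 318)) (.node (.leaf 0) (.leaf 0)))) (.node (.node (.node (.leaf 0) (.leaf 0)) (.node (.leaf 0) (.leaf 311))) (.node (.node (.leaf 264) (.leaf 0)) (.node (.leaf 0) (.leaf 0))))) (.node (.node (.node (.node (.leaf 0) (.leaf 0)) (.node (.leaf 433) (.leaf 0))) (.node (.node (.leaf 0) (.leaf 398)) (.node (.leaf 0) (.leaf 0)))) (.node (.node (.node (.leaf 0) (.leaf 0)) (.node (.leaf 0) (.leaf 391))) (.node (.node (.leaf 440) (.leaf 0)) (.node (.leaf 0) (.leaf 0)))))) (.node (.node (.node (.node (.node (.leaf 0) (.leaf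 0)) (.node (.leaf 0) (.leaf 274))) (.node (.node (.leaf 301) (.leaf 0)) (.node (.leaf 0) (.leaf 0)))) (.node (.node (.node (.leaf 0) (.leaf 0)) (.node (.leaf 292) (.leaf 0))) (.node (.node (.leaf 0) (.leaf 283)) (.node (.leaf 0) (.leaf 0))))) (.node (.node (.node (.node (.leaf 0) (.leaf 0)) (.node (.leaf 0) (.leaf 418))) (.node (.node (.leaf 413) (.leaf 0)) (.node (.leaf 0) (.leaf 0)))) (.node (.node (.node (.leaf 0) (.leaf 0)) (.node (.leaf 404) (.leaf 0))) (.node (.node (.leaf 0) (.leaf 427)) (.node (.leaf 0) (.leaf 0))))))) (.node (.node (.node (.node (.node (.node (.leaf 0) (.leaf 383)) (.node (.leaf 0) (.leaf 0))) (.node (.node (.leaf 0) (.leaf 0)) (.node (.leaf 320) (.leaf 0)))) (.node (.node (.node (.leaf 329) (.leaf 0)) (.node (.leaf 0) (.leaf 0))) (.node (.node (.leaf 0) (.leaf 0)) (.node (.leaf 0) (.leaf 374))))) (.node (.node (.node (.node (.leaf 0) (.leaf 463)) (.node (.leaf 0) (.leaf 0))) (.node (.node (.leaf 0) (.leaf 0)) (.node (.leaf 496) (.leaf 0)))) (.node (.node (.node (.leaf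 505) (.leaf 0)) (.node (.leaf 0) (.leaf 0))) (.node (.node (.leaf 0) (.leaf 0)) (.node (.leaf 0) (.leaf 454)))))) (.node (.node (.node (.node (.node (.leaf 364) (.leaf 0)) (.node (.leaf 0) (.leaf 0))) (.node (.node (.leaf 0) (.leaf 0)) (.node (.leaf 0) (.leaf 339)))) (.node (.node (.node (.leaf 0) (.leaf 346)) (.node (.leaf 0) (.leaf 0))) (.node (.node (.leaf 0) (.leaf 0)) (.node (.leaf 357) (.leaf 0))))) (.node (.node (.node (.node (.leaf 476) (.leaf 0)) (.node (.leaf 0) (.leaf 0))) (.node (.node (.leaf 0) (.leaf 0)) (.node (.leaf 0) (.leaf 483)))) (.node (.node (.node (.leaf 0) (.leaf 490)) (.node (.leaf 0) (.leaf 0))) (.node (.node (.leaf 0) (.leaf 0)) (.node (.leaf 469) (.leaf 0)))))))))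

/-- part -/
def decT_4 : Tr Nat := (.node (.node (.node (.node (.node (.node (.node (.node (.leaf 0) (.leaf 0)) (.node (.leaf 0) (.leaf 152))) (.node (.node (.leaf 167) (.leaf 0)) (.node (.leaf 0) (.leaf 0)))) (.node (.node (.node (.leaf 0) (.leaf 0)) (.node (.leaf 174) (.leaf 0))) (.node (.node (.leaf 0) (.leaf 145)) (.node (.leaf 0) (.leaf 0))))) (.node (.node (.node (.node (.leaf 0) (.leaf 0)) (.node (.leaf 0) (.leaf 40))) (.node (.node (.leaf 23) (.leaf 0)) (.node (.leaf 0) (.leaf 0)))) (.node (.node (.node (.leaf 0) (.leaf 0)) (.node (.leaf 30) (.leaf 0))) (.node (.node (.leaf 0) (.leaf 33)) (.node (.leaf 0) (.leaf 0)))))) (.node (.node (.node (.node (.node (.leaf 0) (.leaf 0)) (.node (.leaf 139) (.leaf 0))) (.node (.node (.leaf 0) (.leaf 180)) (.node (.leaf 0) (.leaf 0)))) (.node (.node (.node (.leaf 0) (.leaf 0)) (.node (.leaf 0) (.leaf 189))) (.node (.node (.leaf 130) (.leaf 0)) (.node (.leaf 0) (.leaf 0))))) (.node (.node (.node (.node (.leaf 0) (.leaf 0)) (.node (.leaf 59) (.leaf 0)))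 (.node (.node (.leaf 0) (.leaf 4)) (.node (.leaf 0) (.leaf 0)))) (.node (.node (.node (.leaf 0) (.leaf 0)) (.node (.leaf 0) (.leaf 13))) (.node (.node (.leaf 50) (.leaf 0)) (.node (.leaf 0) (.leaf 0))))))) (.node (.node (.node (.node (.node (.node (.leaf 230) (.leaf 0)) (.node (.leaf 0) (.leaf 0))) (.node (.node (.leaf 0) (.leaf 0)) (.node (.leaf 0) (.leaf 217)))) (.node (.node (.node (.leaf 0) (.leaf 208)) (.node (.leaf 0) (.leaf 0))) (.node (.node (.leaf 0) (.leaf 0)) (.node (.leaf 239) (.leaf 0))))) (.node (.node (.node (.node (.leaf 86) (.leaf 0)) (.node (.leaf 0) (.leaf 0))) (.node (.node (.leaf 0) (.leaf 0)) (.node (.leaf 0) (.leaf 105)))) (.node (.node (.node (.leaf 0) (.leaf 96)) (.node (.leaf 0) (.leaf 0))) (.node (.node (.leaf 0) (.leaf 0)) (.node (.leaf 95) (.leaf 0)))))) (.node (.node (.node (.node (.node (.leaf 0) (.leaf 245)) (.node (.leaf 0) (.leaf 0))) (.node (.node (.leaf 0) (.leaf 0)) (.node (.leaf 202) (.leaf 0)))) (.node (.node (.node (.leaf 195) (.leaf 0)) (.node (.leaf 0)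 (.leaf 0))) (.node (.node (.leaf 0) (.leaf 0)) (.node (.leaf 0) (.leaf 252))))) (.node (.node (.node (.node (.leaf 0) (.leaf 69)) (.node (.leaf 0) (.leaf 0))) (.node (.node (.leaf 0) (.leaf 0)) (.node (.leaf 122) (.leaf 0)))) (.node (.node (.node (.leaf 115) (.leaf 0)) (.node (.leaf 0) (.leaf 0))) (.node (.node (.leaf 0) (.leaf 0)) (.node (.leaf 0) (.leaf 76)))))))) (.node (.node (.node (.node (.node (.node (.node (.leaf 0) (.leaf 0)) (.node (.leaf 0) (.leaf 417))) (.node (.node (.leaf 414) (.leaf 0)) (.node (.leaf 0) (.leaf 0)))) (.node (.node (.node (.leaf 0) (.leaf 0)) (.node (.leaf 407) (.leaf 0))) (.node (.node (.leaf 0) (.leaf 424)) (.node (.leaf 0) (.leaf 0))))) (.node (.node (.node (.node (.leaf 0) (.leaf 0)) (.node (.leaf 0) (.leaf 273))) (.node (.node (.leaf 302) (.leaf 0)) (.node (.leaf 0) (.leaf 0)))) (.node (.node (.node (.leaf 0) (.leaf 0)) (.node (.leaf 295) (.leaf 0))) (.node (.node (.leaf 0) (.leaf 280)) (.node (.leaf 0) (.leaf 0)))))) (.node (.node (.node (.node (.node (.leaf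 0) (.leaf 0)) (.node (.leaf 434) (.leaf 0))) (.node (.node (.leaf 0) (.leaf 397)) (.node (.leaf 0) (.leaf 0)))) (.node (.node (.node (.leaf 0) (.leaf 0)) (.node (.leaf 0) (.leaf 388))) (.node (.node (.leaf 443) (.leaf 0)) (.node (.leaf 0) (.leaf 0))))) (.node (.node (.node (.node (.leaf 0) (.leaf 0)) (.node (.leaf 258) (.leaf 0))) (.node (.node (.leaf 0) (.leaf 317)) (.node (.leaf 0) (.leaf 0)))) (.node (.node (.node (.leaf 0) (.leaf 0)) (.node (.leaf 0) (.leaf 308))) (.node (.node (.leaf 267) (.leaf 0)) (.node (.leaf 0) (.leaf 0))))))) (.node (.node (.node (.node (.node (.node (.leaf 479) (.leaf 0)) (.node (.leaf 0) (.leaf 0))) (.node (.node (.leaf 0) (.leaf 0)) (.node (.leaf 0) (.leaf 480)))) (.node (.node (.node (.leaf 0) (.leaf 489)) (.node (.leaf 0) (.leaf 0))) (.node (.node (.leaf 0) (.leaf 0)) (.node (.leaf 470) (.leaf 0))))) (.node (.node (.node (.node (.leaf 367) (.leaf 0)) (.node (.leaf 0) (.leaf 0))) (.node (.node (.leaf 0) (.leaf 0)) (.node (.leaf 0) (.leaf 336)))) (.node (.node (.node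 (.leaf 0) (.leaf 345)) (.node (.leaf 0) (.leaf 0))) (.node (.node (.leaf 0) (.leaf 0)) (.node (.leaf 358) (.leaf 0)))))) (.node (.node (.node (.node (.node (.leaf 0) (.leaf 460)) (.node (.leaf 0) (.leaf 0))) (.node (.node (.leaf 0) (.leaf 0)) (.node (.leaf 499) (.leaf 0)))) (.node (.node (.node (.leaf 506) (.leaf 0)) (.node (.leaf 0) (.leaf 0))) (.node (.node (.leaf 0) (.leaf 0)) (.node (.leaf 0) (.leaf 453))))) (.node (.node (.node (.node (.leaf 0) (.leaf 380)) (.node (.leaf 0) (.leaf 0))) (.node (.node (.leaf 0) (.leaf 0)) (.node (.leaf 323) (.leaf 0)))) (.node (.node (.node (.leaf 330) (.leaf 0)) (.node (.leaf 0) (.leaf 0))) (.node (.node (.leaf 0) (.leaf 0)) (.node (.leaf 0) (.leaf 373)))))))))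

/-- part -/
def decT_5 : Tr Nat := (.node (.node (.node (.node (.node (.node (.node (.node (.leaf 0) (.leaf 207)) (.node (.leaf 0) (.leaf 0))) (.node (.node (.leaf 0) (.leaf 0)) (.node (.leaf 240) (.leaf 0)))) (.node (.node (.node (.leaf 249) (.leaf 0)) (.node (.leaf 0) (.leaf 0))) (.node (.node (.leaf 0) (.leaf 0)) (.node (.leaf 0) (.leaf 198))))) (.node (.node (.node (.node (.leaf 0) (.leaf 127)) (.node (.leaf 0) (.leaf 0))) (.node (.node (.leaf 0) (.leaf 0)) (.node (.leaf 64) (.leaf 0)))) (.node (.node (.node (.leaf 73) (.leaf 0)) (.node (.leaf 0) (.leaf 0))) (.node (.node (.leaf 0) (.leaf 0)) (.node (.leaf 0) (.leaf 118)))))) (.node (.node (.node (.node (.node (.leaf 220) (.leaf 0)) (.node (.leaf 0) (.leaf 0))) (.node (.node (.leaf 0) (.leaf 0)) (.node (.leaf 0) (.leaf 227)))) (.node (.node (.node (.leaf 0) (.leaf 234)) (.node (.leaf 0) (.leaf 0))) (.node (.node (.leaf 0) (.leaf 0)) (.node (.leaf 213) (.leaf 0))))) (.node (.node (.node (.node (.leaf 108) (.leaf 0)) (.node (.leaf 0) (.leaf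 0))) (.node (.node (.leaf 0) (.leaf 0)) (.node (.leaf 0) (.leaf 83)))) (.node (.node (.node (.leaf 0) (.leaf 90)) (.node (.leaf 0) (.leaf 0))) (.node (.node (.leaf 0) (.leaf 0)) (.node (.leaf 101) (.leaf 0))))))) (.node (.node (.node (.node (.node (.node (.leaf 0) (.leaf 0)) (.node (.leaf 177) (.leaf 0))) (.node (.node (.leaf 0) (.leaf 142)) (.node (.leaf 0) (.leaf 0)))) (.node (.node (.node (.leaf 0) (.leaf 0)) (.node (.leaf 0) (.leaf 135))) (.node (.node (.leaf 184) (.leaf 0)) (.node (.leaf 0) (.leaf 0))))) (.node (.node (.node (.node (.leaf 0) (.leaf 0)) (.node (.leaf 1) (.leaf 0))) (.node (.node (.leaf 0) (.leaf 62)) (.node (.leaf 0) (.leaf 0)))) (.node (.node (.node (.leaf 0) (.leaf 0)) (.node (.leaf 0) (.leaf 55))) (.node (.node (.leaf 8) (.leaf 0)) (.node (.leaf 0) (.leaf 0)))))) (.node (.node (.node (.node (.node (.leaf 0) (.leaf 0)) (.node (.leaf 0) (.leaf 162))) (.node (.node (.leaf 157) (.leaf 0)) (.node (.leaf 0) (.leaf 0)))) (.node (.node (.node (.leaf 0) (.leaf 0)) (.node (.leaf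 148) (.leaf 0))) (.node (.node (.leaf 0) (.leaf 171)) (.node (.leaf 0) (.leaf 0))))) (.node (.node (.node (.node (.leaf 0) (.leaf 0)) (.node (.leaf 0) (.leaf 18))) (.node (.node (.leaf 45) (.leaf 0)) (.node (.leaf 0) (.leaf 0)))) (.node (.node (.node (.leaf 0) (.leaf 0)) (.node (.leaf 36) (.leaf 0))) (.node (.node (.leaf 0) (.leaf 27)) (.node (.leaf 0) (.leaf 0)))))))) (.node (.node (.node (.node (.node (.node (.node (.leaf 0) (.leaf 502)) (.node (.leaf 0) (.leaf 0))) (.node (.node (.leaf 0) (.leaf 0)) (.node (.leaf 457) (.leaf 0)))) (.node (.node (.node (.leaf 448) (.leaf 0)) (.node (.leaf 0) (.leaf 0))) (.node (.node (.leaf 0) (.leaf 0)) (.node (.leaf 0) (.leaf 511))))) (.node (.node (.node (.node (.leaf 0) (.leaf 326)) (.node (.leaf 0) (.leaf 0))) (.node (.node (.leaf 0) (.leaf 0)) (.node (.leaf 377) (.leaf 0)))) (.node (.node (.node (.leaf 368) (.leaf 0)) (.node (.leaf 0) (.leaf 0))) (.node (.node (.leaf 0) (.leaf 0)) (.node (.leaf 0) (.leaf 335)))))) (.node (.node (.node (.node (.node (.leaf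 485) (.leaf 0)) (.node (.leaf 0) (.leaf 0))) (.node (.node (.leaf 0) (.leaf 0)) (.node (.leaf 0) (.leaf 474)))) (.node (.node (.node (.leaf 0) (.leaf 467)) (.node (.leaf 0) (.leaf 0))) (.node (.node (.leaf 0) (.leaf 0)) (.node (.leaf 492) (.leaf 0))))) (.node (.node (.node (.node (.leaf 341) (.leaf 0)) (.node (.leaf 0) (.leaf 0))) (.node (.node (.leaf 0) (.leaf 0)) (.node (.leaf 0) (.leaf 362)))) (.node (.node (.node (.leaf 0) (.leaf 355)) (.node (.leaf 0) (.leaf 0))) (.node (.node (.leaf 0) (.leaf 0)) (.node (.leaf 348) (.leaf 0))))))) (.node (.node (.node (.node (.node (.node (.leaf 0) (.leaf 0)) (.node (.leaf 392) (.leaf 0))) (.node (.node (.leaf 0) (.leaf 439)) (.node (.leaf 0) (.leaf 0)))) (.node (.node (.node (.leaf 0) (.leaf 0)) (.node (.leaf 0) (.leaf 446))) (.node (.node (.leaf 385) (.leaf 0)) (.node (.leaf 0) (.leaf 0))))) (.node (.node (.node (.node (.leaf 0) (.leaf 0)) (.node (.leaf 312) (.leaf 0))) (.node (.node (.leaf 0) (.leaf 263)) (.node (.leaf 0) (.leaf 0)))) (.node (.node (.node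 (.leaf 0) (.leaf 0)) (.node (.leaf 0) (.leaf 270))) (.node (.node (.leaf 305) (.leaf 0)) (.node (.leaf 0) (.leaf 0)))))) (.node (.node (.node (.node (.node (.leaf 0) (.leaf 0)) (.node (.leaf 0) (.leaf 411))) (.node (.node (.leaf 420) (.leaf 0)) (.node (.leaf 0) (.leaf 0)))) (.node (.node (.node (.leaf 0) (.leaf 0)) (.node (.leaf 429) (.leaf 0))) (.node (.node (.leaf 0) (.leaf 402)) (.node (.leaf 0) (.leaf 0))))) (.node (.node (.node (.node (.leaf 0) (.leaf 0)) (.node (.leaf 0) (.leaf 299))) (.node (.node (.leaf 276) (.leaf 0)) (.node (.leaf 0) (.leaf 0)))) (.node (.node (.node (.leaf 0) (.leaf 0)) (.node (.leaf 285) (.leaf 0))) (.node (.node (.leaf 0) (.leaf 290)) (.node (.leaf 0) (.leaf 0)))))))))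

/-- part -/
def decT_6 : Tr Nat := (.node (.node (.node (.node (.node (.node (.node (.node (.leaf 0) (.leaf 0)) (.node (.leaf 0) (.leaf 247))) (.node (.node (.leaf 200) (.leaf 0)) (.node (.leaf 0) (.leaf 0)))) (.node (.node (.node (.leaf 0) (.leaf 0)) (.node (.leaf 193) (.leaf 0))) (.node (.node (.leaf 0) (.leaf 254)) (.node (.leaf 0) (.leaf 0))))) (.node (.node (.node (.node (.leaf 0) (.leaf 0)) (.node (.leaf 0) (.leaf 71))) (.node (.node (.leaf 120) (.leaf 0)) (.node (.leaf 0) (.leaf 0)))) (.node (.node (.node (.leaf 0) (.leaf 0)) (.node (.leaf 113) (.leaf 0))) (.node (.node (.leaf 0) (.leaf 78)) (.node (.leaf 0) (.leaf 0)))))) (.node (.node (.node (.node (.node (.leaf 0) (.leaf 0)) (.node (.leaf 228) (.leaf 0))) (.node (.node (.leaf 0) (.leaf 219)) (.node (.leaf 0) (.leaf 0)))) (.node (.node (.node (.leaf 0) (.leaf 0)) (.node (.leaf 0) (.leaf 210))) (.node (.node (.leaf 237) (.leaf 0)) (.node (.leaf 0) (.leaf 0))))) (.node (.node (.node (.node (.leaf 0) (.leaf 0)) (.node (.leaf 84) (.leaf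 0))) (.node (.node (.leaf 0) (.leaf 107)) (.node (.leaf 0) (.leaf 0)))) (.node (.node (.node (.leaf 0) (.leaf 0)) (.node (.leaf 0) (.leaf 98))) (.node (.node (.leaf 93) (.leaf 0)) (.node (.leaf 0) (.leaf 0))))))) (.node (.node (.node (.node (.node (.node (.leaf 137) (.leaf 0)) (.node (.leaf 0) (.leaf 0))) (.node (.node (.leaf 0) (.leaf 0)) (.node (.leaf 0) (.leaf 182)))) (.node (.node (.node (.leaf 0) (.leaf 191)) (.node (.leaf 0) (.leaf 0))) (.node (.node (.leaf 0) (.leaf 0)) (.node (.leaf 128) (.leaf 0))))) (.node (.node (.node (.node (.leaf 57) (.leaf 0)) (.node (.leaf 0) (.leaf 0))) (.node (.node (.leaf 0) (.leaf 0)) (.node (.leaf 0) (.leaf 6)))) (.node (.node (.node (.leaf 0) (.leaf 15)) (.node (.leaf 0) (.leaf 0))) (.node (.node (.leaf 0) (.leaf 0)) (.node (.leaf 48) (.leaf 0)))))) (.node (.node (.node (.node (.node (.leaf 0) (.leaf 154)) (.node (.leaf 0) (.leaf 0))) (.node (.node (.leaf 0) (.leaf 0)) (.node (.leaf 165) (.leaf 0)))) (.node (.node (.node (.leaf 172) (.leaf 0)) (.node (.leaf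 0) (.leaf 0))) (.node (.node (.leaf 0) (.leaf 0)) (.node (.leaf 0) (.leaf 147))))) (.node (.node (.node (.node (.leaf 0) (.leaf 42)) (.node (.leaf 0) (.leaf 0))) (.node (.node (.leaf 0) (.leaf 0)) (.node (.leaf 21) (.leaf 0)))) (.node (.node (.node (.leaf 28) (.leaf 0)) (.node (.leaf 0) (.leaf 0))) (.node (.node (.leaf 0) (.leaf 0)) (.node (.leaf 0) (.leaf 35)))))))) (.node (.node (.node (.node (.node (.node (.node (.leaf 0) (.leaf 0)) (.node (.leaf 0) (.leaf 462))) (.node (.node (.leaf 497) (.leaf 0)) (.node (.leaf 0) (.leaf 0)))) (.node (.node (.node (.leaf 0) (.leaf 0)) (.node (.leaf 504) (.leaf 0))) (.node (.node (.leaf 0) (.leaf 455)) (.node (.leaf 0) (.leaf 0))))) (.node (.node (.node (.node (.leaf 0) (.leaf 0)) (.node (.leaf 0) (.leaf 382))) (.node (.node (.leaf 321) (.leaf 0)) (.node (.leaf 0) (.leaf 0)))) (.node (.node (.node (.leaf 0) (.leaf 0)) (.node (.leaf 328) (.leaf 0))) (.node (.node (.leaf 0) (.leaf 375)) (.node (.leaf 0) (.leaf 0)))))) (.node (.node (.node (.node (.node (.leaf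 0) (.leaf 0)) (.node (.leaf 477) (.leaf 0))) (.node (.node (.leaf 0) (.leaf 482)) (.node (.leaf 0) (.leaf 0)))) (.node (.node (.node (.leaf 0) (.leaf 0)) (.node (.leaf 0) (.leaf 491))) (.node (.node (.leaf 468) (.leaf 0)) (.node (.leaf 0) (.leaf 0))))) (.node (.node (.node (.node (.leaf 0) (.leaf 0)) (.node (.leaf 365) (.leaf 0))) (.node (.node (.leaf 0) (.leaf 338)) (.node (.leaf 0) (.leaf 0)))) (.node (.node (.node (.leaf 0) (.leaf 0)) (.node (.leaf 0) (.leaf 347))) (.node (.node (.leaf 356) (.leaf 0)) (.node (.leaf 0) (.leaf 0))))))) (.node (.node (.node (.node (.node (.node (.leaf 432) (.leaf 0)) (.node (.leaf 0) (.leaf 0))) (.node (.node (.leaf 0) (.leaf 0)) (.node (.leaf 0) (.leaf 399)))) (.node (.node (.node (.leaf 0) (.leaf 390)) (.node (.leaf 0) (.leaf 0))) (.node (.node (.leaf 0) (.leaf 0)) (.node (.leaf 441) (.leaf 0))))) (.node (.node (.node (.node (.leaf 256) (.leaf 0)) (.node (.leaf 0) (.leaf 0))) (.node (.node (.leaf 0) (.leaf 0)) (.node (.leaf 0) (.leaf 319)))) (.node (.node (.node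 (.leaf 0) (.leaf 310)) (.node (.leaf 0) (.leaf 0))) (.node (.node (.leaf 0) (.leaf 0)) (.node (.leaf 265) (.leaf 0)))))) (.node (.node (.node (.node (.node (.leaf 0) (.leaf 419)) (.node (.leaf 0) (.leaf 0))) (.node (.node (.leaf 0) (.leaf 0)) (.node (.leaf 412) (.leaf 0)))) (.node (.node (.node (.leaf 405) (.leaf 0)) (.node (.leaf 0) (.leaf 0))) (.node (.node (.leaf 0) (.leaf 0)) (.node (.leaf 0) (.leaf 426))))) (.node (.node (.node (.node (.leaf 0) (.leaf 275)) (.node (.leaf 0) (.leaf 0))) (.node (.node (.leaf 0) (.leaf 0)) (.node (.leaf 300) (.leaf 0)))) (.node (.node (.node (.leaf 293) (.leaf 0)) (.node (.leaf 0) (.leaf 0))) (.node (.node (.leaf 0) (.leaf 0)) (.node (.leaf 0) (.leaf 282)))))))))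

/-- part -/
def decT_7 : Tr Nat := (.node (.node (.node (.node (.node (.node (.node (.node (.leaf 0) (.leaf 160)) (.node (.leaf 0) (.leaf 0))) (.node (.node (.leaf 0) (.leaf 0)) (.node (.leaf 159) (.leaf 0)))) (.node (.node (.node (.leaf 150) (.leaf 0)) (.node (.leaf 0) (.leaf 0))) (.node (.node (.leaf 0) (.leaf 0)) (.node (.leaf 0) (.leaf 169))))) (.node (.node (.node (.node (.leaf 0) (.leaf 16)) (.node (.leaf 0) (.leaf 0))) (.node (.node (.leaf 0) (.leaf 0)) (.node (.leaf 47) (.leaf 0)))) (.node (.node (.node (.leaf 38) (.leaf 0)) (.node (.leaf 0) (.leaf 0))) (.node (.node (.leaf 0) (.leaf 0)) (.node (.leaf 0) (.leaf 25)))))) (.node (.node (.node (.node (.node (.leaf 179) (.leaf 0)) (.node (.leaf 0) (.leaf 0))) (.node (.node (.leaf 0) (.leaf 0)) (.node (.leaf 0) (.leaf 140)))) (.node (.node (.node (.leaf 0) (.leaf 133)) (.node (.leaf 0) (.leaf 0))) (.node (.node (.leaf 0) (.leaf 0)) (.node (.leaf 186) (.leaf 0))))) (.node (.node (.node (.node (.leaf 3) (.leaf 0)) (.node (.leaf 0) (.leaf 0)))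 (.node (.node (.leaf 0) (.leaf 0)) (.node (.leaf 0) (.leaf 60)))) (.node (.node (.node (.leaf 0) (.leaf 53)) (.node (.leaf 0) (.leaf 0))) (.node (.node (.leaf 0) (.leaf 0)) (.node (.leaf 10) (.leaf 0))))))) (.node (.node (.node (.node (.node (.node (.leaf 0) (.leaf 0)) (.node (.leaf 222) (.leaf 0))) (.node (.node (.leaf 0) (.leaf 225)) (.node (.leaf 0) (.leaf 0)))) (.node (.node (.node (.leaf 0) (.leaf 0)) (.node (.leaf 0) (.leaf 232))) (.node (.node (.leaf 215) (.leaf 0)) (.node (.leaf 0) (.leaf 0))))) (.node (.node (.node (.node (.leaf 0) (.leaf 0)) (.node (.leaf 110) (.leaf 0))) (.node (.node (.leaf 0) (.leaf 81)) (.node (.leaf 0) (.leaf 0)))) (.node (.node (.node (.leaf 0) (.leaf 0)) (.node (.leaf 0) (.leaf 88))) (.node (.node (.leaf 103) (.leaf 0)) (.node (.leaf 0) (.leaf 0)))))) (.node (.node (.node (.node (.node (.leaf 0) (.leaf 0)) (.node (.leaf 0) (.leaf 205))) (.node (.node (.leaf 242) (.leaf 0)) (.node (.leaf 0) (.leaf 0)))) (.node (.node (.node (.leaf 0) (.leaf 0)) (.node (.leaf 251)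 (.leaf 0))) (.node (.node (.leaf 0) (.leaf 196)) (.node (.leaf 0) (.leaf 0))))) (.node (.node (.node (.node (.leaf 0) (.leaf 0)) (.node (.leaf 0) (.leaf 125))) (.node (.node (.leaf 66) (.leaf 0)) (.node (.leaf 0) (.leaf 0)))) (.node (.node (.node (.leaf 0) (.leaf 0)) (.node (.leaf 75) (.leaf 0))) (.node (.node (.leaf 0) (.leaf 116)) (.node (.leaf 0) (.leaf 0)))))))) (.node (.node (.node (.node (.node (.node (.node (.leaf 0) (.leaf 409)) (.node (.leaf 0) (.leaf 0))) (.node (.node (.leaf 0) (.leaf 0)) (.node (.leaf 422) (.leaf 0)))) (.node (.node (.node (.leaf 431) (.leaf 0)) (.node (.leaf 0) (.leaf 0))) (.node (.node (.leaf 0) (.leaf 0)) (.node (.leaf 0) (.leaf 400))))) (.node (.node (.node (.node (.leaf 0) (.leaf 297)) (.node (.leaf 0) (.leaf 0))) (.node (.node (.leaf 0) (.leaf 0)) (.node (.leaf 278) (.leaf 0)))) (.node (.node (.node (.leaf 287) (.leaf 0)) (.node (.leaf 0) (.leaf 0))) (.node (.node (.leaf 0) (.leaf 0)) (.node (.leaf 0) (.leaf 288)))))) (.node (.node (.node (.node (.node (.leaf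 394) (.leaf 0)) (.node (.leaf 0) (.leaf 0))) (.node (.node (.leaf 0) (.leaf 0)) (.node (.leaf 0) (.leaf 437)))) (.node (.node (.node (.leaf 0) (.leaf 444)) (.node (.leaf 0) (.leaf 0))) (.node (.node (.leaf 0) (.leaf 0)) (.node (.leaf 387) (.leaf 0))))) (.node (.node (.node (.node (.leaf 314) (.leaf 0)) (.node (.leaf 0) (.leaf 0))) (.node (.node (.leaf 0) (.leaf 0)) (.node (.leaf 0) (.leaf 261)))) (.node (.node (.node (.leaf 0) (.leaf 268)) (.node (.leaf 0) (.leaf 0))) (.node (.node (.leaf 0) (.leaf 0)) (.node (.leaf 307) (.leaf 0))))))) (.node (.node (.node (.node (.node (.node (.leaf 0) (.leaf 0)) (.node (.leaf 487) (.leaf 0))) (.node (.node (.leaf 0) (.leaf 472)) (.node (.leaf 0) (.leaf 0)))) (.node (.node (.node (.leaf 0) (.leaf 0)) (.node (.leaf 0) (.leaf 465))) (.node (.node (.leaf 494) (.leaf 0)) (.node (.leaf 0) (.leaf 0))))) (.node (.node (.node (.node (.leaf 0) (.leaf 0)) (.node (.leaf 343) (.leaf 0))) (.node (.node (.leaf 0) (.leaf 360)) (.node (.leaf 0) (.leaf 0)))) (.node (.node (.node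 (.leaf 0) (.leaf 0)) (.node (.leaf 0) (.leaf 353))) (.node (.node (.leaf 350) (.leaf 0)) (.node (.leaf 0) (.leaf 0)))))) (.node (.node (.node (.node (.node (.leaf 0) (.leaf 0)) (.node (.leaf 0) (.leaf 500))) (.node (.node (.leaf 459) (.leaf 0)) (.node (.leaf 0) (.leaf 0)))) (.node (.node (.node (.leaf 0) (.leaf 0)) (.node (.leaf 450) (.leaf 0))) (.node (.node (.leaf 0) (.leaf 509)) (.node (.leaf 0) (.leaf 0))))) (.node (.node (.node (.node (.leaf 0) (.leaf 0)) (.node (.leaf 0) (.leaf 324))) (.node (.node (.leaf 379) (.leaf 0)) (.node (.leaf 0) (.leaf 0)))) (.node (.node (.node (.leaf 0) (.leaf 0)) (.node (.leaf 370) (.leaf 0))) (.node (.node (.leaf 0) (.leaf 333)) (.node (.leaf 0) (.leaf 0)))))))))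

/-- the table -/
def decT : Tr Nat := (.node (.node (.node decT_0 decT_1) (.node decT_2 decT_3)) (.node (.node decT_4 decT_5) (.node decT_6 decT_7)))

end CfsgLib.Coset.J4.Dat
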