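import Cfsg.Agent.Coset.J4.Cover
import Cfsg.Agent.Coset.J4.DataPerms
import Cfsg.Agent.Coset.J4.DataSext
import Cfsg.Agent.Coset.J4.DataClosure
import Cfsg.Agent.Coset.J4.DataCosets

/-!
The tables of cosets in the context of the derivation.
-/

set_option autoImplicit false

namespace CfsgLib.Coset.J4

/-- The same context as that of the derivation, for the checks of the cosets. -/
def covCtx : Ctx where
  P := (Dat.permN, Dat.permT)
  S := (1771, Dat.sextT)
  B := Dat.basisL
  D := Dat.funcL
  rels := Dat.relL
  push := Dat.pushL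
  dec := Dat.decT
  nodes := Dat.nodeL
  ents := Dat.entT

/-- The coset tables. -/
def cosTab : CTab := ⟨Dat.repT, Dat.ejL, Dat.classT, Dat.tetL, Dat.pointV⟩

end CfsgLib.Coset.J4
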