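import Mathlib.GroupTheory.Index
import Mathlib.GroupTheory.Subgroup.Simple
import Mathlib.Tactic.FinCases
import Mathlib.GroupTheory.QuotientGroup.Basic
import Mathlib.GroupTheory.QuotientGroup.Defs
import Mathlib.GroupTheory.GroupAction.Quotient
import Mathlib.Data.Set.Card
import Mathlib.Data.Fintype.Sigma
import Mathlib.Data.Fintype.BigOperators
import Mathlib.Algebra.BigOperators.Fin
import Mathlib.Tactic.Group
import Mathlib.Tactic.NormNum

/-!
Counting with seven double cosets: from a 7×7 neighbour count table, the index 173067389, the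
suborbit lengths, maximality and a simplicity criterion.
-/

set_option autoImplicit false

namespace CfsgLib.Coset.J4

/-- The rows of the neighbour count table. -/
def countTab : List (List ℕ) :=
  [[0, 15180, 0, 0, 0, 0, 0], [1, 311, 4032, 10752, 84, 0, 0], [0, 18, 463, 3168, 27, 5360, 6144],
    [0, 5, 330, 3125, 0, 4680, 7040], [0, 45, 3240, 0, 375, 11520, 0],
    [0, 0, 335, 2808, 6, 4735, 7296], [0, 0, 253, 2783, 0, 4807, 7337]]

/-- The number of neighbours in node `m` of a point of node `n`. -/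
def countC (n m : Fin 7) : ℕ := (countTab.getD n.val []).getD m.val 0

/-- The suborbit lengths. -/
def sizeE (n : Fin 7) : ℕ :=
  [1, 15180, 3400320, 32643072, 28336, 54405120, 82575360].getD n.val 0

/-- Double coset data: an involution `t` with `⟨H, t⟩ = G`, representatives `a p` of the cosets of
`K ≤ H ∩ tHt` in `H`, seven nodes with the labels of all their neighbours. -/
structure DC {G : Type*} [Group G] (H : Subgroup G) where
  t : G
  K : Subgroup G
  g : Fin 7 → G
  a : Fin 15180 → G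
  lab : Fin 7 → Fin 15180 → Fin 7
  t_sq : t * t = 1
  t_not_mem : t ∉ H
  gen : Subgroup.closure ((H : Set G) ∪ {t}) = ⊤
  finH : Finite H
  K_le : K ≤ H
  K_conj : ∀ k ∈ K, t * k * t ∈ H
  g_zero : g 0 = 1
  g_one : g 1 = t
  a_mem : ∀ p, a p ∈ H
  a_zero : a 0 = 1
  decomp : ∀ h ∈ H, ∃ p, ∃ k ∈ K, h = a p * k
  a_inj : ∀ p q, (a p)⁻¹ * a q ∈ K → p = q
  fact : ∀ n p, ∃ u ∈ H, ∃ v ∈ H, g n * a p * t = u * g (lab n p) * v
  count : ∀ n m, Nat.card {p // lab n p = m} = countC n m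
  lab10 : ∀ p, lab 1 p = 0 → p = 0

theorem countC_self_pos : ∀ n : Fin 7, n ≠ 0 → 0 < countC n n := by decide

theorem countC_sep_one : ∀ l : Fin 7, countC l 0 = countC 1 0 → l = 1 := by decide

theorem countC_sep_two : ∀ l : Fin 7,
    countC l 0 = countC 2 0 → countC l 1 = countC 2 1 → l = 2 := by decide

theorem countC_sep : ∀ n m : Fin 7, countC n 0 = countC m 0 → countC n 1 = countC m 1 →
    countC n 2 = countC m 2 → n = m := by decide

namespace DC

variable {G : Type*} [Group G] {H : Subgroup G} (D : DC H)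

/-- The double coset of a node. -/
def dset (n : Fin 7) : Set G := {x | ∃ u ∈ H, ∃ v ∈ H, x = u * D.g n * v}

theorem g_mem_dset (n : Fin 7) : D.g n ∈ D.dset n :=
  ⟨1, H.one_mem, 1, H.one_mem, by simp⟩

theorem left_mem {n : Fin 7} {h x : G} (hh : h ∈ H) (hx : x ∈ D.dset n) : h * x ∈ D.dset n := by
  obtain ⟨u, hu, v, hv, rfl⟩ := hx
  exact ⟨h * u, H.mul_mem hh hu, v, hv, by group⟩

theorem right_mem {n : Fin 7} {h x : G} (hh : h ∈ H) (hx : x ∈ D.dset n) : x * h ∈ D.dset n := by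
  obtain ⟨u, hu, v, hv, rfl⟩ := hx
  exact ⟨u, hu, v * h, H.mul_mem hv hh, by group⟩

theorem right_mem_iff {n : Fin 7} {h x : G} (hh : h ∈ H) : x * h ∈ D.dset n ↔ x ∈ D.dset n :=
  ⟨fun hx => by simpa using D.right_mem (H.inv_mem hh) hx, D.right_mem hh⟩

theorem left_mem_iff {n : Fin 7} {h x : G} (hh : h ∈ H) : h * x ∈ D.dset n ↔ x ∈ D.dset n :=
  ⟨fun hx => by simpa using D.left_mem (H.inv_mem hh) hx, D.left_mem hh⟩

theorem dset_symm {n m : Fin 7} (h : D.g n ∈ D.dset m) : D.g m ∈ D.dset n := by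
  obtain ⟨u, hu, v, hv, e⟩ := h
  exact ⟨u⁻¹, H.inv_mem hu, v⁻¹, H.inv_mem hv, by rw [e]; group⟩

theorem dset_trans {n m : Fin 7} {x : G} (h : D.g n ∈ D.dset m) (hx : x ∈ D.dset n) :
    x ∈ D.dset m := by
  obtain ⟨u, hu, v, hv, rfl⟩ := hx
  exact D.right_mem hv (D.left_mem hu h)

theorem dset_zero {x : G} : x ∈ D.dset 0 ↔ x ∈ H := by
  constructor
  · rintro ⟨u, hu, v, hv, rfl⟩
    rw [D.g_zero, mul_one]
    exact H.mul_mem hu hv
  · intro hx
    exact ⟨x, hx, 1, H.one_mem, by rw [D.g_zero]; group⟩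

theorem t_inv : D.t⁻¹ = D.t := inv_eq_of_mul_eq_one_left D.t_sq

/-- A coset of `K` moves past `t` into `H`. -/
theorem mul_K_t {k : G} (hk : k ∈ D.K) (x : G) : x * k * D.t = x * D.t * (D.t * k * D.t) := by
  simp only [← mul_assoc]
  rw [mul_assoc x D.t D.t, D.t_sq, mul_one]

theorem exists_node (x : G) : ∃ n, x ∈ D.dset n := by
  have hstep : ∀ y, (∃ n, y ∈ D.dset n) → ∃ n, y * D.t ∈ D.dset n := by
    rintro y ⟨n, u, hu, v, hv, rfl⟩
    obtain ⟨p, k, hk, rfl⟩ := D.decomp v hv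
    obtain ⟨u', hu', v', hv', e⟩ := D.fact n p
    refine ⟨D.lab n p, ?_⟩
    have : u * D.g n * (D.a p * k) * D.t = u * (D.g n * D.a p * D.t) * (D.t * k * D.t) := by
      rw [show u * D.g n * (D.a p * k) = u * D.g n * D.a p * k by group, D.mul_K_t hk]
      group
    rw [this, e]
    exact D.right_mem (D.K_conj k hk) (D.left_mem hu ⟨u', hu', v', hv', rfl⟩)
  have hx : x ∈ Subgroup.closure ((H : Set G) ∪ {D.t}) := D.gen.symm ▸ Subgroup.mem_top x
  induction hx using Subgroup.closure_induction_right with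
  | one => exact ⟨0, D.dset_zero.mpr H.one_mem⟩
  | mul_right y hy z hz ih =>
    rcases hz with hz | hz
    · obtain ⟨n, hn⟩ := ih
      exact ⟨n, D.right_mem hz hn⟩
    · rw [Set.mem_singleton_iff] at hz
      subst hz
      exact hstep y ih
  | mul_inv_cancel y hy z hz ih =>
    rcases hz with hz | hz
    · obtain ⟨n, hn⟩ := ih
      exact ⟨n, D.right_mem (H.inv_mem hz) hn⟩
    · rw [Set.mem_singleton_iff] at hz
      subst hz
      rw [D.t_inv]
      exact hstep y ih

theorem finite_dset (n : Fin 7) : (D.dset n).Finite := by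
  haveI := D.finH
  refine (Set.finite_range fun q : H × H => (q.1 : G) * D.g n * (q.2 : G)).subset ?_
  rintro x ⟨u, hu, v, hv, rfl⟩
  exact ⟨(⟨u, hu⟩, ⟨v, hv⟩), rfl⟩

theorem finite_G (D : DC H) : Finite G := by
  refine Set.finite_univ_iff.mp ((Set.finite_iUnion D.finite_dset).subset ?_)
  intro x _
  exact Set.mem_iUnion.mpr (D.exists_node x)

theorem eq_zero_of_mem {n : Fin 7} (h : D.g n ∈ H) : n = 0 := by
  by_contra hn
  have hpos : 0 < Nat.card {p // D.lab n p = n} := by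
    rw [D.count]
    exact countC_self_pos n hn
  obtain ⟨⟨p, hp⟩⟩ := (Nat.card_pos_iff.mp hpos).1
  obtain ⟨u, hu, v, hv, e⟩ := D.fact n p
  rw [hp] at e
  apply D.t_not_mem
  have : D.t = (D.g n * D.a p)⁻¹ * (u * D.g n * v) := by rw [← e]; group
  rw [this]
  exact H.mul_mem (H.inv_mem (H.mul_mem h (D.a_mem p))) (H.mul_mem (H.mul_mem hu h) hv)

/-- `K` is all of `H ∩ tHt`. -/
theorem mem_K {k : G} (hk : k ∈ H) (hkt : D.t * k * D.t ∈ H) : k ∈ D.K := by
  obtain ⟨r, k', hk', rfl⟩ := D.decomp k hk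
  have h1 : D.t * D.a r * D.t ∈ H := by
    have : D.t * D.a r * D.t = D.t * (D.a r * k') * D.t * (D.t * k' * D.t)⁻¹ := by
      rw [show D.t * (D.a r * k') = D.t * D.a r * k' by group, D.mul_K_t hk', mul_inv_cancel_right]
    rw [this]
    exact H.mul_mem hkt (H.inv_mem (D.K_conj k' hk'))
  obtain ⟨u, hu, v, hv, e⟩ := D.fact 1 r
  rw [D.g_one] at e
  have h2 : D.g (D.lab 1 r) ∈ H := by
    have : D.g (D.lab 1 r) = u⁻¹ * (D.t * D.a r * D.t) * v⁻¹ := by rw [e]; group
    rw [this]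
    exact H.mul_mem (H.mul_mem (H.inv_mem hu) h1) (H.inv_mem hv)
  rw [D.lab10 r (D.eq_zero_of_mem h2), D.a_zero, one_mul]
  exact hk'

/-- The neighbours `a p * t` lie in pairwise different left cosets of `H`. -/
theorem neighbour_inj {p q : Fin 15180} {h h' : G} (hh : h ∈ H) (hh' : h' ∈ H)
    (e : D.a p * D.t * h = D.a q * D.t * h') : p = q ∧ h = h' := by
  have e1 : (D.a p)⁻¹ * D.a q = D.t * (h * h'⁻¹) * D.t := by
    have : D.a q = D.a p * D.t * h * h'⁻¹ * D.t⁻¹ := by rw [e]; group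
    rw [this, D.t_inv]; group
  have e2 : D.t * ((D.a p)⁻¹ * D.a q) * D.t = h * h'⁻¹ := by
    rw [e1]
    simp only [← mul_assoc]
    rw [D.t_sq, one_mul, mul_assoc (h * h'⁻¹) D.t D.t, D.t_sq, mul_one]
  have hK : (D.a p)⁻¹ * D.a q ∈ D.K :=
    D.mem_K (H.mul_mem (H.inv_mem (D.a_mem p)) (D.a_mem q))
      (e2.symm ▸ H.mul_mem hh (H.inv_mem hh'))
  obtain rfl := D.a_inj p q hK
  exact ⟨rfl, mul_left_cancel e⟩

/-- The number of neighbours of `x` in a node. -/
noncomputable def nb (m : Fin 7) (x : G) : ℕ := Nat.card {p // x * D.a p * D.t ∈ D.dset m}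

theorem nb_left {m : Fin 7} {h x : G} (hh : h ∈ H) : D.nb m (h * x) = D.nb m x :=
  Nat.card_congr (Equiv.subtypeEquivRight fun p => by
    rw [show h * x * D.a p * D.t = h * (x * D.a p * D.t) by group, D.left_mem_iff hh])

theorem nb_right {m : Fin 7} {h x : G} (hh : h ∈ H) : D.nb m (x * h) = D.nb m x := by
  choose σ k hk hσ using fun p => D.decomp (h * D.a p) (H.mul_mem hh (D.a_mem p))
  have hinj : Function.Injective σ := by
    intro p q hpq
    apply D.a_inj
    have e1 : D.a p = h⁻¹ * (D.a (σ p) * k p) := by rw [← hσ p]; group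
    have e2 : D.a q = h⁻¹ * (D.a (σ q) * k q) := by rw [← hσ q]; group
    have : (D.a p)⁻¹ * D.a q = (k p)⁻¹ * k q := by rw [e1, e2, hpq]; group
    rw [this]
    exact D.K.mul_mem (D.K.inv_mem (hk p)) (hk q)
  refine Nat.card_congr ((Equiv.ofBijective σ ⟨hinj, hinj.surjective_of_finite (Equiv.refl _)⟩).subtypeEquiv
    fun p => ?_)
  show x * h * D.a p * D.t ∈ D.dset m ↔ x * D.a (σ p) * D.t ∈ D.dset m
  rw [show x * h * D.a p = x * (h * D.a p) by group, hσ p,
    show x * (D.a (σ p) * k p) = x * D.a (σ p) * k p by group, D.mul_K_t (hk p),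
    D.right_mem_iff (D.K_conj _ (hk p))]

theorem nb_dset {n m : Fin 7} {x : G} (hx : x ∈ D.dset n) : D.nb m x = D.nb m (D.g n) := by
  obtain ⟨u, hu, v, hv, rfl⟩ := hx
  rw [D.nb_right hv, D.nb_left hu]

theorem nb_g (n m : Fin 7) (hm : ∀ l, D.g l ∈ D.dset m → l = m) :
    D.nb m (D.g n) = countC n m := by
  rw [← D.count n m]
  refine Nat.card_congr (Equiv.subtypeEquivRight fun p => ?_)
  obtain ⟨u, hu, v, hv, e⟩ := D.fact n p
  rw [e, D.right_mem_iff hv, D.left_mem_iff hu]
  exact ⟨hm _, fun h => h ▸ D.g_mem_dset _⟩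

theorem count_eq {l m j : Fin 7} (hj : ∀ i, D.g i ∈ D.dset j → i = j) (h : D.g l ∈ D.dset m) :
    countC l j = countC m j := by
  rw [← D.nb_g l j hj, ← D.nb_g m j hj, D.nb_dset h]

theorem node_unique {n m : Fin 7} (h : D.g n ∈ D.dset m) : n = m := by
  have h0 : ∀ l, D.g l ∈ D.dset 0 → l = 0 := fun l hl => D.eq_zero_of_mem (D.dset_zero.mp hl)
  have h1 : ∀ l, D.g l ∈ D.dset 1 → l = 1 := fun l hl =>
    countC_sep_one l (D.count_eq h0 hl)
  have h2 : ∀ l, D.g l ∈ D.dset 2 → l = 2 := fun l hl =>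
    countC_sep_two l (D.count_eq h0 hl) (D.count_eq h1 hl)
  have e := D.count_eq h0 h
  have e' := D.count_eq h1 h
  have e'' := D.count_eq h2 h
  exact countC_sep n m e e' e''

theorem eq_of_mem {n m : Fin 7} {x : G} (hn : x ∈ D.dset n) (hm : x ∈ D.dset m) : n = m := by
  obtain ⟨u, hu, v, hv, rfl⟩ := hn
  exact D.node_unique ((D.left_mem_iff hu).mp ((D.right_mem_iff hv).mp hm))

/-- The edges between two nodes. -/
def edges (n m : Fin 7) : Set (G × G) :=
  {q | q.1 ∈ D.dset n ∧ q.2 ∈ D.dset m ∧ ∃ p, ∃ h ∈ H, q.2 = q.1 * D.a p * D.t * h}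

theorem card_edges (n m : Fin 7) :
    Nat.card (D.edges n m) = Nat.card (D.dset n) * (countC n m * Nat.card H) := by
  haveI := D.finH
  haveI := D.finite_G
  haveI : Fintype (D.dset n) := Fintype.ofFinite _
  let f : (Σ x : D.dset n, {p // (x : G) * D.a p * D.t ∈ D.dset m} × H) → D.edges n m :=
    fun z => ⟨((z.1 : G), (z.1 : G) * D.a z.2.1.1 * D.t * (z.2.2 : G)),
      z.1.2, D.right_mem z.2.2.2 z.2.1.2, z.2.1.1, z.2.2, z.2.2.2, rfl⟩
  have hf : Function.Bijective f := by
    constructor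
    · rintro ⟨x, ⟨p, hp⟩, h⟩ ⟨y, ⟨q, hq⟩, h'⟩ e
      have e1 := congrArg (fun z : D.edges n m => z.1.1) e
      have e2 := congrArg (fun z : D.edges n m => z.1.2) e
      simp only [f] at e1 e2
      obtain rfl : x = y := Subtype.ext e1
      have e3 : D.a p * D.t * (h : G) = D.a q * D.t * (h' : G) := by
        apply mul_left_cancel (a := (x : G))
        simpa only [mul_assoc] using e2
      obtain ⟨rfl, hh⟩ := D.neighbour_inj h.2 h'.2 e3
      obtain rfl : h = h' := Subtype.ext hh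
      rfl
    · rintro ⟨⟨x, y⟩, hx, hy, p, h, hh, e⟩
      have hp : x * D.a p * D.t ∈ D.dset m := (D.right_mem_iff hh).mp (by rwa [← e])
      exact ⟨⟨⟨x, hx⟩, ⟨p, hp⟩, ⟨h, hh⟩⟩, Subtype.ext (Prod.ext rfl e.symm)⟩
  rw [← Nat.card_eq_of_bijective f hf, Nat.card_sigma]
  have hm : ∀ l, D.g l ∈ D.dset m → l = m := fun l hl => D.node_unique hl
  have hone : ∀ x : D.dset n,
      Nat.card ({p // (x : G) * D.a p * D.t ∈ D.dset m} × H) = countC n m * Nat.card H := by
    intro x
    rw [Nat.card_prod]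
    congr 1
    rw [← D.nb_g n m hm, ← D.nb_dset x.2]
    rfl
  rw [Finset.sum_congr rfl (fun x _ => hone x), Finset.sum_const, Finset.card_univ, smul_eq_mul,
    Nat.card_eq_fintype_card (α := D.dset n)]

theorem edges_swap {n m : Fin 7} {q : G × G} (hq : q ∈ D.edges n m) : q.swap ∈ D.edges m n := by
  obtain ⟨hx, hy, p, h, hh, e⟩ := hq
  obtain ⟨r, k, hk, hr⟩ := D.decomp h⁻¹ (H.inv_mem hh)
  refine ⟨hy, hx, r, D.t * k * D.t * (D.a p)⁻¹,
    H.mul_mem (D.K_conj k hk) (H.inv_mem (D.a_mem p)), ?_⟩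
  show q.1 = q.2 * D.a r * D.t * (D.t * k * D.t * (D.a p)⁻¹)
  rw [show q.2 * D.a r * D.t * (D.t * k * D.t * (D.a p)⁻¹) =
      q.2 * D.a r * D.t * (D.t * k * D.t) * (D.a p)⁻¹ by group, ← D.mul_K_t hk,
    show q.2 * D.a r * k = q.2 * (D.a r * k) by group, ← hr, e, mul_inv_cancel_right,
    mul_assoc (q.1 * D.a p) D.t D.t, D.t_sq, mul_one, mul_inv_cancel_right]

theorem balance (n m : Fin 7) :
    Nat.card (D.dset n) * countC n m = Nat.card (D.dset m) * countC m n := by
  haveI := D.finH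
  have h : Nat.card (D.edges n m) = Nat.card (D.edges m n) := Nat.card_congr
    { toFun := fun q => ⟨q.1.swap, D.edges_swap q.2⟩
      invFun := fun q => ⟨q.1.swap, D.edges_swap q.2⟩
      left_inv := fun q => Subtype.ext (Prod.swap_swap _)
      right_inv := fun q => Subtype.ext (Prod.swap_swap _) }
  rw [D.card_edges, D.card_edges, ← mul_assoc, ← mul_assoc] at h
  exact Nat.eq_of_mul_eq_mul_right Nat.card_pos h

theorem card_dset (n : Fin 7) : Nat.card (D.dset n) = sizeE n * Nat.card H := by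
  have h0 : Nat.card (D.dset 0) = Nat.card H :=
    Nat.card_congr (Equiv.subtypeEquivRight fun x => D.dset_zero)
  have b01 := D.balance 0 1
  have b12 := D.balance 1 2
  have b13 := D.balance 1 3
  have b14 := D.balance 1 4
  have b25 := D.balance 2 5
  have b26 := D.balance 2 6
  simp only [show countC 0 1 = 15180 from rfl, show countC 1 0 = 1 from rfl,
    show countC 1 2 = 4032 from rfl, show countC 2 1 = 18 from rfl,
    show countC 1 3 = 10752 from rfl, show countC 3 1 = 5 from rfl,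
    show countC 1 4 = 84 from rfl, show countC 4 1 = 45 from rfl,
    show countC 2 5 = 5360 from rfl, show countC 5 2 = 335 from rfl,
    show countC 2 6 = 6144 from rfl, show countC 6 2 = 253 from rfl]
    at b01 b12 b13 b14 b25 b26
  have h1 : Nat.card (D.dset 1) = 15180 * Nat.card H := by omega
  have h2 : Nat.card (D.dset 2) = 3400320 * Nat.card H := by omega
  have h3 : Nat.card (D.dset 3) = 32643072 * Nat.card H := by omega
  have h4 : Nat.card (D.dset 4) = 28336 * Nat.card H := by omega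
  have h5 : Nat.card (D.dset 5) = 54405120 * Nat.card H := by omega
  have h6 : Nat.card (D.dset 6) = 82575360 * Nat.card H := by omega
  fin_cases n
  exacts [h0.trans (one_mul _).symm, h1, h2, h3, h4, h5, h6]

theorem card_G (D : DC H) : Nat.card G = 173067389 * Nat.card H := by
  haveI := D.finite_G
  have hb : Function.Bijective (fun z : Σ n, D.dset n => (z.2 : G)) := by
    constructor
    · rintro ⟨n, x⟩ ⟨m, y⟩ e
      obtain rfl : n = m := D.eq_of_mem x.2 (by rw [show (x : G) = y from e]; exact y.2)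
      obtain rfl : x = y := Subtype.ext e
      rfl
    · intro x
      obtain ⟨n, hn⟩ := D.exists_node x
      exact ⟨⟨n, x, hn⟩, rfl⟩
  rw [← Nat.card_eq_of_bijective _ hb, Nat.card_sigma, Finset.sum_congr rfl
    (fun n _ => D.card_dset n), ← Finset.sum_mul]
  rfl

/-- The index of `H`. -/
theorem index_eq (D : DC H) : H.index = 173067389 := by
  haveI := D.finH
  have h := H.card_mul_index
  rw [D.card_G, mul_comm] at h
  exact Nat.eq_of_mul_eq_mul_right Nat.card_pos h

/-- The seven suborbits cover the cosets. -/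
theorem orbit_cover (x : G ⧸ H) :
    ∃ n, x ∈ MulAction.orbit H (QuotientGroup.mk (D.g n) : G ⧸ H) := by
  induction x using QuotientGroup.induction_on with
  | H x =>
    obtain ⟨n, u, hu, v, hv, rfl⟩ := D.exists_node x
    refine ⟨n, ⟨u, hu⟩, ?_⟩
    show (QuotientGroup.mk (u * D.g n) : G ⧸ H) = _
    exact (QuotientGroup.mk_mul_of_mem _ hv).symm

/-- The suborbits are distinct. -/
theorem orbit_inj {n m : Fin 7}
    (h : (QuotientGroup.mk (D.g n) : G ⧸ H) ∈
      MulAction.orbit H (QuotientGroup.mk (D.g m) : G ⧸ H)) : n = m := by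
  obtain ⟨⟨u, hu⟩, e⟩ := h
  have e' : (u * D.g m)⁻¹ * D.g n ∈ H := QuotientGroup.eq.mp e
  refine D.node_unique ⟨u, hu, _, e', by group⟩

/-- The suborbit lengths. -/
theorem ncard_orbit (n : Fin 7) :
    (MulAction.orbit H (QuotientGroup.mk (D.g n) : G ⧸ H)).ncard = sizeE n := by
  haveI := D.finH
  have hpre : QuotientGroup.mk ⁻¹' (MulAction.orbit H (QuotientGroup.mk (D.g n) : G ⧸ H)) =
      D.dset n := by
    ext x
    constructor
    · rintro ⟨⟨u, hu⟩, e⟩
      have e' : (u * D.g n)⁻¹ * x ∈ H := QuotientGroup.eq.mp e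
      exact ⟨u, hu, _, e', by group⟩
    · rintro ⟨u, hu, v, hv, rfl⟩
      exact ⟨⟨u, hu⟩, (QuotientGroup.mk_mul_of_mem _ hv).symm⟩
  have h := Nat.card_congr (QuotientGroup.preimageMkEquivSubgroupProdSet H
    (MulAction.orbit H (QuotientGroup.mk (D.g n) : G ⧸ H)))
  rw [hpre, D.card_dset, Nat.card_prod, mul_comm] at h
  rw [← Nat.card_coe_set_eq]
  exact (Nat.eq_of_mul_eq_mul_left Nat.card_pos h).symm

/-- `H` is maximal. -/
theorem maximal (D : DC H) {M : Subgroup G} (hM : H ≤ M) : M = H ∨ M = ⊤ := by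
  by_contra hcon
  push Not at hcon
  obtain ⟨x, hxM, hxH⟩ : ∃ x ∈ M, x ∉ H := by
    by_contra hh
    push Not at hh
    exact hcon.1 (le_antisymm hh hM)
  obtain ⟨n, u, hu, v, hv, rfl⟩ := D.exists_node x
  have hn : n ≠ 0 := by
    rintro rfl
    exact hxH (by rw [D.g_zero, mul_one]; exact H.mul_mem hu hv)
  have hg : D.g n ∈ M := by
    have := M.mul_mem (M.mul_mem (M.inv_mem (hM hu)) hxM) (M.inv_mem (hM hv))
    rwa [show u⁻¹ * (u * D.g n * v) * v⁻¹ = D.g n by group] at this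
  have hpos : 0 < Nat.card {p // D.lab n p = n} := by
    rw [D.count]
    exact countC_self_pos n hn
  obtain ⟨⟨p, hp⟩⟩ := (Nat.card_pos_iff.mp hpos).1
  obtain ⟨u', hu', v', hv', e⟩ := D.fact n p
  rw [hp] at e
  have ht : D.t ∈ M := by
    have : D.t = (D.g n * D.a p)⁻¹ * (u' * D.g n * v') := by rw [← e]; group
    rw [this]
    exact M.mul_mem (M.inv_mem (M.mul_mem hg (hM (D.a_mem p))))
      (M.mul_mem (M.mul_mem (hM hu') hg) (hM hv'))
  apply hcon.2
  rw [eq_top_iff, ← D.gen, Subgroup.closure_le]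
  exact Set.union_subset hM (Set.singleton_subset_iff.mpr ht)

/-- The simplicity criterion: no normal subgroup inside `H`, and no extension to `G` of a
proper quotient of `H`. -/
theorem simple (D : DC H) (hcore : ∀ N : Subgroup G, N.Normal → N ≤ H → N = ⊥)
    (hret : ∀ (M : Subgroup H) [M.Normal], M ≠ ⊤ →
      ∀ f : G →* H ⧸ M, ¬ ∀ h : H, f h = QuotientGroup.mk h) : IsSimpleGroup G := by
  haveI : Nontrivial G := ⟨⟨D.t, 1, fun h => D.t_not_mem (h ▸ H.one_mem)⟩⟩
  refine ⟨fun N hN => ?_⟩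
  by_contra hcon
  push Not at hcon
  obtain ⟨hb, ht⟩ := hcon
  haveI := hN
  rcases D.maximal (le_sup_right : H ≤ N ⊔ H) with h | h
  · exact hb (hcore N hN (le_sup_left.trans h.le))
  · let M : Subgroup H := N.subgroupOf H
    haveI : M.Normal := hN.subgroupOf H
    let ψ : H →* G ⧸ N := (QuotientGroup.mk' N).comp H.subtype
    have hker : ψ.ker = M := by
      ext x
      simp [ψ, M, MonoidHom.mem_ker, Subgroup.mem_subgroupOf, QuotientGroup.eq_one_iff]
    have hsurj : Function.Surjective ψ := by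
      intro y
      induction y using QuotientGroup.induction_on with
      | H g =>
        have hg : g ∈ N ⊔ H := by rw [h]; exact Subgroup.mem_top g
        obtain ⟨n, hn, x, hx, rfl⟩ := Subgroup.mem_sup_of_normal_left.mp hg
        refine ⟨⟨x, hx⟩, ?_⟩
        show ((x : G) : G ⧸ N) = _
        rw [QuotientGroup.mk_mul, (QuotientGroup.eq_one_iff n).mpr hn, one_mul]
    have hM : M ≠ ⊤ := by
      intro hMt
      apply ht
      rw [eq_top_iff, ← h]
      exact sup_le le_rfl (Subgroup.subgroupOf_eq_top.mp hMt)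
    let e : H ⧸ M ≃* G ⧸ N :=
      (QuotientGroup.quotientMulEquivOfEq hker.symm).trans
        (QuotientGroup.quotientKerEquivOfSurjective ψ hsurj)
    refine hret M hM (e.symm.toMonoidHom.comp (QuotientGroup.mk' N)) fun x => ?_
    show e.symm _ = _
    rw [MulEquiv.symm_apply_eq]
    rfl

end DC

end CfsgLib.Coset.J4
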