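import Cfsg.Agent.Coset.J4.CosetTab
import Cfsg.Agent.Coset.J4.DataCover1
import Cfsg.Agent.Coset.J4.DataCover2
import Cfsg.Agent.Coset.J4.DataCover3
import Cfsg.Agent.Coset.J4.DataCover4
import Cfsg.Agent.Coset.J4.DataCover5
import Cfsg.Agent.Coset.J4.DataCover6

/-!
The numbers of neighbours of each node with each label.
-/

set_option autoImplicit false
set_option maxRecDepth 100000
set_option Elab.async false

namespace CfsgLib.Coset.J4

/-- The label table of a node; the node zero sees the first node only. -/
noncomputable def covTab : Nat → Tr Nat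
  | 1 => Dat.coverT1
  | 2 => Dat.coverT2
  | 3 => Dat.coverT3
  | 4 => Dat.coverT4
  | 5 => Dat.coverT5
  | _ => Dat.coverT6

/-- The packed rows of counts. -/
def packedRows : List Nat :=
  [0x3b4c0000, 0x542a000fc001370001, 0x180014f0001b0c6001cf00120000, 0x1b80124800000c35014a00050000,
   0x2d00017700000ca8002d0000, 0x1c80127f00060af8014f00000000, 0x1ca912c700000adf00fd00000000]

theorem labelSums : ∀ n < 6, labelSum (covTab (n + 1)) = packedRows.getD (n + 1) 0 := by
  decide +kernel

/-- Only the first point is seen as node zero from node one. -/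
noncomputable def checkLab10 : Bool :=
  allBelow 14 15180 fun p => cond (Nat.beq (field (Dat.coverT1.get p) 3) 0) (Nat.beq p 0) true

theorem lab10_ok : checkLab10 = true := by decide +kernel

end CfsgLib.Coset.J4
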