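import Cfsg.Agent.Coset.J4.Cover

/-!
The numbers of neighbours of each node with each label.
-/

set_option autoImplicit false
set_option maxRecDepth 100000
set_option Elab.async false

namespace CfsgLib.Coset.J4

theorem sumBlock_eq : ∀ (d s : Nat) (f : Nat → Nat),
    sumBlock d s f = ∑ i ∈ Finset.range (2 ^ d), f (s * 2 ^ d + i) := by
  intro d
  induction d with
  | zero => intro s f; simp [sumBlock]
  | succ d ih =>
    intro s f
    show Nat.add (sumBlock d (Nat.mul 2 s) f) (sumBlock d (Nat.add (Nat.mul 2 s) 1) f) = _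
    rw [ih, ih, show (2 : ℕ) ^ (d + 1) = 2 ^ d + 2 ^ d by ring, Finset.sum_range_add]
    simp only [Nat.add_eq]
    congr 1 <;>
      refine Finset.sum_congr rfl fun i _ => congrArg f ?_ <;>
      simp only [Nat.mul_eq, Nat.add_eq] <;> ring

/-- The packed counts determine the counts. -/
theorem count_of_labelSum {V : Tr Nat} (hV : ∀ p < 15180, labOf V p < 7) {c : Fin 7 → Nat}
    (hc : ∀ m, c m ≤ 15180) (h : labelSum V = ∑ m : Fin 7, c m * 2 ^ (16 * m.val)) (m : Fin 7) :
    Nat.card {p : Fin 15180 // labOf V p.val = m.val} = c m := by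
  classical
  let cnt : Fin 7 → Nat := fun m =>
    (Finset.univ.filter fun p : Fin 15180 => (⟨labOf V p.val, hV _ p.2⟩ : Fin 7) = m).card
  have e0 : Nat.card {p : Fin 15180 // labOf V p.val = m.val} = cnt m := by
    rw [Nat.card_eq_fintype_card, Fintype.card_subtype]
    simp only [cnt, Fin.ext_iff]
  have hle : ∀ m, cnt m ≤ 15180 := fun m => (Finset.card_le_univ _).trans_eq (Fintype.card_fin _)
  have h1 : labelSum V = ∑ p : Fin 15180, 2 ^ (16 * labOf V p.val) := by
    rw [Fin.sum_univ_eq_sum_range (fun i => 2 ^ (16 * labOf V i)), labelSum, sumBlock_eq,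
      show (2 : Nat) ^ 14 = 15180 + 1204 from rfl, Finset.sum_range_add,
      show (∑ i ∈ Finset.range 1204, _ : Nat) = 0 from Finset.sum_eq_zero fun i _ => ?_, add_zero]
    · refine Finset.sum_congr rfl fun i hi => ?_
      rw [Finset.mem_range] at hi
      have hb : Nat.ble 15180 i = false := by
        rw [← Bool.not_eq_true, Nat.ble_eq]; omega
      rw [Nat.zero_mul, Nat.zero_add, hb, cond_false,
        show Nat.shiftLeft 1 _ = 2 ^ _ from Nat.one_shiftLeft _]
      rfl
    · have hb : Nat.ble 15180 (0 * (15180 + 1204) + (15180 + i)) = true := Nat.ble_eq.mpr (by omega)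
      rw [hb, cond_true]
  have h2 : (∑ p : Fin 15180, 2 ^ (16 * labOf V p.val)) = ∑ m : Fin 7, cnt m * 2 ^ (16 * m.val) := by
    rw [← Finset.sum_fiberwise Finset.univ (fun p : Fin 15180 => (⟨labOf V p.val, hV _ p.2⟩ : Fin 7))]
    refine Finset.sum_congr rfl fun m _ => ?_
    rw [Finset.sum_congr rfl (g := fun _ => 2 ^ (16 * m.val)) fun p hp => by
      rw [← (Finset.mem_filter.mp hp).2], Finset.sum_const, smul_eq_mul]
  rw [e0]
  have e := h1.symm.trans h
  rw [h2, Fin.sum_univ_seven, Fin.sum_univ_seven] at e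
  simp only [show ((0 : Fin 7) : Nat) = 0 from rfl, show ((1 : Fin 7) : Nat) = 1 from rfl,
    show ((2 : Fin 7) : Nat) = 2 from rfl, show ((3 : Fin 7) : Nat) = 3 from rfl,
    show ((4 : Fin 7) : Nat) = 4 from rfl, show ((5 : Fin 7) : Nat) = 5 from rfl,
    show ((6 : Fin 7) : Nat) = 6 from rfl] at e
  norm_num at e
  have a0 := hle 0; have a1 := hle 1; have a2 := hle 2; have a3 := hle 3
  have a4 := hle 4; have a5 := hle 5; have a6 := hle 6
  have b0 := hc 0; have b1 := hc 1; have b2 := hc 2; have b3 := hc 3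
  have b4 := hc 4; have b5 := hc 5; have b6 := hc 6
  fin_cases m <;> simp only [Fin.zero_eta, Fin.mk_one, Fin.reduceFinMk] <;> omega

end CfsgLib.Coset.J4
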