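/-
The degree 24 model of the subgroup on the first two generators: its order, and the stabilisers of
the trio and of the sextet used by the presentation.
-/
import Cfsg.Agent.Coset.J4.ModelData
import Cfsg.Agent.Golay.Cert
import Cfsg.Agent.Golay.M24

set_option autoImplicit false
set_option maxRecDepth 100000

namespace CfsgLib.Coset.J4

open Equiv

/-- The permutation with given tables for its inverse and itself. -/
def permOf (c ci : ℕ) (h1 : ∀ i : Fin 24, Fin.ofNat 24 (lk c (Fin.ofNat 24 (lk ci i) : Fin 24)) = i)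
    (h2 : ∀ i : Fin 24, Fin.ofNat 24 (lk ci (Fin.ofNat 24 (lk c i) : Fin 24)) = i) :
    Equiv.Perm (Fin 24) :=
  ⟨fun i => Fin.ofNat 24 (lk ci i), fun i => Fin.ofNat 24 (lk c i), h1, h2⟩

/-- The first generator. -/
def Xp : Equiv.Perm (Fin 24) := permOf cX cX (by decide +kernel) (by decide +kernel)

/-- The second generator. -/
def Yp : Equiv.Perm (Fin 24) := permOf cY cYi (by decide +kernel) (by decide +kernel)

/-- The word centralised by the third generator. -/
def W0p : Equiv.Perm (Fin 24) := Yp * Xp * Yp * (Xp * Yp⁻¹) ^ 2 * (Xp * Yp) ^ 3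

/-- The first generator of the sextet stabiliser. -/
def g1p : Equiv.Perm (Fin 24) :=
  Xp * Yp * Xp * Yp⁻¹ * Xp * Yp⁻¹ * Xp * Yp⁻¹ * Xp * Yp⁻¹ * Xp * Yp * Xp * Yp *
    Xp * Yp * Xp * Yp * Xp * Yp⁻¹ * Xp * Yp

/-- The second generator of the sextet stabiliser. -/
def g2p : Equiv.Perm (Fin 24) :=
  Xp * Yp * Xp * Yp⁻¹ * Xp * Yp⁻¹ * Xp * Yp⁻¹ * Xp * Yp * Xp * Yp⁻¹ * Xp * Yp *
    Xp * Yp * Xp * Yp * Xp * Yp⁻¹ * Xp

/-- The model group. -/
def M24m : Subgroup (Equiv.Perm (Fin 24)) := Subgroup.closure {Xp, Yp}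

/-- The generators used in words. -/
def GsM : List (Equiv.Perm (Fin 24)) := [Xp, Yp, Yp⁻¹]

/-- Their tables. -/
def csM : List ℕ := [cX, cY, cYi]

theorem tablesM : Tables GsM csM :=
  tables_three (by decide +kernel) (by decide +kernel) (by decide +kernel)

theorem tablesT : Tables [Xp, W0p, W0p⁻¹] [cX, cW, cWi] :=
  tables_three (by decide +kernel) (by decide +kernel) (by decide +kernel)

theorem tablesS : Tables [g1p, g1p⁻¹, g2p] [cG1, cG1i, cG2] :=
  tables_three (by decide +kernel) (by decide +kernel) (by decide +kernel)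

theorem Xp_mem : Xp ∈ M24m := Subgroup.subset_closure (Set.mem_insert _ _)

theorem Yp_mem : Yp ∈ M24m := Subgroup.subset_closure (Set.mem_insert_of_mem _ rfl)

theorem gsM_mem : ∀ l, GsM.getD l 1 ∈ M24m := getD_mem_three Xp_mem Yp_mem (inv_mem Yp_mem)

theorem W0p_mem : W0p ∈ M24m := by
  exact mul_mem (mul_mem (mul_mem (mul_mem Yp_mem Xp_mem) Yp_mem)
    (pow_mem (mul_mem Xp_mem (inv_mem Yp_mem)) 2)) (pow_mem (mul_mem Xp_mem Yp_mem) 3)

theorem g1p_mem : g1p ∈ M24m := by
  unfold g1p; repeat' with_reducible (first | exact Xp_mem | exact Yp_mem | exact inv_mem Yp_mem | apply mul_mem)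

theorem g2p_mem : g2p ∈ M24m := by
  unfold g2p; repeat' with_reducible (first | exact Xp_mem | exact Yp_mem | exact inv_mem Yp_mem | apply mul_mem)

/-! ### The order of the model -/

/-- The model points as points of the code. -/
def ePhi : Fin 24 ≃ Cfsg.GolayPt where
  toFun i := CfsgLib.Golay.pt (lk cPhi i)
  invFun p := Fin.ofNat 24 (lk cPhiI (CfsgLib.Golay.idx p))
  left_inv := by decide +kernel
  right_inv := by decide +kernel

theorem toList_Xp : CfsgLib.Golay.toList (ePhi.permCongr Xp) =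
    [22, 2, 1, 21, 13, 6, 5, 12, 9, 8, 11, 10, 7, 4, 20, 17, 23, 15, 19, 18, 14, 3, 0, 16] := by
  decide +kernel

theorem toList_Yp : CfsgLib.Golay.toList (ePhi.permCongr Yp) =
    [0, 22, 2, 1, 21, 13, 6, 5, 12, 9, 8, 11, 10, 7, 4, 20, 17, 23, 15, 19, 18, 14, 3, 16] := by
  decide +kernel

theorem preserves_Xp : CfsgLib.Golay.PreservesCode
    [22, 2, 1, 21, 13, 6, 5, 12, 9, 8, 11, 10, 7, 4, 20, 17, 23, 15, 19, 18, 14, 3, 0, 16] := by
  unfold CfsgLib.Golay.PreservesCode; decide +kernel

theorem preserves_Yp : CfsgLib.Golay.PreservesCode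
    [0, 22, 2, 1, 21, 13, 6, 5, 12, 9, 8, 11, 10, 7, 4, 20, 17, 23, 15, 19, 18, 14, 3, 16] := by
  unfold CfsgLib.Golay.PreservesCode; decide +kernel

theorem map_le : M24m.map ePhi.permCongrHom.toMonoidHom ≤ Cfsg.M24 := by
  rw [M24m, MonoidHom.map_closure, Subgroup.closure_le]
  rintro _ ⟨g, hg, rfl⟩
  refine CfsgLib.Golay.mem_M24_of_preserves _ ?_
  rcases hg with rfl | rfl
  · exact toList_Xp ▸ preserves_Xp
  · exact toList_Yp ▸ preserves_Yp

theorem card_M24m : Nat.card M24m = 244823040 := by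
  refine le_antisymm ?_ (chain_card_top tablesM gsM_mem (L := chainM) (by decide +kernel) (by decide +kernel))
  rw [← CfsgLib.Golay.card_M24, ← Subgroup.card_map_of_injective (K := M24m)
    (show Function.Injective ePhi.permCongrHom.toMonoidHom from ePhi.permCongrHom.injective)]
  exact Subgroup.card_le_of_le map_le

/-! ### Stabilisers -/

/-- A family stabiliser equals a subgroup once order and orbit length exhaust the model. -/
theorem stab_eq {T : List ℕ} (hnd : T.Nodup) (hT : ∀ m ∈ T.toFinset, m < 2 ^ 24)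
    {H : Subgroup (Equiv.Perm (Fin 24))} (hle : H ≤ setStab M24m T.toFinset hT) {a : ℕ}
    (ha : a ≤ Nat.card H) {chunks : List (List (ℕ × ℕ))}
    (hkey : ∀ l ∈ chunks, ∀ e ∈ l, key csM T e.2 = e.1)
    (hsort : (chunks.flatten.map Prod.fst).Nodup)
    (hN : 244823040 < chunks.flatten.length * (2 * a)) :
    setStab M24m T.toFinset hT = H := by
  have hup := orbit_card tablesM gsM_mem hnd hT (ws := chunks.flatten)
    (fun e he => by
      obtain ⟨l, hl, he'⟩ := List.mem_flatten.mp he
      exact hkey l hl e he') hsort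
  rw [card_M24m] at hup
  obtain ⟨c, hc⟩ := Subgroup.card_dvd_of_le hle
  have hpos : 0 < Nat.card (setStab M24m T.toFinset hT) := Nat.card_pos
  have h2 : c < 2 := by
    by_contra hcon
    have h3 : 2 * a ≤ Nat.card (setStab M24m T.toFinset hT) := by
      rw [hc, Nat.mul_comm]
      exact Nat.mul_le_mul ha (by omega)
    have := Nat.mul_le_mul_left chunks.flatten.length h3
    omega
  have h1 : c = 1 := by
    rcases c with _ | _ | c
    · simp [hc] at hpos
    · rfl
    · omega
  exact (Subgroup.eq_of_le_of_card_ge hle (by rw [hc, h1, mul_one])).symm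

theorem orbT_keys : ∀ l ∈ orbT, ∀ e ∈ l, key csM T0 e.2 = e.1 := by decide +kernel

theorem orbS_keys : ∀ l ∈ orbS, ∀ e ∈ l, key csM S0 e.2 = e.1 := by decide +kernel

theorem orbT_sorted : List.IsChain (· < ·) (orbT.flatten.map Prod.fst) := by decide +kernel

theorem orbS_sorted : List.IsChain (· < ·) (orbS.flatten.map Prod.fst) := by decide +kernel

theorem T0_lt : ∀ m ∈ T0.toFinset, m < 2 ^ 24 := by decide +kernel

theorem S0_lt : ∀ m ∈ S0.toFinset, m < 2 ^ 24 := by decide +kernel

theorem trio_le : Subgroup.closure {Xp, W0p} ≤ setStab M24m T0.toFinset T0_lt := by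
  rw [Subgroup.closure_le]
  rintro g (rfl | rfl)
  · exact ⟨Xp_mem, by decide +kernel⟩
  · exact ⟨W0p_mem, by decide +kernel⟩

theorem sextet_le : Subgroup.closure {g1p, g2p} ≤ setStab M24m S0.toFinset S0_lt := by
  rw [Subgroup.closure_le]
  rintro g (rfl | rfl)
  · exact ⟨g1p_mem, by decide +kernel⟩
  · exact ⟨g2p_mem, by decide +kernel⟩

theorem le_card_trio : 64512 ≤ Nat.card (Subgroup.closure {Xp, W0p}) := by
  have h1 : Xp ∈ Subgroup.closure {Xp, W0p} := Subgroup.subset_closure (Set.mem_insert _ _)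
  have h2 : W0p ∈ Subgroup.closure {Xp, W0p} :=
    Subgroup.subset_closure (Set.mem_insert_of_mem _ rfl)
  exact chain_card_top tablesT (H := Subgroup.closure {Xp, W0p})
    (getD_mem_three h1 h2 (inv_mem h2)) (L := chainT) (by decide +kernel) (by decide +kernel)

theorem le_card_sextet : 138240 ≤ Nat.card (Subgroup.closure {g1p, g2p}) := by
  have h1 : g1p ∈ Subgroup.closure {g1p, g2p} := Subgroup.subset_closure (Set.mem_insert _ _)
  have h2 : g2p ∈ Subgroup.closure {g1p, g2p} :=
    Subgroup.subset_closure (Set.mem_insert_of_mem _ rfl)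
  exact chain_card_top tablesS (H := Subgroup.closure {g1p, g2p})
    (getD_mem_three h1 (inv_mem h1) h2) (L := chainS) (by decide +kernel) (by decide +kernel)

theorem setStab_trio :
    setStab M24m T0.toFinset T0_lt = Subgroup.closure {Xp, W0p} :=
  stab_eq (by decide +kernel) T0_lt trio_le le_card_trio orbT_keys (sorted_nodup orbT_sorted)
    (by decide +kernel)

theorem setStab_sextet :
    setStab M24m S0.toFinset S0_lt = Subgroup.closure {g1p, g2p} :=
  stab_eq (by decide +kernel) S0_lt sextet_le le_card_sextet orbS_keys (sorted_nodup orbS_sorted)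
    (by decide +kernel)

theorem image_eq_of_maps {T : Finset ℕ} (hT : ∀ m ∈ T, m < 2 ^ 24) {p : Equiv.Perm (Fin 24)}
    (h : ∀ m ∈ T, imgP p m ∈ T) : T.image (imgP p) = T := by
  refine Finset.eq_of_subset_of_card_le (Finset.image_subset_iff.mpr h)
    (le_of_eq (Finset.card_image_of_injOn ?_).symm)
  intro a ha b hb hab
  have := congrArg (imgP p⁻¹) hab
  rwa [← imgP_mul, ← imgP_mul, mul_inv_cancel, imgP_one (hT a ha), imgP_one (hT b hb)] at this

/-- Trio stabiliser. -/
theorem stab_trio {p : Equiv.Perm (Fin 24)} (hp : p ∈ M24m) (h : ∀ m ∈ T0, imgP p m ∈ T0) :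
    p ∈ Subgroup.closure {Xp, W0p} := by
  rw [← setStab_trio]
  exact ⟨hp, image_eq_of_maps T0_lt fun m hm => List.mem_toFinset.mpr (h m (List.mem_toFinset.mp hm))⟩

/-- Sextet stabiliser. -/
theorem stab_sextet {p : Equiv.Perm (Fin 24)} (hp : p ∈ M24m) (h : ∀ m ∈ S0, imgP p m ∈ S0) :
    p ∈ Subgroup.closure {g1p, g2p} := by
  rw [← setStab_sextet]
  exact ⟨hp, image_eq_of_maps S0_lt fun m hm => List.mem_toFinset.mpr (h m (List.mem_toFinset.mp hm))⟩

end CfsgLib.Coset.J4
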