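import Cfsg.Agent.Coset.J4.Fast
import Cfsg.Agent.Coset.J4.Model

/-!
The cosets of the subgroup moved into itself by the involution inside `2^11:M24`, and checks that
each of them, seen from each node, leads to a listed node.
-/

set_option autoImplicit false
set_option maxRecDepth 20000

namespace CfsgLib.Coset.J4

/-- Coset tables: for each trio a permutation, its inverse and two images; the four class
representatives; the class of each vector. -/
structure CTab where
  R : Tr Nat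
  EJ : List Nat
  CJ : Tr Nat
  TL : List (List Nat)
  PV : Nat

section Kernel

/-- The permutation of a trio. -/
noncomputable def Ctx.rI (C : Ctx) (T : CTab) (i : Nat) : Nat := C.P.2.get (field (T.R.get i) 0)

/-- Its inverse. -/
noncomputable def Ctx.rInv (C : Ctx) (T : CTab) (i : Nat) : Nat := C.P.2.get (field (T.R.get i) 1)

/-- The representative of a point. -/
noncomputable def Ctx.aEl (C : Ctx) (T : CTab) (p : Nat) : Nat × Nat :=
  (C.rI T (Nat.div p 4), T.EJ.getD (Nat.mod p 4) 0)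

/-- The element lies in the coset of the point. -/
noncomputable def Ctx.atPoint (C : Ctx) (T : CTab) (p : Nat) (x : Nat × Nat) : Bool :=
  cond (trioFast (pmul (C.rInv T (Nat.div p 4)) x.1))
    (Nat.beq
      (C.wCo (C.dec.get (Nat.xor x.2
        (actF T.TL T.PV (pmul (C.rInv T (Nat.div p 4)) x.1) (T.EJ.getD (Nat.mod p 4) 0)))))
      (Nat.xor x.2
        (actF T.TL T.PV (pmul (C.rInv T (Nat.div p 4)) x.1) (T.EJ.getD (Nat.mod p 4) 0))))
    false

/-- Product with the fast action. -/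
noncomputable def Ctx.mulF (C : Ctx) (T : CTab) (e f : Nat × Nat) : Nat × Nat :=
  (pmul e.1 f.1, Nat.xor (actF T.TL T.PV f.1 e.2) f.2)

/-- One permutation of a trio list is closed under a generator. -/
noncomputable def Ctx.closedAt (C : Ctx) (T : CTab) (i g j : Nat) : Bool :=
  cond (Nat.ble (Nat.add j 1) 3795)
    (trioFast (pmul (pmul (C.rInv T j) (C.P.2.get g)) (C.rI T i))) false

/-- The coset tables. -/
noncomputable def Ctx.checkCos (C : Ctx) (T : CTab) : Bool :=
  cond (Nat.beq (C.rI T 0) pone) (cond (cond (fastOK C.B C.D T.TL T.PV) (Nat.beq (T.EJ.getD 0 1) 0) false)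
    (cond (allBelow 12 3795 fun i =>
      cond (C.okI (field (T.R.get i) 0)) (cond (C.okI (field (T.R.get i) 1))
        (cond (Nat.beq (pmul (C.rInv T i) (C.rI T i)) pone)
          (cond (C.closedAt T i 1 (field (T.R.get i) 2)) (C.closedAt T i 2 (field (T.R.get i) 3))
            false) false) false) false)
      (allBelow 11 2048 fun c => cond (Nat.ble (Nat.add (T.CJ.get c) 1) 4)
        (Nat.beq (C.wCo (C.dec.get (Nat.xor c (T.EJ.getD (T.CJ.get c) 0))))
          (Nat.xor c (T.EJ.getD (T.CJ.get c) 0))) false) false) false) false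

/-- Evaluate a number before passing it on. -/
noncomputable def forceN (v : Nat) (K : Nat → Bool) : Bool :=
  Nat.rec (K 0) (fun n _ => K (Nat.add n 1)) v

/-- The test of an element at a point, from evaluated numbers. -/
noncomputable def Ctx.atPointF (C : Ctx) (T : CTab) (p π c : Nat) : Bool :=
  forceN (C.rInv T (Nat.div p 4)) fun r => forceN (pmul r π) fun σ =>
    forceN (T.EJ.getD (Nat.mod p 4) 0) fun e => forceN (Nat.xor c (actF T.TL T.PV σ e)) fun w =>
      cond (trioFast σ) (Nat.beq (C.wCo (C.dec.get w)) w) false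

/-- One point seen from node `n`, given its entry and the record of that entry. -/
noncomputable def Ctx.coverRow (C : Ctx) (T : CTab) (n p : Nat) (V : Tr Nat) (v : Nat) (e : Ent) :
    Bool :=
  cond (Nat.beq e.n n) (cond (Nat.ble (Nat.add (field v 3) 1) 7) (cond (C.okI e.a.1)
    (forceN (C.P.2.get e.a.1) fun πa =>
      cond (Nat.beq (field v 1) 0)
        (cond (Nat.ble e.kind 2) (cond (Nat.beq e.m (field v 3)) (C.atPointF T p πa e.a.2) false)
          false)
        (cond (Nat.ble 3 e.kind)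
          (cond (Nat.ble (field v 1) 15180)
            (forceN (Nat.sub (field v 1) 1) fun q => forceN (V.get q) fun w =>
              cond (Nat.ble (Nat.add (field w 2) 1) (field v 2))
                (cond (Nat.beq (field w 3) (field v 3))
                  (forceN (C.rI T (Nat.div q 4)) fun rq => forceN (pmul πa rq) fun π =>
                    forceN (Nat.xor (actF T.TL T.PV rq e.a.2) (T.EJ.getD (Nat.mod q 4) 0)) fun c =>
                      C.atPointF T p π c) false) false) false) false))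
    false) false) false

/-- One point seen from node `n`: the entry, parent plus one, depth and label. -/
noncomputable def Ctx.coverAt (C : Ctx) (T : CTab) (N : Nat) (n : Nat) (V : Tr Nat) (p : Nat) :
    Bool :=
  forceN (V.get p) fun v => cond (Nat.ble (Nat.add (field v 0) 1) N)
    (C.coverRow T n p V v (C.ents.get (field v 0))) false

/-- All points seen from a node. -/
noncomputable def Ctx.checkCover (C : Ctx) (T : CTab) (N n : Nat) (V : Tr Nat) : Bool :=
  allBelow 14 15180 (C.coverAt T N n V)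

/-- A quarter of the points seen from a node. -/
noncomputable def Ctx.checkCover4 (C : Ctx) (T : CTab) (N n : Nat) (V : Tr Nat) (s : Nat) : Bool :=
  allBlock 12 s fun i => cond (Nat.ble 15180 i) true (C.coverAt T N n V i)

/-- A count over a block. -/
noncomputable def sumBlock : Nat → Nat → (Nat → Nat) → Nat :=
  fun d => Nat.rec (fun s f => f s)
    (fun _ ih s f => Nat.add (ih (Nat.mul 2 s) f) (ih (Nat.add (Nat.mul 2 s) 1) f)) d

/-- The packed counts of the labels of a node. -/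
noncomputable def labelSum (V : Tr Nat) : Nat :=
  sumBlock 14 0 fun i => cond (Nat.ble 15180 i) 0
    (Nat.shiftLeft 1 (Nat.mul 16 (field (V.get i) 3)))

end Kernel

theorem forceN_eq (v : Nat) (K : Nat → Bool) : forceN v K = K v := by
  cases v <;> rfl

theorem Ctx.atPointF_eq (C : Ctx) (T : CTab) (p : Nat) (x : Nat × Nat) :
    C.atPointF T p x.1 x.2 = C.atPoint T p x := by
  unfold Ctx.atPointF Ctx.atPoint
  simp only [forceN_eq]

theorem Ctx.checkCover_of4 {C : Ctx} {T : CTab} {N n : Nat} {V : Tr Nat}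
    (h0 : C.checkCover4 T N n V 0 = true) (h1 : C.checkCover4 T N n V 1 = true)
    (h2 : C.checkCover4 T N n V 2 = true) (h3 : C.checkCover4 T N n V 3 = true) :
    C.checkCover T N n V = true := by
  have e : ∀ (d s : Nat) (f : Nat → Bool), allBlock (d + 1) s f =
      cond (allBlock d (2 * s) f) (allBlock d (2 * s + 1) f) false := fun _ _ _ => rfl
  unfold Ctx.checkCover allBelow
  rw [show Nat.ble 15180 (Nat.pow 2 14) = true from by decide, cond_true, e 13 0, e 12 (2 * 0),
    e 12 (2 * 0 + 1)]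
  unfold Ctx.checkCover4 at h0 h1 h2 h3
  simp only [Nat.mul_zero, Nat.zero_add, Nat.mul_one]
  rw [h0, h1, h2, h3]
  rfl

attribute [local irreducible] pmul pone pimg coordN emul

variable {G : Type*} [Group G] {F : UFrame G} {C : Ctx} {R Q : Nat}

/-- The elements moved into the subgroup by the involution. -/
def UFrame.kSub (F : UFrame G) (C : Ctx) : Subgroup G where
  carrier := {k | k ∈ F.sub C ∧ F.t * k * F.t ∈ F.sub C}
  one_mem' := ⟨one_mem _, by rw [mul_one, F.tt]; exact one_mem _⟩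
  mul_mem' := by
    rintro a b ⟨ha, ha'⟩ ⟨hb, hb'⟩
    refine ⟨mul_mem ha hb, ?_⟩
    have ti : F.t⁻¹ = F.t := inv_eq_of_mul_eq_one_right F.tt
    rw [show F.t * (a * b) * F.t = (F.t * a * F.t) * (F.t⁻¹ * F.t⁻¹) * (F.t * b * F.t) by group,
      ti, F.tt, mul_one]
    exact mul_mem ha' hb'
  inv_mem' := by
    rintro a ⟨ha, ha'⟩
    refine ⟨inv_mem ha, ?_⟩
    have ti : F.t⁻¹ = F.t := inv_eq_of_mul_eq_one_right F.tt
    have := inv_mem ha'
    rwa [mul_inv_rev, mul_inv_rev, ti, ← mul_assoc] at this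

variable {hc : @CData G _ F C R Q}

theorem CData.inK_kSub (hc : @CData G _ F C R Q) {k : Nat × Nat} (hk : F.Val k.1)
    (h : C.inK k = true) : F.val C k ∈ F.kSub C := by
  obtain ⟨p1, p2, -⟩ := hc.inK_sound hk h
  exact ⟨F.sub_mem hk, by rw [p2]; exact F.sub_mem p1⟩

/-- The point as an element. -/
noncomputable def UFrame.aG (F : UFrame G) (C : Ctx) (T : CTab) (p : Nat) : G :=
  F.val C (C.aEl T p)

/-- The verified coset tables. -/
structure CosData (hc : @CData G _ F C R Q) (T : CTab) : Prop where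
  ok : C.checkCos T = true

variable {T : CTab}

theorem CosData.row (hT : CosData hc T) {i : Nat} (hi : i < 3795) :
    F.Val (C.rI T i) ∧ F.Val (C.rInv T i) ∧ pmul (C.rInv T i) (C.rI T i) = pone ∧
      C.closedAt T i 1 (field (T.R.get i) 2) = true ∧
      C.closedAt T i 2 (field (T.R.get i) 3) = true := by
  have h := hT.ok
  unfold Ctx.checkCos at h
  simp only [cond_false_eq_true] at h
  have h' := of_allBelow h.2.2.1 i hi
  simp only [cond_false_eq_true] at h'
  obtain ⟨h1, h2, h3, h4, h5⟩ := h'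
  exact ⟨hc.hd.valP _ (Nat.ble_eq.mp h1), hc.hd.valP _ (Nat.ble_eq.mp h2),
    Nat.eq_of_beq_eq_true h3, h4, h5⟩

theorem CosData.val_aEl (hT : CosData hc T) {p : Nat} (hp : p < 15180) :
    F.Val (C.aEl T p).1 :=
  (hT.row (Nat.div_lt_of_lt_mul (show p < 4 * 3795 from hp))).1

theorem CosData.aG_mem (hT : CosData hc T) {p : Nat} (hp : p < 15180) :
    F.aG C T p ∈ F.sub C := F.sub_mem (hT.val_aEl hp)

theorem CosData.aG_zero (hT : CosData hc T) : F.aG C T 0 = 1 := by
  have h := hT.ok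
  unfold Ctx.checkCos at h
  simp only [cond_false_eq_true] at h
  have e0 : T.EJ.getD 0 0 = 0 := by
    have := Nat.eq_of_beq_eq_true h.2.1.2
    cases hE : T.EJ with
    | nil => rfl
    | cons a l => rw [hE] at this; exact this
  show F.val C (C.rI T 0, T.EJ.getD 0 0) = 1
  rw [e0, F.val_perm, Nat.eq_of_beq_eq_true h.1, F.ph_pone]

theorem CosData.act_eq (hT : CosData hc T) {g : Nat} (hg : F.Val g) (c : Nat) :
    actF T.TL T.PV g c = actN C.B C.D g c := by
  obtain ⟨q, hq⟩ := hg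
  have h := hT.ok
  unfold Ctx.checkCos at h
  simp only [cond_false_eq_true] at h
  exact actF_eq hq h.2.1.1 c

theorem CosData.mulF_eq (hT : CosData hc T) {e f : Nat × Nat} (hf : F.Val f.1) :
    C.mulF T e f = C.mul e f := by
  unfold Ctx.mulF Ctx.mul emul
  rw [hT.act_eq hf]

theorem CosData.point_sound (hT : CosData hc T) {p : Nat} (hp : p < 15180) {x : Nat × Nat}
    (hx : F.Val x.1) (h : C.atPoint T p x = true) :
    ∃ k ∈ F.kSub C, F.val C x = F.aG C T p * k := by
  unfold Ctx.atPoint at h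
  have hi : Nat.div p 4 < 3795 := Nat.div_lt_of_lt_mul (show p < 4 * 3795 from hp)
  obtain ⟨v1, v2, e, -, -⟩ := hT.row hi
  set i := Nat.div p 4
  set σ := pmul (C.rInv T i) x.1 with hσ
  have vσ : F.Val σ := F.val_pmul v2 hx
  rw [hT.act_eq vσ, cond_false_eq_true] at h
  replace h : C.inK (σ, Nat.xor x.2 (actN C.B C.D σ (T.EJ.getD (Nat.mod p 4) 0))) = true := by
    unfold Ctx.inK
    rw [cond_false_eq_true]
    exact ⟨trioFast_sound h.1, h.2⟩
  refine ⟨_, hc.inK_kSub (k := (σ, _)) vσ h, ?_⟩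
  obtain ⟨_, m2⟩ := hc.val_mul (e := C.aEl T p)
    (f := (σ, Nat.xor x.2 (actN C.B C.D σ (T.EJ.getD (Nat.mod p 4) 0)))) (hT.val_aEl hp) vσ
  rw [UFrame.aG, ← m2]
  have einv : F.ph (C.rI T i) * F.ph (C.rInv T i) = 1 := by
    rw [mul_eq_one_iff_eq_inv, eq_inv_iff_mul_eq_one]
    have : F.ph (C.rInv T i) * F.ph (C.rI T i) = 1 := by rw [← F.ph_pmul v2 v1, e, F.ph_pone]
    exact mul_eq_one_comm.mp this
  show F.val C x = F.val C (emul C.B C.D (C.rI T i, T.EJ.getD (Nat.mod p 4) 0) (σ, _))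
  unfold emul
  rw [UFrame.val, UFrame.val, UFrame.ev, UFrame.ev]
  have e2 : Nat.xor (actN C.B C.D σ (T.EJ.getD (Nat.mod p 4) 0))
      (Nat.xor x.2 (actN C.B C.D σ (T.EJ.getD (Nat.mod p 4) 0))) = x.2 := by
    simp only [show ∀ a b : Nat, Nat.xor a b = a ^^^ b from fun _ _ => rfl]
    rw [Nat.xor_comm x.2, ← Nat.xor_assoc, Nat.xor_self, Nat.zero_xor]
  show F.ph x.1 * F.E C.B x.2 = F.ph (pmul (C.rI T i) σ) * F.E C.B (Nat.xor _ (Nat.xor x.2 _))
  rw [e2, hσ, F.ph_pmul v1 (F.val_pmul v2 hx), F.ph_pmul v2 hx, ← mul_assoc, einv, one_mul]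

/-- The permutations of the group which fix the base trio. -/
def UFrame.fixT (F : UFrame G) : Subgroup (Equiv.Perm (Fin 24)) :=
  setStab F.M T0.toFinset T0_lt

theorem fix_of_trioFast {a : Nat} {p : F.M} (hp : RepP a (p : Equiv.Perm (Fin 24)))
    (h : trioFast a = true) : (p : Equiv.Perm (Fin 24)) ∈ F.fixT := by
  refine ⟨p.2, image_eq_of_maps T0_lt fun m hm => ?_⟩
  have h0 : trioPts.map (pimgL pone) = trio0 ∧ T0.toFinset = trio0.toFinset ∧
      ∀ l ∈ trioPts, ∀ i ∈ l, i < 24 := by decide +kernel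
  rw [h0.2.1, List.mem_toFinset, ← h0.1, List.mem_map] at hm
  obtain ⟨l, hl, rfl⟩ := hm
  rw [trioFast, allList_iff] at h
  have e : imgP (p : Equiv.Perm (Fin 24)) (pimgL pone l) = pimgL a l := by
    rw [← pimgL_pone (h0.2.2 l hl) a]
    refine Nat.eq_of_testBit_eq fun j => ?_
    rw [Bool.eq_iff_iff, testBit_imgP, testBit_pimg]
    exact ⟨fun ⟨i, hm, he⟩ => ⟨i, i.isLt, hm, (hp i).trans he⟩,
      fun ⟨i, hi, hm, he⟩ => ⟨⟨i, hi⟩, hm, (hp ⟨i, hi⟩).symm.trans he⟩⟩
  rw [e, h0.2.1, List.mem_toFinset]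
  exact memB_iff.mp (h l hl)

theorem CosData.fix_kSub (hc : @CData G _ F C R Q) {q : F.M}
    (hq : (q : Equiv.Perm (Fin 24)) ∈ F.fixT) : F.φ q ∈ F.kSub C := by
  obtain ⟨a, ha⟩ := exists_repP (q : Equiv.Perm (Fin 24))
  obtain ⟨q0, hq0⟩ := F.val_pone
  have ht : trioEq a pone = true := by
    have h0 : trio0.map (fun o => pimg pone o) = trio0 ∧ T0.toFinset = trio0.toFinset := by
      decide +kernel
    rw [trioEq, allList_iff]
    intro o ho
    rw [memB_iff, h0.1]
    have hm : imgP (q : Equiv.Perm (Fin 24)) o ∈ T0.toFinset.image (imgP (q : Equiv.Perm (Fin 24))) :=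
      Finset.mem_image_of_mem _ (by rw [h0.2, List.mem_toFinset]; exact ho)
    rw [hq.2, h0.2, List.mem_toFinset] at hm
    have e : pimg a o = imgP (q : Equiv.Perm (Fin 24)) o := by
      refine Nat.eq_of_testBit_eq fun j => ?_
      rw [Bool.eq_iff_iff, testBit_imgP, testBit_pimg]
      exact ⟨fun ⟨i, hi, hm, he⟩ => ⟨⟨i, hi⟩, hm, (ha ⟨i, hi⟩).symm.trans he⟩,
        fun ⟨i, hm, he⟩ => ⟨i, i.isLt, hm, (ha i).trans he⟩⟩
    rw [e]; exact hm
  have h1 := F.stab q q0 a pone ha hq0 ht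
  have hone : F.φ q0 = 1 := by rw [← F.ph_eq hq0, F.ph_pone]
  rw [hone, inv_one, one_mul, mul_one] at h1
  have hmem : F.φ q ∈ F.sub C := by
    rw [← F.ph_eq ha, ← F.val_perm]
    exact F.sub_mem (e := (a, 0)) ⟨q, ha⟩
  refine ⟨hmem, ?_⟩
  have h2 : F.t * F.φ q * F.t = F.φ q := by
    calc F.t * F.φ q * F.t = F.φ q * ((F.φ q)⁻¹ * F.t * F.φ q) * F.t := by group
      _ = F.φ q := by rw [h1, mul_assoc, F.tt, mul_one]
  rw [h2]; exact hmem

theorem CosData.perm_cover (hT : CosData hc T) (q : F.M) :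
    ∀ i < 3795, ∀ pi : F.M, RepP (C.rI T i) (pi : Equiv.Perm (Fin 24)) →
      ∃ j < 3795, ∃ pj : F.M, RepP (C.rI T j) (pj : Equiv.Perm (Fin 24)) ∧
        ((pj⁻¹ * q * pi : F.M) : Equiv.Perm (Fin 24)) ∈ F.fixT := by
  let Qp : Equiv.Perm (Fin 24) → Prop := fun r => r ∈ F.M ∧
    ∀ i < 3795, ∀ pi : F.M, RepP (C.rI T i) (pi : Equiv.Perm (Fin 24)) →
      ∃ j < 3795, ∃ pj : F.M, RepP (C.rI T j) (pj : Equiv.Perm (Fin 24)) ∧
        (pj : Equiv.Perm (Fin 24))⁻¹ * r * pi ∈ F.fixT
  suffices h : ∀ r : Equiv.Perm (Fin 24), r ∈ Subgroup.closure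
      {r : Equiv.Perm (Fin 24) | ∃ a ∈ [C.P.2.get 1, C.P.2.get 2], RepP a r} → Qp r by
    exact (h q (hc.hd.gens q)).2
  intro r hr
  have hone : Qp 1 := ⟨one_mem _, fun i hi pi hpi => ⟨i, hi, pi, hpi, by
    rw [mul_one, inv_mul_cancel]; exact one_mem _⟩⟩
  have hmul : ∀ r s, Qp r → Qp s → Qp (r * s) := by
    rintro r s ⟨hr, h1⟩ ⟨hs, h2⟩
    refine ⟨mul_mem hr hs, fun i hi pi hpi => ?_⟩
    obtain ⟨j, hj, pj, hpj, k2⟩ := h2 i hi pi hpi
    obtain ⟨l, hl, pl, hpl, k1⟩ := h1 j hj pj hpj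
    refine ⟨l, hl, pl, hpl, ?_⟩
    have := mul_mem k1 k2
    rwa [show (pl : Equiv.Perm (Fin 24))⁻¹ * r * pj * ((pj : Equiv.Perm (Fin 24))⁻¹ * s * pi) =
      (pl : Equiv.Perm (Fin 24))⁻¹ * (r * s) * pi by group] at this
  induction hr using Subgroup.closure_induction with
  | one => exact hone
  | mem r hr =>
    obtain ⟨a, ha, har⟩ := hr
    have key : ∀ g, g < C.P.1 → RepP (C.P.2.get g) r → ∀ (nx : Nat → Nat),
        (∀ i < 3795, C.closedAt T i g (nx i) = true) → Qp r := by
      intro g hg hgr nx hnx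
      obtain ⟨pg, hpg⟩ := hc.hd.valP g hg
      have er : (pg : Equiv.Perm (Fin 24)) = r := hpg.unique hgr
      refine ⟨er ▸ pg.2, fun i hi pi hpi => ?_⟩
      have h := hnx i hi
      unfold Ctx.closedAt at h
      rw [cond_false_eq_true] at h
      have hj : nx i < 3795 := Nat.ble_eq.mp h.1
      obtain ⟨⟨pj, hpj⟩, ⟨pj', hpj'⟩, e, -, -⟩ := hT.row hj
      refine ⟨nx i, hj, pj, hpj, ?_⟩
      have einv : (pj' : Equiv.Perm (Fin 24)) = (pj : Equiv.Perm (Fin 24))⁻¹ :=
        eq_inv_of_mul_eq_one_left ((hpj'.pmul hpj).unique (e ▸ repP_pone))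
      rw [← einv, ← er]
      exact fix_of_trioFast (p := pj' * pg * pi) ((hpj'.pmul hpg).pmul hpi) h.2
    rcases List.mem_cons.mp ha with rfl | ha
    · exact key 1 hc.hd.hX har _ fun i hi => (hT.row hi).2.2.2.1
    · obtain rfl := List.mem_singleton.mp ha
      exact key 2 hc.hd.hY har _ fun i hi => (hT.row hi).2.2.2.2
  | mul r s _ _ hr' hs' => exact hmul r s hr' hs'
  | inv r _ hr' =>
    have hpow : ∀ n : ℕ, Qp (r ^ n) := by
      intro n
      induction n with
      | zero => simpa using hone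
      | succ n ihn => rw [pow_succ]; exact hmul _ _ ihn hr'
    have : r⁻¹ = r ^ (orderOf r - 1) := by
      rw [inv_eq_iff_mul_eq_one, ← pow_succ', Nat.sub_add_cancel (orderOf_pos r), pow_orderOf_eq_one]
    rw [this]; exact hpow _

theorem CosData.split_perm (hT : CosData hc T) {g : Nat} (hg : F.Val g) :
    ∃ i < 3795, ∃ s : F.M, (s : Equiv.Perm (Fin 24)) ∈ F.fixT ∧
      F.ph g = F.ph (C.rI T i) * F.φ s := by
  obtain ⟨q, hq⟩ := hg
  have h0 : C.rI T 0 = pone := by
    have h := hT.ok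
    unfold Ctx.checkCos at h
    simp only [cond_false_eq_true] at h
    exact Nat.eq_of_beq_eq_true h.1
  obtain ⟨i, hi, pr, hpr, h⟩ := hT.perm_cover q 0 (by norm_num) 1 (by rw [h0]; exact repP_pone)
  refine ⟨i, hi, _, h, ?_⟩
  rw [F.ph_eq hq, F.ph_eq hpr, map_mul, map_mul, map_inv, map_one, mul_one, mul_inv_cancel_left]

theorem CosData.class_cover (hT : CosData hc T) (c : Nat) (hc2 : c < 2048) :
    ∃ j < 4, ∃ k ∈ F.kSub C, F.E C.B c = F.E C.B (T.EJ.getD j 0) * k ∧
      (j = 0 → C.wCo (C.dec.get c) = c) := by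
  have h := hT.ok
  unfold Ctx.checkCos at h
  simp only [cond_false_eq_true] at h
  have h' := of_allBelow h.2.2.2 c hc2
  rw [cond_false_eq_true] at h'
  refine ⟨T.CJ.get c, Nat.ble_eq.mp h'.1,
    F.val C (pone, Nat.xor c (T.EJ.getD (T.CJ.get c) 0)), hc.inK_kSub F.val_pone ?_, ?_⟩
  · unfold Ctx.inK
    rw [cond_false_eq_true]
    refine ⟨?_, h'.2⟩
    rw [trioEq, allList_iff]
    intro o ho
    rw [memB_iff, List.mem_map]
    exact ⟨o, ho, rfl⟩
  · rw [UFrame.val, UFrame.ev, F.ph_pone, one_mul, ← hc.hd.E_xor]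
    refine ⟨?_, fun hj0 => ?_⟩
    · congr 1
      show c = T.EJ.getD (T.CJ.get c) 0 ^^^ (c ^^^ _)
      rw [Nat.xor_comm c, ← Nat.xor_assoc, Nat.xor_self, Nat.zero_xor]
    · have e0 : T.EJ.getD 0 0 = 0 := by
        have := Nat.eq_of_beq_eq_true h.2.1.2
        cases hE : T.EJ with
        | nil => rfl
        | cons a l => rw [hE] at this; exact this
      have h2 := Nat.eq_of_beq_eq_true h'.2
      rw [hj0, e0, show Nat.xor c 0 = c from Nat.xor_zero c] at h2
      exact h2

theorem UFrame.E_low (B : List Nat) (c : Nat) : F.E B (c % 2048) = F.E B c := by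
  unfold UFrame.E
  refine congrArg List.prod (List.map_congr_left fun k hk => ?_)
  have hk' : k < 11 := (by decide : ∀ j ∈ pts11, j < 11) k hk
  unfold UFrame.bitU
  rw [show c % 2048 = c % 2 ^ 11 from rfl, Nat.testBit_mod_two_pow]
  simp [hk']

theorem CosData.decomp_val (hT : CosData hc T) {e : Nat × Nat} (he : F.Val e.1) :
    ∃ p < 15180, ∃ k ∈ F.kSub C, F.val C e = F.aG C T p * k ∧
      (p = 0 → ∃ s : F.M, (s : Equiv.Perm (Fin 24)) ∈ F.fixT ∧
        ∃ d, F.val C e = F.E C.B (C.wCo d) * F.φ s) := by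
  obtain ⟨i, hi, s, hs, eσ⟩ := hT.split_perm he
  obtain ⟨a, ha⟩ := exists_repP ((s⁻¹ : F.M) : Equiv.Perm (Fin 24))
  have hconj := hc.hd.conj_E (g := a) ⟨s⁻¹, ha⟩ e.2
  rw [F.ph_eq (p := s⁻¹) ha, map_inv, inv_inv, ← F.E_low C.B (actN C.B C.D a e.2)] at hconj
  obtain ⟨j, hj, k, hk, ej, hj0⟩ :=
    hT.class_cover (actN C.B C.D a e.2 % 2048) (Nat.mod_lt _ (by norm_num))
  refine ⟨4 * i + j, by omega, k * F.φ s, mul_mem hk (CosData.fix_kSub hc hs), ?_, fun hp => ?_⟩
  · have hdiv : Nat.div (4 * i + j) 4 = i := (by omega : (4 * i + j) / 4 = i)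
    have hmod : Nat.mod (4 * i + j) 4 = j := (by omega : (4 * i + j) % 4 = j)
    show F.ph e.1 * F.E C.B e.2 =
      F.ph (C.rI T (Nat.div (4 * i + j) 4)) * F.E C.B (T.EJ.getD (Nat.mod (4 * i + j) 4) 0) *
        (k * F.φ s)
    rw [hdiv, hmod, eσ]
    calc F.ph (C.rI T i) * F.φ s * F.E C.B e.2
        = F.ph (C.rI T i) * (F.φ s * F.E C.B e.2 * (F.φ s)⁻¹) * F.φ s := by group
      _ = _ := by rw [hconj, ej]; group
  · obtain ⟨rfl, rfl⟩ : i = 0 ∧ j = 0 := by omega
    refine ⟨s, hs, C.dec.get (actN C.B C.D a e.2 % 2048), ?_⟩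
    have h0 : C.rI T 0 = pone := by
      have h := hT.ok
      unfold Ctx.checkCos at h
      simp only [cond_false_eq_true] at h
      exact Nat.eq_of_beq_eq_true h.1
    show F.ph e.1 * F.E C.B e.2 = _
    rw [hj0 rfl, ← hconj, eσ, h0, F.ph_pone]
    group

/-- The label of a point. -/
noncomputable def labOf (V : Tr Nat) (p : Nat) : Nat := field (V.get p) 3

theorem cover_sound {hc : @CData G _ F C R Q} (hT : CosData hc T) {N : Nat}
    (hK : Known hc N) {n : Nat} {V : Tr Nat} (h : C.checkCover T N n V = true) :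
    ∀ p < 15180, labOf V p < 7 ∧ ∃ u ∈ F.sub C, ∃ v ∈ F.sub C,
      F.node C n * F.aG C T p * F.t = u * F.node C (labOf V p) * v := by
  intro p
  induction hd : field (V.get p) 2 using Nat.strong_induction_on generalizing p with
  | _ d ih =>
    intro hp
    have h' := of_allBelow h p hp
    unfold Ctx.coverAt Ctx.coverRow at h'
    simp only [forceN_eq, cond_false_eq_true] at h'
    obtain ⟨he, hn, hl, hok, h'⟩ := h'
    refine ⟨Nat.ble_eq.mp hl, ?_⟩
    have hn' := Nat.eq_of_beq_eq_true hn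
    cases hq : Nat.beq (field (V.get p) 1) 0 with
    | true =>
      rw [hq, cond_true] at h'
      simp only [cond_false_eq_true] at h'
      obtain ⟨hk, hm, hat⟩ := h'
      replace hat : C.atPoint T p (C.el (C.ents.get (field (V.get p) 0)).a) = true :=
        (C.atPointF_eq T p _).symm.trans hat
      obtain ⟨_, hb, hf⟩ := hK.fact _ (Nat.ble_eq.mp he) (Nat.ble_eq.mp hk)
      obtain ⟨k, ⟨hk1, hk2⟩, ek⟩ := hT.point_sound hp (hc.val_el hok) hat
      rw [hn', Nat.eq_of_beq_eq_true hm, ek] at hf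
      set b := F.val C (C.el (C.ents.get (field (V.get p) 0)).b)
      refine ⟨_, hf, b * (F.t * k * F.t)⁻¹, mul_mem (F.sub_mem (hc.val_el hb)) (inv_mem hk2), ?_⟩
      set g := F.node C n
      set g' := F.node C (field (V.get p) 3)
      calc g * F.aG C T p * F.t
          = g * (F.aG C T p * k) * F.t * (g' * b)⁻¹ * g' * (b * (F.t⁻¹ * k⁻¹ * F.t)) := by group
        _ = _ := by
          have e : (F.t * k * F.t)⁻¹ = F.t⁻¹ * k⁻¹ * F.t := by
            rw [mul_inv_rev, mul_inv_rev, inv_eq_of_mul_eq_one_right F.tt]; group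
          rw [e]
          simp only [labOf, mul_assoc]
          rfl
    | false =>
      rw [hq, cond_false] at h'
      simp only [cond_false_eq_true] at h'
      obtain ⟨hk, hqlt, hdep, hlab, hat⟩ := h'
      replace hat : C.atPoint T p (C.mulF T (C.el (C.ents.get (field (V.get p) 0)).a)
          (C.aEl T (Nat.sub (field (V.get p) 1) 1))) = true :=
        (C.atPointF_eq T p _).symm.trans hat
      set q := Nat.sub (field (V.get p) 1) 1
      have hq0 : field (V.get p) 1 ≠ 0 := fun e0 => by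
        rw [e0] at hq; exact Bool.noConfusion hq
      have hq' : q < 15180 := by
        have := Nat.ble_eq.mp hqlt
        show field (V.get p) 1 - 1 < 15180
        omega
      obtain ⟨_, hs⟩ := hK.stab _ (Nat.ble_eq.mp he) (Nat.ble_eq.mp hk)
      rw [hn'] at hs
      set d0 := F.val C (C.el (C.ents.get (field (V.get p) 0)).a) with hd0
      obtain ⟨m1, m2⟩ := hc.val_mul (f := C.aEl T q) (hc.val_el hok) (hT.val_aEl hq')
      rw [hT.mulF_eq (hT.val_aEl hq')] at hat
      obtain ⟨k, ⟨hk1, hk2⟩, ek⟩ := hT.point_sound hp m1 hat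
      rw [m2, ← hd0] at ek
      obtain ⟨_, u, hu, v, hv, e2⟩ := ih (field (V.get q) 2)
        (hd ▸ Nat.ble_eq.mp hdep) q rfl hq'
      refine ⟨(F.node C n * d0 * (F.node C n)⁻¹) * u, mul_mem hs hu,
        v * (F.t * k * F.t)⁻¹, mul_mem hv (inv_mem hk2), ?_⟩
      have el : labOf V q = labOf V p := Nat.eq_of_beq_eq_true hlab
      rw [el] at e2
      have ti : F.t⁻¹ = F.t := inv_eq_of_mul_eq_one_right F.tt
      calc F.node C n * F.aG C T p * F.t
          = F.node C n * (F.aG C T p * k) * (k⁻¹ * F.t) := by group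
        _ = F.node C n * d0 * F.aG C T q * (k⁻¹ * F.t) := by rw [← ek]; simp [UFrame.aG, mul_assoc]
        _ = F.node C n * d0 * (F.node C n)⁻¹ * (F.node C n * F.aG C T q * F.t) *
              (F.t⁻¹ * k⁻¹ * F.t) := by group
        _ = _ := by rw [e2, mul_inv_rev, mul_inv_rev, ti]; group

end CfsgLib.Coset.J4
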