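import Cfsg.Agent.Coset.J4.CosetTab
import Cfsg.Agent.Coset.J4.DataCover2

/-!
The points seen from node 2.
-/

set_option autoImplicit false
set_option maxRecDepth 100000
set_option Elab.async false

namespace CfsgLib.Coset.J4

theorem cover2_0 : covCtx.checkCover4 cosTab Dat.entN 2 Dat.coverT2 0 = true := by
  decide +kernel

theorem cover2_1 : covCtx.checkCover4 cosTab Dat.entN 2 Dat.coverT2 1 = true := by
  decide +kernel

theorem cover2_2 : covCtx.checkCover4 cosTab Dat.entN 2 Dat.coverT2 2 = true := by
  decide +kernel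

theorem cover2_3 : covCtx.checkCover4 cosTab Dat.entN 2 Dat.coverT2 3 = true := by
  decide +kernel

theorem cover2 : covCtx.checkCover cosTab Dat.entN 2 Dat.coverT2 = true :=
  Ctx.checkCover_of4 cover2_0 cover2_1 cover2_2 cover2_3

end CfsgLib.Coset.J4
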