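import Cfsg.Agent.Coset.J4.CosetTab
import Cfsg.Agent.Coset.J4.DataCover4

/-!
The points seen from node 4.
-/

set_option autoImplicit false
set_option maxRecDepth 100000
set_option Elab.async false

namespace CfsgLib.Coset.J4

theorem cover4_0 : covCtx.checkCover4 cosTab Dat.entN 4 Dat.coverT4 0 = true := by
  decide +kernel

theorem cover4_1 : covCtx.checkCover4 cosTab Dat.entN 4 Dat.coverT4 1 = true := by
  decide +kernel

theorem cover4_2 : covCtx.checkCover4 cosTab Dat.entN 4 Dat.coverT4 2 = true := by
  decide +kernel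

theorem cover4_3 : covCtx.checkCover4 cosTab Dat.entN 4 Dat.coverT4 3 = true := by
  decide +kernel

theorem cover4 : covCtx.checkCover cosTab Dat.entN 4 Dat.coverT4 = true :=
  Ctx.checkCover_of4 cover4_0 cover4_1 cover4_2 cover4_3

end CfsgLib.Coset.J4
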