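import Cfsg.Agent.Coset.Prim

set_option autoImplicit false
set_option maxRecDepth 100000
set_option Elab.async false

namespace CfsgLib.Coset.J4.Dat

open CfsgLib.Coset (Tr)

/-- part -/
def irrT_0 : Tr Nat := (.node (.node (.node (.node (.node (.node (.node (.node (.leaf 0x0) (.leaf 0xa)) (.node (.leaf 0x9) (.leaf 0x41))) (.node (.node (.leaf 0x8) (.leaf 0x40)) (.node (.leaf 0x37) (.leaf 0x186)))) (.node (.node (.node (.leaf 0x7) (.leaf 0x3f)) (.node (.leaf 0x36) (.leaf 0x185))) (.node (.node (.leaf 0x2e) (.leaf 0x136)) (.node (.leaf 0x200040f) (.leaf 0x1ec))))) (.node (.node (.node (.node (.leaf 0x6) (.leaf 0x3e)) (.node (.leaf 0x35) (.leaf 0x200035a))) (.node (.node (.leaf 0x2d) (.leaf 0x135)) (.node (.leaf 0x134) (.leaf 0x1ea)))) (.node (.node (.node (.leaf 0x26) (.leaf 0xf8)) (.node (.leaf 0xf7) (.leaf 0x1e9))) (.node (.node (.leaf 0xf6) (.leaf 0x1e7)) (.node (.leaf 0x184) (.leaf 0x526)))))) (.node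 (.node (.node (.node (.node (.leaf 0x5) (.leaf 0x3d)) (.node (.leaf 0x34) (.leaf 0x17f))) (.node (.node (.leaf 0x2c) (.leaf 0x132)) (.node (.leaf 0x131) (.leaf 0x1e5)))) (.node (.node (.node (.leaf 0x25) (.leaf 0x1dd)) (.node (.leaf 0xf5) (.leaf 0x1e4))) (.node (.node (.leaf 0xf4) (.leaf 0x1e1)) (.node (.leaf 0x183) (.leaf 0x525))))) (.node (.node (.node (.node (.leaf 0x1f) (.leaf 0xc6)) (.node (.leaf 0xc5) (.leaf 0x1e3))) (.node (.node (.leaf 0xc4) (.leaf 0x1e0)) (.node (.leaf 0x182) (.leaf 0x493)))) (.node (.node (.node (.leaf 0xc3) (.leaf 0x1de)) (.node (.leaf 0x180) (.leaf 0x492))) (.node (.node (.leaf 0x133) (.leaf 0x491)) (.node (.leaf 0x490) (.leaf 0x5c1))))))) (.node (.node (.node (.node (.node (.node (.leaf 0x4) (.leaf 0x3c)) (.node (.leaf 0x33) (.leaf 0x177))) (.node (.node (.leaf 0x2b) (.leaf 0x12d)) (.node (.leaf 0x12c) (.leaf 0x1dc)))) (.node (.node (.node (.leaf 0x24) (.leaf 0xf1)) (.node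 (.leaf 0xf0) (.leaf 0x1eb))) (.node (.node (.leaf 0xef) (.leaf 0x1d9)) (.node (.leaf 0x17e) (.leaf 0x522))))) (.node (.node (.node (.node (.leaf 0x1e) (.leaf 0xc1)) (.node (.leaf 0xc0) (.leaf 0x1db))) (.node (.node (.leaf 0x2000367) (.leaf 0x20004c9)) (.node (.leaf 0x17d) (.leaf 0x48d)))) (.node (.node (.node (.leaf 0xbf) (.leaf 0x1d7)) (.node (.leaf 0x17a) (.leaf 0x48c))) (.node (.node (.leaf 0x130) (.leaf 0x48b)) (.node (.leaf 0x48a) (.leaf 0x5bf)))))) (.node (.node (.node (.node (.node (.leaf 0x19) (.leaf 0x9e)) (.node (.leaf 0x20000db) (.leaf 0x1da))) (.node (.node (.leaf 0x9d) (.leaf 0x1d8)) (.node (.leaf 0x17c) (.leaf 0x402)))) (.node (.node (.node (.leaf 0x9c) (.leaf 0x1d6)) (.node (.leaf 0x179) (.leaf 0x401))) (.node (.node (.leaf 0x12f) (.leaf 0x400)) (.node (.leaf 0x3ff) (.leaf 0x5c0))))) (.node (.node (.node (.node (.leaf 0x9b) (.leaf 0x1d5)) (.node (.leaf 0x178) (.leaf 0x403))) (.node (.node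 (.leaf 0x12e) (.leaf 0x3fe)) (.node (.leaf 0x3fc) (.leaf 0x5bd)))) (.node (.node (.node (.leaf 0xf3) (.leaf 0x3fd)) (.node (.leaf 0x3fb) (.leaf 0x524))) (.node (.node (.leaf 0x2000512) (.leaf 0x2000658)) (.node (.leaf 0x523) (.leaf 0x2000665)))))))) (.node (.node (.node (.node (.node (.node (.node (.leaf 0x3) (.leaf 0x3b)) (.node (.leaf 0x32) (.leaf 0x200035a))) (.node (.node (.leaf 0x2a) (.leaf 0x1c8)) (.node (.leaf 0x2000355) (.leaf 0x1ed)))) (.node (.node (.node (.leaf 0x23) (.leaf 0xeb)) (.node (.leaf 0xea) (.leaf 0x1d4))) (.node (.node (.leaf 0xe9) (.leaf 0x1d0)) (.node (.leaf 0x176) (.leaf 0x519))))) (.node (.node (.node (.node (.leaf 0x1d) (.leaf 0xbd)) (.node (.leaf 0xbc) (.leaf 0x1d3))) (.node (.node (.leaf 0xbb) (.leaf 0x2000036)) (.node (.leaf 0x175) (.leaf 0x700016b)))) (.node (.node (.node (.leaf 0xba) (.leaf 0x200040f)) (.node (.leaf 0x173) (.leaf 0x483))) (.node (.node (.leaf 0x12b) (.leaf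 0x482)) (.node (.leaf 0x481) (.leaf 0x2000036)))))) (.node (.node (.node (.node (.node (.leaf 0x18) (.leaf 0x9a)) (.node (.leaf 0x99) (.leaf 0x1e2))) (.node (.node (.leaf 0x126) (.leaf 0x1df)) (.node (.leaf 0x174) (.leaf 0x3f9)))) (.node (.node (.node (.leaf 0x2000237) (.leaf 0x1ce)) (.node (.leaf 0x172) (.leaf 0x3f8))) (.node (.node (.leaf 0x12a) (.leaf 0x3fa)) (.node (.leaf 0x3f7) (.leaf 0x5bb))))) (.node (.node (.node (.node (.leaf 0x98) (.leaf 0x2000545)) (.node (.leaf 0x170) (.leaf 0x3f6))) (.node (.node (.leaf 0x128) (.leaf 0x3f5)) (.node (.leaf 0x3f4) (.leaf 0x5b9)))) (.node (.node (.node (.leaf 0xee) (.leaf 0x2000216)) (.node (.leaf 0x3f3) (.leaf 0x521))) (.node (.node (.leaf 0x2000545) (.leaf 0x51d)) (.node (.leaf 0x51c) (.leaf 0x64e))))))) (.node (.node (.node (.node (.node (.node (.leaf 0x14) (.leaf 0x84)) (.node (.leaf 0x83) (.leaf 0x1d2))) (.node (.node (.leaf 0x2000367) (.leaf 0x1cf)) (.node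 (.leaf 0x17b) (.leaf 0x381)))) (.node (.node (.node (.leaf 0x82) (.leaf 0x1cd)) (.node (.leaf 0x171) (.leaf 0x2000369))) (.node (.node (.leaf 0x129) (.leaf 0x380)) (.node (.leaf 0x2000367) (.leaf 0x5ba))))) (.node (.node (.node (.node (.leaf 0x81) (.leaf 0x1cc)) (.node (.leaf 0x16f) (.leaf 0x37e))) (.node (.node (.leaf 0x200053d) (.leaf 0x37d)) (.node (.leaf 0x20004b3) (.leaf 0x5bc)))) (.node (.node (.node (.leaf 0xed) (.leaf 0x37c)) (.node (.leaf 0x37b) (.leaf 0x520))) (.node (.node (.leaf 0x379) (.leaf 0x51b)) (.node (.leaf 0x200053d) (.leaf 0x64d)))))) (.node (.node (.node (.node (.node (.leaf 0x80) (.leaf 0x1ca)) (.node (.leaf 0x16e) (.leaf 0x378))) (.node (.node (.leaf 0x127) (.leaf 0x377)) (.node (.leaf 0x375) (.leaf 0x5b6)))) (.node (.node (.node (.leaf 0xec) (.leaf 0x37f)) (.node (.leaf 0x374) (.leaf 0x51f))) (.node (.node (.leaf 0x373) (.leaf 0x51a)) (.node (.leaf 0x51e) (.leaf 0x64c))))) (.node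 (.node (.node (.node (.leaf 0xbe) (.leaf 0x376)) (.node (.leaf 0x37a) (.leaf 0x489))) (.node (.node (.leaf 0x372) (.leaf 0x486)) (.node (.leaf 0x488) (.leaf 0x64b)))) (.node (.node (.node (.leaf 0x371) (.leaf 0x485)) (.node (.leaf 0x487) (.leaf 0x64a))) (.node (.node (.leaf 0x484) (.leaf 0x5b8)) (.node (.leaf 0x5b7) (.leaf 0x6b1)))))))))

/-- part -/
def irrT_1 : Tr Nat := (.node (.node (.node (.node (.node (.node (.node (.node (.leaf 0x0) (.leaf 0x38)) (.node (.leaf 0x2f) (.leaf 0x137))) (.node (.node (.leaf 0x27) (.leaf 0xfa)) (.node (.leaf 0xf9) (.leaf 0x1a1)))) (.node (.node (.node (.leaf 0x20) (.leaf 0x20000db)) (.node (.leaf 0xc8) (.leaf 0x1a0))) (.node (.node (.leaf 0xc7) (.leaf 0x19c)) (.node (.leaf 0x14c) (.leaf 0x495))))) (.node (.node (.node (.node (.leaf 0x1a) (.leaf 0x2000658)) (.node (.leaf 0xa1) (.leaf 0x1e8))) (.node (.node (.leaf 0xa0) (.leaf 0x19b)) (.node (.leaf 0x14b) (.leaf 0x437))))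 (.node (.node (.node (.leaf 0x9f) (.leaf 0x197)) (.node (.leaf 0x2000512) (.leaf 0x436))) (.node (.node (.leaf 0x10d) (.leaf 0x406)) (.node (.leaf 0x404) (.leaf 0x200011e)))))) (.node (.node (.node (.node (.node (.leaf 0x15) (.leaf 0x200062d)) (.node (.leaf 0x200053d) (.leaf 0x19f))) (.node (.node (.leaf 0x86) (.leaf 0x398)) (.node (.leaf 0x14a) (.leaf 0x39b)))) (.node (.node (.node (.leaf 0x200053d) (.leaf 0x196)) (.node (.leaf 0x20004b3) (.leaf 0x4b8))) (.node (.node (.leaf 0x10c) (.leaf 0x39a)) (.node (.leaf 0x399) (.leaf 0x56e))))) (.node (.node (.node (.node (.leaf 0x85) (.leaf 0x193)) (.node (.leaf 0x142) (.leaf 0x385))) (.node (.node (.leaf 0x108) (.leaf 0x384)) (.node (.leaf 0x383) (.leaf 0x53f)))) (.node (.node (.node (.leaf 0xd5) (.leaf 0x405)) (.node (.leaf 0x382) (.leaf 0x4df))) (.node (.node (.leaf 0x20001f2) (.leaf 0x2000369)) (.node (.leaf 0x4b7) (.leaf 0x5f8))))))) (.node (.node (.node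 (.node (.node (.node (.leaf 0x11) (.leaf 0x187)) (.node (.leaf 0x72) (.leaf 0x19e))) (.node (.node (.leaf 0x71) (.leaf 0x19a)) (.node (.leaf 0x149) (.leaf 0x335)))) (.node (.node (.node (.leaf 0x70) (.leaf 0x195)) (.node (.leaf 0x146) (.leaf 0x32a))) (.node (.node (.leaf 0x10b) (.leaf 0x329)) (.node (.leaf 0x328) (.leaf 0x54e))))) (.node (.node (.node (.node (.leaf 0x6f) (.leaf 0x200023b)) (.node (.leaf 0x200061b) (.leaf 0x31f))) (.node (.node (.leaf 0x107) (.leaf 0x200061b)) (.node (.leaf 0x31c) (.leaf 0x2000270)))) (.node (.node (.node (.leaf 0xf2) (.leaf 0x31e)) (.node (.leaf 0x31b) (.leaf 0x4d0))) (.node (.node (.leaf 0x31a) (.leaf 0x4b5)) (.node (.leaf 0x4b4) (.leaf 0x5f7)))))) (.node (.node (.node (.node (.node (.leaf 0x6e) (.leaf 0x190)) (.node (.leaf 0x13e) (.leaf 0x2000036))) (.node (.node (.leaf 0x103) (.leaf 0x30d)) (.node (.leaf 0x30c) (.leaf 0x532)))) (.node (.node (.node (.leaf 0x200040f)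 (.leaf 0x2000036)) (.node (.leaf 0x30b) (.leaf 0x300047c))) (.node (.node (.leaf 0x309) (.leaf 0x200044c)) (.node (.leaf 0x4c5) (.leaf 0x5f6))))) (.node (.node (.node (.node (.leaf 0xaa) (.leaf 0x31d)) (.node (.leaf 0x30a) (.leaf 0x448))) (.node (.node (.leaf 0x308) (.leaf 0x435)) (.node (.leaf 0x447) (.leaf 0x5f5)))) (.node (.node (.node (.leaf 0x200035a) (.leaf 0x41f)) (.node (.leaf 0x446) (.leaf 0x5dd))) (.node (.node (.leaf 0x41e) (.leaf 0x56d)) (.node (.leaf 0x54f) (.leaf 0x692)))))))) (.node (.node (.node (.node (.node (.node (.node (.leaf 0xe) (.leaf 0x5f)) (.node (.leaf 0x5e) (.leaf 0x1d1))) (.node (.node (.leaf 0x5d) (.leaf 0x199)) (.node (.leaf 0x2000658) (.leaf 0x2c0)))) (.node (.node (.node (.leaf 0x5c) (.leaf 0x194)) (.node (.leaf 0x145) (.leaf 0x2bd))) (.node (.node (.leaf 0x10a) (.leaf 0x2bc)) (.node (.leaf 0x2bb) (.leaf 0x200011e))))) (.node (.node (.node (.node (.leaf 0x5b) (.leaf 0x1cb))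 (.node (.leaf 0x141) (.leaf 0x20000db))) (.node (.node (.leaf 0x106) (.leaf 0x2b7)) (.node (.leaf 0x2b5) (.leaf 0x53c)))) (.node (.node (.node (.leaf 0xd4) (.leaf 0x2b6)) (.node (.leaf 0x2b4) (.leaf 0x2000153))) (.node (.node (.leaf 0x2b3) (.leaf 0x4b2)) (.node (.leaf 0x4b1) (.leaf 0x5f4)))))) (.node (.node (.node (.node (.node (.leaf 0x5a) (.leaf 0x18f)) (.node (.leaf 0x2000367) (.leaf 0x2ae))) (.node (.node (.leaf 0x102) (.leaf 0x2ad)) (.node (.leaf 0x2aa) (.leaf 0x531)))) (.node (.node (.node (.leaf 0xd1) (.leaf 0x2ac)) (.node (.leaf 0x2a9) (.leaf 0x4c4))) (.node (.node (.leaf 0x2a7) (.leaf 0x4a8)) (.node (.leaf 0x4a7) (.leaf 0x5f3))))) (.node (.node (.node (.node (.leaf 0xa9) (.leaf 0x2ab)) (.node (.leaf 0x2a8) (.leaf 0x445))) (.node (.node (.leaf 0x2a6) (.leaf 0x434)) (.node (.leaf 0x433) (.leaf 0x5f1)))) (.node (.node (.node (.leaf 0x2a5) (.leaf 0x41d)) (.node (.leaf 0x41c) (.leaf 0x5dc))) (.node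 (.node (.leaf 0x44f) (.leaf 0x56c)) (.node (.leaf 0x20002dd) (.leaf 0x691))))))) (.node (.node (.node (.node (.node (.node (.leaf 0x59) (.leaf 0x18c)) (.node (.leaf 0x13d) (.leaf 0x2a0))) (.node (.node (.leaf 0x2000237) (.leaf 0x200061b)) (.node (.leaf 0x29c) (.leaf 0x551)))) (.node (.node (.node (.leaf 0xce) (.leaf 0x29f)) (.node (.leaf 0x29b) (.leaf 0x200023b))) (.node (.node (.leaf 0x298) (.leaf 0x4a0)) (.node (.leaf 0x49f) (.leaf 0x5f2))))) (.node (.node (.node (.node (.leaf 0xa7) (.leaf 0x29e)) (.node (.leaf 0x29a) (.leaf 0x43e))) (.node (.node (.leaf 0x297) (.leaf 0x42a)) (.node (.leaf 0x429) (.leaf 0x2000545)))) (.node (.node (.node (.leaf 0x295) (.leaf 0x415)) (.node (.leaf 0x414) (.leaf 0x5db))) (.node (.node (.leaf 0x428) (.leaf 0x56b)) (.node (.leaf 0x54d) (.leaf 0x68c)))))) (.node (.node (.node (.node (.node (.leaf 0x8b) (.leaf 0x29d)) (.node (.leaf 0x299) (.leaf 0x3b8))) (.node (.node (.leaf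 0x296) (.leaf 0x3a6)) (.node (.leaf 0x2000693) (.leaf 0x5f0)))) (.node (.node (.node (.leaf 0x294) (.leaf 0x3b7)) (.node (.leaf 0x2000355) (.leaf 0x5da))) (.node (.node (.leaf 0x2000693) (.leaf 0x2000355)) (.node (.leaf 0x54c) (.leaf 0x68b))))) (.node (.node (.node (.node (.leaf 0x293) (.leaf 0x397)) (.node (.leaf 0x396) (.leaf 0x5ce))) (.node (.node (.leaf 0x3b6) (.leaf 0x55e)) (.node (.leaf 0x53d) (.leaf 0x200044c)))) (.node (.node (.node (.leaf 0x395) (.leaf 0x4de)) (.node (.leaf 0x200044c) (.leaf 0x68a))) (.node (.node (.leaf 0x4b3) (.leaf 0x689)) (.node (.leaf 0x612) (.leaf 0x6dd)))))))))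

/-- part -/
def irrT_2 : Tr Nat := (.node (.node (.node (.node (.node (.node (.node (.node (.leaf 0x1) (.leaf 0x39)) (.node (.leaf 0x30) (.leaf 0x14d))) (.node (.node (.leaf 0x28) (.leaf 0x200023b)) (.node (.leaf 0x10e) (.leaf 0x1b8)))) (.node (.node (.node (.leaf 0x21) (.leaf 0xd8)) (.node (.leaf 0xd7) (.leaf 0x1b7))) (.node (.node (.leaf 0xd6) (.leaf 0x1b1)) (.node (.leaf 0x2000270) (.leaf 0x4e0))))) (.node (.node (.node (.node (.leaf 0x1b) (.leaf 0xae)) (.node (.leaf 0xad) (.leaf 0x1b6))) (.node (.node (.leaf 0xac) (.leaf 0x1e6)) (.node (.leaf 0x15f) (.leaf 0x45c)))) (.node (.node (.node (.leaf 0xab) (.leaf 0x1ae)) (.node (.leaf 0x2000186) (.leaf 0x451))) (.node (.node (.leaf 0x11a) (.leaf 0x2000186)) (.node (.leaf 0x450) (.leaf 0x592)))))) (.node (.node (.node (.node (.node (.leaf 0x16) (.leaf 0x90)) (.node (.leaf 0x8f) (.leaf 0x1b5))) (.node (.node (.leaf 0x2000355) (.leaf 0x2000693)) (.node (.leaf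 0x15e) (.leaf 0x3d2)))) (.node (.node (.node (.leaf 0x8e) (.leaf 0x1ad)) (.node (.leaf 0x2000422) (.leaf 0x3c9))) (.node (.node (.leaf 0x119) (.leaf 0x3c8)) (.node (.leaf 0x3c7) (.leaf 0x5a3))))) (.node (.node (.node (.node (.leaf 0x8d) (.leaf 0x200040f)) (.node (.leaf 0x158) (.leaf 0x3bd))) (.node (.node (.leaf 0x116) (.leaf 0x30003b7)) (.node (.leaf 0x3bb) (.leaf 0x588)))) (.node (.node (.node (.leaf 0xdf) (.leaf 0x3bc)) (.node (.leaf 0x3ba) (.leaf 0x4ff))) (.node (.node (.leaf 0x3b9) (.leaf 0x4f0)) (.node (.leaf 0x200044c) (.leaf 0x632))))))) (.node (.node (.node (.node (.node (.node (.leaf 0x12) (.leaf 0x78)) (.node (.leaf 0x77) (.leaf 0x1b4))) (.node (.node (.leaf 0x76) (.leaf 0x1b0)) (.node (.leaf 0x15d) (.leaf 0x2000665)))) (.node (.node (.node (.leaf 0x75) (.leaf 0x1ac)) (.node (.leaf 0x2000665) (.leaf 0x354))) (.node (.node (.leaf 0x200011e) (.leaf 0x353)) (.node (.leaf 0x351) (.leaf 0x5be)))))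 (.node (.node (.node (.node (.leaf 0x74) (.leaf 0x200068a)) (.node (.leaf 0x157) (.leaf 0x349))) (.node (.node (.leaf 0x115) (.leaf 0x348)) (.node (.leaf 0x345) (.leaf 0x586)))) (.node (.node (.node (.leaf 0xde) (.leaf 0x347)) (.node (.leaf 0x344) (.leaf 0x4fd))) (.node (.node (.leaf 0x342) (.leaf 0x4ef)) (.node (.leaf 0x4ee) (.leaf 0x631)))))) (.node (.node (.node (.node (.node (.leaf 0x8c) (.leaf 0x1a7)) (.node (.leaf 0x154) (.leaf 0x35c))) (.node (.node (.leaf 0x113) (.leaf 0x358)) (.node (.leaf 0x2000367) (.leaf 0x581)))) (.node (.node (.node (.leaf 0xdc) (.leaf 0x352)) (.node (.leaf 0x350) (.leaf 0x2000367))) (.node (.node (.leaf 0x34f) (.leaf 0x502)) (.node (.leaf 0x4f8) (.leaf 0x630))))) (.node (.node (.node (.node (.leaf 0xb4) (.leaf 0x346)) (.node (.leaf 0x343) (.leaf 0x46d))) (.node (.node (.leaf 0x341) (.leaf 0x464)) (.node (.leaf 0x46c) (.leaf 0x62f)))) (.node (.node (.node (.leaf 0x340) (.leaf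 0x45b)) (.node (.leaf 0x46b) (.leaf 0x621))) (.node (.node (.leaf 0x45a) (.leaf 0x5a0)) (.node (.leaf 0x591) (.leaf 0x6a9)))))))) (.node (.node (.node (.node (.node (.node (.node (.leaf 0xf) (.leaf 0x66)) (.node (.leaf 0x65) (.leaf 0x1b3))) (.node (.node (.leaf 0x64) (.leaf 0x2000136)) (.node (.leaf 0x15c) (.leaf 0x2e7)))) (.node (.node (.node (.leaf 0x2000136) (.leaf 0x2000545)) (.node (.leaf 0x15a) (.leaf 0x2e8))) (.node (.node (.leaf 0x118) (.leaf 0x2e6)) (.node (.leaf 0x2e5) (.leaf 0x58d))))) (.node (.node (.node (.node (.leaf 0x63) (.leaf 0x1a9)) (.node (.leaf 0x156) (.leaf 0x2e4))) (.node (.node (.leaf 0x2000270) (.leaf 0x2e3)) (.node (.leaf 0x2e1) (.leaf 0x585)))) (.node (.node (.node (.leaf 0xdd) (.leaf 0x2e2)) (.node (.leaf 0x2e0) (.leaf 0x4fb))) (.node (.node (.leaf 0x2df) (.leaf 0x4ed)) (.node (.leaf 0x4ec) (.leaf 0x62e)))))) (.node (.node (.node (.node (.node (.leaf 0x62) (.leaf 0x1a6)) (.node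 (.leaf 0x153) (.leaf 0x2de))) (.node (.node (.leaf 0x200044c) (.leaf 0x2dd)) (.node (.leaf 0x2db) (.leaf 0x2000036)))) (.node (.node (.node (.leaf 0xdb) (.leaf 0x200044c)) (.node (.leaf 0x2da) (.leaf 0x4f7))) (.node (.node (.leaf 0x2d8) (.leaf 0x2000036)) (.node (.leaf 0x4e8) (.leaf 0x62d))))) (.node (.node (.node (.node (.leaf 0xb3) (.leaf 0x2dc)) (.node (.leaf 0x2d9) (.leaf 0x46a))) (.node (.node (.leaf 0x2d7) (.leaf 0x472)) (.node (.leaf 0x463) (.leaf 0x2000422)))) (.node (.node (.node (.leaf 0x2d6) (.leaf 0x459)) (.node (.leaf 0x458) (.leaf 0x620))) (.node (.node (.leaf 0x471) (.leaf 0x2000422)) (.node (.leaf 0x590) (.leaf 0x6a8))))))) (.node (.node (.node (.node (.node (.node (.leaf 0x61) (.leaf 0x1a4)) (.node (.leaf 0x150) (.leaf 0x2d5))) (.node (.node (.leaf 0x111) (.leaf 0x2d4)) (.node (.leaf 0x2d1) (.leaf 0x57e)))) (.node (.node (.node (.leaf 0xda) (.leaf 0x2d3)) (.node (.leaf 0x20000db) (.leaf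 0x4f3))) (.node (.node (.leaf 0x2ce) (.leaf 0x4e5)) (.node (.leaf 0x2000397) (.leaf 0x62c))))) (.node (.node (.node (.node (.leaf 0xb1) (.leaf 0x200011e)) (.node (.leaf 0x2d0) (.leaf 0x467))) (.node (.node (.leaf 0x2cd) (.leaf 0x461)) (.node (.leaf 0x460) (.leaf 0x63b)))) (.node (.node (.node (.leaf 0x2cb) (.leaf 0x2000512)) (.node (.leaf 0x455) (.leaf 0x61f))) (.node (.node (.leaf 0x46f) (.leaf 0x59d)) (.node (.leaf 0x58f) (.leaf 0x6a6)))))) (.node (.node (.node (.node (.node (.leaf 0x93) (.leaf 0x2d2)) (.node (.leaf 0x2cf) (.leaf 0x3d6))) (.node (.node (.leaf 0x2cc) (.leaf 0x3df)) (.node (.leaf 0x3de) (.leaf 0x62b)))) (.node (.node (.node (.leaf 0x2ca) (.leaf 0x3d1)) (.node (.leaf 0x3d0) (.leaf 0x200053d))) (.node (.node (.leaf 0x3dd) (.leaf 0x5a2)) (.node (.leaf 0x58e) (.leaf 0x6a5))))) (.node (.node (.node (.node (.leaf 0x2c9) (.leaf 0x3c6)) (.node (.leaf 0x20001f2) (.leaf 0x619))) (.node (.node (.leaf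 0x3dc) (.leaf 0x59c)) (.node (.leaf 0x2000367) (.leaf 0x6a4)))) (.node (.node (.node (.leaf 0x3c5) (.leaf 0x2000369)) (.node (.leaf 0x4fc) (.leaf 0x2000367))) (.node (.node (.leaf 0x2000367) (.leaf 0x6a3)) (.node (.leaf 0x63a) (.leaf 0x6e4)))))))))

/-- part -/
def irrT_3 : Tr Nat := (.node (.node (.node (.node (.node (.node (.node (.node (.leaf 0xb) (.leaf 0x4a)) (.node (.leaf 0x49) (.leaf 0x20001f2))) (.node (.node (.leaf 0x48) (.leaf 0x2000369)) (.node (.leaf 0x147) (.leaf 0x2000367)))) (.node (.node (.node (.leaf 0x47) (.leaf 0x1aa)) (.node (.leaf 0x143) (.leaf 0x20004c9))) (.node (.node (.leaf 0x117) (.leaf 0x233)) (.node (.leaf 0x232) (.leaf 0x540))))) (.node (.node (.node (.node (.leaf 0x46) (.leaf 0x191)) (.node (.leaf 0x13f) (.leaf 0x230))) (.node (.node (.leaf 0x104) (.leaf 0x22f)) (.node (.leaf 0x22d) (.leaf 0x533)))) (.node (.node (.node (.leaf 0xd2) (.leaf 0x22e)) (.node (.leaf 0x231) (.leaf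 0x20002dd))) (.node (.node (.leaf 0x22c) (.leaf 0x200053d)) (.node (.leaf 0x4a9) (.leaf 0x5e7)))))) (.node (.node (.node (.node (.node (.leaf 0x45) (.leaf 0x18d)) (.node (.leaf 0x151) (.leaf 0x22b))) (.node (.node (.leaf 0x100) (.leaf 0x22a)) (.node (.leaf 0x227) (.leaf 0x52c)))) (.node (.node (.node (.leaf 0xcf) (.leaf 0x229)) (.node (.leaf 0x226) (.leaf 0x4bf))) (.node (.node (.leaf 0x2000665) (.leaf 0x500)) (.node (.leaf 0x4a1) (.leaf 0x5e6))))) (.node (.node (.node (.node (.leaf 0xa8) (.leaf 0x228)) (.node (.leaf 0x225) (.leaf 0x44e))) (.node (.node (.leaf 0x224) (.leaf 0x42d)) (.node (.leaf 0x42c) (.leaf 0x5e4)))) (.node (.node (.node (.leaf 0x223) (.leaf 0x2000153)) (.node (.leaf 0x416) (.leaf 0x20000db))) (.node (.node (.leaf 0x42b) (.leaf 0x565)) (.node (.leaf 0x546) (.leaf 0x2000397))))))) (.node (.node (.node (.node (.node (.node (.leaf 0x44) (.leaf 0x18a)) (.node (.leaf 0x13b) (.leaf 0x221)))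 (.node (.node (.leaf 0xfe) (.leaf 0x220)) (.node (.leaf 0x21b) (.leaf 0x200035a)))) (.node (.node (.node (.leaf 0xcc) (.leaf 0x21f)) (.node (.leaf 0x21a) (.leaf 0x4bc))) (.node (.node (.leaf 0x217) (.leaf 0x49b)) (.node (.leaf 0x49a) (.leaf 0x610))))) (.node (.node (.node (.node (.leaf 0xa5) (.leaf 0x21e)) (.node (.leaf 0x219) (.leaf 0x44c))) (.node (.node (.leaf 0x216) (.leaf 0x424)) (.node (.leaf 0x423) (.leaf 0x200040f)))) (.node (.node (.node (.leaf 0x215) (.leaf 0x40f)) (.node (.leaf 0x40e) (.leaf 0x5d5))) (.node (.node (.leaf 0x40d) (.leaf 0x564)) (.node (.leaf 0x545) (.leaf 0x67d)))))) (.node (.node (.node (.node (.node (.leaf 0x200061b) (.leaf 0x21d)) (.node (.leaf 0x218) (.leaf 0x3d9))) (.node (.node (.leaf 0x200023b) (.leaf 0x2000270)) (.node (.leaf 0x3a3) (.leaf 0x5e2)))) (.node (.node (.node (.leaf 0x222) (.leaf 0x3d8)) (.node (.leaf 0x3cd) (.leaf 0x5d3))) (.node (.node (.leaf 0x2000237) (.leaf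 0x563)) (.node (.leaf 0x543) (.leaf 0x67c))))) (.node (.node (.node (.node (.leaf 0x214) (.leaf 0x390)) (.node (.leaf 0x38f) (.leaf 0x5cc))) (.node (.node (.leaf 0x38e) (.leaf 0x55b)) (.node (.leaf 0x538) (.leaf 0x67b)))) (.node (.node (.node (.leaf 0x38d) (.leaf 0x4dc)) (.node (.leaf 0x4cb) (.leaf 0x67a))) (.node (.node (.leaf 0x4ae) (.leaf 0x679)) (.node (.leaf 0x60f) (.leaf 0x6cf)))))))) (.node (.node (.node (.node (.node (.node (.node (.leaf 0x43) (.leaf 0x189)) (.node (.leaf 0x139) (.leaf 0x213))) (.node (.node (.leaf 0xfc) (.leaf 0x212)) (.node (.leaf 0x20f) (.leaf 0x528)))) (.node (.node (.node (.leaf 0xca) (.leaf 0x211)) (.node (.leaf 0x20e) (.leaf 0x4ba))) (.node (.node (.leaf 0x20a) (.leaf 0x497)) (.node (.leaf 0x200062d) (.leaf 0x5e5))))) (.node (.node (.node (.node (.leaf 0xa3) (.leaf 0x20004c9)) (.node (.leaf 0x20d) (.leaf 0x43a))) (.node (.node (.leaf 0x20001f2) (.leaf 0x421)) (.node (.leaf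 0x420) (.leaf 0x615)))) (.node (.node (.node (.leaf 0x207) (.leaf 0x409)) (.node (.leaf 0x2000367) (.leaf 0x5d4))) (.node (.node (.leaf 0x20004c9) (.leaf 0x2000367)) (.node (.leaf 0x544) (.leaf 0x677)))))) (.node (.node (.node (.node (.node (.leaf 0x88) (.leaf 0x20000db)) (.node (.leaf 0x20c) (.leaf 0x3b0))) (.node (.node (.leaf 0x209) (.leaf 0x39f)) (.node (.leaf 0x39e) (.leaf 0x60a)))) (.node (.node (.node (.leaf 0x206) (.leaf 0x3af)) (.node (.leaf 0x200068a) (.leaf 0x5d2))) (.node (.node (.leaf 0x3ad) (.leaf 0x562)) (.node (.leaf 0x542) (.leaf 0x676))))) (.node (.node (.node (.node (.leaf 0x204) (.leaf 0x3ae)) (.node (.leaf 0x389) (.leaf 0x5cb))) (.node (.node (.leaf 0x388) (.leaf 0x55a)) (.node (.leaf 0x537) (.leaf 0x675)))) (.node (.node (.node (.leaf 0x2000512) (.leaf 0x4d8)) (.node (.leaf 0x4ca) (.leaf 0x674))) (.node (.node (.leaf 0x4ad) (.leaf 0x66d)) (.node (.leaf 0x2000658) (.leaf 0x6ce)))))))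 (.node (.node (.node (.node (.node (.node (.leaf 0x200040f) (.leaf 0x210)) (.node (.leaf 0x20b) (.leaf 0x7000426))) (.node (.node (.leaf 0x3000029) (.leaf 0x338)) (.node (.leaf 0x337) (.leaf 0x5e0)))) (.node (.node (.node (.leaf 0x205) (.leaf 0x331)) (.node (.leaf 0x330) (.leaf 0x5d1))) (.node (.node (.leaf 0x32f) (.leaf 0x561)) (.node (.leaf 0x70000c2) (.leaf 0x673))))) (.node (.node (.node (.node (.leaf 0x203) (.leaf 0x325)) (.node (.leaf 0x324) (.leaf 0x5c9))) (.node (.node (.leaf 0x323) (.leaf 0x558)) (.node (.leaf 0x535) (.leaf 0x672)))) (.node (.node (.node (.leaf 0x32e) (.leaf 0x2000693)) (.node (.leaf 0x4c8) (.leaf 0x670))) (.node (.node (.leaf 0x2000422) (.leaf 0x66c)) (.node (.leaf 0x609) (.leaf 0x6cd)))))) (.node (.node (.node (.node (.node (.leaf 0x202) (.leaf 0x314)) (.node (.leaf 0x2000545) (.leaf 0x5c5))) (.node (.node (.leaf 0x313) (.leaf 0x554)) (.node (.leaf 0x52e) (.leaf 0x671)))) (.node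 (.node (.node (.leaf 0x32d) (.leaf 0x4d7)) (.node (.leaf 0x4c1) (.leaf 0x66f))) (.node (.node (.leaf 0x4a4) (.leaf 0x2000216)) (.node (.leaf 0x608) (.leaf 0x2000545))))) (.node (.node (.node (.node (.leaf 0x312) (.leaf 0x2000237)) (.node (.leaf 0x441) (.leaf 0x66e))) (.node (.node (.leaf 0x430) (.leaf 0x66b)) (.node (.leaf 0x607) (.leaf 0x6cc)))) (.node (.node (.node (.leaf 0x419) (.leaf 0x669)) (.node (.leaf 0x606) (.leaf 0x6cb))) (.node (.node (.leaf 0x576) (.leaf 0x6ca)) (.node (.leaf 0x6c9) (.leaf 0x6e7)))))))))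

/-- part -/
def irrT_4 : Tr Nat := (.node (.node (.node (.node (.node (.node (.node (.node (.leaf 0x2) (.leaf 0x3a)) (.node (.leaf 0x31) (.leaf 0x160))) (.node (.node (.leaf 0x29) (.leaf 0x11c)) (.node (.leaf 0x11b) (.leaf 0x1c7)))) (.node (.node (.node (.leaf 0x22) (.leaf 0xe2)) (.node (.leaf 0xe1) (.leaf 0x1c6))) (.node (.node (.leaf 0xe0) (.leaf 0x200068a)) (.node (.leaf 0x16d) (.leaf 0x2000397))))) (.node (.node (.node (.node (.leaf 0x1c) (.leaf 0xb7)) (.node (.leaf 0x2000512) (.leaf 0x1c5))) (.node (.node (.leaf 0xb6) (.leaf 0x1c3)) (.node (.leaf 0x16c) (.leaf 0x47b)))) (.node (.node (.node (.leaf 0xb5) (.leaf 0x1bf)) (.node (.leaf 0x169) (.leaf 0x2000665))) (.node (.node (.leaf 0x125) (.leaf 0x474)) (.node (.leaf 0x473) (.leaf 0x5b3)))))) (.node (.node (.node (.node (.node (.leaf 0x17) (.leaf 0x96)) (.node (.leaf 0x20004b3) (.leaf 0x200062d))) (.node (.node (.leaf 0x95) (.leaf 0x1c2)) (.node (.leaf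 0x181) (.leaf 0x3ea)))) (.node (.node (.node (.leaf 0x20004b3) (.leaf 0x1be)) (.node (.leaf 0x168) (.leaf 0x3ef))) (.node (.node (.leaf 0x124) (.leaf 0x3e9)) (.node (.leaf 0x3e8) (.leaf 0x5b2))))) (.node (.node (.node (.node (.leaf 0x94) (.leaf 0x20004c9)) (.node (.leaf 0x165) (.leaf 0x20001f2))) (.node (.node (.leaf 0x121) (.leaf 0x3e4)) (.node (.leaf 0x3e2) (.leaf 0x5a7)))) (.node (.node (.node (.leaf 0xe8) (.leaf 0x3e3)) (.node (.leaf 0x3e1) (.leaf 0x516))) (.node (.node (.leaf 0x3e0) (.leaf 0x2000367)) (.node (.leaf 0x510) (.leaf 0x648))))))) (.node (.node (.node (.node (.node (.node (.leaf 0x13) (.leaf 0x7f)) (.node (.leaf 0x7e) (.leaf 0x1c4))) (.node (.node (.leaf 0x7d) (.leaf 0x1c1)) (.node (.leaf 0x16b) (.leaf 0x2000216)))) (.node (.node (.node (.leaf 0x7c) (.leaf 0x1bd)) (.node (.leaf 0x167) (.leaf 0x36f))) (.node (.node (.leaf 0x123) (.leaf 0x36e)) (.node (.leaf 0x36d) (.leaf 0x5aa))))) (.node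 (.node (.node (.node (.leaf 0x7b) (.leaf 0x1bb)) (.node (.leaf 0x164) (.leaf 0x36c))) (.node (.node (.leaf 0x120) (.leaf 0x2000270)) (.node (.leaf 0x36b) (.leaf 0x5a6)))) (.node (.node (.node (.leaf 0xe7) (.leaf 0x200023b)) (.node (.leaf 0x36a) (.leaf 0x515))) (.node (.node (.leaf 0x2000237) (.leaf 0x50f)) (.node (.leaf 0x50e) (.leaf 0x647)))))) (.node (.node (.node (.node (.node (.leaf 0x7a) (.leaf 0x1ba)) (.node (.leaf 0x163) (.leaf 0x369))) (.node (.node (.leaf 0x11e) (.leaf 0x368)) (.node (.leaf 0x365) (.leaf 0x5a4)))) (.node (.node (.node (.leaf 0xe4) (.leaf 0x367)) (.node (.leaf 0x364) (.leaf 0x513))) (.node (.node (.leaf 0x362) (.leaf 0x50a)) (.node (.leaf 0x512) (.leaf 0x646))))) (.node (.node (.node (.node (.leaf 0xc2) (.leaf 0x366)) (.node (.leaf 0x363) (.leaf 0x2000693))) (.node (.node (.leaf 0x361) (.leaf 0x47f)) (.node (.leaf 0x48e) (.leaf 0x645)))) (.node (.node (.node (.leaf 0x360) (.leaf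 0x2000693)) (.node (.leaf 0x48f) (.leaf 0x640))) (.node (.node (.leaf 0x47a) (.leaf 0x5b1)) (.node (.leaf 0x5ab) (.leaf 0x6af)))))))) (.node (.node (.node (.node (.node (.node (.node (.leaf 0x10) (.leaf 0x6d)) (.node (.leaf 0x6c) (.leaf 0x2000658))) (.node (.node (.leaf 0x6b) (.leaf 0x1c0)) (.node (.leaf 0x16a) (.leaf 0x307)))) (.node (.node (.node (.leaf 0x6a) (.leaf 0x1bc)) (.node (.leaf 0x166) (.leaf 0x306))) (.node (.node (.leaf 0x122) (.leaf 0x305)) (.node (.leaf 0x304) (.leaf 0x5a8))))) (.node (.node (.node (.node (.leaf 0x69) (.leaf 0x20000db)) (.node (.leaf 0x2000397) (.leaf 0x302))) (.node (.node (.leaf 0x11f) (.leaf 0x301)) (.node (.leaf 0x2ff) (.leaf 0x200068a)))) (.node (.node (.node (.leaf 0xe6) (.leaf 0x300)) (.node (.leaf 0x2fe) (.leaf 0x514))) (.node (.node (.leaf 0x2fd) (.leaf 0x50c)) (.node (.leaf 0x50b) (.leaf 0x644)))))) (.node (.node (.node (.node (.node (.leaf 0x68) (.leaf 0x1b9))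 (.node (.leaf 0x162) (.leaf 0x2fc))) (.node (.node (.leaf 0x20001f2) (.leaf 0x2fb)) (.node (.leaf 0x20004c9) (.leaf 0x2000367)))) (.node (.node (.node (.leaf 0x2000369) (.leaf 0x2fa)) (.node (.leaf 0x2f8) (.leaf 0x20004c9))) (.node (.node (.leaf 0x2f6) (.leaf 0x2000367)) (.node (.leaf 0x509) (.leaf 0x643))))) (.node (.node (.node (.node (.leaf 0xb9) (.leaf 0x2f9)) (.node (.leaf 0x2f7) (.leaf 0x200062d))) (.node (.node (.leaf 0x2f5) (.leaf 0x20004b3)) (.node (.leaf 0x47e) (.leaf 0x642)))) (.node (.node (.node (.leaf 0x2f4) (.leaf 0x479)) (.node (.leaf 0x478) (.leaf 0x20002dd))) (.node (.node (.leaf 0x20002dd) (.leaf 0x5b0)) (.node (.leaf 0x5a9) (.leaf 0x6ad))))))) (.node (.node (.node (.node (.node (.node (.leaf 0x67) (.leaf 0x1c9)) (.node (.leaf 0x161) (.leaf 0x200023b))) (.node (.node (.leaf 0x11d) (.leaf 0x2f3)) (.node (.leaf 0x2f0) (.leaf 0x5ac)))) (.node (.node (.node (.leaf 0xe3) (.leaf 0x2f2)) (.node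 (.leaf 0x2ef) (.leaf 0x511))) (.node (.node (.leaf 0x303) (.leaf 0x508)) (.node (.leaf 0x507) (.leaf 0x2000270))))) (.node (.node (.node (.node (.leaf 0xb8) (.leaf 0x2000186)) (.node (.leaf 0x2ee) (.leaf 0x480))) (.node (.node (.leaf 0x2ec) (.leaf 0x47d)) (.node (.leaf 0x2000186) (.leaf 0x649)))) (.node (.node (.node (.leaf 0x2ea) (.leaf 0x476)) (.node (.leaf 0x475) (.leaf 0x63f))) (.node (.node (.leaf 0x47c) (.leaf 0x5af)) (.node (.leaf 0x5b4) (.leaf 0x6b0)))))) (.node (.node (.node (.node (.node (.leaf 0x97) (.leaf 0x2f1)) (.node (.leaf 0x2ed) (.leaf 0x3f2))) (.node (.node (.leaf 0x2eb) (.leaf 0x3ee)) (.node (.leaf 0x3ed) (.leaf 0x641)))) (.node (.node (.node (.leaf 0x2000355) (.leaf 0x3f0)) (.node (.leaf 0x3f1) (.leaf 0x63e))) (.node (.node (.leaf 0x3ec) (.leaf 0x5ae)) (.node (.leaf 0x5b5) (.leaf 0x6ac))))) (.node (.node (.node (.node (.leaf 0x2e9) (.leaf 0x3e7)) (.node (.leaf 0x3e6) (.leaf 0x63d)))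 (.node (.node (.leaf 0x3eb) (.leaf 0x5ad)) (.node (.leaf 0x5a5) (.leaf 0x6ae)))) (.node (.node (.node (.leaf 0x3e5) (.leaf 0x517)) (.node (.leaf 0x518) (.leaf 0x6ab))) (.node (.node (.leaf 0x50d) (.leaf 0x6aa)) (.node (.leaf 0x700053a) (.leaf 0x6e5)))))))))

/-- part -/
def irrT_5 : Tr Nat := (.node (.node (.node (.node (.node (.node (.node (.node (.leaf 0xc) (.leaf 0x51)) (.node (.leaf 0x70002f0) (.leaf 0x19d))) (.node (.node (.leaf 0x50) (.leaf 0x198)) (.node (.leaf 0x148) (.leaf 0x264)))) (.node (.node (.node (.leaf 0x4f) (.leaf 0x200044c)) (.node (.leaf 0x144) (.leaf 0x263))) (.node (.node (.leaf 0x109) (.leaf 0x262)) (.node (.leaf 0x261) (.leaf 0x547))))) (.node (.node (.node (.node (.leaf 0x4e) (.leaf 0x192)) (.node (.leaf 0x140) (.leaf 0x25f))) (.node (.node (.leaf 0x105) (.leaf 0x25e)) (.node (.leaf 0x25c) (.leaf 0x539)))) (.node (.node (.node (.leaf 0xd3) (.leaf 0x25d)) (.node (.leaf 0x260) (.leaf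 0x4cd))) (.node (.node (.leaf 0x25b) (.leaf 0x4af)) (.node (.leaf 0x4cc) (.leaf 0x5ef)))))) (.node (.node (.node (.node (.node (.leaf 0x4d) (.leaf 0x18e)) (.node (.leaf 0x2000136) (.leaf 0x259))) (.node (.node (.leaf 0x101) (.leaf 0x258)) (.node (.leaf 0x255) (.leaf 0x52f)))) (.node (.node (.node (.leaf 0xd0) (.leaf 0x257)) (.node (.leaf 0x254) (.leaf 0x2000216))) (.node (.node (.leaf 0x252) (.leaf 0x4a5)) (.node (.leaf 0x4c2) (.leaf 0x2000136))))) (.node (.node (.node (.node (.leaf 0x2000237) (.leaf 0x256)) (.node (.leaf 0x253) (.leaf 0x443))) (.node (.node (.leaf 0x251) (.leaf 0x431)) (.node (.leaf 0x442) (.leaf 0x5ec)))) (.node (.node (.node (.leaf 0x250) (.leaf 0x41a)) (.node (.leaf 0x494) (.leaf 0x5d9))) (.node (.node (.leaf 0x477) (.leaf 0x56a)) (.node (.leaf 0x57c) (.leaf 0x690))))))) (.node (.node (.node (.node (.node (.node (.leaf 0x4c) (.leaf 0x18b)) (.node (.leaf 0x13c) (.leaf 0x24f))) (.node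 (.node (.leaf 0xff) (.leaf 0x24e)) (.node (.leaf 0x24b) (.leaf 0x52b)))) (.node (.node (.node (.leaf 0xcd) (.leaf 0x20004b3)) (.node (.leaf 0x24a) (.leaf 0x4be))) (.node (.node (.leaf 0x248) (.leaf 0x49e)) (.node (.leaf 0x49d) (.leaf 0x5ee))))) (.node (.node (.node (.node (.leaf 0xa6) (.leaf 0x24d)) (.node (.leaf 0x249) (.leaf 0x43d))) (.node (.node (.leaf 0x247) (.leaf 0x427)) (.node (.leaf 0x426) (.leaf 0x5eb)))) (.node (.node (.node (.leaf 0x245) (.leaf 0x413)) (.node (.leaf 0x412) (.leaf 0x5d8))) (.node (.node (.leaf 0x411) (.leaf 0x569)) (.node (.leaf 0x2000369) (.leaf 0x688)))))) (.node (.node (.node (.node (.node (.leaf 0x8a) (.leaf 0x24c)) (.node (.leaf 0x2000153) (.leaf 0x2000397))) (.node (.node (.leaf 0x246) (.leaf 0x2000153)) (.node (.leaf 0x3a5) (.leaf 0x5e9)))) (.node (.node (.node (.leaf 0x244) (.leaf 0x3b5)) (.node (.leaf 0x3b4) (.leaf 0x613))) (.node (.node (.leaf 0x200068a) (.leaf 0x566))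 (.node (.leaf 0x549) (.leaf 0x687))))) (.node (.node (.node (.node (.leaf 0x2000665) (.leaf 0x394)) (.node (.leaf 0x393) (.leaf 0x5cf))) (.node (.node (.leaf 0x2000512) (.leaf 0x55f)) (.node (.leaf 0x53e) (.leaf 0x686)))) (.node (.node (.node (.leaf 0x392) (.leaf 0x4dd)) (.node (.leaf 0x4d1) (.leaf 0x200011e))) (.node (.node (.leaf 0x4b6) (.leaf 0x2000665)) (.node (.leaf 0x611) (.leaf 0x6d5)))))))) (.node (.node (.node (.node (.node (.node (.node (.leaf 0x4b) (.leaf 0x200035a)) (.node (.leaf 0x13a) (.leaf 0x243))) (.node (.node (.leaf 0xfd) (.leaf 0x242)) (.node (.leaf 0x23d) (.leaf 0x529)))) (.node (.node (.node (.leaf 0xcb) (.leaf 0x241)) (.node (.leaf 0x23c) (.leaf 0x4bb))) (.node (.node (.leaf 0x239) (.leaf 0x499)) (.node (.leaf 0x498) (.leaf 0x5ed))))) (.node (.node (.node (.node (.leaf 0xa4) (.leaf 0x240)) (.node (.leaf 0x23b) (.leaf 0x43b))) (.node (.node (.leaf 0x25a) (.leaf 0x422)) (.node (.leaf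 0x200040f) (.leaf 0x5ea)))) (.node (.node (.node (.leaf 0x237) (.leaf 0x40c)) (.node (.leaf 0x40b) (.leaf 0x5d7))) (.node (.node (.leaf 0x40a) (.leaf 0x568)) (.node (.leaf 0x54b) (.leaf 0x693)))))) (.node (.node (.node (.node (.node (.leaf 0x89) (.leaf 0x23f)) (.node (.leaf 0x23a) (.leaf 0x3b3))) (.node (.node (.leaf 0x2000270) (.leaf 0x3a2)) (.node (.leaf 0x3a1) (.leaf 0x60d)))) (.node (.node (.node (.leaf 0x236) (.leaf 0x3b2)) (.node (.leaf 0x3b1) (.leaf 0x200061b))) (.node (.node (.leaf 0x3a0) (.leaf 0x57b)) (.node (.leaf 0x579) (.leaf 0x68f))))) (.node (.node (.node (.node (.leaf 0x2000186) (.leaf 0x38c)) (.node (.leaf 0x2000136) (.leaf 0x2000545))) (.node (.node (.leaf 0x38b) (.leaf 0x55d)) (.node (.leaf 0x53b) (.leaf 0x2000186)))) (.node (.node (.node (.leaf 0x38a) (.leaf 0x4db)) (.node (.leaf 0x4cf) (.leaf 0x68e))) (.node (.node (.leaf 0x2000216) (.leaf 0x68d)) (.node (.leaf 0x60e) (.leaf 0x2000136)))))))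 (.node (.node (.node (.node (.node (.node (.leaf 0x73) (.leaf 0x23e)) (.node (.leaf 0x20001f2) (.leaf 0x370))) (.node (.node (.leaf 0x238) (.leaf 0x33a)) (.node (.leaf 0x339) (.leaf 0x5e8)))) (.node (.node (.node (.leaf 0x235) (.leaf 0x334)) (.node (.leaf 0x333) (.leaf 0x2000367))) (.node (.node (.leaf 0x332) (.leaf 0x577)) (.node (.leaf 0x548) (.leaf 0x685))))) (.node (.node (.node (.node (.leaf 0x20002dd) (.leaf 0x327)) (.node (.leaf 0x326) (.leaf 0x5cd))) (.node (.node (.leaf 0x20004b3) (.leaf 0x55c)) (.node (.leaf 0x53a) (.leaf 0x684)))) (.node (.node (.node (.leaf 0x200062d) (.leaf 0x4da)) (.node (.leaf 0x4ce) (.leaf 0x682))) (.node (.node (.leaf 0x4b0) (.leaf 0x680)) (.node (.leaf 0x20004b3) (.leaf 0x6d4)))))) (.node (.node (.node (.node (.node (.leaf 0x234) (.leaf 0x319)) (.node (.leaf 0x318) (.leaf 0x5c6))) (.node (.node (.leaf 0x317) (.leaf 0x555)) (.node (.leaf 0x530) (.leaf 0x683)))) (.node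 (.node (.node (.leaf 0x316) (.leaf 0x4d9)) (.node (.leaf 0x4c3) (.leaf 0x200011e))) (.node (.node (.leaf 0x4a6) (.leaf 0x67f)) (.node (.leaf 0x60c) (.leaf 0x6d3))))) (.node (.node (.node (.node (.leaf 0x315) (.leaf 0x44d)) (.node (.leaf 0x444) (.leaf 0x681))) (.node (.node (.leaf 0x432) (.leaf 0x2000153)) (.node (.leaf 0x200068a) (.leaf 0x6d2)))) (.node (.node (.node (.leaf 0x41b) (.leaf 0x67e)) (.node (.leaf 0x60b) (.leaf 0x6d1))) (.node (.node (.leaf 0x578) (.leaf 0x6d0)) (.node (.leaf 0x2000397) (.leaf 0x6e8)))))))))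

/-- part -/
def irrT_6 : Tr Nat := (.node (.node (.node (.node (.node (.node (.node (.node (.leaf 0xd) (.leaf 0x58)) (.node (.leaf 0x2000367) (.leaf 0x1b2))) (.node (.node (.leaf 0x57) (.leaf 0x1af)) (.node (.leaf 0x15b) (.leaf 0x292)))) (.node (.node (.node (.leaf 0x56) (.leaf 0x1ab)) (.node (.leaf 0x159) (.leaf 0x291))) (.node (.node (.leaf 0x20001f2) (.leaf 0x290)) (.node (.leaf 0x28f) (.leaf 0x2000367))))) (.node (.node (.node (.node (.leaf 0x55) (.leaf 0x1a8)) (.node (.leaf 0x155) (.leaf 0x28d))) (.node (.node (.leaf 0x114) (.leaf 0x28c)) (.node (.leaf 0x28a) (.leaf 0x582)))) (.node (.node (.node (.leaf 0xe5) (.leaf 0x20002dd)) (.node (.leaf 0x28e) (.leaf 0x4f9))) (.node (.node (.leaf 0x200062d) (.leaf 0x4e9)) (.node (.leaf 0x20002dd) (.leaf 0x62a)))))) (.node (.node (.node (.node (.node (.leaf 0x54) (.leaf 0x1a5)) (.node (.leaf 0x152) (.leaf 0x289))) (.node (.node (.leaf 0x112) (.leaf 0x288)) (.node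 (.leaf 0x285) (.leaf 0x57f)))) (.node (.node (.node (.leaf 0x200011e) (.leaf 0x287)) (.node (.leaf 0x284) (.leaf 0x4f5))) (.node (.node (.leaf 0x2000658) (.leaf 0x4e6)) (.node (.leaf 0x4f4) (.leaf 0x629))))) (.node (.node (.node (.node (.leaf 0xb2) (.leaf 0x286)) (.node (.leaf 0x283) (.leaf 0x470))) (.node (.node (.leaf 0x282) (.leaf 0x462)) (.node (.leaf 0x468) (.leaf 0x626)))) (.node (.node (.node (.leaf 0x281) (.leaf 0x20000db)) (.node (.leaf 0x2000397) (.leaf 0x61e))) (.node (.node (.leaf 0x456) (.leaf 0x5a1)) (.node (.leaf 0x58c) (.leaf 0x6a7))))))) (.node (.node (.node (.node (.node (.node (.leaf 0x53) (.leaf 0x1a3)) (.node (.leaf 0x14f) (.leaf 0x280))) (.node (.node (.leaf 0x110) (.leaf 0x200035a)) (.node (.leaf 0x2000693) (.leaf 0x57d)))) (.node (.node (.node (.leaf 0xd9) (.leaf 0x2000422)) (.node (.leaf 0x2000355) (.leaf 0x4f2))) (.node (.node (.leaf 0x27b) (.leaf 0x4e4)) (.node (.leaf 0x4e3)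 (.leaf 0x628))))) (.node (.node (.node (.node (.leaf 0xb0) (.leaf 0x27f)) (.node (.leaf 0x27d) (.leaf 0x466))) (.node (.node (.leaf 0x27a) (.leaf 0x45f)) (.node (.leaf 0x45e) (.leaf 0x625)))) (.node (.node (.node (.leaf 0x277) (.leaf 0x454)) (.node (.leaf 0x200044c) (.leaf 0x61d))) (.node (.node (.leaf 0x70005cc) (.leaf 0x59b)) (.node (.leaf 0x58b) (.leaf 0x6a2)))))) (.node (.node (.node (.node (.node (.leaf 0x92) (.leaf 0x27e)) (.node (.leaf 0x27c) (.leaf 0x3d5))) (.node (.node (.leaf 0x279) (.leaf 0x3da)) (.node (.leaf 0x3d4) (.leaf 0x623)))) (.node (.node (.node (.leaf 0x276) (.leaf 0x2000237)) (.node (.leaf 0x3cf) (.leaf 0x61c))) (.node (.node (.leaf 0x3ce) (.leaf 0x59f)) (.node (.leaf 0x589) (.leaf 0x6a1))))) (.node (.node (.node (.node (.leaf 0x275) (.leaf 0x2000136)) (.node (.leaf 0x3c4) (.leaf 0x61a))) (.node (.node (.leaf 0x3c3) (.leaf 0x59a)) (.node (.leaf 0x587) (.leaf 0x6a0)))) (.node (.node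 (.node (.leaf 0x3c2) (.leaf 0x505)) (.node (.leaf 0x4fe) (.leaf 0x69f))) (.node (.node (.leaf 0x2000136) (.leaf 0x69e)) (.node (.leaf 0x639) (.leaf 0x2000216)))))))) (.node (.node (.node (.node (.node (.node (.node (.leaf 0x52) (.leaf 0x1a2)) (.node (.leaf 0x14e) (.leaf 0x274))) (.node (.node (.leaf 0x10f) (.leaf 0x273)) (.node (.leaf 0x26f) (.leaf 0x593)))) (.node (.node (.node (.leaf 0x200053d) (.leaf 0x272)) (.node (.leaf 0x26e) (.leaf 0x4f1))) (.node (.node (.leaf 0x200062d) (.leaf 0x4e2)) (.node (.leaf 0x4e1) (.leaf 0x627))))) (.node (.node (.node (.node (.leaf 0xaf) (.leaf 0x28b)) (.node (.leaf 0x2000367) (.leaf 0x465))) (.node (.node (.leaf 0x26c) (.leaf 0x2000367)) (.node (.leaf 0x45d) (.leaf 0x624)))) (.node (.node (.node (.leaf 0x26a) (.leaf 0x453)) (.node (.leaf 0x2000369) (.leaf 0x634))) (.node (.node (.leaf 0x452) (.leaf 0x599)) (.node (.leaf 0x58a) (.leaf 0x2000367)))))) (.node (.node (.node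 (.node (.node (.leaf 0x91) (.leaf 0x271)) (.node (.leaf 0x200068a) (.leaf 0x3d3))) (.node (.node (.leaf 0x26b) (.leaf 0x3d7)) (.node (.leaf 0x3db) (.leaf 0x637)))) (.node (.node (.node (.leaf 0x269) (.leaf 0x3cc)) (.node (.leaf 0x3cb) (.leaf 0x63c))) (.node (.node (.leaf 0x3ca) (.leaf 0x59e)) (.node (.leaf 0x598) (.leaf 0x69d))))) (.node (.node (.node (.node (.leaf 0x267) (.leaf 0x3c1)) (.node (.leaf 0x3c0) (.leaf 0x618))) (.node (.node (.leaf 0x3bf) (.leaf 0x200011e)) (.node (.leaf 0x584) (.leaf 0x2000512)))) (.node (.node (.node (.leaf 0x3be) (.leaf 0x504)) (.node (.leaf 0x506) (.leaf 0x2000658))) (.node (.node (.leaf 0x4eb) (.leaf 0x697)) (.node (.leaf 0x638) (.leaf 0x6dc))))))) (.node (.node (.node (.node (.node (.node (.leaf 0x79) (.leaf 0x270)) (.node (.leaf 0x26d) (.leaf 0x35e))) (.node (.node (.leaf 0x278) (.leaf 0x35b)) (.node (.leaf 0x35a) (.leaf 0x622)))) (.node (.node (.node (.leaf 0x268) (.leaf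 0x357)) (.node (.leaf 0x356) (.leaf 0x61b))) (.node (.node (.leaf 0x355) (.leaf 0x596)) (.node (.leaf 0x595) (.leaf 0x200040f))))) (.node (.node (.node (.node (.leaf 0x266) (.leaf 0x34e)) (.node (.leaf 0x34d) (.leaf 0x617))) (.node (.node (.leaf 0x34c) (.leaf 0x200035a)) (.node (.leaf 0x583) (.leaf 0x69c)))) (.node (.node (.node (.leaf 0x34b) (.leaf 0x503)) (.node (.leaf 0x4fa) (.leaf 0x69a))) (.node (.node (.leaf 0x4ea) (.leaf 0x696)) (.node (.leaf 0x636) (.leaf 0x6db)))))) (.node (.node (.node (.node (.node (.leaf 0x265) (.leaf 0x35f)) (.node (.leaf 0x35d) (.leaf 0x616))) (.node (.node (.leaf 0x359) (.leaf 0x594)) (.node (.leaf 0x580) (.leaf 0x69b)))) (.node (.node (.node (.leaf 0x2000216) (.leaf 0x501)) (.node (.leaf 0x4f6) (.leaf 0x699))) (.node (.node (.leaf 0x4e7) (.leaf 0x2000545)) (.node (.leaf 0x635) (.leaf 0x6da))))) (.node (.node (.node (.node (.leaf 0x34a) (.leaf 0x46e)) (.node (.leaf 0x469)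 (.leaf 0x698))) (.node (.node (.leaf 0x2000237) (.leaf 0x695)) (.node (.leaf 0x200023b) (.leaf 0x6d9)))) (.node (.node (.node (.leaf 0x457) (.leaf 0x694)) (.node (.leaf 0x633) (.leaf 0x6d8))) (.node (.node (.leaf 0x597) (.leaf 0x6d7)) (.node (.leaf 0x6d6) (.leaf 0x6e9)))))))))

/-- part -/
def irrT_7 : Tr Nat := (.node (.node (.node (.node (.node (.node (.node (.node (.leaf 0x42) (.leaf 0x188)) (.node (.leaf 0x138) (.leaf 0x201))) (.node (.node (.leaf 0xfb) (.leaf 0x200)) (.node (.leaf 0x1fc) (.leaf 0x527)))) (.node (.node (.node (.leaf 0xc9) (.leaf 0x1ff)) (.node (.leaf 0x1fb) (.leaf 0x4b9))) (.node (.node (.leaf 0x1f8) (.leaf 0x496)) (.node (.leaf 0x200061b) (.leaf 0x605))))) (.node (.node (.node (.node (.leaf 0xa2) (.leaf 0x1fe)) (.node (.leaf 0x2000186) (.leaf 0x2000216))) (.node (.node (.leaf 0x1f7) (.leaf 0x2000186)) (.node (.leaf 0x439) (.leaf 0x5e3)))) (.node (.node (.node (.leaf 0x1f4) (.leaf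 0x408)) (.node (.leaf 0x438) (.leaf 0x5d6))) (.node (.node (.leaf 0x407) (.leaf 0x567)) (.node (.leaf 0x54a) (.leaf 0x667)))))) (.node (.node (.node (.node (.node (.leaf 0x87) (.leaf 0x2000355)) (.node (.leaf 0x2000422) (.leaf 0x3a9))) (.node (.node (.leaf 0x1f6) (.leaf 0x39d)) (.node (.leaf 0x2000355) (.leaf 0x5e1)))) (.node (.node (.node (.leaf 0x2000422) (.leaf 0x3a8)) (.node (.leaf 0x3a7) (.leaf 0x614))) (.node (.node (.leaf 0x39c) (.leaf 0x57a)) (.node (.leaf 0x575) (.leaf 0x666))))) (.node (.node (.node (.node (.leaf 0x1f2) (.leaf 0x387)) (.node (.leaf 0x2000036) (.leaf 0x5ca))) (.node (.node (.leaf 0x386) (.leaf 0x559)) (.node (.leaf 0x536) (.leaf 0x665)))) (.node (.node (.node (.leaf 0x2000036) (.leaf 0x4d5)) (.node (.leaf 0x4c9) (.leaf 0x664))) (.node (.node (.leaf 0x4ac) (.leaf 0x658)) (.node (.leaf 0x604) (.leaf 0x6c7))))))) (.node (.node (.node (.node (.node (.node (.leaf 0x2000658) (.leaf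 0x21c)) (.node (.leaf 0x1fa) (.leaf 0x33f))) (.node (.node (.leaf 0x1f5) (.leaf 0x336)) (.node (.leaf 0x33e) (.leaf 0x5df)))) (.node (.node (.node (.leaf 0x2000665) (.leaf 0x32c)) (.node (.leaf 0x33d) (.leaf 0x5d0))) (.node (.node (.leaf 0x32b) (.leaf 0x560)) (.node (.leaf 0x541) (.leaf 0x663))))) (.node (.node (.node (.node (.leaf 0x1f1) (.leaf 0x322)) (.node (.leaf 0x33c) (.leaf 0x5c8))) (.node (.node (.leaf 0x321) (.leaf 0x557)) (.node (.leaf 0x534) (.leaf 0x2000153)))) (.node (.node (.node (.leaf 0x320) (.leaf 0x200068a)) (.node (.leaf 0x4c7) (.leaf 0x661))) (.node (.node (.leaf 0x4ab) (.leaf 0x657)) (.node (.leaf 0x603) (.leaf 0x6c6)))))) (.node (.node (.node (.node (.node (.leaf 0x1ef) (.leaf 0x311)) (.node (.leaf 0x33b) (.leaf 0x5c4))) (.node (.node (.leaf 0x310) (.leaf 0x553)) (.node (.leaf 0x2000369) (.leaf 0x662)))) (.node (.node (.node (.leaf 0x30f) (.leaf 0x4d3)) (.node (.leaf 0x4c0) (.leaf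 0x660))) (.node (.node (.leaf 0x4a3) (.leaf 0x678)) (.node (.leaf 0x2000367) (.leaf 0x20004c9))))) (.node (.node (.node (.node (.leaf 0x30e) (.leaf 0x44b)) (.node (.leaf 0x440) (.leaf 0x65f))) (.node (.node (.leaf 0x42f) (.leaf 0x20002dd)) (.node (.leaf 0x602) (.leaf 0x200062d)))) (.node (.node (.node (.leaf 0x418) (.leaf 0x652)) (.node (.leaf 0x5fd) (.leaf 0x6bf))) (.node (.node (.leaf 0x574) (.leaf 0x6be)) (.node (.leaf 0x200053d) (.leaf 0x6e6)))))))) (.node (.node (.node (.node (.node (.node (.node (.leaf 0x60) (.leaf 0x1fd)) (.node (.leaf 0x1f9) (.leaf 0x2c7))) (.node (.node (.leaf 0x208) (.leaf 0x2c2)) (.node (.leaf 0x2c6) (.leaf 0x5de)))) (.node (.node (.node (.leaf 0x1f3) (.leaf 0x2bf)) (.node (.leaf 0x2c5) (.leaf 0x5fa))) (.node (.node (.leaf 0x2be) (.leaf 0x570)) (.node (.leaf 0x56f) (.leaf 0x65e))))) (.node (.node (.node (.node (.leaf 0x1f0) (.leaf 0x2ba)) (.node (.leaf 0x2c8) (.leaf 0x5c7)))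 (.node (.node (.leaf 0x2b9) (.leaf 0x556)) (.node (.leaf 0x2000270) (.leaf 0x200023b)))) (.node (.node (.node (.leaf 0x2b8) (.leaf 0x200061b)) (.node (.leaf 0x4c6) (.leaf 0x65d))) (.node (.node (.leaf 0x4aa) (.leaf 0x656)) (.node (.leaf 0x200061b) (.leaf 0x6c5)))))) (.node (.node (.node (.node (.node (.leaf 0x1ee) (.leaf 0x2b2)) (.node (.leaf 0x2c4) (.leaf 0x5c3))) (.node (.node (.leaf 0x2c1) (.leaf 0x552)) (.node (.leaf 0x52d) (.leaf 0x7000234)))) (.node (.node (.node (.leaf 0x2b1) (.leaf 0x4d6)) (.node (.leaf 0x300024d) (.leaf 0x65c))) (.node (.node (.leaf 0x4a2) (.leaf 0x300057d)) (.node (.leaf 0x601) (.leaf 0x6bd))))) (.node (.node (.node (.node (.leaf 0x2b0) (.leaf 0x44a)) (.node (.leaf 0x43f) (.leaf 0x65b))) (.node (.node (.leaf 0x42e) (.leaf 0x654)) (.node (.leaf 0x5ff) (.leaf 0x6bb)))) (.node (.node (.node (.leaf 0x417) (.leaf 0x651)) (.node (.leaf 0x2000693) (.leaf 0x6ba))) (.node (.node (.leaf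 0x573) (.leaf 0x6b9)) (.node (.leaf 0x200035a) (.leaf 0x2000422))))))) (.node (.node (.node (.node (.node (.node (.leaf 0x2000153) (.leaf 0x2a4)) (.node (.leaf 0x2c3) (.leaf 0x5c2))) (.node (.node (.leaf 0x2a3) (.leaf 0x550)) (.node (.leaf 0x52a) (.leaf 0x2000153)))) (.node (.node (.node (.leaf 0x2a2) (.leaf 0x4d2)) (.node (.leaf 0x4bd) (.leaf 0x2000397))) (.node (.node (.leaf 0x49c) (.leaf 0x655)) (.node (.leaf 0x600) (.leaf 0x6c8))))) (.node (.node (.node (.node (.leaf 0x2a1) (.leaf 0x449)) (.node (.leaf 0x43c) (.leaf 0x65a))) (.node (.node (.leaf 0x425) (.leaf 0x66a)) (.node (.leaf 0x2000512) (.leaf 0x6c3)))) (.node (.node (.node (.leaf 0x410) (.leaf 0x650)) (.node (.leaf 0x5fc) (.leaf 0x6c4))) (.node (.node (.leaf 0x572) (.leaf 0x6c2)) (.node (.leaf 0x6c0) (.leaf 0x6e3)))))) (.node (.node (.node (.node (.node (.leaf 0x2af) (.leaf 0x3ac)) (.node (.leaf 0x3ab) (.leaf 0x659))) (.node (.node (.leaf 0x3a4)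 (.leaf 0x653)) (.node (.leaf 0x5fe) (.leaf 0x6b8)))) (.node (.node (.node (.leaf 0x3aa) (.leaf 0x668)) (.node (.leaf 0x5fb) (.leaf 0x6bc))) (.node (.node (.leaf 0x571) (.leaf 0x6b7)) (.node (.leaf 0x6b5) (.leaf 0x6e2))))) (.node (.node (.node (.node (.leaf 0x391) (.leaf 0x64f)) (.node (.leaf 0x5f9) (.leaf 0x2000367))) (.node (.node (.leaf 0x2000367) (.leaf 0x6c1)) (.node (.leaf 0x6b4) (.leaf 0x6e1)))) (.node (.node (.node (.leaf 0x4d4) (.leaf 0x6b6)) (.node (.leaf 0x6b3) (.leaf 0x6e0))) (.node (.node (.leaf 0x6b2) (.leaf 0x6df)) (.node (.leaf 0x6de) (.leaf 0x6ea)))))))))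

/-- witnesses for irreducibility -/
def irrT : Tr Nat := (.node (.node (.node irrT_0 irrT_4) (.node irrT_2 irrT_6)) (.node (.node irrT_1 irrT_5) (.node irrT_3 irrT_7)))

end CfsgLib.Coset.J4.Dat
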