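import Cfsg.Agent.Coset.J4.Inj
import Cfsg.Agent.Coset.J4.DataPerms
import Cfsg.Agent.Coset.J4.DataSext
import Cfsg.Agent.Coset.J4.DataIrr

/-!
The eleven-dimensional module of the tables is irreducible.
-/

set_option autoImplicit false
set_option maxRecDepth 100000
set_option Elab.async false

namespace CfsgLib.Coset.J4.Dat

theorem irr_ok : checkIrr (permN, permT) (1771, sextT) basisL funcL irrT = true := by
  decide +kernel

theorem irr : ∃ J, checkIrr (permN, permT) (1771, sextT) basisL funcL J = true := ⟨irrT, irr_ok⟩

end CfsgLib.Coset.J4.Dat
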