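import Cfsg.Agent.Coset.Prim

set_option autoImplicit false
set_option maxRecDepth 100000
set_option Elab.async false

namespace CfsgLib.Coset.J4.Dat

/-- rules, by indices -/
def ruleL : List (List Nat × List Nat × Nat) := [([18, 16], [14], 0), ([16, 18], [14], 0), ([16, 14], [18], 0), ([14, 16], [18], 0), ([14, 18], [16], 0), ([18, 14], [16], 0), ([14], [18, 16], 0), ([14], [16, 18], 0), ([18], [16, 14], 0), ([18], [14, 16], 0), ([16], [14, 18], 0), ([16], [18, 14], 0), ([0, 97], [95, 0], 58), ([97, 0], [58, 95], 58)]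

/-- the sextet word -/
def uWL : List Nat := [107, 105, 103]
/-- three words -/
def faL : List Nat := [103, 105, 107]
/-- three words -/
def fbL : List Nat := [6685, 101, 4956]
/-- three words -/
def qwL : List Nat := [8030, 23234, 10]

/-- operations -/
def opsA_g1 : List (Nat × Nat × Nat × Nat) := [(1, 6, 170, 171), (2, 6, 227, 228), (3, 14, 0, 0), (1, 6, 297, 298)]
/-- operations -/
def opsB_g1 : List (Nat × Nat × Nat × Nat) := [(0, 6, 321, 322), (1, 6, 388, 389), (2, 14, 0, 0), (2, 6, 317, 318)]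

/-- operations -/
def opsA_g2 : List (Nat × Nat × Nat × Nat) := [(2, 6, 454, 455), (1, 12, 684, 685)]
/-- operations -/
def opsB_g2 : List (Nat × Nat × Nat × Nat) := [(1, 6, 748, 749), (2, 13, 929, 930)]

/-- operations -/
def opsA_push9 : List (Nat × Nat × Nat × Nat) := [(1, 6, 977, 978), (0, 12, 1163, 1164), (2, 6, 1219, 1220), (3, 14, 0, 0), (2, 6, 1287, 1288), (1, 12, 1453, 1454), (3, 6, 1481, 1482), (4, 14, 0, 0), (2, 12, 1509, 1510), (3, 14, 0, 0)]
/-- operations -/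
def opsB_push9 : List (Nat × Nat × Nat × Nat) := [(1, 6, 1553, 1554), (2, 6, 1617, 1618), (3, 14, 0, 0)]

/-- operations -/
def opsA_push12 : List (Nat × Nat × Nat × Nat) := [(1, 6, 1619, 1620), (0, 12, 1621, 1622), (2, 6, 1623, 1624), (3, 14, 0, 0), (2, 6, 1689, 1690), (1, 12, 1451, 1452), (3, 6, 1691, 1692), (4, 14, 0, 0), (2, 12, 1693, 1694), (3, 14, 0, 0)]
/-- operations -/
def opsB_push12 : List (Nat × Nat × Nat × Nat) := [(1, 6, 1695, 1696), (2, 6, 1615, 1616), (3, 14, 0, 0)]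

/-- operations -/
def opsA_push16 : List (Nat × Nat × Nat × Nat) := [(3, 13, 1863, 1864), (1, 6, 1913, 1914), (0, 12, 2159, 2160), (2, 6, 2215, 2216), (3, 14, 0, 0), (1, 12, 2403, 2404), (2, 14, 0, 0), (2, 6, 2458, 2459)]
/-- operations -/
def opsB_push16 : List (Nat × Nat × Nat × Nat) := [(0, 6, 2506, 2507), (1, 6, 2558, 2559), (2, 14, 0, 0), (1, 6, 2615, 2616)]

/-- operations -/
def opsA_push21 : List (Nat × Nat × Nat × Nat) := [(3, 13, 2617, 2618), (1, 6, 2619, 2620), (0, 12, 2159, 2160), (2, 6, 2213, 2214), (3, 14, 0, 0), (1, 12, 2401, 2402), (2, 14, 0, 0), (2, 6, 2663, 2664)]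
/-- operations -/
def opsB_push21 : List (Nat × Nat × Nat × Nat) := [(0, 6, 2504, 2505), (1, 6, 2707, 2708), (2, 14, 0, 0), (1, 6, 2613, 2614)]

/-- operations -/
def opsA_push27 : List (Nat × Nat × Nat × Nat) := [(0, 12, 3003, 3004), (2, 6, 3040, 3041), (1, 12, 3120, 3121), (3, 6, 3154, 3155), (4, 14, 0, 0), (3, 12, 3378, 3379)]
/-- operations -/
def opsB_push27 : List (Nat × Nat × Nat × Nat) := [(2, 6, 3432, 3433), (2, 6, 3438, 3439)]

/-- operations -/
def opsA_push36 : List (Nat × Nat × Nat × Nat) := [(0, 12, 3001, 3002), (2, 6, 3440, 3441), (1, 12, 3442, 3443), (3, 6, 3152, 3153), (4, 14, 0, 0), (3, 12, 3444, 3445)]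
/-- operations -/
def opsB_push36 : List (Nat × Nat × Nat × Nat) := [(2, 6, 3446, 3447), (2, 6, 19, 18)]

/-- operations -/
def opsA_push41 : List (Nat × Nat × Nat × Nat) := [(0, 6, 535, 536), (1, 12, 3728, 3729), (2, 12, 3868, 3869), (3, 12, 3898, 3899), (4, 6, 3908, 3909), (5, 14, 0, 0), (3, 13, 3946, 3947), (1, 6, 3986, 3987), (0, 12, 4043, 4044), (2, 6, 4087, 4088), (3, 14, 0, 0), (1, 12, 4277, 4278), (2, 14, 0, 0)]
/-- operations -/
def opsB_push41 : List (Nat × Nat × Nat × Nat) := [(0, 6, 4281, 4282), (1, 6, 4325, 4326), (2, 14, 0, 0)]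

/-- operations -/
def opsA_push49 : List (Nat × Nat × Nat × Nat) := [(0, 6, 4335, 4336), (1, 12, 4337, 4338), (2, 12, 4500, 4501), (3, 12, 4532, 4533), (4, 6, 4560, 4561), (5, 14, 0, 0), (3, 13, 4670, 4671), (1, 6, 4712, 4713), (0, 13, 4742, 4743), (2, 6, 4790, 4791), (3, 14, 0, 0), (1, 12, 4918, 4919)]
/-- operations -/
def opsB_push49 : List (Nat × Nat × Nat × Nat) := [(1, 6, 4954, 4955), (0, 12, 4976, 4977), (2, 6, 5016, 5017)]

/-- operations -/
def opsA_push54 : List (Nat × Nat × Nat × Nat) := [(0, 6, 5038, 5039), (1, 12, 5264, 5265), (2, 12, 5266, 5267), (3, 12, 5268, 5269), (4, 6, 5292, 5293), (5, 14, 0, 0), (3, 13, 5454, 5455), (1, 6, 5496, 5497), (0, 12, 5632, 5633), (2, 6, 5676, 5677), (3, 14, 0, 0), (1, 12, 5704, 5705), (2, 14, 0, 0)]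
/-- operations -/
def opsB_push54 : List (Nat × Nat × Nat × Nat) := [(0, 6, 5746, 5747), (1, 6, 5789, 5790), (2, 14, 0, 0)]

/-- operations -/
def opsA_usq : List (Nat × Nat × Nat × Nat) := [(0, 6, 5833, 5834), (1, 12, 5885, 5886), (0, 12, 6001, 6002), (2, 13, 6297, 6298), (1, 13, 6431, 6432)]
/-- operations -/
def opsB_usq : List (Nat × Nat × Nat × Nat) := [(0, 6, 6447, 6448), (1, 12, 6539, 6540), (0, 12, 6567, 6568), (1, 6, 6605, 6606), (2, 14, 0, 0), (2, 6, 6663, 6664)]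

/-- operations -/
def opsA_fa : List (Nat × Nat × Nat × Nat) := [(0, 6, 5833, 5834), (1, 12, 5885, 5886), (0, 12, 6001, 6002), (2, 13, 6297, 6298), (1, 13, 6431, 6432)]
/-- operations -/
def opsB_fa : List (Nat × Nat × Nat × Nat) := [(0, 6, 6447, 6448), (1, 12, 6539, 6540), (0, 12, 6567, 6568), (1, 6, 6605, 6606), (2, 14, 0, 0), (2, 6, 6663, 6664)]

/-- operations -/
def opsA_fb : List (Nat × Nat × Nat × Nat) := [(0, 6, 6683, 6684), (1, 13, 6687, 6688), (0, 13, 6689, 6690)]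
/-- operations -/
def opsB_fb : List (Nat × Nat × Nat × Nat) := [(2, 6, 6683, 6684), (1, 12, 6771, 6772), (2, 12, 6829, 6830)]

/-- operations -/
def opsA_sum : List (Nat × Nat × Nat × Nat) := [(2, 12, 6913, 6914), (2, 12, 6945, 6946), (1, 13, 6971, 6972), (0, 12, 7027, 7028), (3, 13, 7113, 7114), (2, 13, 7199, 7200), (3, 13, 7215, 7216), (2, 12, 7232, 7233), (2, 12, 7250, 7251), (4, 12, 7380, 7381), (4, 12, 7470, 7471), (3, 13, 7504, 7505), (2, 12, 7549, 7550), (1, 13, 7603, 7604), (2, 13, 7659, 7660), (3, 6, 7701, 7702), (4, 14, 0, 0), (3, 6, 2668, 2667), (4, 14, 0, 0), (2, 13, 7851, 7852), (1, 6, 7907, 7908), (2, 6, 7951, 7952), (3, 14, 0, 0)]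
/-- operations -/
def opsB_sum : List (Nat × Nat × Nat × Nat) := [(1, 6, 8003, 8004), (0, 12, 8032, 8033), (2, 12, 8038, 8039)]

/-- operations -/
def opsA_fq : List (Nat × Nat × Nat × Nat) := []
/-- operations -/
def opsB_fq : List (Nat × Nat × Nat × Nat) := []

/-- sextets, images and permutations of the nine pushes -/
def puL : List (Nat × Nat × Nat × Nat) := [(325, 8949, 17479, 657), (8060, 8734, 17486, 1247), (230, 8971, 17479, 847), (232, 9219, 17486, 431), (113, 7910, 17493, 1317), (115, 8077, 17502, 37), (4327, 117, 17513, 1178), (117, 4327, 17513, 604), (8067, 119, 17522, 846)]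

/-- named indices: A, A², v, v2, v2A, W, W0, g1, g2, R, Q -/
def ixL : List Nat := [56, 58, 14, 95, 97, 103, 189, 8049, 8059, 1, 9143]

end CfsgLib.Coset.J4.Dat
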