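import Cfsg.Agent.Coset.Prim

set_option autoImplicit false
set_option maxRecDepth 100000
set_option Elab.async false

namespace CfsgLib.Coset.J4.Dat

open CfsgLib.Coset (Tr)

/-- part -/
def slpT_0 : Tr Nat := (.node (.node (.node (.node (.node (.node (.node (.node (.leaf 0x0) (.leaf 0x24a5003b54)) (.node (.leaf 0x80000001) (.leaf 0x2005e8f))) (.node (.node (.leaf 0xffe000003) (.leaf 0x42e4004ffe)) (.node (.leaf 0x2e4e002048) (.leaf 0x2006f1c)))) (.node (.node (.node (.leaf 0x7fe000003) (.leaf 0x47fe0043d9)) (.node (.leaf 0x2745000001) (.leaf 0x659f000001))) (.node (.node (.leaf 0x17fe000002) (.leaf 0x43970057fe)) (.node (.leaf 0x2c0d00271a) (.leaf 0x0))))) (.node (.node (.node (.node (.leaf 0x10003fe) (.leaf 0x42ac0043ee)) (.node (.leaf 0x2308000003) (.leaf 0x10061f6))) (.node (.node (.leaf 0x10013fe) (.leaf 0x53fe00428b)) (.node (.leaf 0x2635003096) (.leaf 0x0)))) (.node (.node (.node (.leaf 0x1000bfe) (.leaf 0x4438004bfe)) (.node (.leaf 0x1f71002bfe)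 (.leaf 0x20069ce))) (.node (.node (.leaf 0x1bfe000003) (.leaf 0x1005b98)) (.node (.leaf 0x294f0034f5) (.leaf 0x0)))))) (.node (.node (.node (.node (.node (.leaf 0x1fe000003) (.leaf 0x1f88002c96)) (.node (.leaf 0x2140000001) (.leaf 0x100602e))) (.node (.node (.leaf 0x10011fe) (.leaf 0x436b0042ad)) (.node (.leaf 0x2ae9001f72) (.leaf 0x0)))) (.node (.node (.node (.leaf 0x2000075) (.leaf 0x49fe004301)) (.node (.leaf 0x1f710029fe) (.leaf 0x20067a7))) (.node (.node (.leaf 0x19fe000003) (.leaf 0x43480059fe)) (.node (.leaf 0x2a1b00218c) (.leaf 0x0))))) (.node (.node (.node (.node (.leaf 0x5fe000003) (.leaf 0x45fe0043db)) (.node (.leaf 0x24ea000003) (.leaf 0x20063ca))) (.node (.node (.leaf 0x14c60015fe) (.leaf 0x43480055fe)) (.node (.leaf 0x31cc000c32) (.leaf 0x0)))) (.node (.node (.node (.leaf 0x2000dfe) (.leaf 0x439f004dfe)) (.node (.leaf 0x247d002ae8) (.leaf 0x2006c4c))) (.node (.node (.leaf 0x1dfe000003) (.leaf 0x2005d02)) (.node (.leaf 0x21ba002e43)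 (.leaf 0x0))))))) (.node (.node (.node (.node (.node (.node (.leaf 0xfe000003) (.leaf 0x186003a11)) (.node (.leaf 0x2088000003) (.leaf 0x2005f60))) (.node (.node (.leaf 0x10fe000002) (.leaf 0x428e0050fe)) (.node (.leaf 0x1f7b002b8d) (.leaf 0x20070c8)))) (.node (.node (.node (.leaf 0x8fe000001) (.leaf 0x48fe004398)) (.node (.leaf 0x2870000003) (.leaf 0x20066a0))) (.node (.node (.leaf 0x18fe000003) (.leaf 0x58fe00439c)) (.node (.leaf 0x354a0021c8) (.leaf 0x0))))) (.node (.node (.node (.node (.leaf 0x4fe000003) (.leaf 0x44300044fe)) (.node (.leaf 0x23e6000001) (.leaf 0x20062ea))) (.node (.node (.leaf 0x10014fe) (.leaf 0x54fe0043aa)) (.node (.leaf 0x3443001f72) (.leaf 0x0)))) (.node (.node (.node (.leaf 0x1000cfe) (.leaf 0x437000462b)) (.node (.leaf 0x28d1002c3e) (.leaf 0x1006af8))) (.node (.node (.leaf 0x1001cfe) (.leaf 0x2005c4a)) (.node (.leaf 0x233b00323b) (.leaf 0x0)))))) (.node (.node (.node (.node (.node (.leaf 0x20002fe) (.leaf 0x42ac0042f8))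 (.node (.leaf 0x2227000003) (.leaf 0x20060fe))) (.node (.node (.leaf 0x20012fe) (.leaf 0x42af0052fe)) (.node (.leaf 0x212f0032fe) (.leaf 0x0)))) (.node (.node (.node (.leaf 0xafe000001) (.leaf 0x4afe004349)) (.node (.leaf 0x1f71002a4e) (.leaf 0x200098d))) (.node (.node (.leaf 0x1afe000003) (.leaf 0x5ae6000001)) (.node (.leaf 0x266d002ee2) (.leaf 0x0))))) (.node (.node (.node (.node (.leaf 0x6fe000002) (.leaf 0x43890046fe)) (.node (.leaf 0x2612000003) (.leaf 0x20064aa))) (.node (.node (.leaf 0x128b000003) (.leaf 0x43da0056fe)) (.node (.leaf 0x331d001f72) (.leaf 0x0)))) (.node (.node (.node (.leaf 0x2000efe) (.leaf 0x4efe004388)) (.node (.leaf 0x1f7b002efe) (.leaf 0x2006dc4))) (.node (.node (.leaf 0x1efe000001) (.leaf 0x2005dd2)) (.node (.leaf 0x27e1003551) (.leaf 0x0)))))))) (.node (.node (.node (.node (.node (.node (.node (.leaf 0x7e000003) (.leaf 0x266b003643)) (.node (.leaf 0x2026000003) (.leaf 0x2002730))) (.node (.node (.leaf 0x107e000001)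 (.leaf 0x507e0043a8)) (.node (.leaf 0x1f7100307e) (.leaf 0x1006fca)))) (.node (.node (.node (.leaf 0x87e000001) (.leaf 0x487e00429d)) (.node (.leaf 0x27ce000001) (.leaf 0x6619000001))) (.node (.node (.leaf 0x187e000003) (.leaf 0x427400587e)) (.node (.leaf 0x35cc0023c4) (.leaf 0x0))))) (.node (.node (.node (.node (.leaf 0x47e000002) (.leaf 0x43ff00447e)) (.node (.leaf 0x2370000001) (.leaf 0x100627a))) (.node (.node (.leaf 0x300147e) (.leaf 0x547e0042f9)) (.node (.leaf 0x1f7100347e) (.leaf 0x0)))) (.node (.node (.node (.leaf 0x1000c7e) (.leaf 0x4c7e000072)) (.node (.leaf 0x1f7b002c7e) (.leaf 0x1006a5e))) (.node (.node (.leaf 0x2001c7e) (.leaf 0x1005be2)) (.node (.leaf 0x27c9002ac7) (.leaf 0x0)))))) (.node (.node (.node (.node (.node (.leaf 0x100027e) (.leaf 0x200221b)) (.node (.leaf 0x10021b3) (.leaf 0x1005d69))) (.node (.node (.leaf 0x100127e) (.leaf 0x527e0042b0)) (.node (.leaf 0x313e001f72) (.leaf 0x0)))) (.node (.node (.node (.leaf 0xa7e000003)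 (.leaf 0x45890042b2)) (.node (.leaf 0x2a7e001f72) (.leaf 0x1006826))) (.node (.node (.leaf 0x1a7e000002) (.leaf 0x428a005a7e)) (.node (.leaf 0x20b6002f61) (.leaf 0x0))))) (.node (.node (.node (.node (.leaf 0x67e000003) (.leaf 0x439f00467e)) (.node (.leaf 0x257a000001) (.leaf 0x200643a))) (.node (.node (.leaf 0x167e000003) (.leaf 0x43da00567e)) (.node (.leaf 0x2d3300004e) (.leaf 0x0)))) (.node (.node (.node (.leaf 0x1000e7e) (.leaf 0x43680043f1)) (.node (.leaf 0x2e7e00219a) (.leaf 0x1006cf8))) (.node (.node (.leaf 0x1e7e000002) (.leaf 0x2002844)) (.node (.leaf 0x20e300333f) (.leaf 0x0))))))) (.node (.node (.node (.node (.node (.node (.leaf 0x100017e) (.leaf 0x285b00395f)) (.node (.leaf 0x20f4000001) (.leaf 0x2005fc2))) (.node (.node (.leaf 0x300117e) (.leaf 0x517e0010e7)) (.node (.leaf 0x317e001f7b) (.leaf 0x0)))) (.node (.node (.node (.leaf 0x200097e) (.leaf 0x497e0042b0)) (.node (.leaf 0x2944000003) (.leaf 0x100671e))) (.node (.node (.leaf 0x197e000003)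 (.leaf 0x43a100597e)) (.node (.leaf 0x2f940022ca) (.leaf 0x0))))) (.node (.node (.node (.node (.leaf 0x57e000002) (.leaf 0x43ff00456c)) (.node (.leaf 0x2466000001) (.leaf 0x200635e))) (.node (.node (.leaf 0x100157e) (.leaf 0x434800557e)) (.node (.leaf 0x2ba30026da) (.leaf 0x0)))) (.node (.node (.node (.leaf 0x200021d) (.leaf 0x4397004d7e)) (.node (.leaf 0x2d7e001f7b) (.leaf 0x2006ba0))) (.node (.node (.leaf 0x5ac000003) (.leaf 0x1005c07)) (.node (.leaf 0x2819002f3a) (.leaf 0x0)))))) (.node (.node (.node (.node (.node (.leaf 0x37e000001) (.leaf 0x4378004367)) (.node (.leaf 0x229d000003) (.leaf 0x2006174))) (.node (.node (.leaf 0x100137e) (.leaf 0x537e004386)) (.node (.leaf 0x2b09001f7b) (.leaf 0x0)))) (.node (.node (.node (.leaf 0xb7e000001) (.leaf 0x4434004b7e)) (.node (.leaf 0x2b7e001f7b) (.leaf 0x200693e))) (.node (.node (.leaf 0x1b7e000001) (.leaf 0x2005b34)) (.node (.leaf 0x18e002d57) (.leaf 0x0))))) (.node (.node (.node (.node (.leaf 0x77e000001)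 (.leaf 0x434c00477e)) (.node (.leaf 0x10026ad) (.leaf 0x1006528))) (.node (.node (.leaf 0x177e000002) (.leaf 0x577e0042b4)) (.node (.leaf 0x1f71003509) (.leaf 0x0)))) (.node (.node (.node (.leaf 0x2000f7e) (.leaf 0x43f70043f4)) (.node (.leaf 0x2bb7001f72) (.leaf 0x1006e5a))) (.node (.node (.leaf 0x1f7e000003) (.leaf 0x1001c48)) (.node (.leaf 0x286d002c84) (.leaf 0x0)))))))))

/-- part -/
def slpT_1 : Tr Nat := (.node (.node (.node (.node (.node (.node (.node (.node (.leaf 0x3e000003) (.leaf 0x266b0038b1)) (.node (.leaf 0x1ff9000001) (.leaf 0x2005ec1))) (.node (.node (.leaf 0x103e000003) (.leaf 0x42ec004473)) (.node (.leaf 0x2b0900211e) (.leaf 0x1006f76)))) (.node (.node (.node (.leaf 0x83e000003) (.leaf 0x42cc00483e)) (.node (.leaf 0x2785000003) (.leaf 0x10065de))) (.node (.node (.leaf 0x183e000001) (.leaf 0x43a100583e)) (.node (.leaf 0x1f710033fa) (.leaf 0x0))))) (.node (.node (.node (.node (.leaf 0x43e000001) (.leaf 0x443e004420)) (.node (.leaf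 0x2344000001) (.leaf 0x2006238))) (.node (.node (.leaf 0x100143e) (.leaf 0x543e0043a2)) (.node (.leaf 0x201f002c02) (.leaf 0x0)))) (.node (.node (.node (.leaf 0x1000c3e) (.leaf 0x432800483b)) (.node (.leaf 0x1f71002af8) (.leaf 0x2006a10))) (.node (.node (.leaf 0x1c3e000911) (.leaf 0x2005334)) (.node (.leaf 0x25a1002bee) (.leaf 0x0)))))) (.node (.node (.node (.node (.node (.leaf 0x200023e) (.leaf 0x25e700380b)) (.node (.leaf 0x2172000003) (.leaf 0x2006064))) (.node (.node (.leaf 0x100018c) (.leaf 0x447d0043f8)) (.node (.leaf 0x2b8a001f7b) (.leaf 0x0)))) (.node (.node (.node (.leaf 0xa3e000003) (.leaf 0x4a3e0043db)) (.node (.leaf 0x2a3e001f7b) (.leaf 0x20067e3))) (.node (.node (.leaf 0x1a3e000003) (.leaf 0x43ab005a3e)) (.node (.leaf 0x21d3002c1e) (.leaf 0x0))))) (.node (.node (.node (.node (.leaf 0x63e000003) (.leaf 0x438700463e)) (.node (.leaf 0x2530000003) (.leaf 0x2006406))) (.node (.node (.leaf 0x100163e) (.leaf 0x429c00563e)) (.node (.leaf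 0x3099001f72) (.leaf 0x0)))) (.node (.node (.node (.leaf 0x1000e3e) (.leaf 0x43c000449a)) (.node (.leaf 0x2e3e0024f2) (.leaf 0x2006c9e))) (.node (.node (.leaf 0x2001e3e) (.leaf 0x5d31000001)) (.node (.leaf 0x2221003294) (.leaf 0x0))))))) (.node (.node (.node (.node (.node (.node (.leaf 0x13e000003) (.leaf 0x23b1002aaf)) (.node (.leaf 0x20c8000003) (.leaf 0x1005f8c))) (.node (.node (.leaf 0x200113e) (.leaf 0x513e000004)) (.node (.leaf 0x2ad0001f7b) (.leaf 0x0)))) (.node (.node (.node (.leaf 0x93e000003) (.leaf 0x493e00442b)) (.node (.leaf 0x28d6000003) (.leaf 0x20066da))) (.node (.node (.leaf 0x193e000001) (.leaf 0x7300593e)) (.node (.leaf 0x3481001f72) (.leaf 0x0))))) (.node (.node (.node (.node (.leaf 0x53e000003) (.leaf 0x453e004384)) (.node (.leaf 0x2424000001) (.leaf 0x2006322))) (.node (.node (.leaf 0x300153e) (.leaf 0x4c58004427)) (.node (.leaf 0x2e3e001f7b) (.leaf 0x0)))) (.node (.node (.node (.leaf 0x1000d3e) (.leaf 0x4d3e004435)) (.node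 (.leaf 0x1f7b002c02) (.leaf 0x1006b3c))) (.node (.node (.leaf 0x1001d3e) (.leaf 0x2005c82)) (.node (.leaf 0x24e1003233) (.leaf 0x0)))))) (.node (.node (.node (.node (.node (.leaf 0x33e000001) (.leaf 0x4324004334)) (.node (.leaf 0x2264000003) (.leaf 0x2006138))) (.node (.node (.leaf 0x200133e) (.leaf 0x533e0042b4)) (.node (.leaf 0x3303001f7b) (.leaf 0x0)))) (.node (.node (.node (.leaf 0xb3e000002) (.leaf 0x42cc004b3e)) (.node (.leaf 0x2b3e001f72) (.leaf 0x20068e8))) (.node (.node (.leaf 0x1b3e000003) (.leaf 0x2002014)) (.node (.leaf 0x22b7002ca0) (.leaf 0x0))))) (.node (.node (.node (.node (.leaf 0x73e000003) (.leaf 0x439b00473e)) (.node (.leaf 0x100265d) (.leaf 0x1005113))) (.node (.node (.leaf 0x173e000001) (.leaf 0x573e004301)) (.node (.leaf 0x213900315b) (.leaf 0x0)))) (.node (.node (.node (.leaf 0x2000f3e) (.leaf 0x4f3e000021)) (.node (.leaf 0x1f7b002cb0) (.leaf 0x2006e18))) (.node (.node (.leaf 0x1f3e000003) (.leaf 0x1000751)) (.node (.leaf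 0xfda00381d) (.leaf 0x0)))))))) (.node (.node (.node (.node (.node (.node (.node (.leaf 0xbe000001) (.leaf 0x5d003287)) (.node (.leaf 0x2050000003) (.leaf 0x2005f2e))) (.node (.node (.leaf 0x10be000003) (.leaf 0x43f6004369)) (.node (.leaf 0x211f002b69) (.leaf 0x100702c)))) (.node (.node (.node (.leaf 0x8be000001) (.leaf 0x48be0042ed)) (.node (.leaf 0x2816000001) (.leaf 0x6657000003))) (.node (.node (.leaf 0x18be000002) (.leaf 0x58be0042ef)) (.node (.leaf 0x32f10022c6) (.leaf 0x0))))) (.node (.node (.node (.node (.leaf 0x4be000001) (.leaf 0x220044be)) (.node (.leaf 0x23ac000001) (.leaf 0x2004ff4))) (.node (.node (.leaf 0x20014be) (.leaf 0x43b700436d)) (.node (.leaf 0x344f001f72) (.leaf 0x0)))) (.node (.node (.node (.leaf 0x1000cbe) (.leaf 0x43d2004cbe)) (.node (.leaf 0x29ab0029f0) (.leaf 0x1006aa8))) (.node (.node (.leaf 0x3001cbe) (.leaf 0x2005c18)) (.node (.leaf 0x244b002b45) (.leaf 0x0)))))) (.node (.node (.node (.node (.node (.leaf 0x20002be)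 (.leaf 0x42ac000002)) (.node (.leaf 0xfdc000003) (.leaf 0x2000989))) (.node (.node (.leaf 0x20012be) (.leaf 0x43ff0052be)) (.node (.leaf 0x967002ef6) (.leaf 0x0)))) (.node (.node (.node (.leaf 0xabe000003) (.leaf 0x4abe004275)) (.node (.leaf 0x2abe001f72) (.leaf 0x100686d))) (.node (.node (.leaf 0x1abe000001) (.leaf 0x2005abe)) (.node (.leaf 0x23ef0030cf) (.leaf 0x0))))) (.node (.node (.node (.node (.leaf 0x6be000003) (.leaf 0x43d60046be)) (.node (.leaf 0x25c4000001) (.leaf 0x2006474))) (.node (.node (.leaf 0x16be000001) (.leaf 0x43d0005207)) (.node (.leaf 0x36be0024b2) (.leaf 0x0)))) (.node (.node (.node (.leaf 0x1000ebe) (.leaf 0x4ebe004439)) (.node (.leaf 0x2ebe001f72) (.leaf 0x1006d4c))) (.node (.node (.leaf 0x1ebe000001) (.leaf 0x5da1000003)) (.node (.leaf 0x2455002d4a) (.leaf 0x0))))))) (.node (.node (.node (.node (.node (.node (.leaf 0x10001be) (.leaf 0x2025002fb9)) (.node (.leaf 0x2116000003) (.leaf 0x2002672))) (.node (.node (.leaf 0x20011be)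 (.leaf 0x710051be)) (.node (.leaf 0x30f000265e) (.leaf 0x0)))) (.node (.node (.node (.leaf 0x20009be) (.leaf 0x43280049be)) (.node (.leaf 0x29be001f72) (.leaf 0x1006762))) (.node (.node (.leaf 0x19be000003) (.leaf 0x44380059be)) (.node (.leaf 0x2c0300213c) (.leaf 0x0))))) (.node (.node (.node (.node (.leaf 0x5be000003) (.leaf 0x43bc0043b5)) (.node (.leaf 0x87f000003) (.leaf 0x200625d))) (.node (.node (.leaf 0x10015be) (.leaf 0x43a10055be)) (.node (.leaf 0x33b0000024) (.leaf 0x0)))) (.node (.node (.node (.leaf 0x1000dbe) (.leaf 0x4401004dbe)) (.node (.leaf 0x1f71002dbe) (.leaf 0x1006bec))) (.node (.node (.leaf 0x1dbe000002) (.leaf 0x2005cdc)) (.node (.leaf 0x28f5003748) (.leaf 0x0)))))) (.node (.node (.node (.node (.node (.leaf 0x3be000001) (.leaf 0x43240043bc)) (.node (.leaf 0x22d2000001) (.leaf 0x20061b6))) (.node (.node (.leaf 0x10013be) (.leaf 0x53be0042cd)) (.node (.leaf 0x2c8b001f7b) (.leaf 0x0)))) (.node (.node (.node (.leaf 0xbbe000001)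 (.leaf 0x43e2004bbe)) (.node (.leaf 0x1f71002bbe) (.leaf 0x2006986))) (.node (.node (.leaf 0x1bbe000001) (.leaf 0x1005b66)) (.node (.leaf 0x22e3002e2b) (.leaf 0x0))))) (.node (.node (.node (.node (.leaf 0x7be000001) (.leaf 0x44fc004371)) (.node (.leaf 0x26f8000001) (.leaf 0x655f000003))) (.node (.node (.leaf 0x17be000001) (.leaf 0x57be0042fb)) (.node (.leaf 0x2407003049) (.leaf 0x0)))) (.node (.node (.node (.leaf 0x2000fbe) (.leaf 0x4274004fbe)) (.node (.leaf 0x2fbe0020cc) (.leaf 0x2006ec6))) (.node (.node (.leaf 0x1fa6000001) (.leaf 0x2005e63)) (.node (.leaf 0x2153003385) (.leaf 0x0)))))))))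

/-- part -/
def slpT_2 : Tr Nat := (.node (.node (.node (.node (.node (.node (.node (.node (.leaf 0x100001e) (.leaf 0x20d7002b72)) (.node (.leaf 0x1fe7000003) (.leaf 0x2005ea9))) (.node (.node (.leaf 0x101e000001) (.leaf 0x43d000459b)) (.node (.leaf 0x301e001f72) (.leaf 0x1006f3e)))) (.node (.node (.node (.leaf 0x81e000001) (.leaf 0x481e004329)) (.node (.leaf 0x2767000001) (.leaf 0x10065bc))) (.node (.node (.leaf 0x181e000002) (.leaf 0x43da00581e)) (.node (.leaf 0x2cb1001f72) (.leaf 0x0))))) (.node (.node (.node (.node (.leaf 0x41e000001) (.leaf 0x432500441b)) (.node (.leaf 0x2326000001) (.leaf 0x200167f))) (.node (.node (.leaf 0x200141e) (.leaf 0x541e0042fd)) (.node (.leaf 0x1f7100341e) (.leaf 0x0)))) (.node (.node (.node (.leaf 0x3000c1e) (.leaf 0x3b004c1e)) (.node (.leaf 0x1f7b002c1e) (.leaf 0x10069ee))) (.node (.node (.leaf 0x1c1e000066) (.leaf 0x200427a)) (.node (.leaf 0x20a900322b) (.leaf 0x0)))))) (.node (.node (.node (.node (.node (.leaf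 0x21e000001) (.leaf 0x297d003895)) (.node (.leaf 0x1002157) (.leaf 0x2006044))) (.node (.node (.leaf 0x100121e) (.leaf 0x483b004429)) (.node (.leaf 0x2e260024bc) (.leaf 0x0)))) (.node (.node (.node (.leaf 0xa1e000003) (.leaf 0x4a1e0042e5)) (.node (.leaf 0x1f71002a1e) (.leaf 0x20067c7))) (.node (.node (.leaf 0x198a001a1e) (.leaf 0x42c0005a1e)) (.node (.leaf 0x2a5100004f) (.leaf 0x0))))) (.node (.node (.node (.node (.leaf 0x61e000003) (.leaf 0x461e004406)) (.node (.leaf 0x250c000001) (.leaf 0x10063ea))) (.node (.node (.leaf 0x200161e) (.leaf 0x43d600561e)) (.node (.leaf 0x2e98001f7b) (.leaf 0x0)))) (.node (.node (.node (.leaf 0x2000e1e) (.leaf 0x4e1e0042b4)) (.node (.leaf 0x1f71002e1e) (.leaf 0x2006c7a))) (.node (.node (.leaf 0x1c3f000003) (.leaf 0x5d1d000003)) (.node (.leaf 0x2221002ff3) (.leaf 0x0))))))) (.node (.node (.node (.node (.node (.node (.leaf 0x11e000001) (.leaf 0x21e70035a5)) (.node (.leaf 0x20b0000003) (.leaf 0x2005f78))) (.node (.node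 (.leaf 0x200111e) (.leaf 0x43720044fc)) (.node (.leaf 0x1f7b002a83) (.leaf 0x1004cbd)))) (.node (.node (.node (.leaf 0x91e000002) (.leaf 0x44c40042ad)) (.node (.leaf 0x28a0000001) (.leaf 0x20066be))) (.node (.node (.leaf 0x191e000068) (.leaf 0x4389004ca1)) (.node (.leaf 0x2da900013d) (.leaf 0x0))))) (.node (.node (.node (.node (.leaf 0x51e000001) (.leaf 0x451e00428d)) (.node (.leaf 0x2408000001) (.leaf 0x1006308))) (.node (.node (.leaf 0x300151e) (.leaf 0x551e004301)) (.node (.leaf 0x2bef0021ff) (.leaf 0x0)))) (.node (.node (.node (.leaf 0x3000d1e) (.leaf 0x43e0004d1e)) (.node (.leaf 0x1f71002d1e) (.leaf 0x2006b18))) (.node (.node (.leaf 0x1001d1e) (.leaf 0x2005c66)) (.node (.leaf 0x2551002f00) (.leaf 0x0)))))) (.node (.node (.node (.node (.node (.leaf 0x100031e) (.leaf 0x430900431e)) (.node (.leaf 0x224c000001) (.leaf 0x100611c))) (.node (.node (.leaf 0x100131e) (.leaf 0x531e0042b2)) (.node (.leaf 0x1f7100331e) (.leaf 0x0)))) (.node (.node (.node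 (.leaf 0xb1e000003) (.leaf 0x4b1e0042e7)) (.node (.leaf 0x1f71002b1e) (.leaf 0x10068c5))) (.node (.node (.leaf 0x1b1e000003) (.leaf 0x20af000003)) (.node (.leaf 0x276a003953) (.leaf 0x0))))) (.node (.node (.node (.node (.leaf 0x71e000002) (.leaf 0x43c000441c)) (.node (.leaf 0x2638000003) (.leaf 0x20064cc))) (.node (.node (.leaf 0x171e000001) (.leaf 0x442a004b43)) (.node (.leaf 0x2a29002600) (.leaf 0x0)))) (.node (.node (.node (.leaf 0x2000f1e) (.leaf 0x4f1e004402)) (.node (.leaf 0x1f7b002f1e) (.leaf 0x1006ca3))) (.node (.node (.leaf 0x1f1e000001) (.leaf 0x2005de8)) (.node (.leaf 0x27e1002c4e) (.leaf 0x0)))))))) (.node (.node (.node (.node (.node (.node (.node (.leaf 0x200009e) (.leaf 0x21b3002e1a)) (.node (.leaf 0x1fbf000003) (.leaf 0x1005f18))) (.node (.node (.leaf 0x109e000001) (.leaf 0x509e0042f9)) (.node (.leaf 0x1f7b002b00) (.leaf 0x2007004)))) (.node (.node (.node (.leaf 0x89e000001) (.leaf 0x44fd0043c1)) (.node (.leaf 0x27f0000003) (.leaf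 0x663b000001))) (.node (.node (.leaf 0x189e000003) (.leaf 0x443a00589e)) (.node (.leaf 0x38200027ce) (.leaf 0x0))))) (.node (.node (.node (.node (.leaf 0x49e000003) (.leaf 0x449e0042e7)) (.node (.leaf 0x21a9000003) (.leaf 0x1006296))) (.node (.node (.leaf 0x100149e) (.leaf 0x53b8004388)) (.node (.leaf 0x2b000349e) (.leaf 0x0)))) (.node (.node (.node (.leaf 0x1000c9e) (.leaf 0x43ec00453d)) (.node (.leaf 0x1f71002c9e) (.leaf 0x1006a88))) (.node (.node (.leaf 0x1001c9e) (.leaf 0x2005bfc)) (.node (.leaf 0x225b0034c7) (.leaf 0x0)))))) (.node (.node (.node (.node (.node (.leaf 0x100029e) (.leaf 0x428a000005)) (.node (.leaf 0x200087c) (.leaf 0x10060ae))) (.node (.node (.leaf 0x200129e) (.leaf 0x529e0043d9)) (.node (.leaf 0x1f7100329e) (.leaf 0x0)))) (.node (.node (.node (.leaf 0xa9e000001) (.leaf 0x4a9e0043aa)) (.node (.leaf 0x2a9e001f7b) (.leaf 0x1006848))) (.node (.node (.leaf 0x1a9e000002) (.leaf 0x43fd005a9e)) (.node (.leaf 0x249b00348e) (.leaf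 0x0))))) (.node (.node (.node (.node (.leaf 0x612000001) (.leaf 0x43c0004419)) (.node (.leaf 0x259a000003) (.leaf 0x2005961))) (.node (.node (.leaf 0x5eb000003) (.leaf 0x42e600569e)) (.node (.leaf 0x33640024b2) (.leaf 0x0)))) (.node (.node (.node (.leaf 0x3000e9e) (.leaf 0x432600441a)) (.node (.leaf 0x2e9e001f72) (.leaf 0x2004697))) (.node (.node (.leaf 0x1e9e000001) (.leaf 0x20012c8)) (.node (.leaf 0x208a003625) (.leaf 0x0))))))) (.node (.node (.node (.node (.node (.node (.leaf 0x200019e) (.leaf 0x1fa9002a0c)) (.node (.leaf 0x2106000003) (.leaf 0x2005fe0))) (.node (.node (.leaf 0x300119e) (.leaf 0x441b00436d)) (.node (.leaf 0x2bad001f7b) (.leaf 0x0)))) (.node (.node (.node (.leaf 0x10003b0) (.leaf 0x499e0042a5)) (.node (.leaf 0x297e000001) (.leaf 0x2006744))) (.node (.node (.leaf 0x199e000003) (.leaf 0x428e00599e)) (.node (.leaf 0x2a08002628) (.leaf 0x0))))) (.node (.node (.node (.node (.leaf 0x59e000002) (.leaf 0x2200459e)) (.node (.leaf 0x2484000003)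 (.leaf 0x100637a))) (.node (.node (.leaf 0x300159e) (.leaf 0x434c00559e)) (.node (.leaf 0x2bf50026da) (.leaf 0x0)))) (.node (.node (.node (.leaf 0x2000ac7) (.leaf 0x42a4004d9e)) (.node (.leaf 0x1f71002d9e) (.leaf 0x1006bbe))) (.node (.node (.leaf 0x1d9e000001) (.leaf 0x1005cc6)) (.node (.leaf 0x2748002cae) (.leaf 0x0)))))) (.node (.node (.node (.node (.node (.leaf 0x39e000003) (.leaf 0x439a000021)) (.node (.leaf 0x22b8000003) (.leaf 0x2001a14))) (.node (.node (.leaf 0x200139e) (.leaf 0x442800539f)) (.node (.leaf 0x2ff2001f8e) (.leaf 0x0)))) (.node (.node (.node (.leaf 0xb9e000003) (.leaf 0x43ce004b9e)) (.node (.leaf 0x2b9e001f72) (.leaf 0x2006964))) (.node (.node (.leaf 0x1b9e000001) (.leaf 0x2005b4f)) (.node (.leaf 0x22e3002ecd) (.leaf 0x0))))) (.node (.node (.node (.node (.leaf 0x79e000001) (.leaf 0x479e0042fd)) (.node (.leaf 0x26d4000003) (.leaf 0x6549000003))) (.node (.node (.leaf 0x179e000001) (.leaf 0x579e0042cd)) (.node (.leaf 0x530031d9)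 (.leaf 0x0)))) (.node (.node (.node (.leaf 0x1000f9e) (.leaf 0x430e004f9e)) (.node (.leaf 0x2f9e001f72) (.leaf 0x2006e92))) (.node (.node (.leaf 0x52000003) (.leaf 0x2005e4b)) (.node (.leaf 0x21530036eb) (.leaf 0x0)))))))))

/-- part -/
def slpT_3 : Tr Nat := (.node (.node (.node (.node (.node (.node (.node (.node (.leaf 0x5e000003) (.leaf 0x266b0029d9)) (.node (.leaf 0x200c000003) (.leaf 0x2005ed6))) (.node (.node (.leaf 0x105e000001) (.leaf 0x462c0043bd)) (.node (.leaf 0x1f7b002ec5) (.leaf 0x2006fa0)))) (.node (.node (.node (.leaf 0x85e000002) (.leaf 0x443600485e)) (.node (.leaf 0x27ac000003) (.leaf 0x65f9000003))) (.node (.node (.leaf 0x185e000001) (.leaf 0x42f800585e)) (.node (.leaf 0x35a400252c) (.leaf 0x0))))) (.node (.node (.node (.node (.leaf 0x45e000001) (.leaf 0x441a0043b6)) (.node (.leaf 0x2358000003) (.leaf 0x100625c))) (.node (.node (.leaf 0x300145e) (.leaf 0x545e00439c)) (.node (.leaf 0x1f7b002c3c) (.leaf 0x0)))) (.node (.node (.node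 (.leaf 0x1000c5e) (.leaf 0x441c004429)) (.node (.leaf 0x1f7b0029df) (.leaf 0x2006a2c))) (.node (.node (.leaf 0x2001c5e) (.leaf 0x1005bd0)) (.node (.leaf 0x2121002f0b) (.leaf 0x0)))))) (.node (.node (.node (.node (.node (.leaf 0x200025e) (.leaf 0x26390033d6)) (.node (.leaf 0x2190000001) (.leaf 0x200607a))) (.node (.node (.leaf 0x100125e) (.leaf 0x200525e)) (.node (.leaf 0x2b9c001f72) (.leaf 0x0)))) (.node (.node (.node (.leaf 0xa5e000003) (.leaf 0x4a5e004384)) (.node (.leaf 0x2a5e001f7b) (.leaf 0x2006809))) (.node (.node (.leaf 0x1a5e000001) (.leaf 0x42fe005a5e)) (.node (.leaf 0x96e002b02) (.leaf 0x0))))) (.node (.node (.node (.node (.leaf 0x65e000001) (.leaf 0x3d00465e)) (.node (.leaf 0x255c000001) (.leaf 0x100641e))) (.node (.node (.leaf 0x100165e) (.leaf 0x565e0042ed)) (.node (.leaf 0x365e00004e) (.leaf 0x0)))) (.node (.node (.node (.leaf 0x2000e5e) (.leaf 0x4436004e5e)) (.node (.leaf 0x2e5e001f72) (.leaf 0x1006cc8))) (.node (.node (.leaf 0x1e5e000003)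 (.leaf 0x2005d4c)) (.node (.leaf 0x27b90032dc) (.leaf 0x0))))))) (.node (.node (.node (.node (.node (.node (.leaf 0x100015e) (.leaf 0x23b1002a3f)) (.node (.leaf 0x20e0000001) (.leaf 0x2005faa))) (.node (.node (.leaf 0x100115e) (.leaf 0x515e00429b)) (.node (.leaf 0x310f001f72) (.leaf 0x0)))) (.node (.node (.node (.leaf 0x95e000001) (.leaf 0x43f5004420)) (.node (.leaf 0x2912000003) (.leaf 0x20066fa))) (.node (.node (.leaf 0x195e000001) (.leaf 0x43e200595e)) (.node (.leaf 0x332f001f72) (.leaf 0x0))))) (.node (.node (.node (.node (.leaf 0x55e000003) (.leaf 0x7300455e)) (.node (.leaf 0x243e000001) (.leaf 0x1006342))) (.node (.node (.leaf 0x100155e) (.leaf 0x555e0043db)) (.node (.leaf 0x2ca7001f7b) (.leaf 0x0)))) (.node (.node (.node (.leaf 0x2000d5e) (.leaf 0x42fa004d5e)) (.node (.leaf 0x2d5e0028d2) (.leaf 0x2006b6a))) (.node (.node (.leaf 0x1d5e000003) (.leaf 0x2005c9a)) (.node (.leaf 0xf76002e2e) (.leaf 0x0)))))) (.node (.node (.node (.node (.node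 (.leaf 0x35e000001) (.leaf 0x100431c)) (.node (.leaf 0xc40000001) (.leaf 0x1006158))) (.node (.node (.leaf 0x100135e) (.leaf 0x535e004349)) (.node (.leaf 0x335e001f72) (.leaf 0x0)))) (.node (.node (.node (.leaf 0xb5e000001) (.leaf 0x42ae004b5e)) (.node (.leaf 0x2b5e001f72) (.leaf 0x1006916))) (.node (.node (.leaf 0x1b5e000001) (.leaf 0x2000159)) (.node (.leaf 0x2823002efa) (.leaf 0x0))))) (.node (.node (.node (.node (.leaf 0x75e000003) (.leaf 0x475e000074)) (.node (.leaf 0x267c000001) (.leaf 0x2006504))) (.node (.node (.leaf 0x175e000002) (.leaf 0x42f800575e)) (.node (.leaf 0x1fb7002a95) (.leaf 0x0)))) (.node (.node (.node (.leaf 0x2000a4c) (.leaf 0x42c0004f5e)) (.node (.leaf 0x2f5e001f7b) (.leaf 0x1006e3a))) (.node (.node (.leaf 0x1f5e000aad) (.leaf 0x200273f)) (.node (.leaf 0xfda003145) (.leaf 0x0)))))))) (.node (.node (.node (.node (.node (.node (.node (.leaf 0xde000001) (.leaf 0x186002b47)) (.node (.leaf 0x206a000003) (.leaf 0x2005f46)))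 (.node (.node (.leaf 0x10de000003) (.leaf 0x50de00003e)) (.node (.leaf 0x30de001f72) (.leaf 0x1007066)))) (.node (.node (.node (.leaf 0x8de000003) (.leaf 0x43b70043bd)) (.node (.leaf 0x283c000003) (.leaf 0x1006680))) (.node (.node (.leaf 0x18de000001) (.leaf 0x58de0042ae)) (.node (.leaf 0x2c25001f7b) (.leaf 0x0))))) (.node (.node (.node (.node (.leaf 0x4de000001) (.leaf 0x43ff0044de)) (.node (.leaf 0x23c8000003) (.leaf 0x20062c8))) (.node (.node (.leaf 0x10014de) (.leaf 0x54de0043e1)) (.node (.leaf 0x2aae001f7b) (.leaf 0x0)))) (.node (.node (.node (.leaf 0x2000cde) (.leaf 0x43ce004ca0)) (.node (.leaf 0x2971002cb0) (.leaf 0x2006acc))) (.node (.node (.leaf 0x1001cde) (.leaf 0x2005c30)) (.node (.leaf 0x233b003231) (.leaf 0x0)))))) (.node (.node (.node (.node (.node (.leaf 0x20002de) (.leaf 0x1a0042de)) (.node (.leaf 0x2208000001) (.leaf 0x10060e6))) (.node (.node (.leaf 0x10012de) (.leaf 0x43580052de)) (.node (.leaf 0x27fd0032b2) (.leaf 0x0))))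 (.node (.node (.node (.leaf 0xade000003) (.leaf 0x43260043cf)) (.node (.leaf 0x1f71002ade) (.leaf 0x100688d))) (.node (.node (.leaf 0x1ade000001) (.leaf 0x1fc5000003)) (.node (.leaf 0x266900352d) (.leaf 0x0))))) (.node (.node (.node (.node (.leaf 0x6de000003) (.leaf 0x43c8004460)) (.node (.leaf 0x25e0000003) (.leaf 0x200648e))) (.node (.node (.leaf 0x16de000003) (.leaf 0x439f0056de)) (.node (.leaf 0x2e6e0005e8) (.leaf 0x0)))) (.node (.node (.node (.leaf 0x1000ede) (.leaf 0x4ede0042fd)) (.node (.leaf 0x1f71002ede) (.leaf 0x1006d90))) (.node (.node (.leaf 0x1ede000001) (.leaf 0x2002368)) (.node (.leaf 0x2729002b53) (.leaf 0x0))))))) (.node (.node (.node (.node (.node (.node (.leaf 0x1de000001) (.leaf 0x229c00324b)) (.node (.leaf 0x212c000003) (.leaf 0x1006012))) (.node (.node (.leaf 0x10011de) (.leaf 0x42e60051de)) (.node (.leaf 0x31de001f7b) (.leaf 0x0)))) (.node (.node (.node (.leaf 0x20009de) (.leaf 0x49de000002)) (.node (.leaf 0x29d0001f72)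 (.leaf 0x2006782))) (.node (.node (.leaf 0x19de000003) (.leaf 0x42740059de)) (.node (.leaf 0x33d500200a) (.leaf 0x0))))) (.node (.node (.node (.node (.leaf 0x5de000001) (.leaf 0x45de0043d1)) (.node (.leaf 0x24c8000001) (.leaf 0x20001f6))) (.node (.node (.leaf 0x20015de) (.leaf 0x42ec0055de)) (.node (.leaf 0x3024001f7b) (.leaf 0x0)))) (.node (.node (.node (.leaf 0x3000dde) (.leaf 0x1004dde)) (.node (.leaf 0x22f7002dde) (.leaf 0x1006c18))) (.node (.node (.leaf 0x1dde000001) (.leaf 0x20024a8)) (.node (.leaf 0x21ba003084) (.leaf 0x0)))))) (.node (.node (.node (.node (.node (.leaf 0x30003de) (.leaf 0x43b3000001)) (.node (.leaf 0x22f0000001) (.leaf 0x20061d6))) (.node (.node (.leaf 0x10013de) (.leaf 0x53de004301)) (.node (.leaf 0x26350033de) (.leaf 0x0)))) (.node (.node (.node (.leaf 0x2000bde) (.leaf 0x42fe004bde)) (.node (.leaf 0x1f71002bde) (.leaf 0x10069a4))) (.node (.node (.leaf 0x1bde000003) (.leaf 0x1005b86)) (.node (.leaf 0x27a90030cf) (.leaf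 0x0))))) (.node (.node (.node (.node (.leaf 0x7de000001) (.leaf 0x47de004329)) (.node (.leaf 0x271c000001) (.leaf 0x657d000003))) (.node (.node (.leaf 0x17de000001) (.leaf 0x57de004386)) (.node (.leaf 0x33d100271a) (.leaf 0x0)))) (.node (.node (.node (.leaf 0xfde000003) (.leaf 0x3b004fde)) (.node (.leaf 0x2fde001f72) (.leaf 0x2006ef8))) (.node (.node (.leaf 0x1001fb7) (.leaf 0x1005e78)) (.node (.leaf 0x290700304b) (.leaf 0x0)))))))))

/-- part -/
def slpT_4 : Tr Nat := (.node (.node (.node (.node (.node (.node (.node (.node (.leaf 0x200000e) (.leaf 0x2185002ab7)) (.node (.leaf 0x1fdf000001) (.leaf 0x2002231))) (.node (.node (.leaf 0x100e000003) (.leaf 0x438300500e)) (.node (.leaf 0x300e002450) (.leaf 0x2006f2e)))) (.node (.node (.node (.leaf 0x80e000001) (.leaf 0x480e004353)) (.node (.leaf 0x2756000003) (.leaf 0x65ad000001))) (.node (.node (.leaf 0x180e000003) (.leaf 0x434c00580e)) (.node (.leaf 0x2f050021a2) (.leaf 0x0))))) (.node (.node (.node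 (.node (.leaf 0x40e000001) (.leaf 0x440e00001d)) (.node (.leaf 0x2316000003) (.leaf 0x20061fe))) (.node (.node (.leaf 0x300140e) (.leaf 0x50200042b0)) (.node (.leaf 0x1f7100340e) (.leaf 0x0)))) (.node (.node (.node (.leaf 0x1000c0e) (.leaf 0x4389004775)) (.node (.leaf 0x1f7b002c0e) (.leaf 0x10069e0))) (.node (.node (.leaf 0x1c0e000002) (.leaf 0x2005ba0)) (.node (.leaf 0x20a9002d48) (.leaf 0x0)))))) (.node (.node (.node (.node (.node (.leaf 0x20e000001) (.leaf 0x295d003821)) (.node (.leaf 0x2001677) (.leaf 0x100603a))) (.node (.node (.leaf 0x100120e) (.leaf 0x520e00429b)) (.node (.leaf 0x320e001f7b) (.leaf 0x0)))) (.node (.node (.node (.leaf 0xa0e000001) (.leaf 0x4a0e004303)) (.node (.leaf 0x1f71002a0e) (.leaf 0x10067b9))) (.node (.node (.leaf 0x1a0e000001) (.leaf 0x42e6005a0e)) (.node (.leaf 0x37b100218c) (.leaf 0x0))))) (.node (.node (.node (.node (.leaf 0x60e000001) (.leaf 0x460e0043d1)) (.node (.leaf 0x24fa000003) (.leaf 0x20063dc))) (.node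 (.node (.leaf 0x100160e) (.leaf 0x428c00560e)) (.node (.leaf 0x346b001f72) (.leaf 0x0)))) (.node (.node (.node (.leaf 0x2000e0e) (.leaf 0x20004e0e)) (.node (.leaf 0x1f71002e0e) (.leaf 0x2006c60))) (.node (.node (.leaf 0x1e0e000003) (.leaf 0x2005d0e)) (.node (.leaf 0x2221003446) (.leaf 0x0))))))) (.node (.node (.node (.node (.node (.node (.leaf 0x10e000001) (.leaf 0x2b200312c)) (.node (.leaf 0x203000003) (.leaf 0x1005f6e))) (.node (.node (.leaf 0x200110e) (.leaf 0x439b00510e)) (.node (.leaf 0x1f7b002a3b) (.leaf 0x10070de)))) (.node (.node (.node (.leaf 0x90e000001) (.leaf 0x490e0042ad)) (.node (.leaf 0x2884000003) (.leaf 0x20066b0))) (.node (.node (.leaf 0x190e000001) (.leaf 0x42ad004a44)) (.node (.leaf 0x2a74001f72) (.leaf 0x0))))) (.node (.node (.node (.node (.leaf 0x50e000001) (.leaf 0x450e0043aa)) (.node (.leaf 0x23f6000003) (.leaf 0x10062fa))) (.node (.node (.leaf 0x100150e) (.leaf 0x550e0043a0)) (.node (.leaf 0x32b3001f7b) (.leaf 0x0))))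 (.node (.node (.node (.leaf 0x1000d0e) (.leaf 0x43c80043f4)) (.node (.leaf 0x236d002c80) (.leaf 0x2006b06))) (.node (.node (.leaf 0x1001d0e) (.leaf 0x2005c58)) (.node (.leaf 0x2551002b1e) (.leaf 0x0)))))) (.node (.node (.node (.node (.node (.leaf 0x200030e) (.leaf 0x42e400003b)) (.node (.leaf 0x2236000001) (.leaf 0x200610c))) (.node (.node (.leaf 0x200130e) (.leaf 0x428c004548)) (.node (.leaf 0x1f7b00330e) (.leaf 0x0)))) (.node (.node (.node (.leaf 0xb0e000001) (.leaf 0x4b0e004353)) (.node (.leaf 0x1f71002b0e) (.leaf 0x10068b5))) (.node (.node (.leaf 0x201000003) (.leaf 0x5aec000001)) (.node (.leaf 0x276a0029fc) (.leaf 0x0))))) (.node (.node (.node (.node (.leaf 0x70e000003) (.leaf 0x42b300467a)) (.node (.leaf 0x262a000001) (.leaf 0x20064b8))) (.node (.node (.leaf 0x170e000003) (.leaf 0x432e00570e)) (.node (.leaf 0x3392001f7b) (.leaf 0x0)))) (.node (.node (.node (.leaf 0x2000f0e) (.leaf 0x4f0e0042b2)) (.node (.leaf 0x21002f0e) (.leaf 0x2006dde)))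 (.node (.node (.leaf 0x1f0e000003) (.leaf 0x1005dde)) (.node (.leaf 0x27e1002dba) (.leaf 0x0)))))))) (.node (.node (.node (.node (.node (.node (.node (.leaf 0x200008e) (.leaf 0x21b30030dd)) (.node (.leaf 0x2034000003) (.leaf 0x2005f04))) (.node (.node (.leaf 0x108e000001) (.leaf 0x508e000074)) (.node (.leaf 0xa03002fa1) (.leaf 0x1006fe2)))) (.node (.node (.node (.leaf 0x88e000001) (.leaf 0x488e0042ef)) (.node (.leaf 0x27e2000003) (.leaf 0x662d000003))) (.node (.node (.leaf 0x188e000003) (.leaf 0x43ce004370)) (.node (.leaf 0x35020023c4) (.leaf 0x0))))) (.node (.node (.node (.node (.leaf 0x48e000003) (.leaf 0x7100448e)) (.node (.leaf 0x237a000003) (.leaf 0x2006286))) (.node (.node (.leaf 0x87200148e) (.leaf 0x548e004388)) (.node (.leaf 0x1f7100348e) (.leaf 0x0)))) (.node (.node (.node (.leaf 0x1000c8e) (.leaf 0x43e0004c8e)) (.node (.leaf 0x1f71002c8e) (.leaf 0x1006a76))) (.node (.node (.leaf 0x1001c8e) (.leaf 0x2005bee)) (.node (.leaf 0x24ad003241)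 (.leaf 0x0)))))) (.node (.node (.node (.node (.node (.leaf 0x100028e) (.leaf 0x428a000003)) (.node (.leaf 0x20021c3) (.leaf 0x1005d75))) (.node (.node (.leaf 0x100128e) (.leaf 0x528e0042e7)) (.node (.leaf 0x1f71002ae0) (.leaf 0x0)))) (.node (.node (.node (.leaf 0xa8e000003) (.leaf 0x437e004329)) (.node (.leaf 0x2a8e001f72) (.leaf 0x200683a))) (.node (.node (.leaf 0x1a8e000003) (.leaf 0x43d8005a8e)) (.node (.leaf 0x1f71003418) (.leaf 0x0))))) (.node (.node (.node (.node (.leaf 0x68e000001) (.leaf 0x43d000468e)) (.node (.leaf 0x2588000001) (.leaf 0x200644a))) (.node (.node (.leaf 0x168e000001) (.leaf 0x42ac00568e)) (.node (.leaf 0x32fd0024b2) (.leaf 0x0)))) (.node (.node (.node (.leaf 0xd9e000e8e) (.leaf 0x443a004e8e)) (.node (.leaf 0x2d33001f7b) (.leaf 0x1006d0c))) (.node (.node (.leaf 0x1e8e000003) (.leaf 0x5d73000001)) (.node (.leaf 0x20e3002b08) (.leaf 0x0))))))) (.node (.node (.node (.node (.node (.node (.leaf 0x100018e) (.leaf 0x2613003334))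 (.node (.leaf 0x20fe000003) (.leaf 0x2005fd0))) (.node (.node (.leaf 0x200118e) (.leaf 0x518e004388)) (.node (.leaf 0x2c73001fc0) (.leaf 0x0)))) (.node (.node (.node (.leaf 0x200098e) (.leaf 0x44fd0043c9)) (.node (.leaf 0x2958000003) (.leaf 0x100672e))) (.node (.node (.leaf 0x198e000001) (.leaf 0x428d00598e)) (.node (.leaf 0x2c8f0022ca) (.leaf 0x0))))) (.node (.node (.node (.node (.leaf 0x58e000003) (.leaf 0x436a0043ef)) (.node (.leaf 0x2472000003) (.leaf 0x200636c))) (.node (.node (.leaf 0x100158e) (.leaf 0x42f800558e)) (.node (.leaf 0x2b580026da) (.leaf 0x0)))) (.node (.node (.node (.leaf 0x1000d8e) (.leaf 0x42f0004d8e)) (.node (.leaf 0x1f71002d67) (.leaf 0x2006bb2))) (.node (.node (.leaf 0x1d8e000003) (.leaf 0x1005cbc)) (.node (.leaf 0x1fc003627) (.leaf 0x0)))))) (.node (.node (.node (.node (.node (.leaf 0x38e000002) (.leaf 0x4388004367)) (.node (.leaf 0x22ac000003) (.leaf 0x2006184))) (.node (.node (.leaf 0x200138e) (.leaf 0x463f00432f))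 (.node (.leaf 0x338e001f72) (.leaf 0x0)))) (.node (.node (.node (.leaf 0xb8e000002) (.leaf 0x43da004b8e)) (.node (.leaf 0x2b8e001f72) (.leaf 0x2006950))) (.node (.node (.leaf 0x1b8e000001) (.leaf 0x2005b3c)) (.node (.leaf 0x231f003377) (.leaf 0x0))))) (.node (.node (.node (.node (.leaf 0x78e000001) (.leaf 0x43f300441a)) (.node (.leaf 0x26c8000001) (.leaf 0x653f000003))) (.node (.node (.leaf 0x178e000001) (.leaf 0x43b50043c1)) (.node (.leaf 0x5300363d) (.leaf 0x0)))) (.node (.node (.node (.leaf 0x2000f8e) (.leaf 0x73004f8e)) (.node (.leaf 0x2f8e001f72) (.leaf 0x2006e76))) (.node (.node (.leaf 0x1f83000003) (.leaf 0x2005e3d)) (.node (.leaf 0x2754003345) (.leaf 0x0)))))))))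

/-- part -/
def slpT_5 : Tr Nat := (.node (.node (.node (.node (.node (.node (.node (.node (.leaf 0x4e000001) (.leaf 0x266b00384e)) (.node (.leaf 0x2000000003) (.leaf 0x1001d5e))) (.node (.node (.leaf 0x104e000001) (.leaf 0x43e200504e)) (.node (.leaf 0x1f7100304f) (.leaf 0x2006f8e)))) (.node (.node (.node (.leaf 0x84e000003) (.leaf 0x434c00484e)) (.node (.leaf 0x279e000003) (.leaf 0x65e7000003))) (.node (.node (.leaf 0x184e000001) (.leaf 0x42fe00584e)) (.node (.leaf 0x2e7e001f7b) (.leaf 0x0))))) (.node (.node (.node (.node (.leaf 0x44e000001) (.leaf 0x43f500436b)) (.node (.leaf 0x234e000003) (.leaf 0x2006246))) (.node (.node (.leaf 0x100144e) (.leaf 0x544e0043db)) (.node (.leaf 0x1f7b0032d6) (.leaf 0x0)))) (.node (.node (.node (.leaf 0x2000c4e) (.leaf 0x43ab004c4e)) (.node (.leaf 0x1f71002c4e) (.leaf 0x2006a20))) (.node (.node (.leaf 0x1001c4e) (.leaf 0x20003be)) (.node (.leaf 0x24990038e7) (.leaf 0x0)))))) (.node (.node (.node (.node (.node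 (.leaf 0x200024e) (.leaf 0x19a002b5b)) (.node (.leaf 0x2180000003) (.leaf 0x2006070))) (.node (.node (.leaf 0x200124e) (.leaf 0x524e00429d)) (.node (.leaf 0x324e001f7b) (.leaf 0x0)))) (.node (.node (.node (.leaf 0xa4e000003) (.leaf 0x4a4e0042e5)) (.node (.leaf 0x2a4e001f72) (.leaf 0x10067f5))) (.node (.node (.leaf 0x1a4e000003) (.leaf 0x20005a4e)) (.node (.leaf 0x2189002adc) (.leaf 0x0))))) (.node (.node (.node (.node (.leaf 0x64e000003) (.leaf 0x42ae0043bd)) (.node (.leaf 0x2544000001) (.leaf 0x1006414))) (.node (.node (.leaf 0x200164e) (.leaf 0x564e004437)) (.node (.leaf 0x2ca300004e) (.leaf 0x0)))) (.node (.node (.node (.leaf 0x1000e4e) (.leaf 0x1004e4e)) (.node (.leaf 0x2e4e001f72) (.leaf 0x2006cb6))) (.node (.node (.leaf 0x2001e4e) (.leaf 0x1005d40)) (.node (.leaf 0x2447002ea7) (.leaf 0x0))))))) (.node (.node (.node (.node (.node (.node (.leaf 0x200014e) (.leaf 0x23b1002f57)) (.node (.leaf 0x20d6000001) (.leaf 0x1005f9a))) (.node (.node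 (.leaf 0x300114e) (.leaf 0x514e0043a8)) (.node (.leaf 0x314e001f72) (.leaf 0x0)))) (.node (.node (.node (.leaf 0x94e000001) (.leaf 0x494e0043e1)) (.node (.leaf 0x28f4000003) (.leaf 0x10066ee))) (.node (.node (.leaf 0x194e000001) (.leaf 0x43ff00444f)) (.node (.leaf 0x38b2002258) (.leaf 0x0))))) (.node (.node (.node (.node (.leaf 0x54e000003) (.leaf 0x43b9004369)) (.node (.leaf 0x2430000003) (.leaf 0x2001c4e))) (.node (.node (.leaf 0x1001296) (.leaf 0x554e0042a5)) (.node (.leaf 0x2b820029a0) (.leaf 0x0)))) (.node (.node (.node (.leaf 0x2000d4e) (.leaf 0x3d004d4e)) (.node (.leaf 0x1f7b0029f4) (.leaf 0x1006b54))) (.node (.node (.leaf 0x1d4e0016fb) (.leaf 0x2005c8e)) (.node (.leaf 0x24e1002b00) (.leaf 0x0)))))) (.node (.node (.node (.node (.node (.leaf 0x34e000001) (.leaf 0x43240042e8)) (.node (.leaf 0x2277000003) (.leaf 0x100614a))) (.node (.node (.leaf 0x200134e) (.leaf 0x534e0043cf)) (.node (.leaf 0x2f0f00237e) (.leaf 0x0)))) (.node (.node (.node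 (.leaf 0xb4e000003) (.leaf 0x2004b4e)) (.node (.leaf 0x2b4e001f72) (.leaf 0x1006904))) (.node (.node (.leaf 0x1b4e000003) (.leaf 0x160d000001)) (.node (.leaf 0x1f7b003239) (.leaf 0x0))))) (.node (.node (.node (.node (.leaf 0x74e000001) (.leaf 0x443400474e)) (.node (.leaf 0x2001a10) (.leaf 0x20064f6))) (.node (.node (.leaf 0x174e000001) (.leaf 0x574e000003)) (.node (.leaf 0x1f470035b3) (.leaf 0x0)))) (.node (.node (.node (.leaf 0x1000f4e) (.leaf 0x4f4e00428b)) (.node (.leaf 0x2d68001f7b) (.leaf 0x1006e26))) (.node (.node (.leaf 0x1001f4e) (.leaf 0x1005e10)) (.node (.leaf 0xfda00302d) (.leaf 0x0)))))))) (.node (.node (.node (.node (.node (.node (.node (.leaf 0xce000001) (.leaf 0x18600377c)) (.node (.leaf 0x205c000003) (.leaf 0x2005f3c))) (.node (.node (.leaf 0x10ce000003) (.leaf 0x50ce00430f)) (.node (.leaf 0x30ce001f72) (.leaf 0x2007046)))) (.node (.node (.node (.leaf 0x8ce000001) (.leaf 0x48ce0042ad)) (.node (.leaf 0x282c000001) (.leaf 0x6667000003)))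 (.node (.node (.leaf 0x18ce000003) (.leaf 0xa13000002)) (.node (.leaf 0x2f1d002262) (.leaf 0x0))))) (.node (.node (.node (.node (.leaf 0x4ce000001) (.leaf 0x42b30044ce)) (.node (.leaf 0x23bc000003) (.leaf 0x20062b8))) (.node (.node (.leaf 0x10014ce) (.leaf 0x54ce004313)) (.node (.leaf 0x2eef001f72) (.leaf 0x0)))) (.node (.node (.node (.leaf 0x3000cce) (.leaf 0x44280043c3)) (.node (.leaf 0x29ab002ca8) (.leaf 0x2002976))) (.node (.node (.leaf 0x2001cce) (.leaf 0x2005c28)) (.node (.leaf 0x244b0038d3) (.leaf 0x0)))))) (.node (.node (.node (.node (.node (.leaf 0x20002ce) (.leaf 0x42ac0042ca)) (.node (.leaf 0x21f8000003) (.leaf 0x20060d8))) (.node (.node (.leaf 0x10012ce) (.leaf 0x43fd00517a)) (.node (.leaf 0x27fd0032ce) (.leaf 0x0)))) (.node (.node (.node (.leaf 0xace000003) (.leaf 0x4ace004402)) (.node (.leaf 0x2ace001f72) (.leaf 0x200687b))) (.node (.node (.leaf 0x1ace000001) (.leaf 0x135f000003)) (.node (.leaf 0x23ef003316) (.leaf 0x0))))) (.node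 (.node (.node (.node (.leaf 0x6ce000003) (.leaf 0x43830046ce)) (.node (.leaf 0x25d2000001) (.leaf 0x200647e))) (.node (.node (.leaf 0x169f000003) (.leaf 0x43da0056ce)) (.node (.leaf 0x2d970005e8) (.leaf 0x0)))) (.node (.node (.node (.leaf 0x1000ece) (.leaf 0x4ece000023)) (.node (.leaf 0x1f7b002ecf) (.leaf 0x1006d6c))) (.node (.node (.leaf 0x1ece000001) (.leaf 0x5862000003)) (.node (.leaf 0x25e3002cb8) (.leaf 0x0))))))) (.node (.node (.node (.node (.node (.node (.leaf 0x1ce000003) (.leaf 0x19da002c34)) (.node (.leaf 0x2097000003) (.leaf 0x2006004))) (.node (.node (.leaf 0x20011ce) (.leaf 0x42fe0051ce)) (.node (.leaf 0x31ce001f7b) (.leaf 0x0)))) (.node (.node (.node (.leaf 0x20009ce) (.leaf 0x42a40049ce)) (.node (.leaf 0x29ce001f72) (.leaf 0x2006770))) (.node (.node (.leaf 0x4cc000001) (.leaf 0x42ec0059ce)) (.node (.leaf 0x3630002862) (.leaf 0x0))))) (.node (.node (.node (.node (.leaf 0x5ce000001) (.leaf 0x443a0045ce)) (.node (.leaf 0x24b6000003)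 (.leaf 0x20063a0))) (.node (.node (.leaf 0x30015ce) (.leaf 0x42fe0055ce)) (.node (.leaf 0x34af001f72) (.leaf 0x0)))) (.node (.node (.node (.leaf 0x1000dce) (.leaf 0x4387004369)) (.node (.leaf 0x1f71002dce) (.leaf 0x20003fb))) (.node (.node (.leaf 0x1dce000003) (.leaf 0x200020e)) (.node (.leaf 0x21ba0037d0) (.leaf 0x0)))))) (.node (.node (.node (.node (.node (.leaf 0x3ce000001) (.leaf 0x43b30042ad)) (.node (.leaf 0x1d5c000001) (.leaf 0x20061c8))) (.node (.node (.leaf 0x10013ce) (.leaf 0x43f60043c9)) (.node (.leaf 0x1f7b0033ce) (.leaf 0x0)))) (.node (.node (.node (.leaf 0x1000bce) (.leaf 0x73004bce)) (.node (.leaf 0x1f7b002bce) (.leaf 0x2006996))) (.node (.node (.leaf 0x1bce000003) (.leaf 0x2005b76)) (.node (.leaf 0x27a90031cf) (.leaf 0x0))))) (.node (.node (.node (.node (.leaf 0x7ce000001) (.leaf 0x47ce004303)) (.node (.leaf 0x270a000001) (.leaf 0x6573000001))) (.node (.node (.leaf 0x17ce000002) (.leaf 0x57ce0042e7)) (.node (.leaf 0x1f7100373a)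 (.leaf 0x0)))) (.node (.node (.node (.leaf 0xfce000003) (.leaf 0x42ee004fce)) (.node (.leaf 0x2fce001f7b) (.leaf 0x2006ee2))) (.node (.node (.leaf 0x1fac000003) (.leaf 0x1005e6f)) (.node (.leaf 0x20f70035a3) (.leaf 0x0)))))))))

/-- part -/
def slpT_6 : Tr Nat := (.node (.node (.node (.node (.node (.node (.node (.node (.leaf 0x200002e) (.leaf 0x266b002e0e)) (.node (.leaf 0x1fef000003) (.leaf 0x2005eb5))) (.node (.node (.leaf 0x102e000003) (.leaf 0x442e004ced)) (.node (.leaf 0x302e001f7b) (.leaf 0x1006f54)))) (.node (.node (.node (.leaf 0x82e000001) (.leaf 0x482e00003c)) (.node (.leaf 0x2775000001) (.leaf 0x20065cc))) (.node (.node (.leaf 0x182e000001) (.leaf 0x300582e)) (.node (.leaf 0x343d001f72) (.leaf 0x0))))) (.node (.node (.node (.node (.leaf 0x42e000002) (.leaf 0x441a0043ff)) (.node (.leaf 0x2334000003) (.leaf 0x2006224))) (.node (.node (.leaf 0x300142e) (.leaf 0x542e0042c1)) (.node (.leaf 0x201f00332e) (.leaf 0x0)))) (.node (.node (.node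 (.leaf 0x2000c2e) (.leaf 0x4432004c2e)) (.node (.leaf 0x1f7b002a0e) (.leaf 0x1006a06))) (.node (.node (.leaf 0x17f6001c2e) (.leaf 0x1005bb0)) (.node (.leaf 0x25a10029dd) (.leaf 0x0)))))) (.node (.node (.node (.node (.node (.leaf 0x300022e) (.leaf 0x21f4002fb9)) (.node (.leaf 0x2000881) (.leaf 0x1001d5f))) (.node (.node (.leaf 0x300122e) (.leaf 0x4379004386)) (.node (.leaf 0x3093001f7b) (.leaf 0x0)))) (.node (.node (.node (.leaf 0xa2e000003) (.leaf 0x441e0043f8)) (.node (.leaf 0x1f71002a2e) (.leaf 0x10067d5))) (.node (.node (.leaf 0x1a2e000002) (.leaf 0x439f005a2e)) (.node (.leaf 0x35d60001d2) (.leaf 0x0))))) (.node (.node (.node (.node (.leaf 0x62e000003) (.leaf 0x462e0043d3)) (.node (.leaf 0x2516000003) (.leaf 0x20063f6))) (.node (.node (.leaf 0x100162e) (.leaf 0x43f70043b7)) (.node (.leaf 0x3423001f7b) (.leaf 0x0)))) (.node (.node (.node (.leaf 0x1000e2e) (.leaf 0x4e2e000002)) (.node (.leaf 0x1f71002e2e) (.leaf 0x2006c8c))) (.node (.node (.leaf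 0x1001e2e) (.leaf 0x5d25000003)) (.node (.leaf 0x2221002b7f) (.leaf 0x0))))))) (.node (.node (.node (.node (.node (.node (.leaf 0x12e000003) (.leaf 0xea003147)) (.node (.leaf 0x1eb4000003) (.leaf 0x100155c))) (.node (.node (.leaf 0x300112e) (.leaf 0x45a500436b)) (.node (.leaf 0x1f7100312e) (.leaf 0x0)))) (.node (.node (.node (.leaf 0x92e000003) (.leaf 0x43da00492e)) (.node (.leaf 0x28c2000003) (.leaf 0x10066d0))) (.node (.node (.leaf 0x192e000003) (.leaf 0x44210043ee)) (.node (.leaf 0x2bab0027f0) (.leaf 0x0))))) (.node (.node (.node (.node (.leaf 0x52e000001) (.leaf 0x452e004427)) (.node (.leaf 0x2412000003) (.leaf 0x2006314))) (.node (.node (.leaf 0x200152e) (.leaf 0x552e00428b)) (.node (.leaf 0x352e0021ff) (.leaf 0x0)))) (.node (.node (.node (.leaf 0x2000d2e) (.leaf 0x4401004d2e)) (.node (.leaf 0x1f7b002ac3) (.leaf 0x2006b2e))) (.node (.node (.leaf 0x2001703) (.leaf 0x2005c76)) (.node (.leaf 0x20ad0034fd) (.leaf 0x0)))))) (.node (.node (.node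 (.node (.node (.leaf 0x100032e) (.leaf 0x42ac00432a)) (.node (.leaf 0x2256000003) (.leaf 0x200612c))) (.node (.node (.leaf 0x100132e) (.leaf 0x532e0042b2)) (.node (.leaf 0x1f71003108) (.leaf 0x0)))) (.node (.node (.node (.leaf 0xb2e000003) (.leaf 0x4328004b2e)) (.node (.leaf 0x1f71002b2e) (.leaf 0x20068d7))) (.node (.node (.leaf 0x1b2e000001) (.leaf 0x2377000003)) (.node (.leaf 0x97f0034c9) (.leaf 0x0))))) (.node (.node (.node (.node (.leaf 0x72e000003) (.leaf 0x435800472e)) (.node (.leaf 0x232b000003) (.leaf 0x10064de))) (.node (.node (.leaf 0x172e000001) (.leaf 0x43700043b6)) (.node (.leaf 0x1f710034fb) (.leaf 0x0)))) (.node (.node (.node (.leaf 0x2000f2e) (.leaf 0x4f2e0042a5)) (.node (.leaf 0x1f71002f2e) (.leaf 0x2006e02))) (.node (.node (.leaf 0x1f2e000003) (.leaf 0x2005df8)) (.node (.leaf 0x27e10030ce) (.leaf 0x0)))))))) (.node (.node (.node (.node (.node (.node (.node (.leaf 0x20000ae) (.leaf 0x257b002f2e)) (.node (.leaf 0x1fc3000003) (.leaf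 0x1005f24))) (.node (.node (.leaf 0x10ae000001) (.leaf 0x50ae004384)) (.node (.leaf 0x1f7b0030ae) (.leaf 0x1007016)))) (.node (.node (.node (.leaf 0x8ae000001) (.leaf 0x48ae00003c)) (.node (.leaf 0x2808000001) (.leaf 0x6647000003))) (.node (.node (.leaf 0x18ae000003) (.leaf 0x42f80058ae)) (.node (.leaf 0x3726001f7b) (.leaf 0x0))))) (.node (.node (.node (.node (.leaf 0x4ae000003) (.leaf 0x43720043b5)) (.node (.leaf 0x239a000001) (.leaf 0x20062a0))) (.node (.node (.leaf 0x20014ae) (.leaf 0x517a00442d)) (.node (.leaf 0x1f71003177) (.leaf 0x0)))) (.node (.node (.node (.leaf 0x1000cae) (.leaf 0x42c0004cae)) (.node (.leaf 0x1f71002cae) (.leaf 0x1006a98))) (.node (.node (.leaf 0x1001cae) (.leaf 0x2002100)) (.node (.leaf 0x244b002b0e) (.leaf 0x0)))))) (.node (.node (.node (.node (.node (.leaf 0x20002ae) (.leaf 0x428b0042ad)) (.node (.leaf 0x21da000003) (.leaf 0x10060be))) (.node (.node (.leaf 0x20012ae) (.leaf 0x52ae0042e5)) (.node (.leaf 0x967003227)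 (.leaf 0x0)))) (.node (.node (.node (.leaf 0x8c3000003) (.leaf 0x4aae0042c1)) (.node (.leaf 0x2aae001f72) (.leaf 0x1006859))) (.node (.node (.leaf 0x3ed000001) (.leaf 0x42cc005aae)) (.node (.leaf 0x249b002b5d) (.leaf 0x0))))) (.node (.node (.node (.node (.leaf 0x6ae000002) (.leaf 0x43da0046ae)) (.node (.leaf 0x25ac000003) (.leaf 0x100612b))) (.node (.node (.leaf 0x16ae000003) (.leaf 0x43ce0056ae)) (.node (.leaf 0x311f0024b2) (.leaf 0x0)))) (.node (.node (.node (.leaf 0x1000eae) (.leaf 0x4358004eae)) (.node (.leaf 0x2eae001f72) (.leaf 0x2006d36))) (.node (.node (.leaf 0x1eae000003) (.leaf 0x5d8d000003)) (.node (.leaf 0x227d002c80) (.leaf 0x0))))))) (.node (.node (.node (.node (.node (.node (.leaf 0x20001ae) (.leaf 0x2505003875)) (.node (.leaf 0x2110000003) (.leaf 0x1005fec))) (.node (.node (.leaf 0x20011ae) (.leaf 0x429c0051ae)) (.node (.leaf 0x31ae001f7b) (.leaf 0x0)))) (.node (.node (.node (.leaf 0x10009ae) (.leaf 0x49ae00428d)) (.node (.leaf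 0x29aa000003) (.leaf 0x1006756))) (.node (.node (.leaf 0x19ae000003) (.leaf 0x42f80059ae)) (.node (.leaf 0x35fe002628) (.leaf 0x0))))) (.node (.node (.node (.node (.leaf 0x3a8000001) (.leaf 0x43ff004419)) (.node (.leaf 0x2498000003) (.leaf 0x2006386))) (.node (.node (.leaf 0x10015ae) (.leaf 0x42f80055ae)) (.node (.leaf 0x2d2d001f72) (.leaf 0x0)))) (.node (.node (.node (.leaf 0x2000dae) (.leaf 0x20004dae)) (.node (.leaf 0x1f71002dae) (.leaf 0x1006bd4))) (.node (.node (.leaf 0x1dae000001) (.leaf 0x2001679)) (.node (.leaf 0x227e003247) (.leaf 0x0)))))) (.node (.node (.node (.node (.node (.leaf 0x3ae000003) (.leaf 0x43ae00428a)) (.node (.leaf 0x22c8000001) (.leaf 0x20061a2))) (.node (.node (.leaf 0x10012b8) (.leaf 0x42ae004563)) (.node (.leaf 0x33ae001f72) (.leaf 0x0)))) (.node (.node (.node (.leaf 0xbae000001) (.leaf 0x4407004bae)) (.node (.leaf 0x1f7b002bae) (.leaf 0x1006976))) (.node (.node (.leaf 0x1bae000001) (.leaf 0x2002289)) (.node (.leaf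 0x22e3002f32) (.leaf 0x0))))) (.node (.node (.node (.node (.leaf 0x7ae000001) (.leaf 0x47ae00428c)) (.node (.leaf 0x26e6000003) (.leaf 0x6553000001))) (.node (.node (.leaf 0x17ae000001) (.leaf 0x57ae004406)) (.node (.leaf 0x1f7b003459) (.leaf 0x0)))) (.node (.node (.node (.leaf 0x2000fae) (.leaf 0x42fa004fae)) (.node (.leaf 0x2f35001f7b) (.leaf 0x1006eae))) (.node (.node (.leaf 0x1fa0000001) (.leaf 0x2005e5a)) (.node (.leaf 0x2153002b95) (.leaf 0x0)))))))))

/-- part -/
def slpT_7 : Tr Nat := (.node (.node (.node (.node (.node (.node (.node (.node (.leaf 0x6e000003) (.leaf 0x266b0029e1)) (.node (.leaf 0x2018000001) (.leaf 0x1005ee6))) (.node (.node (.leaf 0x106e000002) (.leaf 0x45a4004327)) (.node (.leaf 0x1f7b00306e) (.leaf 0x1005045)))) (.node (.node (.node (.leaf 0x86e000003) (.leaf 0x486e0043d1)) (.node (.leaf 0x27be000001) (.leaf 0x660d000001))) (.node (.node (.leaf 0x186e000001) (.leaf 0x42e600586e)) (.node (.leaf 0x2e2900252c) (.leaf 0x0)))))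 (.node (.node (.node (.node (.leaf 0x46e000001) (.leaf 0x443800446e)) (.node (.leaf 0x2362000001) (.leaf 0x200626a))) (.node (.node (.leaf 0x200146e) (.leaf 0x546e00428f)) (.node (.leaf 0xfd50032cc) (.leaf 0x0)))) (.node (.node (.node (.leaf 0x1000c6e) (.leaf 0x4c6e0043e1)) (.node (.leaf 0x1f71002c6e) (.leaf 0x1006a3e))) (.node (.node (.leaf 0x3001c6e) (.leaf 0x2002508)) (.node (.leaf 0x22fb0031df) (.leaf 0x0)))))) (.node (.node (.node (.node (.node (.leaf 0x200026e) (.leaf 0x1ffa002ec7)) (.node (.leaf 0x200219f) (.leaf 0x2006084))) (.node (.node (.leaf 0x100126e) (.leaf 0x439900526e)) (.node (.leaf 0x2e94001f72) (.leaf 0x0)))) (.node (.node (.node (.leaf 0xa6e000001) (.leaf 0x43c80043cf)) (.node (.leaf 0x29ba001f72) (.leaf 0x1006818))) (.node (.node (.leaf 0x1a6e000001) (.leaf 0x42f8005a6e)) (.node (.leaf 0x1f7b002a00) (.leaf 0x0))))) (.node (.node (.node (.node (.leaf 0x66e000001) (.leaf 0x43e000466e)) (.node (.leaf 0x256c000001) (.leaf 0x200642e)))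 (.node (.node (.leaf 0x100166e) (.leaf 0x566e00439e)) (.node (.leaf 0x2a4e00004e) (.leaf 0x0)))) (.node (.node (.node (.leaf 0x2000e6e) (.leaf 0x42fa004e6e)) (.node (.leaf 0x2e6e001f72) (.leaf 0x1006ce8))) (.node (.node (.leaf 0x1e6e000003) (.leaf 0x5d55000003)) (.node (.leaf 0x27b9002a99) (.leaf 0x0))))))) (.node (.node (.node (.node (.node (.node (.leaf 0x200016e) (.leaf 0x285b002a75)) (.node (.leaf 0x20ea000003) (.leaf 0x1005fb8))) (.node (.node (.leaf 0x100116e) (.leaf 0x516e00430f)) (.node (.leaf 0x316e001f72) (.leaf 0x0)))) (.node (.node (.node (.leaf 0x96e000003) (.leaf 0x4364004429)) (.node (.leaf 0x292e000001) (.leaf 0x200670a))) (.node (.node (.leaf 0x196e000003) (.leaf 0x2000596e)) (.node (.leaf 0x2afd001f72) (.leaf 0x0))))) (.node (.node (.node (.node (.leaf 0x56e000003) (.leaf 0x434800456e)) (.node (.leaf 0x1ef1000003) (.leaf 0x100171b))) (.node (.node (.leaf 0x100156e) (.leaf 0x43a700556e)) (.node (.leaf 0x356e001f72) (.leaf 0x0))))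 (.node (.node (.node (.leaf 0x1000be0) (.leaf 0x43ff004d6e)) (.node (.leaf 0x2d6e001f72) (.leaf 0x2006b82))) (.node (.node (.leaf 0x1d6e000001) (.leaf 0x1005caa)) (.node (.leaf 0x216d003181) (.leaf 0x0)))))) (.node (.node (.node (.node (.node (.leaf 0x36e000001) (.leaf 0x4366004327)) (.node (.leaf 0x226a000003) (.leaf 0x2006166))) (.node (.node (.leaf 0x136e000bfc) (.leaf 0x536e004398)) (.node (.leaf 0x336e001f7b) (.leaf 0x0)))) (.node (.node (.node (.leaf 0xb6e000001) (.leaf 0x42c0004b6e)) (.node (.leaf 0x2b6e001f72) (.leaf 0x100692a))) (.node (.node (.leaf 0x1b6e000001) (.leaf 0x20003b8)) (.node (.leaf 0x26c7002a61) (.leaf 0x0))))) (.node (.node (.node (.node (.leaf 0x76e000003) (.leaf 0x476e0042e7)) (.node (.leaf 0x2002316) (.leaf 0x2006514))) (.node (.node (.leaf 0x176e000003) (.leaf 0x576e004402)) (.node (.leaf 0x1f7b003271) (.leaf 0x0)))) (.node (.node (.node (.leaf 0x100015d) (.leaf 0x432e004f6e)) (.node (.leaf 0x2f6e0027da) (.leaf 0x2006e46)))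 (.node (.node (.leaf 0x1001f6e) (.leaf 0x1005e23)) (.node (.leaf 0xfda003147) (.leaf 0x0)))))))) (.node (.node (.node (.node (.node (.node (.node (.leaf 0xee000001) (.leaf 0x1860031cf)) (.node (.leaf 0x2078000003) (.leaf 0x2005f54))) (.node (.node (.leaf 0x10ee000003) (.leaf 0x50ee0043a8)) (.node (.leaf 0x2daf001f7b) (.leaf 0x2007098)))) (.node (.node (.node (.leaf 0x8ee000003) (.leaf 0x48ee00003e)) (.node (.leaf 0x2852000003) (.leaf 0x1006696))) (.node (.node (.leaf 0x18ee000003) (.leaf 0x58ee004406)) (.node (.leaf 0x2a920021c8) (.leaf 0x0))))) (.node (.node (.node (.node (.leaf 0x4ee000003) (.leaf 0x44ee0042f9)) (.node (.leaf 0x23d6000003) (.leaf 0x10062da))) (.node (.node (.leaf 0x30014ee) (.leaf 0x43c200462c)) (.node (.leaf 0x3152001f72) (.leaf 0x0)))) (.node (.node (.node (.leaf 0x3000cee) (.leaf 0x428d004cee)) (.node (.leaf 0x18b002ac1) (.leaf 0x2006ae0))) (.node (.node (.leaf 0x1001cee) (.leaf 0x2005c3e)) (.node (.leaf 0x233b0038dd) (.leaf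 0x0)))))) (.node (.node (.node (.node (.node (.leaf 0x10002ee) (.leaf 0x42e40042e6)) (.node (.leaf 0x133a000003) (.leaf 0x10060f0))) (.node (.node (.leaf 0x30012ee) (.leaf 0x730052ee)) (.node (.leaf 0x1f71002f6d) (.leaf 0x0)))) (.node (.node (.node (.leaf 0xaee000001) (.leaf 0x4aee0043a0)) (.node (.leaf 0x1f7b002aee) (.leaf 0x100689d))) (.node (.node (.leaf 0x1aee000002) (.leaf 0x2123000003)) (.node (.leaf 0x1fb5002fb1) (.leaf 0x0))))) (.node (.node (.node (.node (.leaf 0x6ee000003) (.leaf 0x43da0046ee)) (.node (.leaf 0x25f4000003) (.leaf 0x100649c))) (.node (.node (.leaf 0x16ee000002) (.leaf 0x200056ee)) (.node (.leaf 0x29cf00258c) (.leaf 0x0)))) (.node (.node (.node (.leaf 0x1000eee) (.leaf 0x4eee004353)) (.node (.leaf 0x28e1002eee) (.leaf 0x1006dae))) (.node (.node (.leaf 0x1eee000003) (.leaf 0x1005dc2)) (.node (.leaf 0x27e1003205) (.leaf 0x0))))))) (.node (.node (.node (.node (.node (.node (.leaf 0x1ee000003) (.leaf 0x2333002b0c)) (.node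 (.leaf 0x2138000003) (.leaf 0x100601e))) (.node (.node (.leaf 0x10011ee) (.leaf 0x42e60051ee)) (.node (.leaf 0x31ee001f72) (.leaf 0x0)))) (.node (.node (.node (.leaf 0x10009ee) (.leaf 0x49ee00428b)) (.node (.leaf 0x1f7b0029ee) (.leaf 0x1006797))) (.node (.node (.leaf 0x19ee000001) (.leaf 0x42fe0059ee)) (.node (.leaf 0x2a4c0028ac) (.leaf 0x0))))) (.node (.node (.node (.node (.leaf 0x5ee000003) (.leaf 0x44190043ed)) (.node (.leaf 0x24d4000001) (.leaf 0x20063bc))) (.node (.node (.leaf 0x30015ee) (.leaf 0x43ff0055ee)) (.node (.leaf 0x2a4f002968) (.leaf 0x0)))) (.node (.node (.node (.leaf 0x2000dee) (.leaf 0x42f8004dee)) (.node (.leaf 0x22f7002dee) (.leaf 0x2006c30))) (.node (.node (.leaf 0x1dee000001) (.leaf 0x2005cfc)) (.node (.leaf 0x21ba00325b) (.leaf 0x0)))))) (.node (.node (.node (.node (.node (.leaf 0x10003ee) (.leaf 0x43ee004367)) (.node (.leaf 0x22fa000003) (.leaf 0x10061e6))) (.node (.node (.leaf 0x10013ee) (.leaf 0x53ee0042e7)) (.node (.leaf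 0x1f710033ee) (.leaf 0x0)))) (.node (.node (.node (.leaf 0x1000bee) (.leaf 0x4434004bee)) (.node (.leaf 0x1f710029d0) (.leaf 0x10069be))) (.node (.node (.leaf 0x1bee000002) (.leaf 0x1005b90)) (.node (.leaf 0x2478003782) (.leaf 0x0))))) (.node (.node (.node (.node (.leaf 0x7ee000003) (.leaf 0x47ee0043aa)) (.node (.leaf 0x2732000003) (.leaf 0x658b000003))) (.node (.node (.leaf 0x17ee000001) (.leaf 0x4dab0043d1)) (.node (.leaf 0x37ee00271a) (.leaf 0x0)))) (.node (.node (.node (.leaf 0xfee000001) (.leaf 0x4fee004398)) (.node (.leaf 0x2ed1001f72) (.leaf 0x2006f06))) (.node (.node (.leaf 0x1001fc5) (.leaf 0x1001f55)) (.node (.leaf 0x23e7001f7b) (.leaf 0x0)))))))))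

/-- part -/
def slpT_8 : Tr Nat := (.node (.node (.node (.node (.node (.node (.node (.node (.leaf 0x6000001) (.leaf 0x23fd002fed)) (.node (.leaf 0x1fda000001) (.leaf 0x2005e97))) (.node (.node (.leaf 0x1006000002) (.leaf 0x428c005006)) (.node (.leaf 0x2cad002048) (.leaf 0x1006f24)))) (.node (.node (.node (.leaf 0x806000001) (.leaf 0x48060042e9)) (.node (.leaf 0x274d000003) (.leaf 0x65a5000001))) (.node (.node (.leaf 0x1806000003) (.leaf 0x428c005806)) (.node (.leaf 0x2eb00021a2) (.leaf 0x0))))) (.node (.node (.node (.node (.leaf 0x1000406) (.leaf 0x740043ee)) (.node (.leaf 0x230e000003) (.leaf 0x20028fa))) (.node (.node (.leaf 0x2001406) (.leaf 0x54060042b2)) (.node (.leaf 0x2635003406) (.leaf 0x0)))) (.node (.node (.node (.leaf 0x1000c06) (.leaf 0x4407004c06)) (.node (.leaf 0x1f71002c06) (.leaf 0x20069d8))) (.node (.node (.leaf 0x1c06000003) (.leaf 0x2005b9c)) (.node (.leaf 0x21d700321d) (.leaf 0x0)))))) (.node (.node (.node (.node (.node (.leaf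 0xbf000001) (.leaf 0x295d003181)) (.node (.leaf 0x2148000003) (.leaf 0x2006032))) (.node (.node (.leaf 0x1001206) (.leaf 0x443e0043bd)) (.node (.leaf 0x2a6e0020b0) (.leaf 0x0)))) (.node (.node (.node (.leaf 0x1000a06) (.leaf 0x4a06004303)) (.node (.leaf 0x1f71002a06) (.leaf 0x10067b1))) (.node (.node (.leaf 0x1a06000003) (.leaf 0x42af005a06)) (.node (.leaf 0x2c7300218c) (.leaf 0x0))))) (.node (.node (.node (.node (.leaf 0x606000003) (.leaf 0x46060042e5)) (.node (.leaf 0x24f2000003) (.leaf 0x20063d0))) (.node (.node (.leaf 0x2001606) (.leaf 0x428c005606)) (.node (.leaf 0x3606000c32) (.leaf 0x0)))) (.node (.node (.node (.leaf 0x2000e06) (.leaf 0x4399004e06)) (.node (.leaf 0x1f71002e06) (.leaf 0x1006c56))) (.node (.node (.leaf 0x1e06000003) (.leaf 0x2005d08)) (.node (.leaf 0x21ba0029c5) (.leaf 0x0))))))) (.node (.node (.node (.node (.node (.node (.leaf 0x106000003) (.leaf 0x251b0031af)) (.node (.leaf 0x2092000003) (.leaf 0x2005f68))) (.node (.node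 (.leaf 0x1106000003) (.leaf 0x42c0005106)) (.node (.leaf 0x1f7b003106) (.leaf 0x20070d6)))) (.node (.node (.node (.leaf 0x906000001) (.leaf 0x49060042f1)) (.node (.leaf 0x2878000001) (.leaf 0x20066aa))) (.node (.node (.leaf 0x1906000001) (.leaf 0x442a005627)) (.node (.leaf 0x37310021c8) (.leaf 0x0))))) (.node (.node (.node (.node (.leaf 0x506000003) (.leaf 0x43bc00449a)) (.node (.leaf 0x23f0000003) (.leaf 0x10062f2))) (.node (.node (.leaf 0x1001506) (.leaf 0x550600439a)) (.node (.leaf 0x2d23001f7b) (.leaf 0x0)))) (.node (.node (.node (.leaf 0x1000d06) (.leaf 0x43d2004461)) (.node (.leaf 0x21eb002c46) (.leaf 0x1006b00))) (.node (.node (.leaf 0x1001d06) (.leaf 0x1005c52)) (.node (.leaf 0x233b00393f) (.leaf 0x0)))))) (.node (.node (.node (.node (.node (.leaf 0x3000306) (.leaf 0x42e4004300)) (.node (.leaf 0x2231000001) (.leaf 0x2006106))) (.node (.node (.leaf 0x3001306) (.leaf 0x43d2005306)) (.node (.leaf 0x1f7b0030d3) (.leaf 0x0)))) (.node (.node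 (.node (.leaf 0xb06000001) (.leaf 0x4b060042e7)) (.node (.leaf 0x1f71002b06) (.leaf 0x10068b1))) (.node (.node (.leaf 0x1b06000001) (.leaf 0x5aea000001)) (.node (.leaf 0x266d002e61) (.leaf 0x0))))) (.node (.node (.node (.node (.leaf 0x706000003) (.leaf 0x43d20043cc)) (.node (.leaf 0x2624000001) (.leaf 0x20064b2))) (.node (.node (.leaf 0x1706000003) (.leaf 0x428d005706)) (.node (.leaf 0x2bb900258c) (.leaf 0x0)))) (.node (.node (.node (.leaf 0x3000f06) (.leaf 0x47fb0042ae)) (.node (.leaf 0x1f7b002f06) (.leaf 0x2006dd8))) (.node (.node (.leaf 0x1f06000003) (.leaf 0x1000d9c)) (.node (.leaf 0x27e1002efa) (.leaf 0x0)))))))) (.node (.node (.node (.node (.node (.node (.node (.leaf 0x86000003) (.leaf 0x266b003615)) (.node (.leaf 0x202e000003) (.leaf 0x1005efe))) (.node (.node (.leaf 0x1086000001) (.leaf 0x50860042cd)) (.node (.leaf 0x1f71002afd) (.leaf 0x2006fd8)))) (.node (.node (.node (.leaf 0x886000001) (.leaf 0x488600428f)) (.node (.leaf 0x27d6000003)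 (.leaf 0x6625000001))) (.node (.node (.leaf 0x1886000002) (.leaf 0x43d200484d)) (.node (.leaf 0x38860023c4) (.leaf 0x0))))) (.node (.node (.node (.node (.leaf 0x486000003) (.leaf 0x4370004367)) (.node (.leaf 0x2376000001) (.leaf 0x2006280))) (.node (.node (.leaf 0x2001486) (.leaf 0x54860042b0)) (.node (.leaf 0x2b0002d65) (.leaf 0x0)))) (.node (.node (.node (.leaf 0x1000c86) (.leaf 0x43ab004c86)) (.node (.leaf 0x1f7b002c86) (.leaf 0x2006a6a))) (.node (.node (.leaf 0x1001c86) (.leaf 0x1001c36)) (.node (.leaf 0x22e10038eb) (.leaf 0x0)))))) (.node (.node (.node (.node (.node (.leaf 0x1000286) (.leaf 0x20004284)) (.node (.leaf 0x2002026) (.leaf 0x2000f79))) (.node (.node (.leaf 0x1000d6c) (.leaf 0x5286004402)) (.node (.leaf 0x2879002aa7) (.leaf 0x0)))) (.node (.node (.node (.leaf 0xa86000003) (.leaf 0x4a8600442f)) (.node (.leaf 0x29e3001f72) (.leaf 0x200682c))) (.node (.node (.leaf 0x1a86000003) (.leaf 0x43d8005a86)) (.node (.leaf 0x2106002f5f) (.leaf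 0x0))))) (.node (.node (.node (.node (.leaf 0x686000001) (.leaf 0x4401004686)) (.node (.leaf 0x2582000001) (.leaf 0x2006444))) (.node (.node (.leaf 0x1686000003) (.leaf 0x4352005686)) (.node (.leaf 0x358200004e) (.leaf 0x0)))) (.node (.node (.node (.leaf 0x1000e86) (.leaf 0x43ab004e86)) (.node (.leaf 0x2e86001f7b) (.leaf 0x2006d00))) (.node (.node (.leaf 0x1e86000003) (.leaf 0x2005d6a)) (.node (.leaf 0x20e30038b9) (.leaf 0x0))))))) (.node (.node (.node (.node (.node (.node (.leaf 0x2000186) (.leaf 0x285b0033a7)) (.node (.leaf 0x20fa000001) (.leaf 0x1005fc8))) (.node (.node (.leaf 0x2001186) (.leaf 0x5186004433)) (.node (.leaf 0x2a09001fc0) (.leaf 0x0)))) (.node (.node (.node (.leaf 0x2000986) (.leaf 0x4986004429)) (.node (.leaf 0x294a000003) (.leaf 0x1006728))) (.node (.node (.leaf 0x1986000003) (.leaf 0x42e8005986)) (.node (.leaf 0x33b80022ca) (.leaf 0x0))))) (.node (.node (.node (.node (.leaf 0x586000003) (.leaf 0x442400453e)) (.node (.leaf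 0x246c000003) (.leaf 0x2006364))) (.node (.node (.leaf 0x1001586) (.leaf 0x439b005586)) (.node (.leaf 0x2e3e0026da) (.leaf 0x0)))) (.node (.node (.node (.leaf 0xd86000003) (.leaf 0x442e004d86)) (.node (.leaf 0x2cab001f72) (.leaf 0x2006ba8))) (.node (.node (.leaf 0x1d86000002) (.leaf 0x2005cb4)) (.node (.leaf 0x1fc0036ff) (.leaf 0x0)))))) (.node (.node (.node (.node (.node (.leaf 0x386000003) (.leaf 0x4384004325)) (.node (.leaf 0x22a6000003) (.leaf 0x200617c))) (.node (.node (.leaf 0x1001386) (.leaf 0x4525004329)) (.node (.leaf 0x3085002080) (.leaf 0x0)))) (.node (.node (.node (.leaf 0xb86000003) (.leaf 0x42b3004b86)) (.node (.leaf 0x2b86001f72) (.leaf 0x100694a))) (.node (.node (.leaf 0x1b86000001) (.leaf 0x1005b36)) (.node (.leaf 0x18e003627) (.leaf 0x0))))) (.node (.node (.node (.node (.leaf 0x786000001) (.leaf 0x442a004786)) (.node (.leaf 0x26b8000003) (.leaf 0x6533000001))) (.node (.node (.leaf 0x1786000003) (.leaf 0x578600438a)) (.node (.leaf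 0x53002d94) (.leaf 0x0)))) (.node (.node (.node (.leaf 0x2000f86) (.leaf 0x43c00043ee)) (.node (.leaf 0x2f86002604) (.leaf 0x1006e6a))) (.node (.node (.leaf 0x1001b24) (.leaf 0x2005e37)) (.node (.leaf 0x286d002f36) (.leaf 0x0)))))))))

/-- part -/
def slpT_9 : Tr Nat := (.node (.node (.node (.node (.node (.node (.node (.node (.leaf 0x46000001) (.leaf 0x266b00304b)) (.node (.leaf 0x1b2b000003) (.leaf 0x1005ec7))) (.node (.node (.leaf 0x1046000003) (.leaf 0x2005046)) (.node (.leaf 0x2c1100211e) (.leaf 0x1006f86)))) (.node (.node (.node (.leaf 0x846000002) (.leaf 0x42fc004846)) (.node (.leaf 0x2790000003) (.leaf 0x20065e0))) (.node (.node (.leaf 0x1846000001) (.leaf 0x20005846)) (.node (.leaf 0x1f7b003377) (.leaf 0x0))))) (.node (.node (.node (.node (.leaf 0x446000001) (.leaf 0x4385004379)) (.node (.leaf 0x2346000003) (.leaf 0x200623e))) (.node (.node (.leaf 0x1001446) (.leaf 0x544600439e)) (.node (.leaf 0x1f71002e51) (.leaf 0x0)))) (.node (.node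 (.node (.leaf 0x2000c46) (.leaf 0x43700043b7)) (.node (.leaf 0x1f7b002a8b) (.leaf 0x2006a18))) (.node (.node (.leaf 0x2001c46) (.leaf 0x1005472)) (.node (.leaf 0xfd9002f40) (.leaf 0x0)))))) (.node (.node (.node (.node (.node (.leaf 0x3000246) (.leaf 0x2033003263)) (.node (.leaf 0x217c000001) (.leaf 0x2005da7))) (.node (.node (.leaf 0x2001246) (.leaf 0x445f004371)) (.node (.leaf 0x3246001f72) (.leaf 0x0)))) (.node (.node (.node (.leaf 0xa46000001) (.leaf 0x4a46004301)) (.node (.leaf 0x2a46001f7b) (.leaf 0x10067ed))) (.node (.node (.leaf 0x1a46000002) (.leaf 0x4438005a46)) (.node (.leaf 0x2189003649) (.leaf 0x0))))) (.node (.node (.node (.node (.leaf 0x646000003) (.leaf 0x442e00455a)) (.node (.leaf 0x2536000003) (.leaf 0x1006410))) (.node (.node (.leaf 0x14c6001646) (.leaf 0x42a4005646)) (.node (.leaf 0x364600004e) (.leaf 0x0)))) (.node (.node (.node (.leaf 0x1000e46) (.leaf 0x73004e46)) (.node (.leaf 0x2e46001f7b) (.leaf 0x1006cac))) (.node (.node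 (.leaf 0x3001e46) (.leaf 0x5d37000003)) (.node (.leaf 0x1cf00376a) (.leaf 0x0))))))) (.node (.node (.node (.node (.node (.node (.leaf 0x1000146) (.leaf 0x23b1002a75)) (.node (.leaf 0x20d0000001) (.leaf 0x2005f92))) (.node (.node (.leaf 0x2001146) (.leaf 0x5146004313)) (.node (.leaf 0x2dbb001f7b) (.leaf 0x0)))) (.node (.node (.node (.leaf 0x946000003) (.leaf 0x44fd004327)) (.node (.leaf 0x28e4000003) (.leaf 0x20066e2))) (.node (.node (.leaf 0x1946000001) (.leaf 0x4389004417)) (.node (.leaf 0x352e001f72) (.leaf 0x0))))) (.node (.node (.node (.node (.leaf 0x546000002) (.leaf 0x43720043cf)) (.node (.leaf 0x242a000003) (.leaf 0x200632a))) (.node (.node (.leaf 0x2001546) (.leaf 0x462c00436d)) (.node (.leaf 0x2a070029a0) (.leaf 0x0)))) (.node (.node (.node (.leaf 0x1000d46) (.leaf 0x437000443e)) (.node (.leaf 0x1f7b002a7d) (.leaf 0x2006b4a))) (.node (.node (.leaf 0x2001d46) (.leaf 0x2005c84)) (.node (.leaf 0x24e10034f9) (.leaf 0x0)))))) (.node (.node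 (.node (.node (.node (.leaf 0x346000001) (.leaf 0x432400428a)) (.node (.leaf 0x221c000003) (.leaf 0x1006142))) (.node (.node (.leaf 0x2001346) (.leaf 0x53460042b0)) (.node (.leaf 0x334600237e) (.leaf 0x0)))) (.node (.node (.node (.leaf 0xb46000003) (.leaf 0x4436004b46)) (.node (.leaf 0x2b46001f72) (.leaf 0x1005eb0))) (.node (.node (.leaf 0x1b46000002) (.leaf 0x2002030)) (.node (.leaf 0x1f7b0033ca) (.leaf 0x0))))) (.node (.node (.node (.node (.leaf 0x746000003) (.leaf 0x439f004746)) (.node (.leaf 0x2002665) (.leaf 0x20064ec))) (.node (.node (.leaf 0x1746000001) (.leaf 0x57460043aa)) (.node (.leaf 0x1f71003599) (.leaf 0x0)))) (.node (.node (.node (.leaf 0x2000f46) (.leaf 0x4f46000021)) (.node (.leaf 0x27d9002f46) (.leaf 0x1006e20))) (.node (.node (.leaf 0x2001f46) (.leaf 0x2005e0a)) (.node (.leaf 0xfda0035a9) (.leaf 0x0)))))))) (.node (.node (.node (.node (.node (.node (.node (.leaf 0xc6000001) (.leaf 0x27db003571)) (.node (.leaf 0x2058000001)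 (.leaf 0x2005f34))) (.node (.node (.leaf 0x10c6000001) (.leaf 0x50c60043e3)) (.node (.leaf 0x1f71002a04) (.leaf 0x100703c)))) (.node (.node (.node (.leaf 0x8c6000001) (.leaf 0x48c60042b0)) (.node (.leaf 0x281e000003) (.leaf 0x6661000003))) (.node (.node (.leaf 0x18c6000003) (.leaf 0x58c6004402)) (.node (.leaf 0x2c35001f72) (.leaf 0x0))))) (.node (.node (.node (.node (.leaf 0x4c6000003) (.leaf 0x44010044c6)) (.node (.leaf 0x23b2000003) (.leaf 0x20062b0))) (.node (.node (.leaf 0x1000fae) (.leaf 0x54c6004406)) (.node (.leaf 0x34ad001f72) (.leaf 0x0)))) (.node (.node (.node (.leaf 0x2000cc6) (.leaf 0x442e00481e)) (.node (.leaf 0x29ab002afe) (.leaf 0x2006ab0))) (.node (.node (.leaf 0x2001cc6) (.leaf 0x2005c1e)) (.node (.leaf 0x244b0034fd) (.leaf 0x0)))))) (.node (.node (.node (.node (.node (.leaf 0x20002c6) (.leaf 0x42ac000022)) (.node (.leaf 0x21f0000003) (.leaf 0x10060d0))) (.node (.node (.leaf 0x20012c6) (.leaf 0x442a004758)) (.node (.leaf 0x967002c58)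 (.leaf 0x0)))) (.node (.node (.node (.leaf 0xac6000003) (.leaf 0x42fa004ac6)) (.node (.leaf 0x2ac6001f72) (.leaf 0x1006873))) (.node (.node (.leaf 0x1ac6000001) (.leaf 0x20001cc)) (.node (.leaf 0x23ef002e95) (.leaf 0x0))))) (.node (.node (.node (.node (.leaf 0x6c6000002) (.leaf 0x44010046c6)) (.node (.leaf 0x25c8000003) (.leaf 0x200622f))) (.node (.node (.leaf 0x16c6000003) (.leaf 0x42ee0056c6)) (.node (.leaf 0x2f15001f7b) (.leaf 0x0)))) (.node (.node (.node (.leaf 0x1000ec6) (.leaf 0x4ec60042f9)) (.node (.leaf 0x2ec6001f72) (.leaf 0x1006d62))) (.node (.node (.leaf 0x1ec6000001) (.leaf 0x5da9000003)) (.node (.leaf 0x24550035b7) (.leaf 0x0))))))) (.node (.node (.node (.node (.node (.node (.leaf 0x2000063) (.leaf 0x19da002c94)) (.node (.leaf 0x206f000003) (.leaf 0x1005ffe))) (.node (.node (.leaf 0x20011c6) (.leaf 0x43020051c6)) (.node (.leaf 0x2e44001f7b) (.leaf 0x0)))) (.node (.node (.node (.leaf 0x20009c6) (.leaf 0x43c00043f4)) (.node (.leaf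 0x29c6001f72) (.leaf 0x100676a))) (.node (.node (.leaf 0x19c6000003) (.leaf 0x439d0059c6)) (.node (.leaf 0x329b00213c) (.leaf 0x0))))) (.node (.node (.node (.node (.leaf 0x5c6000001) (.leaf 0x429c0045c6)) (.node (.leaf 0x24aa000003) (.leaf 0x100639c))) (.node (.node (.leaf 0x20015c6) (.leaf 0x30055c6)) (.node (.leaf 0x2c4f000024) (.leaf 0x0)))) (.node (.node (.node (.leaf 0x1000dc6) (.leaf 0x4389004dc6)) (.node (.leaf 0x1f7b002c62) (.leaf 0x2006bfa))) (.node (.node (.leaf 0x1dc6000003) (.leaf 0x20013a1)) (.node (.leaf 0x21ba003597) (.leaf 0x0)))))) (.node (.node (.node (.node (.node (.leaf 0x3c6000003) (.leaf 0x43240043c0)) (.node (.leaf 0x22d8000003) (.leaf 0x20061c2))) (.node (.node (.leaf 0x10013c6) (.leaf 0x437f0043d1)) (.node (.leaf 0x1f7b0029e8) (.leaf 0x0)))) (.node (.node (.node (.leaf 0xbc6000003) (.leaf 0x4405004bc6)) (.node (.leaf 0x1f71002bc6) (.leaf 0x200698a))) (.node (.node (.leaf 0x1bc6000001) (.leaf 0x2005b6e)) (.node (.leaf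 0x22e30032e6) (.leaf 0x0))))) (.node (.node (.node (.node (.leaf 0x7c6000001) (.leaf 0x47c60043a8)) (.node (.leaf 0x26fe000003) (.leaf 0x656b000001))) (.node (.node (.leaf 0x17c6000003) (.leaf 0x57c6000002)) (.node (.leaf 0x2407003355) (.leaf 0x0)))) (.node (.node (.node (.leaf 0x2000fc6) (.leaf 0x42e6004fc6)) (.node (.leaf 0x2a11001f7b) (.leaf 0x2006ed6))) (.node (.node (.leaf 0x1faa000001) (.leaf 0x2005e69)) (.node (.leaf 0x20f700301d) (.leaf 0x0)))))))))

/-- part -/
def slpT_10 : Tr Nat := (.node (.node (.node (.node (.node (.node (.node (.node (.leaf 0x1000026) (.leaf 0x266b002c20)) (.node (.leaf 0xf3e000003) (.leaf 0x2005eb1))) (.node (.node (.leaf 0x1026000001) (.leaf 0x43700043b9)) (.node (.leaf 0x3026001f72) (.leaf 0x1006f4a)))) (.node (.node (.node (.leaf 0x826000001) (.leaf 0x44e8004327)) (.node (.leaf 0x2771000001) (.leaf 0x20065c4))) (.node (.node (.leaf 0x1826000003) (.leaf 0x4348005826)) (.node (.leaf 0x2ddc00269c) (.leaf 0x0)))))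 (.node (.node (.node (.node (.leaf 0x426000003) (.leaf 0x441a004328)) (.node (.leaf 0x232e000003) (.leaf 0x2006218))) (.node (.node (.leaf 0x2001426) (.leaf 0x5426000002)) (.node (.leaf 0x201f002d36) (.leaf 0x0)))) (.node (.node (.node (.leaf 0x2000c26) (.leaf 0x2004c26)) (.node (.leaf 0x1f7b002bee) (.leaf 0x20069f8))) (.node (.node (.leaf 0x1c26000003) (.leaf 0x1001d35)) (.node (.leaf 0x20a9002c06) (.leaf 0x0)))))) (.node (.node (.node (.node (.node (.leaf 0x2000226) (.leaf 0x297d002efe)) (.node (.leaf 0x200124c) (.leaf 0x100604e))) (.node (.node (.leaf 0x2001226) (.leaf 0x506000442b)) (.node (.leaf 0x3226001f72) (.leaf 0x0)))) (.node (.node (.node (.leaf 0xa26000001) (.leaf 0x4a2600442f)) (.node (.leaf 0x1f7b0029bd) (.leaf 0x20067cd))) (.node (.node (.leaf 0x1a26000003) (.leaf 0x4300005a26)) (.node (.leaf 0x324a001f72) (.leaf 0x0))))) (.node (.node (.node (.node (.leaf 0x626000003) (.leaf 0x46260042f9)) (.node (.leaf 0x2510000003) (.leaf 0x20063f0)))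 (.node (.node (.leaf 0x1001626) (.leaf 0x432e005626)) (.node (.leaf 0x334c001f72) (.leaf 0x0)))) (.node (.node (.node (.leaf 0x1000e26) (.leaf 0x4e26004431)) (.node (.leaf 0x1f71002e26) (.leaf 0x1006c86))) (.node (.node (.leaf 0x1001e26) (.leaf 0x5d21000001)) (.node (.leaf 0x2221003134) (.leaf 0x0))))))) (.node (.node (.node (.node (.node (.node (.leaf 0x126000003) (.leaf 0x21e7002d28)) (.node (.leaf 0x20b4000001) (.leaf 0x2005f7e))) (.node (.node (.leaf 0x2001126) (.leaf 0x4c67004329)) (.node (.leaf 0x21a9003094) (.leaf 0x0)))) (.node (.node (.node (.leaf 0x926000003) (.leaf 0x4926004435)) (.node (.leaf 0x28ae000001) (.leaf 0x20066c4))) (.node (.node (.leaf 0x1926000003) (.leaf 0x43870044e8)) (.node (.leaf 0x30bb00013d) (.leaf 0x0))))) (.node (.node (.node (.node (.leaf 0x526000001) (.leaf 0x4526004400)) (.node (.leaf 0xc46000003) (.leaf 0x200630e))) (.node (.node (.leaf 0x2001526) (.leaf 0x552600428b)) (.node (.leaf 0x32320021ff) (.leaf 0x0))))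 (.node (.node (.node (.leaf 0x2000d26) (.leaf 0x42f8004d26)) (.node (.leaf 0x1f7b002b87) (.leaf 0x1006569))) (.node (.node (.leaf 0x1001d26) (.leaf 0x1005c6a)) (.node (.leaf 0x2551003a72) (.leaf 0x0)))))) (.node (.node (.node (.node (.node (.leaf 0x1000326) (.leaf 0x43240042ae)) (.node (.leaf 0x2250000003) (.leaf 0x1006126))) (.node (.node (.leaf 0x1001326) (.leaf 0x53260042b0)) (.node (.leaf 0x212f003326) (.leaf 0x0)))) (.node (.node (.node (.leaf 0xb26000002) (.leaf 0x43d8004b27)) (.node (.leaf 0x1f710029c9) (.leaf 0x20068cb))) (.node (.node (.leaf 0x1b26000001) (.leaf 0x19d8000003)) (.node (.leaf 0x276a002b49) (.leaf 0x0))))) (.node (.node (.node (.node (.leaf 0x726000003) (.leaf 0x44230043f3)) (.node (.leaf 0x22d3000003) (.leaf 0x20064d4))) (.node (.node (.leaf 0x1726000001) (.leaf 0x442e005091)) (.node (.leaf 0x2a8e00213a) (.leaf 0x0)))) (.node (.node (.node (.leaf 0x3000f26) (.leaf 0x4f2600440a)) (.node (.leaf 0x21002df8) (.leaf 0x2006df2)))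 (.node (.node (.leaf 0x1f26000003) (.leaf 0x20019e3)) (.node (.leaf 0x27e1003ada) (.leaf 0x0)))))))) (.node (.node (.node (.node (.node (.node (.node (.leaf 0x20000a6) (.leaf 0x21b3002b83)) (.node (.leaf 0x2044000001) (.leaf 0x1005f22))) (.node (.node (.leaf 0x10a6000001) (.leaf 0x50a60042ef)) (.node (.leaf 0x1f7b002e29) (.leaf 0x200700e)))) (.node (.node (.node (.leaf 0x8a6000001) (.leaf 0x43b600436d)) (.node (.leaf 0x2800000003) (.leaf 0x6641000001))) (.node (.node (.leaf 0x18a6000002) (.leaf 0x43160058a6)) (.node (.leaf 0x2c770027ce) (.leaf 0x0))))) (.node (.node (.node (.node (.leaf 0x4a6000003) (.leaf 0x43890044a6)) (.node (.leaf 0x238c000003) (.leaf 0x200629a))) (.node (.node (.leaf 0x10014a6) (.leaf 0x52750042ae)) (.node (.leaf 0x1f710034a6) (.leaf 0x0)))) (.node (.node (.node (.leaf 0x1000ca6) (.leaf 0x3b004ca6)) (.node (.leaf 0x1f71002ca6) (.leaf 0x2006a8e))) (.node (.node (.leaf 0x1001ca6) (.leaf 0x2005c02)) (.node (.leaf 0x244b002b83)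 (.leaf 0x0)))))) (.node (.node (.node (.node (.node (.leaf 0x10002a6) (.leaf 0x10042a4)) (.node (.leaf 0x21d6000001) (.leaf 0x20060b4))) (.node (.node (.leaf 0x10012a6) (.leaf 0x52a600428b)) (.node (.leaf 0x9670029f5) (.leaf 0x0)))) (.node (.node (.node (.leaf 0xaa6000001) (.leaf 0x4aa60042f9)) (.node (.leaf 0x2aa6001f7b) (.leaf 0x200684f))) (.node (.node (.leaf 0x1aa6000003) (.leaf 0x43990043f5)) (.node (.leaf 0x249b0035b1) (.leaf 0x0))))) (.node (.node (.node (.node (.leaf 0x6a6000003) (.leaf 0x430e0046a6)) (.node (.leaf 0x25a0000001) (.leaf 0x200645e))) (.node (.node (.leaf 0x16a6000001) (.leaf 0x44010056a6)) (.node (.leaf 0x2ae70024b2) (.leaf 0x0)))) (.node (.node (.node (.leaf 0x2000ea6) (.leaf 0x430e004ea6)) (.node (.leaf 0x2ea6001f72) (.leaf 0x2006d24))) (.node (.node (.leaf 0x1ea6000001) (.leaf 0x5d89000001)) (.node (.leaf 0x208a002d87) (.leaf 0x0))))))) (.node (.node (.node (.node (.node (.node (.leaf 0x20001a6) (.leaf 0x1fa90030b6))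 (.node (.leaf 0x2061000003) (.leaf 0x2005fe6))) (.node (.node (.leaf 0x20011a6) (.leaf 0x51a6000074)) (.node (.leaf 0x31a6001f72) (.leaf 0x0)))) (.node (.node (.node (.leaf 0x20009a6) (.leaf 0x49a6000003)) (.node (.leaf 0x2996000003) (.leaf 0x200674c))) (.node (.node (.leaf 0x19a60019a4) (.leaf 0x220059a6)) (.node (.leaf 0x3038002628) (.leaf 0x0))))) (.node (.node (.node (.node (.leaf 0x5a6000003) (.leaf 0x43ce0045a6)) (.node (.leaf 0x2490000001) (.leaf 0x1006380))) (.node (.node (.leaf 0x20015a6) (.leaf 0x43020055a6)) (.node (.leaf 0x35a60026da) (.leaf 0x0)))) (.node (.node (.node (.leaf 0x3000da6) (.leaf 0x42cc004da6)) (.node (.leaf 0x1f71002da6) (.leaf 0x2006bc6))) (.node (.node (.leaf 0x1da6000001) (.leaf 0x1005cca)) (.node (.leaf 0x274800317d) (.leaf 0x0)))))) (.node (.node (.node (.node (.node (.leaf 0x20000ee) (.leaf 0x1004367)) (.node (.leaf 0x22c2000001) (.leaf 0x200619a))) (.node (.node (.leaf 0x10013a6) (.leaf 0x43d0004659)) (.node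 (.leaf 0x33a6001f72) (.leaf 0x0)))) (.node (.node (.node (.leaf 0xba6000001) (.leaf 0x43c20045dc)) (.node (.leaf 0x1f71002ba6) (.leaf 0x100696e))) (.node (.node (.leaf 0x1ba6000001) (.leaf 0x2005b54)) (.node (.leaf 0x22e3002d90) (.leaf 0x0))))) (.node (.node (.node (.node (.leaf 0x7a6000001) (.leaf 0x47a600428f)) (.node (.leaf 0x26de000001) (.leaf 0x654f000001))) (.node (.node (.leaf 0x17a6000001) (.leaf 0x57a600003e)) (.node (.leaf 0x53003211) (.leaf 0x0)))) (.node (.node (.node (.leaf 0x1000fa6) (.leaf 0x4358004fa6)) (.node (.leaf 0x2a86001f72) (.leaf 0x1006e9e))) (.node (.node (.leaf 0x1f9a000003) (.leaf 0x1005e4f)) (.node (.leaf 0x2153002b74) (.leaf 0x0)))))))))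

/-- part -/
def slpT_11 : Tr Nat := (.node (.node (.node (.node (.node (.node (.node (.node (.leaf 0x66000001) (.leaf 0x266b002d65)) (.node (.leaf 0x1247000001) (.leaf 0x2005edc))) (.node (.node (.leaf 0x1066000003) (.leaf 0x49be0043d1)) (.node (.leaf 0xa03002ca0) (.leaf 0x2006fb2)))) (.node (.node (.node (.leaf 0x866000003) (.leaf 0x42e4004866)) (.node (.leaf 0x27b8000001) (.leaf 0x6603000001))) (.node (.node (.leaf 0x1866000001) (.leaf 0x4348005866)) (.node (.leaf 0x2f6200252c) (.leaf 0x0))))) (.node (.node (.node (.node (.leaf 0x466000001) (.leaf 0x4466000023)) (.node (.leaf 0x235c000001) (.leaf 0x1006264))) (.node (.node (.leaf 0x2001466) (.leaf 0x5466000021)) (.node (.leaf 0xfd500322b) (.leaf 0x0)))) (.node (.node (.node (.leaf 0x1000c66) (.leaf 0x43b60043c1)) (.node (.leaf 0x1f71002c66) (.leaf 0x1006a36))) (.node (.node (.leaf 0x2001ac9) (.leaf 0x1005bd6)) (.node (.leaf 0x2121002e59) (.leaf 0x0)))))) (.node (.node (.node (.node (.node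 (.leaf 0x3000266) (.leaf 0x875002e61)) (.node (.leaf 0x200219b) (.leaf 0x2006080))) (.node (.node (.leaf 0x2001266) (.leaf 0x43da005266)) (.node (.leaf 0x2c57001f7b) (.leaf 0x0)))) (.node (.node (.node (.leaf 0xa66000003) (.leaf 0x45e6004429)) (.node (.leaf 0x2a66001f72) (.leaf 0x200680f))) (.node (.node (.leaf 0x1a66000001) (.leaf 0x3005a66)) (.node (.leaf 0x96e002ad1) (.leaf 0x0))))) (.node (.node (.node (.node (.leaf 0x666000003) (.leaf 0x3d004666)) (.node (.leaf 0x2562000001) (.leaf 0x2006428))) (.node (.node (.leaf 0x2001666) (.leaf 0x5666004435)) (.node (.leaf 0x34d200004e) (.leaf 0x0)))) (.node (.node (.node (.leaf 0x3000e66) (.leaf 0x43da004e66)) (.node (.leaf 0x29d6001f7b) (.leaf 0x2006cd2))) (.node (.node (.leaf 0x1e66000002) (.leaf 0x1f53000001)) (.node (.leaf 0x27b90034f7) (.leaf 0x0))))))) (.node (.node (.node (.node (.node (.node (.leaf 0x2000166) (.leaf 0x23b1002a08)) (.node (.leaf 0x20e4000003) (.leaf 0x2005fac))) (.node (.node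 (.leaf 0x1001166) (.leaf 0x5166004313)) (.node (.leaf 0x30ee001f72) (.leaf 0x0)))) (.node (.node (.node (.leaf 0x966000001) (.leaf 0x484c00438a)) (.node (.leaf 0x2922000003) (.leaf 0x2006702))) (.node (.node (.leaf 0x1966000001) (.leaf 0x4316005966)) (.node (.leaf 0x3538001f72) (.leaf 0x0))))) (.node (.node (.node (.node (.leaf 0x566000002) (.leaf 0x42fa004566)) (.node (.leaf 0x2448000001) (.leaf 0x2006346))) (.node (.node (.leaf 0x2001566) (.leaf 0x55660010e7)) (.node (.leaf 0x34ec0029a0) (.leaf 0x0)))) (.node (.node (.node (.leaf 0x2000d66) (.leaf 0x4401004d66)) (.node (.leaf 0x2d66001f72) (.leaf 0x2006b76))) (.node (.node (.leaf 0x1d66000001) (.leaf 0x2002442)) (.node (.leaf 0x216d003399) (.leaf 0x0)))))) (.node (.node (.node (.node (.node (.leaf 0x366000001) (.leaf 0x4366004324)) (.node (.leaf 0x2220000003) (.leaf 0x1006160))) (.node (.node (.leaf 0x2001366) (.leaf 0x5366004433)) (.node (.leaf 0x2a29002080) (.leaf 0x0)))) (.node (.node (.node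 (.leaf 0xb66000001) (.leaf 0x10e80042b5)) (.node (.leaf 0x2b66001f72) (.leaf 0x2006922))) (.node (.node (.leaf 0x1b66000001) (.leaf 0x1005b27)) (.node (.leaf 0x2823002b18) (.leaf 0x0))))) (.node (.node (.node (.node (.leaf 0x766000001) (.leaf 0x47660043a0)) (.node (.leaf 0x1002689) (.leaf 0x100650e))) (.node (.node (.leaf 0x1766000003) (.leaf 0x57660043d7)) (.node (.leaf 0x1f71003019) (.leaf 0x0)))) (.node (.node (.node (.leaf 0x2000f66) (.leaf 0x4348004f66)) (.node (.leaf 0x2f660027da) (.leaf 0x1006e40))) (.node (.node (.leaf 0x10010ef) (.leaf 0x1005e1f)) (.node (.leaf 0xfda002a51) (.leaf 0x0)))))))) (.node (.node (.node (.node (.node (.node (.node (.leaf 0x10000e6) (.leaf 0x186003094)) (.node (.leaf 0x2070000003) (.leaf 0x2005f4c))) (.node (.node (.leaf 0x47000003) (.leaf 0x50e60043e1)) (.node (.leaf 0x2c2f002890) (.leaf 0x1007078)))) (.node (.node (.node (.leaf 0x8e6000002) (.leaf 0x48e60043a8)) (.node (.leaf 0x2846000003) (.leaf 0x200668c)))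 (.node (.node (.leaf 0x739000003) (.leaf 0x462b0043c1)) (.node (.leaf 0x3845001f72) (.leaf 0x0))))) (.node (.node (.node (.node (.leaf 0x4e6000001) (.leaf 0x43b300441b)) (.node (.leaf 0x23ce000003) (.leaf 0x20062d0))) (.node (.node (.leaf 0x20014e6) (.leaf 0x429c0054e6)) (.node (.leaf 0x34e6001f7b) (.leaf 0x0)))) (.node (.node (.node (.leaf 0x2000ce6) (.leaf 0x22004ce6)) (.node (.leaf 0xfcd002c02) (.leaf 0x2006ad8))) (.node (.node (.leaf 0x1001ce6) (.leaf 0x2005c38)) (.node (.leaf 0x233b003302) (.leaf 0x0)))))) (.node (.node (.node (.node (.node (.leaf 0x10002e6) (.leaf 0x428a0042e4)) (.node (.leaf 0x220f000003) (.leaf 0x20060ea))) (.node (.node (.leaf 0x20012e6) (.leaf 0x43e20052e6)) (.node (.leaf 0x1f710032e6) (.leaf 0x0)))) (.node (.node (.node (.leaf 0xae6000001) (.leaf 0x4ae6004386)) (.node (.leaf 0x1f71002ae6) (.leaf 0x1006895))) (.node (.node (.leaf 0x1ae6000003) (.leaf 0x1293000003)) (.node (.leaf 0x2669003145) (.leaf 0x0))))) (.node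 (.node (.node (.node (.leaf 0x6e6000002) (.leaf 0x43a90046e6)) (.node (.leaf 0x25e8000003) (.leaf 0x100649a))) (.node (.node (.leaf 0x16e6000003) (.leaf 0x43e20056e6)) (.node (.leaf 0x29d00005e8) (.leaf 0x0)))) (.node (.node (.node (.leaf 0x1000ee6) (.leaf 0x4ee60010e7)) (.node (.leaf 0x1f71002d7f) (.leaf 0x1006d9e))) (.node (.node (.leaf 0x1ee6000003) (.leaf 0x2005dba)) (.node (.leaf 0x1ff0003494) (.leaf 0x0))))))) (.node (.node (.node (.node (.node (.node (.leaf 0x1e6000001) (.leaf 0x8300363d)) (.node (.leaf 0x2132000003) (.leaf 0x1006018))) (.node (.node (.leaf 0x10011e6) (.leaf 0x434c0051e6)) (.node (.leaf 0x31e60020b0) (.leaf 0x0)))) (.node (.node (.node (.leaf 0x20009e6) (.leaf 0x49e6004275)) (.node (.leaf 0x1f710029e6) (.leaf 0x100678f))) (.node (.node (.leaf 0x19e6000003) (.leaf 0x428e0059e6)) (.node (.leaf 0x32fd00200a) (.leaf 0x0))))) (.node (.node (.node (.node (.leaf 0x2b5000003) (.leaf 0x45e6004400)) (.node (.leaf 0x24ce000003) (.leaf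 0x20063b6))) (.node (.node (.leaf 0x20015e6) (.leaf 0x43970055e6)) (.node (.leaf 0x35e6001f7b) (.leaf 0x0)))) (.node (.node (.node (.leaf 0x2000de6) (.leaf 0x4438004de6)) (.node (.leaf 0x1f71002c5e) (.leaf 0x2005178))) (.node (.node (.leaf 0x1de6000001) (.leaf 0x2005cf4)) (.node (.leaf 0x21ba002d4d) (.leaf 0x0)))))) (.node (.node (.node (.node (.node (.leaf 0x20003e6) (.leaf 0x42fb0043e6)) (.node (.leaf 0x22f4000001) (.leaf 0x10061de))) (.node (.node (.leaf 0x10013e6) (.leaf 0x53e60043d9)) (.node (.leaf 0x26350033e6) (.leaf 0x0)))) (.node (.node (.node (.leaf 0x1000be6) (.leaf 0x43a1004be6)) (.node (.leaf 0x1f71002be6) (.leaf 0x10069b4))) (.node (.node (.leaf 0x1be6000003) (.leaf 0x1005b8c)) (.node (.leaf 0x2478002f32) (.leaf 0x0))))) (.node (.node (.node (.node (.leaf 0x7e6000001) (.leaf 0x43f30043ed)) (.node (.leaf 0x272a000003) (.leaf 0x6585000003))) (.node (.node (.leaf 0x17e6000001) (.leaf 0x48310042ae)) (.node (.leaf 0x2e4800271a) (.leaf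 0x0)))) (.node (.node (.node (.leaf 0xfe6000001) (.leaf 0x4fe6000002)) (.node (.leaf 0x2fe6001f72) (.leaf 0x1006f02))) (.node (.node (.leaf 0x1001fbd) (.leaf 0x1005e80)) (.node (.leaf 0x23e70030a6) (.leaf 0x0)))))))))

/-- part -/
def slpT_12 : Tr Nat := (.node (.node (.node (.node (.node (.node (.node (.node (.leaf 0x2000016) (.leaf 0x242f003277)) (.node (.leaf 0x1fe2000003) (.leaf 0x2002213))) (.node (.node (.leaf 0x1016000001) (.leaf 0x442e004ad5)) (.node (.leaf 0x2f90001f72) (.leaf 0x2006f38)))) (.node (.node (.node (.leaf 0x816000001) (.leaf 0x48160042f1)) (.node (.leaf 0x2760000003) (.leaf 0x2001e23))) (.node (.node (.leaf 0x1816000003) (.leaf 0x42e4005816)) (.node (.leaf 0x2e940021a2) (.leaf 0x0))))) (.node (.node (.node (.node (.leaf 0x416000001) (.leaf 0x441600438f)) (.node (.leaf 0x231e000001) (.leaf 0x2006206))) (.node (.node (.leaf 0x2001416) (.leaf 0x5416000003)) (.node (.leaf 0x1f7b002df6) (.leaf 0x0)))) (.node (.node (.node (.leaf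 0x2000c16) (.leaf 0x43260043f4)) (.node (.leaf 0x1f7b002c16) (.leaf 0x20069e6))) (.node (.node (.leaf 0x1c16000003) (.leaf 0x10016d3)) (.node (.leaf 0x1f7b00334d) (.leaf 0x0)))))) (.node (.node (.node (.node (.node (.leaf 0x216000001) (.leaf 0x295d002f3e)) (.node (.leaf 0x1002151) (.leaf 0x1006040))) (.node (.node (.leaf 0x1001216) (.leaf 0x52160043e1)) (.node (.leaf 0x3216001f72) (.leaf 0x0)))) (.node (.node (.node (.leaf 0xa16000001) (.leaf 0x4a160042e7)) (.node (.leaf 0x1f7b0029cd) (.leaf 0x10067bf))) (.node (.node (.leaf 0x1a16000003) (.leaf 0x428c005a16)) (.node (.leaf 0x2d9700004f) (.leaf 0x0))))) (.node (.node (.node (.node (.leaf 0x616000003) (.leaf 0x4366004420)) (.node (.leaf 0x2502000001) (.leaf 0x20063e4))) (.node (.node (.leaf 0x1001616) (.leaf 0x42ee005616)) (.node (.leaf 0x2dfd001f7b) (.leaf 0x0)))) (.node (.node (.node (.leaf 0x3000e16) (.leaf 0x4e160042e9)) (.node (.leaf 0x1f7b002a97) (.leaf 0x1006c6e))) (.node (.node (.leaf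 0x16a0000001) (.leaf 0x1005d14)) (.node (.leaf 0x2221002bae) (.leaf 0x0))))))) (.node (.node (.node (.node (.node (.node (.leaf 0x116000003) (.leaf 0x21e7003969)) (.node (.leaf 0x20a8000003) (.leaf 0x1005f74))) (.node (.node (.leaf 0x3001116) (.leaf 0x4383004589)) (.node (.leaf 0x1f7b002ab5) (.leaf 0x10070fe)))) (.node (.node (.node (.leaf 0x916000003) (.leaf 0x4916004429)) (.node (.leaf 0x288e000001) (.leaf 0x20066b6))) (.node (.node (.leaf 0x1916000001) (.leaf 0x43ff0043b9)) (.node (.leaf 0x320400013d) (.leaf 0x0))))) (.node (.node (.node (.node (.leaf 0x516000001) (.leaf 0x5004516)) (.node (.leaf 0x2400000001) (.leaf 0x2006300))) (.node (.node (.leaf 0x2001516) (.leaf 0x551600434d)) (.node (.leaf 0x34990021ff) (.leaf 0x0)))) (.node (.node (.node (.leaf 0x2000d16) (.leaf 0x43680045a4)) (.node (.leaf 0x247d002a35) (.leaf 0x2006b0e))) (.node (.node (.leaf 0x1001d16) (.leaf 0x200097d)) (.node (.leaf 0x2551002c88) (.leaf 0x0)))))) (.node (.node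 (.node (.node (.node (.leaf 0x2000316) (.leaf 0x42e4004314)) (.node (.leaf 0x2240000003) (.leaf 0x1006116))) (.node (.node (.leaf 0x2001316) (.leaf 0x42f0005316)) (.node (.leaf 0x1f7b002da8) (.leaf 0x0)))) (.node (.node (.node (.leaf 0xb16000001) (.leaf 0x4b1600434d)) (.node (.leaf 0x1f71002b16) (.leaf 0x10068bb))) (.node (.node (.leaf 0x1b16000001) (.leaf 0x5af4000003)) (.node (.leaf 0x276a002b47) (.leaf 0x0))))) (.node (.node (.node (.node (.leaf 0x716000003) (.leaf 0x432e004716)) (.node (.leaf 0x1a5000003) (.leaf 0x20064c2))) (.node (.node (.leaf 0x1716000003) (.leaf 0x438700485c)) (.node (.leaf 0x3716002600) (.leaf 0x0)))) (.node (.node (.node (.leaf 0x2000f16) (.leaf 0x4f160042e5)) (.node (.leaf 0x1f71002ba4) (.leaf 0x1006de8))) (.node (.node (.leaf 0x1f16000001) (.leaf 0x2005bb1)) (.node (.leaf 0x27e1002e0a) (.leaf 0x0)))))))) (.node (.node (.node (.node (.node (.node (.node (.leaf 0x1000096) (.leaf 0x21b3003831)) (.node (.leaf 0x203c000001)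 (.leaf 0x2005f0a))) (.node (.node (.leaf 0x1096000001) (.leaf 0x50960042ff)) (.node (.leaf 0x1f71003066) (.leaf 0x1006ff2)))) (.node (.node (.node (.leaf 0x896000003) (.leaf 0x4896004429)) (.node (.leaf 0x27e8000003) (.leaf 0x6635000001))) (.node (.node (.leaf 0x1896000003) (.leaf 0x44240043b3)) (.node (.leaf 0x37af0027ce) (.leaf 0x0))))) (.node (.node (.node (.node (.leaf 0x496000001) (.leaf 0x449600429b)) (.node (.leaf 0x2380000001) (.leaf 0x200628e))) (.node (.node (.leaf 0x2001496) (.leaf 0x441b004371)) (.node (.leaf 0x1f71003496) (.leaf 0x0)))) (.node (.node (.node (.leaf 0x1000c96) (.leaf 0x43ce0043c3)) (.node (.leaf 0x1f71002b4b) (.leaf 0x2006a80))) (.node (.node (.leaf 0x1001c96) (.leaf 0x1005bf4)) (.node (.leaf 0x1fc4002a81) (.leaf 0x0)))))) (.node (.node (.node (.node (.node (.leaf 0x1000296) (.leaf 0x428a004292)) (.node (.leaf 0x20021cb) (.leaf 0x20060a6))) (.node (.node (.leaf 0x2001296) (.leaf 0x52960042b0)) (.node (.leaf 0x1f7b002ff9)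 (.leaf 0x0)))) (.node (.node (.node (.leaf 0xa96000001) (.leaf 0x45a4004371)) (.node (.leaf 0x2a96001f72) (.leaf 0x2006840))) (.node (.node (.leaf 0x1a96000003) (.leaf 0x42b3005a96)) (.node (.leaf 0x249b002a38) (.leaf 0x0))))) (.node (.node (.node (.node (.leaf 0x696000003) (.leaf 0x44300043bf)) (.node (.leaf 0x2049000003) (.leaf 0x1005bc3))) (.node (.node (.leaf 0x1696000003) (.leaf 0x432e005696)) (.node (.leaf 0x2f450024b2) (.leaf 0x0)))) (.node (.node (.node (.leaf 0x2000e96) (.leaf 0x43830043bf)) (.node (.leaf 0x2e96001f72) (.leaf 0x2006d12))) (.node (.node (.leaf 0x1e96000001) (.leaf 0x5d7b000001)) (.node (.leaf 0x20e3002f08) (.leaf 0x0))))))) (.node (.node (.node (.node (.node (.node (.leaf 0x2000196) (.leaf 0x26130030fb)) (.node (.leaf 0x2104000001) (.leaf 0x2005fd6))) (.node (.node (.leaf 0x2001196) (.leaf 0x4577004386)) (.node (.leaf 0x2fea001fc0) (.leaf 0x0)))) (.node (.node (.node (.leaf 0x1000996) (.leaf 0x49960043ac)) (.node (.leaf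 0x295c000003) (.leaf 0x2006738))) (.node (.node (.leaf 0x1996000001) (.leaf 0x42e6005996)) (.node (.leaf 0x39960022ca) (.leaf 0x0))))) (.node (.node (.node (.node (.leaf 0x596000003) (.leaf 0x4405004596)) (.node (.leaf 0x247a000003) (.leaf 0x2006374))) (.node (.node (.leaf 0x2001596) (.leaf 0x434c005596)) (.node (.leaf 0x3487001f72) (.leaf 0x0)))) (.node (.node (.node (.leaf 0x2000d96) (.leaf 0x4d960042ac)) (.node (.leaf 0x236d002d96) (.leaf 0x2006bb8))) (.node (.node (.leaf 0x1d96000003) (.leaf 0x2005cc2)) (.node (.leaf 0x262d002c58) (.leaf 0x0)))))) (.node (.node (.node (.node (.node (.leaf 0x396000003) (.leaf 0x42e7004367)) (.node (.leaf 0x22b2000001) (.leaf 0x100618c))) (.node (.node (.leaf 0x2001396) (.leaf 0x4460004325)) (.node (.leaf 0x2e5c001f7b) (.leaf 0x0)))) (.node (.node (.node (.leaf 0xb96000003) (.leaf 0x42e8004b96)) (.node (.leaf 0x2b96001f72) (.leaf 0x2006956))) (.node (.node (.leaf 0x1b96000001) (.leaf 0x2005b46)) (.node (.leaf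 0x6f002fdd) (.leaf 0x0))))) (.node (.node (.node (.node (.leaf 0x796000001) (.leaf 0x4796004359)) (.node (.leaf 0x26ce000001) (.leaf 0x6545000003))) (.node (.node (.leaf 0x1796000001) (.leaf 0x579600429d)) (.node (.leaf 0x53003094) (.leaf 0x0)))) (.node (.node (.node (.leaf 0x1000f96) (.leaf 0x4316004f96)) (.node (.leaf 0x2a8a001f72) (.leaf 0x2006e80))) (.node (.node (.leaf 0x1f8c000003) (.leaf 0x1005e47)) (.node (.leaf 0x2153002b0e) (.leaf 0x0)))))))))

/-- part -/
def slpT_13 : Tr Nat := (.node (.node (.node (.node (.node (.node (.node (.node (.leaf 0x56000001) (.leaf 0x266b0035d7)) (.node (.leaf 0x2004000003) (.leaf 0x2005ed1))) (.node (.node (.leaf 0x1056000001) (.leaf 0x50560043e1)) (.node (.leaf 0x2691002af4) (.leaf 0x1006f98)))) (.node (.node (.node (.leaf 0x856000003) (.leaf 0x4385004856)) (.node (.leaf 0x27a6000001) (.leaf 0x65f3000001))) (.node (.node (.leaf 0x1856000001) (.leaf 0x42f0005856)) (.node (.leaf 0x305300252c) (.leaf 0x0)))))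 (.node (.node (.node (.node (.leaf 0x456000001) (.leaf 0x43d2004456)) (.node (.leaf 0x2354000003) (.leaf 0x2006250))) (.node (.node (.leaf 0x2001456) (.leaf 0x545600439a)) (.node (.leaf 0x1f7b002d87) (.leaf 0x0)))) (.node (.node (.node (.leaf 0x1000c56) (.leaf 0x43f700441d)) (.node (.leaf 0x1f71002c56) (.leaf 0x1006a28))) (.node (.node (.leaf 0x2001c56) (.leaf 0x2005bca)) (.node (.leaf 0x19b002f75) (.leaf 0x0)))))) (.node (.node (.node (.node (.node (.leaf 0x2000256) (.leaf 0x263900383f)) (.node (.leaf 0x2188000003) (.leaf 0x1006078))) (.node (.node (.leaf 0x1001256) (.leaf 0x73005256)) (.node (.leaf 0x3256001f7b) (.leaf 0x0)))) (.node (.node (.node (.leaf 0xa56000003) (.leaf 0x4a56004384)) (.node (.leaf 0x2a33001f7b) (.leaf 0x1006801))) (.node (.node (.leaf 0x1a56000003) (.leaf 0x22005a56)) (.node (.leaf 0x1f710032a0) (.leaf 0x0))))) (.node (.node (.node (.node (.leaf 0x4c4000001) (.leaf 0x43be0045a4)) (.node (.leaf 0x2552000001) (.leaf 0x1006103)))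 (.node (.node (.leaf 0x2001656) (.leaf 0x565600439c)) (.node (.leaf 0x2ae1001f7b) (.leaf 0x0)))) (.node (.node (.node (.leaf 0x1000e56) (.leaf 0x4405004e56)) (.node (.leaf 0x2e560024f2) (.leaf 0x2006cc0))) (.node (.node (.leaf 0x2001e56) (.leaf 0x2005d42)) (.node (.leaf 0x1d53003770) (.leaf 0x0))))))) (.node (.node (.node (.node (.node (.node (.leaf 0x2000156) (.leaf 0x23b10031c7)) (.node (.leaf 0x2081000003) (.leaf 0x2005fa0))) (.node (.node (.leaf 0x2001156) (.leaf 0x43f1004425)) (.node (.leaf 0x2da100254c) (.leaf 0x0)))) (.node (.node (.node (.leaf 0x956000001) (.leaf 0x4745004388)) (.node (.leaf 0x2906000001) (.leaf 0x10066f6))) (.node (.node (.leaf 0x1956000001) (.leaf 0x4372004756)) (.node (.leaf 0x3614001f7b) (.leaf 0x0))))) (.node (.node (.node (.node (.leaf 0x556000003) (.leaf 0x45560043e1)) (.node (.leaf 0x2438000001) (.leaf 0x200633a))) (.node (.node (.leaf 0x2001556) (.leaf 0x5556000072)) (.node (.leaf 0x30320029a0) (.leaf 0x0))))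 (.node (.node (.node (.leaf 0x2000d56) (.leaf 0x4300004d56)) (.node (.leaf 0x2b40001f7b) (.leaf 0x100651d))) (.node (.node (.leaf 0x1001d56) (.leaf 0x2005c94)) (.node (.leaf 0xf7600319f) (.leaf 0x0)))))) (.node (.node (.node (.node (.node (.leaf 0x356000001) (.leaf 0x4324000073)) (.node (.leaf 0x227c000003) (.leaf 0x2006150))) (.node (.node (.leaf 0x2001356) (.leaf 0x4b5f00432f)) (.node (.leaf 0x3356001f72) (.leaf 0x0)))) (.node (.node (.node (.leaf 0xb56000001) (.leaf 0x4352004b56)) (.node (.leaf 0x2b56001f72) (.leaf 0x200690c))) (.node (.node (.leaf 0x1b56000003) (.leaf 0x5b1e000001)) (.node (.leaf 0x28230034c7) (.leaf 0x0))))) (.node (.node (.node (.node (.leaf 0x756000003) (.leaf 0x4756004420)) (.node (.leaf 0x2674000003) (.leaf 0x20064fa))) (.node (.node (.leaf 0x1756000003) (.leaf 0x57560042fd)) (.node (.leaf 0x1f7b0031f5) (.leaf 0x0)))) (.node (.node (.node (.leaf 0x2000f56) (.leaf 0x4f560042b4)) (.node (.leaf 0x2aa6001f72) (.leaf 0x2006e2e)))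 (.node (.node (.leaf 0x2001f56) (.leaf 0x1005e16)) (.node (.leaf 0xfda00379c) (.leaf 0x0)))))))) (.node (.node (.node (.node (.node (.node (.node (.leaf 0xd6000001) (.leaf 0x18600319b)) (.node (.leaf 0x1d32000001) (.leaf 0x1005f42))) (.node (.node (.leaf 0x10d6000001) (.leaf 0x50d600443b)) (.node (.leaf 0x2cb5002120) (.leaf 0x2007058)))) (.node (.node (.node (.leaf 0x8d6000001) (.leaf 0x46170042ae)) (.node (.leaf 0x2838000001) (.leaf 0x6673000003))) (.node (.node (.leaf 0x18d6000001) (.leaf 0x58d600428b)) (.node (.leaf 0x29b4002262) (.leaf 0x0))))) (.node (.node (.node (.node (.leaf 0x4d6000003) (.leaf 0x428a0044d6)) (.node (.leaf 0x23c2000003) (.leaf 0x20062c0))) (.node (.node (.leaf 0x10014d6) (.leaf 0x54d6004406)) (.node (.leaf 0x2c23001f72) (.leaf 0x0)))) (.node (.node (.node (.leaf 0x2000cd6) (.leaf 0x4430004377)) (.node (.leaf 0x2971002b0a) (.leaf 0x1006ac2))) (.node (.node (.leaf 0x2001cd6) (.leaf 0x1001b39)) (.node (.leaf 0x244b0030a7)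 (.leaf 0x0)))))) (.node (.node (.node (.node (.node (.leaf 0x10002d6) (.leaf 0x50042d6)) (.node (.leaf 0x2202000001) (.leaf 0x10060e0))) (.node (.node (.leaf 0x10012d6) (.leaf 0x43240043f1)) (.node (.leaf 0x27fd0032d6) (.leaf 0x0)))) (.node (.node (.node (.leaf 0xad6000002) (.leaf 0x4ad6004429)) (.node (.leaf 0x1f71002ad7) (.leaf 0x1006885))) (.node (.node (.leaf 0x1ad6000001) (.leaf 0x1fcf000003)) (.node (.leaf 0x26690031cd) (.leaf 0x0))))) (.node (.node (.node (.node (.leaf 0x6d6000003) (.leaf 0x44300046d6)) (.node (.leaf 0x25d8000001) (.leaf 0x1006486))) (.node (.node (.leaf 0x16d6000001) (.leaf 0x428e0056d6)) (.node (.leaf 0x36d60005e8) (.leaf 0x0)))) (.node (.node (.node (.leaf 0x1000ed6) (.leaf 0x4ed6004275)) (.node (.leaf 0x1f7b002ed6) (.leaf 0x2006d86))) (.node (.node (.leaf 0x1ed6000003) (.leaf 0x2005db2)) (.node (.leaf 0x25e3002f1e) (.leaf 0x0))))))) (.node (.node (.node (.node (.node (.node (.leaf 0x1d6000001) (.leaf 0x19da002a4b))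 (.node (.leaf 0x1b2f000003) (.leaf 0x200600a))) (.node (.node (.leaf 0x10011d6) (.leaf 0x44320051d6)) (.node (.leaf 0x304c001f72) (.leaf 0x0)))) (.node (.node (.node (.leaf 0x20009d6) (.leaf 0x42cc0049d6)) (.node (.leaf 0x29d6001f72) (.leaf 0x100677c))) (.node (.node (.leaf 0x19d6000003) (.leaf 0x42af0059d6)) (.node (.leaf 0x2ad6002862) (.leaf 0x0))))) (.node (.node (.node (.node (.leaf 0x5d6000001) (.leaf 0x42f80045d6)) (.node (.leaf 0x24be000003) (.leaf 0x20028dc))) (.node (.node (.leaf 0x20015d6) (.leaf 0x439b0055d6)) (.node (.leaf 0x302a001f72) (.leaf 0x0)))) (.node (.node (.node (.leaf 0x2000dd6) (.leaf 0x43270043f1)) (.node (.leaf 0x1f7b002ca8) (.leaf 0x1006c0e))) (.node (.node (.leaf 0x1dd6000001) (.leaf 0x2005ce6)) (.node (.leaf 0x21ba003096) (.leaf 0x0)))))) (.node (.node (.node (.node (.node (.leaf 0x20003d6) (.leaf 0x43b3004348)) (.node (.leaf 0x22e6000001) (.leaf 0x10061d0))) (.node (.node (.leaf 0x10013d6) (.leaf 0x53d60043ac)) (.node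 (.leaf 0x2635002ad1) (.leaf 0x0)))) (.node (.node (.node (.leaf 0x1000bd6) (.leaf 0x439b004bd6)) (.node (.leaf 0x1f7b002a61) (.leaf 0x200699c))) (.node (.node (.leaf 0x1bd6000002) (.leaf 0x2002694)) (.node (.leaf 0x27a9002a49) (.leaf 0x0))))) (.node (.node (.node (.node (.leaf 0x7d6000001) (.leaf 0x47d60043d7)) (.node (.leaf 0x2712000001) (.leaf 0x6577000003))) (.node (.node (.leaf 0x17d6000003) (.leaf 0x57d60042e9)) (.node (.leaf 0x31f4002408) (.leaf 0x0)))) (.node (.node (.node (.leaf 0xfd6000003) (.leaf 0x43ab004fd6)) (.node (.leaf 0x2fd6001f72) (.leaf 0x2006eea))) (.node (.node (.leaf 0x1fb0000003) (.leaf 0x1000f5c)) (.node (.leaf 0xf6e0031d7) (.leaf 0x0)))))))))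

/-- part -/
def slpT_14 : Tr Nat := (.node (.node (.node (.node (.node (.node (.node (.node (.leaf 0x2000036) (.leaf 0x266b002d89)) (.node (.leaf 0x1ff2000003) (.leaf 0x200167c))) (.node (.node (.leaf 0x1036000002) (.leaf 0x432e004417)) (.node (.leaf 0x2b37001f7b) (.leaf 0x1006f64)))) (.node (.node (.node (.leaf 0x836000001) (.leaf 0x443a004836)) (.node (.leaf 0x277b000003) (.leaf 0x20065d6))) (.node (.node (.leaf 0x1836000001) (.leaf 0x4300005836)) (.node (.leaf 0x2ab7001f72) (.leaf 0x0))))) (.node (.node (.node (.node (.leaf 0x436000003) (.leaf 0x441a0042f8)) (.node (.leaf 0x233c000003) (.leaf 0x200622e))) (.node (.node (.leaf 0x2001436) (.leaf 0x5436000002)) (.node (.leaf 0x201f00304d) (.leaf 0x0)))) (.node (.node (.node (.leaf 0x2000c36) (.leaf 0x432e004c36)) (.node (.leaf 0x1f7b002c12) (.leaf 0x1006a0c))) (.node (.node (.leaf 0x2001c36) (.leaf 0x2001eee)) (.node (.leaf 0x25a1003179) (.leaf 0x0)))))) (.node (.node (.node (.node (.node (.leaf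 0x2000236) (.leaf 0x1f83002a18)) (.node (.leaf 0x216e000001) (.leaf 0x1006060))) (.node (.node (.leaf 0x2001236) (.leaf 0x43740043cf)) (.node (.leaf 0x32360024bc) (.leaf 0x0)))) (.node (.node (.node (.leaf 0xa36000001) (.leaf 0x4a36000072)) (.node (.leaf 0x1f71002a36) (.leaf 0x20067db))) (.node (.node (.leaf 0x1a36000003) (.leaf 0x443a005a36)) (.node (.leaf 0x35b4001f7b) (.leaf 0x0))))) (.node (.node (.node (.node (.leaf 0x636000001) (.leaf 0x4383004637)) (.node (.leaf 0x2522000003) (.leaf 0x10063fe))) (.node (.node (.leaf 0x1001636) (.leaf 0x43ab005636)) (.node (.leaf 0x332f001f7b) (.leaf 0x0)))) (.node (.node (.node (.leaf 0x1000e36) (.leaf 0x442c004745)) (.node (.leaf 0x2e36001f72) (.leaf 0x1006c9a))) (.node (.node (.leaf 0x1001e36) (.leaf 0x5d2b000003)) (.node (.leaf 0x2221002b12) (.leaf 0x0))))))) (.node (.node (.node (.node (.node (.node (.leaf 0x136000001) (.leaf 0x23af002f5d)) (.node (.leaf 0x86000001) (.leaf 0x2005f86))) (.node (.node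 (.leaf 0x2001136) (.leaf 0x51360042cd)) (.node (.leaf 0x1f71003136) (.leaf 0x0)))) (.node (.node (.node (.leaf 0x936000002) (.leaf 0x493600428d)) (.node (.leaf 0x2541000003) (.leaf 0x20066d4))) (.node (.node (.leaf 0x1936000001) (.leaf 0x437200451a)) (.node (.leaf 0x2e210027f0) (.leaf 0x0))))) (.node (.node (.node (.node (.leaf 0x536000001) (.leaf 0x43bf00428c)) (.node (.leaf 0x241c000003) (.leaf 0x100631e))) (.node (.node (.leaf 0x2001536) (.leaf 0x55360042ac)) (.node (.leaf 0x30dc001f7b) (.leaf 0x0)))) (.node (.node (.node (.leaf 0x2000d36) (.leaf 0x4d36004353)) (.node (.leaf 0x1f7b002d36) (.leaf 0x2006b36))) (.node (.node (.leaf 0x2001d36) (.leaf 0x1005c7e)) (.node (.leaf 0x28cb00356b) (.leaf 0x0)))))) (.node (.node (.node (.node (.node (.leaf 0x336000001) (.leaf 0x432400432e)) (.node (.leaf 0x225a000001) (.leaf 0x2006132))) (.node (.node (.leaf 0x20000fb) (.leaf 0x53360042c1)) (.node (.leaf 0x237d002f0b) (.leaf 0x0)))) (.node (.node (.node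 (.leaf 0xb36000003) (.leaf 0x43260043f6)) (.node (.leaf 0x1f71002b36) (.leaf 0x20068e2))) (.node (.node (.leaf 0x1b36000001) (.leaf 0x2002386)) (.node (.leaf 0x97f003051) (.leaf 0x0))))) (.node (.node (.node (.node (.leaf 0x736000002) (.leaf 0x4438004736)) (.node (.leaf 0x2650000003) (.leaf 0x20064e2))) (.node (.node (.leaf 0x1736000001) (.leaf 0x551c004433)) (.node (.leaf 0x21390029d3) (.leaf 0x0)))) (.node (.node (.node (.leaf 0x2000f36) (.leaf 0x4f360043e3)) (.node (.leaf 0x1f71002f36) (.leaf 0x1006e0c))) (.node (.node (.leaf 0x1f36000001) (.leaf 0x2005dfe)) (.node (.leaf 0x27e10032ce) (.leaf 0x0)))))))) (.node (.node (.node (.node (.node (.node (.node (.leaf 0xb6000001) (.leaf 0x1653002c7e)) (.node (.leaf 0x204c000003) (.leaf 0x1005f2a))) (.node (.node (.leaf 0x3bc000001) (.leaf 0x43ca004386)) (.node (.leaf 0x1f710030b6) (.leaf 0x1007022)))) (.node (.node (.node (.leaf 0x8b6000001) (.leaf 0x48b60010e7)) (.node (.leaf 0x2810000001) (.leaf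 0x6653000001))) (.node (.node (.leaf 0x18b6000003) (.leaf 0x58b60042b4)) (.node (.leaf 0x33c4001f72) (.leaf 0x0))))) (.node (.node (.node (.node (.leaf 0x4b6000003) (.leaf 0x429c0044b6)) (.node (.leaf 0x23a4000001) (.leaf 0x20062a6))) (.node (.node (.leaf 0x10014b6) (.leaf 0x4d520042ad)) (.node (.leaf 0x291500308c) (.leaf 0x0)))) (.node (.node (.node (.leaf 0x1000cb6) (.leaf 0x428c004cb6)) (.node (.leaf 0x1f7b002cb6) (.leaf 0x2006a9e))) (.node (.node (.leaf 0x2001cb6) (.leaf 0x2001612)) (.node (.leaf 0x244b0030a6) (.leaf 0x0)))))) (.node (.node (.node (.node (.node (.leaf 0x20002b6) (.leaf 0x42ac0042b1)) (.node (.leaf 0x21e4000003) (.leaf 0x10060c6))) (.node (.node (.leaf 0x2000046) (.leaf 0x43970052b7)) (.node (.leaf 0x967002db2) (.leaf 0x0)))) (.node (.node (.node (.leaf 0xab6000002) (.leaf 0x4ab60042c1)) (.node (.leaf 0x2ab6001f72) (.leaf 0x2006861))) (.node (.node (.leaf 0x1ab6000001) (.leaf 0x1005ab6)) (.node (.leaf 0x23ef003219) (.leaf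 0x0))))) (.node (.node (.node (.node (.leaf 0x6b6000003) (.leaf 0x44380046b6)) (.node (.leaf 0x25b6000003) (.leaf 0x1006470))) (.node (.node (.leaf 0x16b6000001) (.leaf 0x43d20056b6)) (.node (.leaf 0x36b60024b2) (.leaf 0x0)))) (.node (.node (.node (.leaf 0x1000eb6) (.leaf 0x4eb600003c)) (.node (.leaf 0x2eb6001f72) (.leaf 0x2006d40))) (.node (.node (.leaf 0x1eb6000003) (.leaf 0x5d9b000001)) (.node (.leaf 0x227d0038ad) (.leaf 0x0))))))) (.node (.node (.node (.node (.node (.node (.leaf 0x10001b6) (.leaf 0xa0900362d)) (.node (.leaf 0x2114000001) (.leaf 0x1005ff2))) (.node (.node (.leaf 0x10011b6) (.leaf 0x429c0051b6)) (.node (.leaf 0x31b6001f72) (.leaf 0x0)))) (.node (.node (.node (.leaf 0x20009b6) (.leaf 0x43970049b7)) (.node (.leaf 0x29b6001f72) (.leaf 0x100675e))) (.node (.node (.leaf 0x19b6000001) (.leaf 0x200059b6)) (.node (.leaf 0x39b6001f72) (.leaf 0x0))))) (.node (.node (.node (.node (.leaf 0x5b6000001) (.leaf 0x43830043c6)) (.node (.leaf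 0x24a0000003) (.leaf 0x2006390))) (.node (.node (.leaf 0x10015b6) (.leaf 0x43a90055b6)) (.node (.leaf 0x35b6001f72) (.leaf 0x0)))) (.node (.node (.node (.leaf 0x2000db6) (.leaf 0x4438004db6)) (.node (.leaf 0x1f7b0029d7) (.leaf 0x1006bda))) (.node (.node (.leaf 0x1db6000003) (.leaf 0x1005cda)) (.node (.leaf 0x2643002bbc) (.leaf 0x0)))))) (.node (.node (.node (.node (.node (.leaf 0x3b6000003) (.leaf 0x43b4004367)) (.node (.leaf 0x22ce000003) (.leaf 0x20061ac))) (.node (.node (.leaf 0x10013b6) (.leaf 0x442300445f)) (.node (.leaf 0x33b6001f7b) (.leaf 0x0)))) (.node (.node (.node (.leaf 0xbb6000001) (.leaf 0x42cc004bb6)) (.node (.leaf 0x1f71002b5f) (.leaf 0x200697c))) (.node (.node (.leaf 0x1bb6000001) (.leaf 0x2005b5c)) (.node (.leaf 0x22e30039eb) (.leaf 0x0))))) (.node (.node (.node (.node (.leaf 0x7b6000001) (.leaf 0x47b60043d3)) (.node (.leaf 0x26f0000003) (.leaf 0x12ab000001))) (.node (.node (.leaf 0x17b6000001) (.leaf 0x57b6004313)) (.node (.leaf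 0x24070037b6) (.leaf 0x0)))) (.node (.node (.node (.leaf 0x3000fb6) (.leaf 0x43a1004fb6)) (.node (.leaf 0x2bf1001f72) (.leaf 0x2006ebe))) (.node (.node (.leaf 0xf2000003) (.leaf 0x2005e5e)) (.node (.leaf 0x2153003ad2) (.leaf 0x0)))))))))

/-- part -/
def slpT_15 : Tr Nat := (.node (.node (.node (.node (.node (.node (.node (.node (.leaf 0x76000001) (.leaf 0x266b002ab1)) (.node (.leaf 0x2020000001) (.leaf 0x2005eec))) (.node (.node (.leaf 0x1076000003) (.leaf 0x43b7004425)) (.node (.leaf 0x1f7b003076) (.leaf 0x2006fc4)))) (.node (.node (.node (.leaf 0x876000001) (.leaf 0x43b5004422)) (.node (.leaf 0x27c6000003) (.leaf 0x2837000003))) (.node (.node (.leaf 0x1876000001) (.leaf 0x4302005876)) (.node (.leaf 0x3103001f7b) (.leaf 0x0))))) (.node (.node (.node (.node (.leaf 0x476000003) (.leaf 0x4476004402)) (.node (.leaf 0x2368000001) (.leaf 0x2006272))) (.node (.node (.leaf 0x2001476) (.leaf 0x5476004437)) (.node (.leaf 0xfd5003476) (.leaf 0x0)))) (.node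 (.node (.node (.leaf 0x1000c76) (.leaf 0x4c760043ac)) (.node (.leaf 0x1f7b002ab7) (.leaf 0x1006a4c))) (.node (.node (.leaf 0x2001c76) (.leaf 0x2005bdc)) (.node (.leaf 0x22fb0033ca) (.leaf 0x0)))))) (.node (.node (.node (.node (.node (.leaf 0x1000276) (.leaf 0x2004274)) (.node (.leaf 0x10021ad) (.leaf 0x100608a))) (.node (.node (.leaf 0x1001276) (.leaf 0x42af005276)) (.node (.leaf 0x3276001f72) (.leaf 0x0)))) (.node (.node (.node (.leaf 0xa76000003) (.leaf 0x481d0043fe)) (.node (.leaf 0x2a76001f7b) (.leaf 0x2006820))) (.node (.node (.leaf 0x1a76000003) (.leaf 0x42b1005a76)) (.node (.leaf 0x20b60032fe) (.leaf 0x0))))) (.node (.node (.node (.node (.leaf 0x676000003) (.leaf 0x1004676)) (.node (.leaf 0x2570000003) (.leaf 0x2006434))) (.node (.node (.leaf 0x2001676) (.leaf 0x4438005676)) (.node (.leaf 0x367600004e) (.leaf 0x0)))) (.node (.node (.node (.leaf 0x1000e76) (.leaf 0x43240043b3)) (.node (.leaf 0x2cbb00219a) (.leaf 0x1006cf0))) (.node (.node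 (.leaf 0x1e76000003) (.leaf 0x20001de)) (.node (.leaf 0x27b9002d75) (.leaf 0x0))))))) (.node (.node (.node (.node (.node (.node (.leaf 0x1000176) (.leaf 0x285b002b2c)) (.node (.leaf 0x20f0000003) (.leaf 0x1005aba))) (.node (.node (.leaf 0x2001176) (.leaf 0x5176000074)) (.node (.leaf 0x2f9c001f72) (.leaf 0x0)))) (.node (.node (.node (.leaf 0x976000003) (.leaf 0x43f300436d)) (.node (.leaf 0x2934000003) (.leaf 0x2006714))) (.node (.node (.leaf 0x1976000002) (.leaf 0x43da005976)) (.node (.leaf 0x29e20022ca) (.leaf 0x0))))) (.node (.node (.node (.node (.leaf 0x576000003) (.leaf 0x43ff004576)) (.node (.leaf 0x245c000003) (.leaf 0x2006358))) (.node (.node (.leaf 0x2001576) (.leaf 0x4438005576)) (.node (.leaf 0x330d0029a0) (.leaf 0x0)))) (.node (.node (.node (.leaf 0x2000875) (.leaf 0x43d20048df)) (.node (.leaf 0x2d76001f72) (.leaf 0x1006b8e))) (.node (.node (.leaf 0x1d76000001) (.leaf 0x1005cae)) (.node (.leaf 0x216d002faa) (.leaf 0x0)))))) (.node (.node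 (.node (.node (.node (.leaf 0x376000001) (.leaf 0x436f004325)) (.node (.leaf 0x2297000003) (.leaf 0x100616e))) (.node (.node (.leaf 0x2001376) (.leaf 0x53760042f1)) (.node (.leaf 0x3020001f72) (.leaf 0x0)))) (.node (.node (.node (.leaf 0xb76000001) (.leaf 0x428d004b76)) (.node (.leaf 0x29d4001f7b) (.leaf 0x1005236))) (.node (.node (.leaf 0x1b76000001) (.leaf 0x2005b2f)) (.node (.leaf 0x4700329a) (.leaf 0x0))))) (.node (.node (.node (.node (.leaf 0x776000003) (.leaf 0x4397004776)) (.node (.leaf 0x100269f) (.leaf 0x100651c))) (.node (.node (.leaf 0x1776000003) (.leaf 0x57760042f9)) (.node (.leaf 0x1f7b003320) (.leaf 0x0)))) (.node (.node (.node (.leaf 0x2000f76) (.leaf 0x42ad0043bd)) (.node (.leaf 0x2f76001f72) (.leaf 0x2006e4e))) (.node (.node (.leaf 0x1f76000001) (.leaf 0x2005e29)) (.node (.leaf 0xfda003271) (.leaf 0x0)))))))) (.node (.node (.node (.node (.node (.node (.node (.leaf 0xf6000003) (.leaf 0x18600325f)) (.node (.leaf 0x2082000003)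 (.leaf 0x2005f5a))) (.node (.node (.leaf 0x10f6000003) (.leaf 0x3d0050f6)) (.node (.leaf 0x30f6001f72) (.leaf 0x10070a6)))) (.node (.node (.node (.leaf 0x8f6000003) (.leaf 0x48f60042fd)) (.node (.leaf 0x2860000001) (.leaf 0x100669c))) (.node (.node (.leaf 0x18f6000002) (.leaf 0x58f60043e3)) (.node (.leaf 0x34950021c8) (.leaf 0x0))))) (.node (.node (.node (.node (.leaf 0x4f6000003) (.leaf 0x43a10044f6)) (.node (.leaf 0x23de000003) (.leaf 0x10062e2))) (.node (.node (.leaf 0x20014f6) (.leaf 0x43e00054f6)) (.node (.leaf 0x34f6001f72) (.leaf 0x0)))) (.node (.node (.node (.leaf 0x2000cf6) (.leaf 0x42ac004cf6)) (.node (.leaf 0x18b002c76) (.leaf 0x2006aec))) (.node (.node (.leaf 0x1001cf6) (.leaf 0x1005c44)) (.node (.leaf 0x233b002c61) (.leaf 0x0)))))) (.node (.node (.node (.node (.node (.leaf 0x10002f6) (.leaf 0x42e4000002)) (.node (.leaf 0x2221000003) (.leaf 0x10060f8))) (.node (.node (.leaf 0x20012f6) (.leaf 0x439d0052f6)) (.node (.leaf 0x1f7b002bec)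 (.leaf 0x0)))) (.node (.node (.node (.leaf 0xaf6000001) (.leaf 0x4af60043a0)) (.node (.leaf 0x1f71002af6) (.leaf 0x20068a3))) (.node (.node (.leaf 0x1af6000003) (.leaf 0x5ae0000003)) (.node (.leaf 0x1fb5003261) (.leaf 0x0))))) (.node (.node (.node (.node (.leaf 0x6f6000003) (.leaf 0x42ee0046f6)) (.node (.leaf 0x2602000003) (.leaf 0x10064a2))) (.node (.node (.leaf 0x16f6000003) (.leaf 0x42ec0056f6)) (.node (.leaf 0x343b001f7b) (.leaf 0x0)))) (.node (.node (.node (.leaf 0x1000ef6) (.leaf 0x4ef600428c)) (.node (.leaf 0x1f71002ef6) (.leaf 0x1006dbc))) (.node (.node (.leaf 0x1ef6000001) (.leaf 0x2005dc8)) (.node (.leaf 0x27e1002e55) (.leaf 0x0))))))) (.node (.node (.node (.node (.node (.node (.leaf 0x1f6000002) (.leaf 0x21550029ec)) (.node (.leaf 0x213c000001) (.leaf 0x2006024))) (.node (.node (.leaf 0x10011f6) (.leaf 0x51f60043d3)) (.node (.leaf 0x31f6001f72) (.leaf 0x0)))) (.node (.node (.node (.leaf 0x10009f6) (.leaf 0x49f60042e5)) (.node (.leaf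 0x1f710029f6) (.leaf 0x10067a1))) (.node (.node (.leaf 0x19f6000003) (.leaf 0x43480059f6)) (.node (.leaf 0x336c00218c) (.leaf 0x0))))) (.node (.node (.node (.node (.leaf 0x5f6000003) (.leaf 0x45f60043ac)) (.node (.leaf 0x24dc000003) (.leaf 0x20063c4))) (.node (.node (.leaf 0x20015f6) (.leaf 0x42ae00436e)) (.node (.leaf 0x32fb001f72) (.leaf 0x0)))) (.node (.node (.node (.leaf 0x3000df6) (.leaf 0x43da004df6)) (.node (.leaf 0x1f71002df6) (.leaf 0x2006c46))) (.node (.node (.leaf 0x1df6000003) (.leaf 0x1005d00)) (.node (.leaf 0x21ba002fe7) (.leaf 0x0)))))) (.node (.node (.node (.node (.node (.leaf 0x10003f6) (.leaf 0x43250043ee)) (.node (.leaf 0x1251000001) (.leaf 0x20061ee))) (.node (.node (.leaf 0x10013f6) (.leaf 0x53f60043d7)) (.node (.leaf 0x1f710030c8) (.leaf 0x0)))) (.node (.node (.node (.leaf 0x1000bf6) (.leaf 0x429a004bf6)) (.node (.leaf 0x1f71002bf6) (.leaf 0x20069c4))) (.node (.node (.leaf 0x1bf6000003) (.leaf 0x2005b94)) (.node (.leaf 0x28290034d5)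 (.leaf 0x0))))) (.node (.node (.node (.node (.leaf 0x7f6000002) (.leaf 0x47f60042fb)) (.node (.leaf 0x273f000001) (.leaf 0x6595000003))) (.node (.node (.leaf 0x17f6000003) (.leaf 0x439b0057f6)) (.node (.leaf 0x2e9200271a) (.leaf 0x0)))) (.node (.node (.node (.leaf 0xff6000001) (.leaf 0x4ff60042ef)) (.node (.leaf 0x29f4002048) (.leaf 0x1006f10))) (.node (.node (.leaf 0x2001fcd) (.leaf 0x2005e89)) (.node (.leaf 0x24a5002a26) (.leaf 0x0)))))))))

/-- part -/
def slpT_16 : Tr Nat := (.node (.node (.node (.node (.node (.node (.node (.node (.leaf 0x1000002) (.leaf 0x24a500376c)) (.node (.leaf 0x1fd8000001) (.leaf 0x1005e95))) (.node (.node (.leaf 0x1002000002) (.leaf 0x73005002)) (.node (.leaf 0x2bcd001f72) (.leaf 0x2006f20)))) (.node (.node (.node (.leaf 0x802000003) (.leaf 0x4802000072)) (.node (.leaf 0x2749000001) (.leaf 0x65a1000003))) (.node (.node (.leaf 0x1802000002) (.leaf 0x5005802)) (.node (.leaf 0x2cb50021a2) (.leaf 0x0))))) (.node (.node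 (.node (.node (.leaf 0x1000402) (.leaf 0x42f90043ee)) (.node (.leaf 0x230c000001) (.leaf 0x20003c8))) (.node (.node (.leaf 0x1001402) (.leaf 0x54020043e3)) (.node (.leaf 0x1f7b003116) (.leaf 0x0)))) (.node (.node (.node (.leaf 0x1000c02) (.leaf 0x43480046a1)) (.node (.leaf 0x1f71002af4) (.leaf 0x20069d2))) (.node (.node (.leaf 0x1c02000003) (.leaf 0x1005b9a)) (.node (.leaf 0x2015002dd2) (.leaf 0x0)))))) (.node (.node (.node (.node (.node (.leaf 0x202000003) (.leaf 0x295d002c20)) (.node (.leaf 0x2144000003) (.leaf 0x2000981))) (.node (.node (.leaf 0x1001202) (.leaf 0x52020042fd)) (.node (.leaf 0x3202001f72) (.leaf 0x0)))) (.node (.node (.node (.leaf 0x2000a02) (.leaf 0x463f0042ad)) (.node (.leaf 0x1f7b002a02) (.leaf 0x20067ad))) (.node (.node (.leaf 0x1a02000001) (.leaf 0x5005a02)) (.node (.leaf 0x330f00218c) (.leaf 0x0))))) (.node (.node (.node (.node (.leaf 0x602000003) (.leaf 0x4367004369)) (.node (.leaf 0x24ee000001) (.leaf 0x20063ce))) (.node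 (.node (.leaf 0x2001602) (.leaf 0x43a9005602)) (.node (.leaf 0x2bf5000c32) (.leaf 0x0)))) (.node (.node (.node (.leaf 0x2000e02) (.leaf 0x4389004d19)) (.node (.leaf 0x247d002b7b) (.leaf 0x2006c52))) (.node (.node (.leaf 0x1e02000003) (.leaf 0x10019b9)) (.node (.leaf 0x21ba0031b7) (.leaf 0x0))))))) (.node (.node (.node (.node (.node (.node (.leaf 0x102000003) (.leaf 0x251b0038e9)) (.node (.leaf 0x208c000003) (.leaf 0x2005f64))) (.node (.node (.leaf 0x1102000003) (.leaf 0x42ac0048f1)) (.node (.leaf 0x1f71003102) (.leaf 0x10070cc)))) (.node (.node (.node (.leaf 0x902000001) (.leaf 0x490200440a)) (.node (.leaf 0x2874000003) (.leaf 0x20049ea))) (.node (.node (.leaf 0x1902000003) (.leaf 0x42fe005902)) (.node (.leaf 0x32300021c8) (.leaf 0x0))))) (.node (.node (.node (.node (.leaf 0x502000001) (.leaf 0x10e8004502)) (.node (.leaf 0x23ea000001) (.leaf 0x10062ee))) (.node (.node (.leaf 0x1001502) (.leaf 0x550200442d)) (.node (.leaf 0x32bd001f72) (.leaf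 0x0)))) (.node (.node (.node (.leaf 0x1000d02) (.leaf 0x42b3004d02)) (.node (.leaf 0x28d1002a08) (.leaf 0x1006afc))) (.node (.node (.leaf 0x1001d02) (.leaf 0x1005c50)) (.node (.leaf 0x233b002d92) (.leaf 0x0)))))) (.node (.node (.node (.node (.node (.leaf 0x2000302) (.leaf 0x20042fa)) (.node (.leaf 0x222b000003) (.leaf 0x1006102))) (.node (.node (.leaf 0x2001302) (.leaf 0x429a005302)) (.node (.leaf 0x212f003302) (.leaf 0x0)))) (.node (.node (.node (.leaf 0xb02000001) (.leaf 0x4b020043a8)) (.node (.leaf 0x1f7b002b02) (.leaf 0x20068ad))) (.node (.node (.leaf 0x13000001) (.leaf 0x2051000003)) (.node (.leaf 0x266d0036b5) (.leaf 0x0))))) (.node (.node (.node (.node (.leaf 0x702000002) (.leaf 0x42f8004702)) (.node (.leaf 0x261c000003) (.leaf 0x10064ae))) (.node (.node (.leaf 0x1702000003) (.leaf 0x43270043f6)) (.node (.leaf 0x2b0500258c) (.leaf 0x0)))) (.node (.node (.node (.leaf 0x2000f02) (.leaf 0x4f0200428f)) (.node (.leaf 0x1f7b002b16) (.leaf 0x2006dd0)))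 (.node (.node (.leaf 0x1f02000003) (.leaf 0x1001d39)) (.node (.leaf 0x27e100370d) (.leaf 0x0)))))))) (.node (.node (.node (.node (.node (.node (.node (.leaf 0x82000001) (.leaf 0x266b002a0c)) (.node (.leaf 0x202c000001) (.leaf 0x2005efa))) (.node (.node (.leaf 0x1082000001) (.leaf 0x5082004402)) (.node (.leaf 0x1f71003082) (.leaf 0x2006fd6)))) (.node (.node (.node (.leaf 0x882000001) (.leaf 0x48820043cf)) (.node (.leaf 0x27d4000001) (.leaf 0x661b000003))) (.node (.node (.leaf 0x1882000003) (.leaf 0x43fd004896)) (.node (.leaf 0x34970023c4) (.leaf 0x0))))) (.node (.node (.node (.node (.leaf 0x482000003) (.leaf 0x2004482)) (.node (.leaf 0xa0f000003) (.leaf 0x2001341))) (.node (.node (.leaf 0x2001482) (.leaf 0x43f1004371)) (.node (.leaf 0x1f710031e1) (.leaf 0x0)))) (.node (.node (.node (.leaf 0x1000c82) (.leaf 0x42b3004c82)) (.node (.leaf 0x1f7b002c82) (.leaf 0x1006a66))) (.node (.node (.leaf 0x1001c82) (.leaf 0x2005be8)) (.node (.leaf 0x22e100314f)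 (.leaf 0x0)))))) (.node (.node (.node (.node (.node (.leaf 0x1000282) (.leaf 0x20000075)) (.node (.leaf 0x2002004) (.leaf 0x1006096))) (.node (.node (.leaf 0x1001282) (.leaf 0x52820043e3)) (.node (.leaf 0x2b56001f7b) (.leaf 0x0)))) (.node (.node (.node (.leaf 0xa82000003) (.leaf 0x4a820043ac)) (.node (.leaf 0x2a82001f72) (.leaf 0x2006828))) (.node (.node (.leaf 0x1a82000002) (.leaf 0x429a005a82)) (.node (.leaf 0x2106003613) (.leaf 0x0))))) (.node (.node (.node (.node (.leaf 0x682000003) (.leaf 0x436c0044a5)) (.node (.leaf 0x257e000001) (.leaf 0x2006440))) (.node (.node (.leaf 0x1682000003) (.leaf 0x43c800441c)) (.node (.leaf 0x2b9000004e) (.leaf 0x0)))) (.node (.node (.node (.leaf 0x1000e82) (.leaf 0x42e8004e82)) (.node (.leaf 0x2e82001f72) (.leaf 0x2006cfc))) (.node (.node (.leaf 0x1e82000002) (.leaf 0x1005d68)) (.node (.leaf 0x20e300367b) (.leaf 0x0))))))) (.node (.node (.node (.node (.node (.node (.leaf 0x1000182) (.leaf 0x285b002db8)) (.node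 (.leaf 0x20f8000001) (.leaf 0x1005fc6))) (.node (.node (.leaf 0x3001182) (.leaf 0x451a0043c1)) (.node (.leaf 0x3182001f72) (.leaf 0x0)))) (.node (.node (.node (.leaf 0x1000982) (.leaf 0x498200003e)) (.node (.leaf 0x2948000001) (.leaf 0x2006724))) (.node (.node (.leaf 0x1982000003) (.leaf 0x436a0044fc)) (.node (.leaf 0x321a0022ca) (.leaf 0x0))))) (.node (.node (.node (.node (.leaf 0x582000002) (.leaf 0x42fe004582)) (.node (.leaf 0x2468000003) (.leaf 0x1006362))) (.node (.node (.leaf 0x1001582) (.leaf 0x4405005582)) (.node (.leaf 0x3272001f72) (.leaf 0x0)))) (.node (.node (.node (.leaf 0x1000147) (.leaf 0x443a004d82)) (.node (.leaf 0x2d5a0021ec) (.leaf 0x2006ba4))) (.node (.node (.leaf 0x1d82000003) (.leaf 0x2005cb2)) (.node (.leaf 0x1fc002d28) (.leaf 0x0)))))) (.node (.node (.node (.node (.node (.leaf 0x382000001) (.leaf 0x42ad004367)) (.node (.leaf 0x22a4000001) (.leaf 0x2006178))) (.node (.node (.leaf 0x1001382) (.leaf 0x5382000002)) (.node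 (.leaf 0x2fc6001f72) (.leaf 0x0)))) (.node (.node (.node (.leaf 0xb82000001) (.leaf 0x4358004b82)) (.node (.leaf 0x2b82001f72) (.leaf 0x2006944))) (.node (.node (.leaf 0x1b82000001) (.leaf 0x200170b)) (.node (.leaf 0x18e002ab7) (.leaf 0x0))))) (.node (.node (.node (.node (.leaf 0x782000001) (.leaf 0x4358004782)) (.node (.leaf 0x20026b1) (.leaf 0x200652c))) (.node (.node (.leaf 0x1782000003) (.leaf 0x57820043aa)) (.node (.leaf 0x53002c78) (.leaf 0x0)))) (.node (.node (.node (.leaf 0x2000f82) (.leaf 0x439f004f82)) (.node (.leaf 0x2f82001f72) (.leaf 0x1006e68))) (.node (.node (.leaf 0x10e8000001) (.leaf 0x2005e35)) (.node (.leaf 0x286d002f6d) (.leaf 0x0)))))))))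

/-- part -/
def slpT_17 : Tr Nat := (.node (.node (.node (.node (.node (.node (.node (.node (.leaf 0x42000003) (.leaf 0x266b003afe)) (.node (.leaf 0x1ff4000003) (.leaf 0x2005ec3))) (.node (.node (.leaf 0x1042000003) (.leaf 0x3b005042)) (.node (.leaf 0x304200211e) (.leaf 0x2006f82)))) (.node (.node (.node (.leaf 0x842000002) (.leaf 0x42ad004842)) (.node (.leaf 0x278a000003) (.leaf 0x2001b1f))) (.node (.node (.leaf 0x1842000001) (.leaf 0x442c004381)) (.node (.leaf 0x1f71003017) (.leaf 0x0))))) (.node (.node (.node (.node (.leaf 0x442000001) (.leaf 0x44420042e5)) (.node (.leaf 0x215f000003) (.leaf 0x100623c))) (.node (.node (.leaf 0x1001442) (.leaf 0x48280042ad)) (.node (.leaf 0x1f7b002a24) (.leaf 0x0)))) (.node (.node (.node (.leaf 0x2000c42) (.leaf 0x439b004c42)) (.node (.leaf 0x1f71002c42) (.leaf 0x1006a14))) (.node (.node (.leaf 0x2001c42) (.leaf 0x2005bc0)) (.node (.leaf 0xfd900377e) (.leaf 0x0)))))) (.node (.node (.node (.node (.node (.leaf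 0x2000242) (.leaf 0x25e7003a58)) (.node (.leaf 0x2176000001) (.leaf 0x2004c2b))) (.node (.node (.leaf 0x1001242) (.leaf 0x52420042f1)) (.node (.leaf 0x3242001f72) (.leaf 0x0)))) (.node (.node (.node (.leaf 0xa42000001) (.leaf 0x445f00436d)) (.node (.leaf 0x2a42001f7b) (.leaf 0x10067e7))) (.node (.node (.leaf 0x1a42000003) (.leaf 0x442c005a42)) (.node (.leaf 0x2189003136) (.leaf 0x0))))) (.node (.node (.node (.node (.leaf 0x642000003) (.leaf 0x439d004642)) (.node (.leaf 0x2534000001) (.leaf 0x200640a))) (.node (.node (.leaf 0x1001642) (.leaf 0x4426005642)) (.node (.leaf 0x3642001f72) (.leaf 0x0)))) (.node (.node (.node (.leaf 0x1000e42) (.leaf 0x42b1004e42)) (.node (.leaf 0x2e42001f72) (.leaf 0x2006ca4))) (.node (.node (.leaf 0x2001e42) (.leaf 0x5d35000001)) (.node (.leaf 0x1cf0029db) (.leaf 0x0))))))) (.node (.node (.node (.node (.node (.node (.leaf 0x1000143) (.leaf 0x23b1002f5b)) (.node (.leaf 0x20cc000003) (.leaf 0x2005f8e))) (.node (.node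 (.leaf 0x2001142) (.leaf 0x5142004433)) (.node (.leaf 0x2c99001f72) (.leaf 0x0)))) (.node (.node (.node (.leaf 0x942000003) (.leaf 0x4942000023)) (.node (.leaf 0x28dc000001) (.leaf 0x20066de))) (.node (.node (.leaf 0x1942000001) (.leaf 0x43da005942)) (.node (.leaf 0x2b88000f7b) (.leaf 0x0))))) (.node (.node (.node (.node (.leaf 0x542000003) (.leaf 0x454200439c)) (.node (.leaf 0x2426000003) (.leaf 0x1006326))) (.node (.node (.leaf 0x2001542) (.leaf 0x554200428f)) (.node (.leaf 0x2fe40029a0) (.leaf 0x0)))) (.node (.node (.node (.leaf 0x1000d42) (.leaf 0x42fc004d42)) (.node (.leaf 0x1f7b002c7a) (.leaf 0x2006b3e))) (.node (.node (.leaf 0x2001d42) (.leaf 0x10053a7)) (.node (.leaf 0x24e1002a61) (.leaf 0x0)))))) (.node (.node (.node (.node (.node (.leaf 0x342000001) (.leaf 0x42ac00433a)) (.node (.leaf 0x226b000003) (.leaf 0x200613c))) (.node (.node (.leaf 0x2001342) (.leaf 0x5342004406)) (.node (.leaf 0x3342001f72) (.leaf 0x0)))) (.node (.node (.node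 (.leaf 0xb42000002) (.leaf 0x43ff004b42)) (.node (.leaf 0x2b42001f7b) (.leaf 0x20068ec))) (.node (.node (.leaf 0x1b42000003) (.leaf 0x20014ba)) (.node (.leaf 0x22b7002dd0) (.leaf 0x0))))) (.node (.node (.node (.node (.leaf 0x742000003) (.leaf 0x437200441a)) (.node (.leaf 0x2002661) (.leaf 0x10064ea))) (.node (.node (.leaf 0x1742000001) (.leaf 0x46a200434d)) (.node (.leaf 0x21390033d0) (.leaf 0x0)))) (.node (.node (.node (.leaf 0x2000f42) (.leaf 0x43f2004400)) (.node (.leaf 0x1f71002f42) (.leaf 0x1006c13))) (.node (.node (.leaf 0x1f42000001) (.leaf 0x2005e06)) (.node (.leaf 0xfda0031f3) (.leaf 0x0)))))))) (.node (.node (.node (.node (.node (.node (.node (.leaf 0xc2000001) (.leaf 0x1fcd002f1a)) (.node (.leaf 0x2056000001) (.leaf 0x2005f30))) (.node (.node (.leaf 0x3b3000001) (.leaf 0x50c200428b)) (.node (.leaf 0x211f0030c2) (.leaf 0x2007032)))) (.node (.node (.node (.leaf 0x8c2000001) (.leaf 0x48c20042a5)) (.node (.leaf 0x2818000003) (.leaf 0x665d000003)))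 (.node (.node (.leaf 0x18c2000002) (.leaf 0x58c20043e3)) (.node (.leaf 0x2c950022c6) (.leaf 0x0))))) (.node (.node (.node (.node (.leaf 0x4c2000003) (.leaf 0x436800449a)) (.node (.leaf 0x23b0000003) (.leaf 0x10062ae))) (.node (.node (.leaf 0x20014c2) (.leaf 0x54c20042b4)) (.node (.leaf 0x30de001f7b) (.leaf 0x0)))) (.node (.node (.node (.leaf 0x1000cc2) (.leaf 0x42fe004cc2)) (.node (.leaf 0x29ab002a26) (.leaf 0x2006aac))) (.node (.node (.leaf 0x3001cc2) (.leaf 0x1001678)) (.node (.leaf 0x244b0038cd) (.leaf 0x0)))))) (.node (.node (.node (.node (.node (.leaf 0x20002c2) (.leaf 0x20042c0)) (.node (.leaf 0x21ec000001) (.leaf 0x10060cc))) (.node (.node (.leaf 0x20012c2) (.leaf 0x43da0052c2)) (.node (.leaf 0x967002dee) (.leaf 0x0)))) (.node (.node (.node (.leaf 0xac2000003) (.leaf 0x43d000462e)) (.node (.leaf 0x2a4f001f72) (.leaf 0x200686f))) (.node (.node (.leaf 0x1ac2000001) (.leaf 0x2000f48)) (.node (.leaf 0x23ef0029d7) (.leaf 0x0))))) (.node (.node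 (.node (.node (.leaf 0x6c2000003) (.leaf 0x710046c2)) (.node (.leaf 0x25c6000003) (.leaf 0x1006478))) (.node (.node (.leaf 0x16c2000001) (.leaf 0x43990056c2)) (.node (.leaf 0x3125001f72) (.leaf 0x0)))) (.node (.node (.node (.leaf 0x1000ec2) (.leaf 0x463e0043d1)) (.node (.leaf 0x2eac001f72) (.leaf 0x1006d54))) (.node (.node (.leaf 0x1ec2000001) (.leaf 0x5da7000001)) (.node (.leaf 0x2455002b5b) (.leaf 0x0))))))) (.node (.node (.node (.node (.node (.node (.leaf 0x20001c2) (.leaf 0x28a10029e8)) (.node (.leaf 0x2118000001) (.leaf 0x1005ff8))) (.node (.node (.leaf 0x20011c2) (.leaf 0x442e0051c2)) (.node (.leaf 0x31c200265e) (.leaf 0x0)))) (.node (.node (.node (.leaf 0x10009c2) (.leaf 0x10e80049c2)) (.node (.leaf 0x29c2001f72) (.leaf 0x2006764))) (.node (.node (.leaf 0x19c2000001) (.leaf 0x43d0005559)) (.node (.leaf 0x2ad200213c) (.leaf 0x0))))) (.node (.node (.node (.node (.leaf 0x5c2000001) (.leaf 0x428a0045c2)) (.node (.leaf 0x50b000003) (.leaf 0x1006396)))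 (.node (.node (.leaf 0x10015c2) (.leaf 0x4387004bd2)) (.node (.leaf 0x2fe0001f7b) (.leaf 0x0)))) (.node (.node (.node (.leaf 0x1000dc2) (.leaf 0x3b004dc2)) (.node (.leaf 0x236d002dc2) (.leaf 0x2006bf6))) (.node (.node (.leaf 0x1dc2000002) (.leaf 0x1005ce0)) (.node (.leaf 0x29a90032e8) (.leaf 0x0)))))) (.node (.node (.node (.node (.node (.leaf 0x3c2000003) (.leaf 0x43b3004327)) (.node (.leaf 0x22d6000001) (.leaf 0x10061c0))) (.node (.node (.leaf 0x10013c2) (.leaf 0x53c2004353)) (.node (.leaf 0x3105001f7b) (.leaf 0x0)))) (.node (.node (.node (.leaf 0xbc2000003) (.leaf 0x4397004bc2)) (.node (.leaf 0x1f7b002ab3) (.leaf 0x2006988))) (.node (.node (.leaf 0x1bc2000001) (.leaf 0x10019b3)) (.node (.leaf 0x22e3002a18) (.leaf 0x0))))) (.node (.node (.node (.node (.leaf 0x7c2000001) (.leaf 0x47c20042ef)) (.node (.leaf 0x26fa000003) (.leaf 0x6567000001))) (.node (.node (.leaf 0x17c2000003) (.leaf 0x4f3a00442d)) (.node (.leaf 0x2407002aa5) (.leaf 0x0)))) (.node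 (.node (.node (.leaf 0x2000fc2) (.leaf 0x43f70043b3)) (.node (.leaf 0x2f250020cc) (.leaf 0x1006ed2))) (.node (.node (.leaf 0x1fa8000001) (.leaf 0x2001c3c)) (.node (.leaf 0x20f7002fa7) (.leaf 0x0)))))))))

/-- part -/
def slpT_18 : Tr Nat := (.node (.node (.node (.node (.node (.node (.node (.node (.leaf 0x1000022) (.leaf 0x266b002bd4)) (.node (.leaf 0x1feb000001) (.leaf 0x1005eaf))) (.node (.node (.leaf 0x1022000001) (.leaf 0x10e8005022)) (.node (.leaf 0x3022001f72) (.leaf 0x2006f42)))) (.node (.node (.node (.leaf 0x822000001) (.leaf 0x48220042fd)) (.node (.leaf 0x276b000003) (.leaf 0x10065c2))) (.node (.node (.leaf 0x1822000003) (.leaf 0x4370004499)) (.node (.leaf 0x2bd500269c) (.leaf 0x0))))) (.node (.node (.node (.node (.leaf 0x422000003) (.leaf 0x441a0043bc)) (.node (.leaf 0x232a000003) (.leaf 0x1006212))) (.node (.node (.leaf 0x2001422) (.leaf 0x468f004386)) (.node (.leaf 0x201f002ea1) (.leaf 0x0)))) (.node (.node (.node (.leaf 0x3000c22)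 (.leaf 0x4426004c22)) (.node (.leaf 0x1f71002bf4) (.leaf 0x20069f4))) (.node (.node (.leaf 0x1c22000003) (.leaf 0x2005baa)) (.node (.leaf 0x20a90036c3) (.leaf 0x0)))))) (.node (.node (.node (.node (.node (.leaf 0x2000223) (.leaf 0x297d0035c5)) (.node (.leaf 0x2002159) (.leaf 0x100604a))) (.node (.node (.leaf 0x2001222) (.leaf 0x5222004439)) (.node (.leaf 0x3222001f72) (.leaf 0x0)))) (.node (.node (.node (.leaf 0xa22000001) (.leaf 0x4a220042a5)) (.node (.leaf 0x1f71002a22) (.leaf 0x10067cb))) (.node (.node (.leaf 0xafe000003) (.leaf 0x442e0049bf)) (.node (.leaf 0x2ea600004f) (.leaf 0x0))))) (.node (.node (.node (.node (.leaf 0x622000003) (.leaf 0x462200438a)) (.node (.leaf 0x250e000003) (.leaf 0x20063ec))) (.node (.node (.leaf 0x2001622) (.leaf 0x429a005622)) (.node (.leaf 0x3622001f72) (.leaf 0x0)))) (.node (.node (.node (.leaf 0x2000e22) (.leaf 0x4e2200440a)) (.node (.leaf 0x1f71002bb2) (.leaf 0x2006c7c))) (.node (.node (.leaf 0x1e22000003)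 (.leaf 0x136f000003)) (.node (.leaf 0x222100316d) (.leaf 0x0))))))) (.node (.node (.node (.node (.node (.node (.leaf 0x122000003) (.leaf 0x21e7002aaf)) (.node (.leaf 0x20b2000003) (.leaf 0x1005f7c))) (.node (.node (.leaf 0x2001122) (.leaf 0x512200428b)) (.node (.leaf 0x1f7b003122) (.leaf 0x1007122)))) (.node (.node (.node (.leaf 0x922000003) (.leaf 0x43b400436b)) (.node (.leaf 0x28a6000003) (.leaf 0x10066c2))) (.node (.node (.leaf 0x1922000003) (.leaf 0x4274005922)) (.node (.leaf 0x34a700013d) (.leaf 0x0))))) (.node (.node (.node (.node (.leaf 0x522000001) (.leaf 0x4522004406)) (.node (.leaf 0x240a000003) (.leaf 0x200630a))) (.node (.node (.leaf 0x3001522) (.leaf 0x43ef004425)) (.node (.leaf 0x2d740021ff) (.leaf 0x0)))) (.node (.node (.node (.leaf 0x3000d22) (.leaf 0x4385004d22)) (.node (.leaf 0x2971002d22) (.leaf 0x2004e03))) (.node (.node (.leaf 0x1001d22) (.leaf 0x200242e)) (.node (.leaf 0x25510030c8) (.leaf 0x0)))))) (.node (.node (.node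 (.node (.node (.leaf 0x1000322) (.leaf 0x42ac004322)) (.node (.leaf 0x224e000001) (.leaf 0x2006122))) (.node (.node (.leaf 0x1001322) (.leaf 0x532200430f)) (.node (.leaf 0x1f7b00329a) (.leaf 0x0)))) (.node (.node (.node (.leaf 0xb22000002) (.leaf 0x4b22000072)) (.node (.leaf 0x1f71002b22) (.leaf 0x20068c9))) (.node (.node (.leaf 0xd86000001) (.leaf 0x5afa000003)) (.node (.leaf 0x276a002b69) (.leaf 0x0))))) (.node (.node (.node (.node (.leaf 0x722000003) (.leaf 0x47220042e5)) (.node (.leaf 0x263e000001) (.leaf 0x10064d0))) (.node (.node (.leaf 0x1722000001) (.leaf 0x42fa005722)) (.node (.leaf 0x2df7002600) (.leaf 0x0)))) (.node (.node (.node (.leaf 0x2000f22) (.leaf 0x4f220043a8)) (.node (.leaf 0x1f71002f22) (.leaf 0x2006dee))) (.node (.node (.leaf 0x1f22000001) (.leaf 0x2005dee)) (.node (.leaf 0x27e1002a16) (.leaf 0x0)))))))) (.node (.node (.node (.node (.node (.node (.node (.leaf 0x20000a2) (.leaf 0x21b3003308)) (.node (.leaf 0x2042000001) (.leaf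 0x1005f1e))) (.node (.node (.leaf 0x10a2000001) (.leaf 0x441d0043ed)) (.node (.leaf 0x1f7b0030a2) (.leaf 0x2007008)))) (.node (.node (.node (.leaf 0x8a2000001) (.leaf 0x48a20042f9)) (.node (.leaf 0x27fa000001) (.leaf 0x663d000001))) (.node (.node (.leaf 0x18a2000002) (.leaf 0x428a0058a2)) (.node (.leaf 0x31d40027ce) (.leaf 0x0))))) (.node (.node (.node (.node (.leaf 0x4a2000003) (.leaf 0x44a2000072)) (.node (.leaf 0x238a000001) (.leaf 0x1006298))) (.node (.node (.leaf 0x10014a2) (.leaf 0x54a200439e)) (.node (.leaf 0x2915002dba) (.leaf 0x0)))) (.node (.node (.node (.leaf 0x1000ca2) (.leaf 0x4397004ca2)) (.node (.leaf 0x1f7b002ca2) (.leaf 0x1006a8a))) (.node (.node (.leaf 0x1001ca2) (.leaf 0x2005bfe)) (.node (.leaf 0x21f7003326) (.leaf 0x0)))))) (.node (.node (.node (.node (.node (.leaf 0x10002a2) (.leaf 0x200429c)) (.node (.leaf 0x21d4000003) (.leaf 0x10060b2))) (.node (.node (.leaf 0x10012a2) (.leaf 0x52a2004406)) (.node (.leaf 0x1f710030ef)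 (.leaf 0x0)))) (.node (.node (.node (.leaf 0xaa2000001) (.leaf 0x4aa20042ad)) (.node (.leaf 0x2aa2001f72) (.leaf 0x20026d2))) (.node (.node (.leaf 0x1aa2000003) (.leaf 0x4302005aa2)) (.node (.leaf 0x249b002b14) (.leaf 0x0))))) (.node (.node (.node (.node (.leaf 0x6a2000003) (.leaf 0x42f00046a2)) (.node (.leaf 0x259c000003) (.leaf 0x200645c))) (.node (.node (.leaf 0x16a2000001) (.leaf 0x42a40056a2)) (.node (.leaf 0x2a350024b2) (.leaf 0x0)))) (.node (.node (.node (.leaf 0x2000ea2) (.leaf 0x4352004ea2)) (.node (.leaf 0x2ea2001f72) (.leaf 0x1006d22))) (.node (.node (.leaf 0x1ea2000001) (.leaf 0x5d83000003)) (.node (.leaf 0x208a002f30) (.leaf 0x0))))))) (.node (.node (.node (.node (.node (.node (.leaf 0x20001a2) (.leaf 0x1fa9002ac5)) (.node (.leaf 0x210a000003) (.leaf 0x2005fe4))) (.node (.node (.leaf 0x30011a2) (.leaf 0x51a2004353)) (.node (.leaf 0x2ee300265e) (.leaf 0x0)))) (.node (.node (.node (.leaf 0x10009a2) (.leaf 0x49a20043d3)) (.node (.leaf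 0x298c000003) (.leaf 0x2006748))) (.node (.node (.leaf 0x19a2000003) (.leaf 0x4328004417)) (.node (.leaf 0x2b50002628) (.leaf 0x0))))) (.node (.node (.node (.node (.leaf 0x5a2000003) (.leaf 0x43bb00441b)) (.node (.leaf 0x248c000003) (.leaf 0x200637c))) (.node (.node (.leaf 0x20015a2) (.leaf 0x730055a2)) (.node (.leaf 0x2a56001f72) (.leaf 0x0)))) (.node (.node (.node (.leaf 0x2000da2) (.leaf 0x428a004da2)) (.node (.leaf 0x236d002da2) (.leaf 0x1006bc4))) (.node (.node (.leaf 0x1da2000001) (.leaf 0x2005cc8)) (.node (.leaf 0x27480033a7) (.leaf 0x0)))))) (.node (.node (.node (.node (.node (.leaf 0x10003a3) (.leaf 0x439c004367)) (.node (.leaf 0x22bc000003) (.leaf 0x2006196))) (.node (.node (.leaf 0x20013a2) (.leaf 0x10e80053a2)) (.node (.leaf 0x2da7001f7b) (.leaf 0x0)))) (.node (.node (.node (.leaf 0xba2000001) (.leaf 0x4300004ba2)) (.node (.leaf 0x1f71002a6f) (.leaf 0x100696a))) (.node (.node (.leaf 0x1ba2000001) (.leaf 0x2005b51)) (.node (.leaf 0x22e30038df)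 (.leaf 0x0))))) (.node (.node (.node (.node (.leaf 0x7a2000001) (.leaf 0x43c70043fe)) (.node (.leaf 0x26d8000003) (.leaf 0x654d000003))) (.node (.node (.leaf 0x17a2000001) (.leaf 0x57a20042e9)) (.node (.leaf 0x53002b00) (.leaf 0x0)))) (.node (.node (.node (.leaf 0x1000fa2) (.leaf 0x434c004fa2)) (.node (.leaf 0x2fa2001f72) (.leaf 0x1006e98))) (.node (.node (.leaf 0x1f98000001) (.leaf 0x2005e4d)) (.node (.leaf 0x2153002e18) (.leaf 0x0)))))))))

/-- part -/
def slpT_19 : Tr Nat := (.node (.node (.node (.node (.node (.node (.node (.node (.leaf 0x1d000001) (.leaf 0x266b002bc6)) (.node (.leaf 0x200e000001) (.leaf 0x2005eda))) (.node (.node (.leaf 0x1062000003) (.leaf 0x5062000021)) (.node (.leaf 0x1f7b002f97) (.leaf 0x2006fa8)))) (.node (.node (.node (.leaf 0x862000002) (.leaf 0x43260043f5)) (.node (.leaf 0x27b4000001) (.leaf 0x65ff000003))) (.node (.node (.leaf 0x1862000001) (.leaf 0x43f70043f6)) (.node (.leaf 0x2a3e00252c) (.leaf 0x0))))) (.node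 (.node (.node (.node (.leaf 0x462000001) (.leaf 0x4462004386)) (.node (.leaf 0x235a000001) (.leaf 0x1006260))) (.node (.node (.leaf 0x3001462) (.leaf 0x48b100442f)) (.node (.leaf 0x1f7b002a91) (.leaf 0x0)))) (.node (.node (.node (.leaf 0x1000c62) (.leaf 0x4c620010e7)) (.node (.leaf 0x1f71002c62) (.leaf 0x2006a2e))) (.node (.node (.leaf 0x2001c62) (.leaf 0x2005bd2)) (.node (.leaf 0x2121003102) (.leaf 0x0)))))) (.node (.node (.node (.node (.node (.leaf 0x3000262) (.leaf 0xb400301f)) (.node (.leaf 0x2192000003) (.leaf 0x200607c))) (.node (.node (.leaf 0x2001262) (.leaf 0x442e004591)) (.node (.leaf 0x3262001f7b) (.leaf 0x0)))) (.node (.node (.node (.leaf 0xa62000003) (.leaf 0x4a620010e7)) (.node (.leaf 0x2a62001f72) (.leaf 0x200680b))) (.node (.node (.leaf 0x1a62000001) (.leaf 0x43fd005514)) (.node (.leaf 0x96e002c4a) (.leaf 0x0))))) (.node (.node (.node (.node (.leaf 0x662000003) (.leaf 0x42e8004662)) (.node (.leaf 0x255e000003) (.leaf 0x1006420)))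 (.node (.node (.leaf 0x2001662) (.leaf 0x56620043aa)) (.node (.leaf 0x312300004e) (.leaf 0x0)))) (.node (.node (.node (.leaf 0x3000e62) (.leaf 0x42ad00446b)) (.node (.leaf 0x2e620024f2) (.leaf 0x2006ccc))) (.node (.node (.leaf 0x1e62000002) (.leaf 0x5d4f000001)) (.node (.leaf 0x27b9002abd) (.leaf 0x0))))))) (.node (.node (.node (.node (.node (.node (.leaf 0x1000162) (.leaf 0x23b10030f7)) (.node (.leaf 0x20e2000001) (.leaf 0x1005d15))) (.node (.node (.leaf 0x1001162) (.leaf 0x51620042b4)) (.node (.leaf 0x3162001f7b) (.leaf 0x0)))) (.node (.node (.node (.leaf 0x962000001) (.leaf 0x49620042ef)) (.node (.leaf 0x291e000001) (.leaf 0x1006700))) (.node (.node (.leaf 0x1962000001) (.leaf 0x42ec005962)) (.node (.leaf 0x330d001f7b) (.leaf 0x0))))) (.node (.node (.node (.node (.leaf 0x562000002) (.leaf 0x442e004562)) (.node (.leaf 0x2442000001) (.leaf 0x1006344))) (.node (.node (.leaf 0x1001562) (.leaf 0x52d80043fe)) (.node (.leaf 0x3562001f7b) (.leaf 0x0))))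 (.node (.node (.node (.leaf 0x2000d62) (.leaf 0x43f70045dc)) (.node (.leaf 0x2c95001f72) (.leaf 0x2006b70))) (.node (.node (.leaf 0x1d62000001) (.leaf 0x20023ee)) (.node (.leaf 0xf76002ade) (.leaf 0x0)))))) (.node (.node (.node (.node (.node (.leaf 0x362000001) (.leaf 0x4341004362)) (.node (.leaf 0x5ed000003) (.leaf 0x100615c))) (.node (.node (.leaf 0x2001362) (.leaf 0x43f5004373)) (.node (.leaf 0x330b001f72) (.leaf 0x0)))) (.node (.node (.node (.leaf 0xb62000001) (.leaf 0x428e004b62)) (.node (.leaf 0x2b62001f72) (.leaf 0x200691c))) (.node (.node (.leaf 0x1b62000001) (.leaf 0x2005b23)) (.node (.leaf 0x2823003772) (.leaf 0x0))))) (.node (.node (.node (.node (.leaf 0x762000003) (.leaf 0x4762004400)) (.node (.leaf 0x2682000001) (.leaf 0x100650a))) (.node (.node (.leaf 0x1762000002) (.leaf 0x43700045dc)) (.node (.leaf 0x1f7100324d) (.leaf 0x0)))) (.node (.node (.node (.leaf 0x2000f62) (.leaf 0x436c0045dc)) (.node (.leaf 0x2f62001f72) (.leaf 0x2006e3c)))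 (.node (.node (.leaf 0x1001dcf) (.leaf 0x1005e1d)) (.node (.leaf 0xfda003104) (.leaf 0x0)))))))) (.node (.node (.node (.node (.node (.node (.node (.leaf 0xe2000001) (.leaf 0x1860029c1)) (.node (.leaf 0x206c000003) (.leaf 0x2005f48))) (.node (.node (.leaf 0x10e2000003) (.leaf 0x50e20043d7)) (.node (.leaf 0x30e2001f7b) (.leaf 0x100706c)))) (.node (.node (.node (.leaf 0x8e2000003) (.leaf 0x48e200434d)) (.node (.leaf 0x2842000001) (.leaf 0x1006684))) (.node (.node (.leaf 0x18e2000001) (.leaf 0x58e20042fd)) (.node (.leaf 0x3107001f72) (.leaf 0x0))))) (.node (.node (.node (.node (.leaf 0x4e2000001) (.leaf 0x43a10044e2)) (.node (.leaf 0x23cc000003) (.leaf 0x20062ce))) (.node (.node (.leaf 0x20014e2) (.leaf 0x428c0054e2)) (.node (.leaf 0x2ff0001f7b) (.leaf 0x0)))) (.node (.node (.node (.leaf 0x2000ce2) (.leaf 0x43e0004ce2)) (.node (.leaf 0xfcd002ab7) (.leaf 0x2006ad0))) (.node (.node (.leaf 0x1001ce2) (.leaf 0x2005c34)) (.node (.leaf 0x233b002e83) (.leaf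 0x0)))))) (.node (.node (.node (.node (.node (.leaf 0x10002e2) (.leaf 0x42c30042e2)) (.node (.leaf 0x220b000003) (.leaf 0x10060e8))) (.node (.node (.leaf 0x20012e2) (.leaf 0x42f00052e2)) (.node (.leaf 0x27fd00320d) (.leaf 0x0)))) (.node (.node (.node (.leaf 0xae2000003) (.leaf 0x4ae200429b)) (.node (.leaf 0x1f71002ae2) (.leaf 0x200688f))) (.node (.node (.leaf 0x1ae2000001) (.leaf 0x5ace000003)) (.node (.leaf 0x2669002a09) (.leaf 0x0))))) (.node (.node (.node (.node (.leaf 0x6e2000002) (.leaf 0x43d60046e2)) (.node (.leaf 0x25e6000001) (.leaf 0x1006494))) (.node (.node (.leaf 0x1141000003) (.leaf 0x43d2005459)) (.node (.leaf 0x2b540005e8) (.leaf 0x0)))) (.node (.node (.node (.leaf 0x1000ee2) (.leaf 0x47e800442b)) (.node (.leaf 0x28e1002ee2) (.leaf 0x1006d98))) (.node (.node (.leaf 0x1ee2000003) (.leaf 0x2005db6)) (.node (.leaf 0x27af002ed6) (.leaf 0x0))))))) (.node (.node (.node (.node (.node (.node (.leaf 0x1e2000001) (.leaf 0x83003114)) (.node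 (.leaf 0x2130000001) (.leaf 0x1006016))) (.node (.node (.leaf 0x10011e2) (.leaf 0x3d0051e2)) (.node (.leaf 0x2a350020b0) (.leaf 0x0)))) (.node (.node (.node (.leaf 0x20009e2) (.leaf 0x43670043d3)) (.node (.leaf 0x29e2001f72) (.leaf 0x200678b))) (.node (.node (.leaf 0x19e2000003) (.leaf 0x442e0048e9)) (.node (.leaf 0x2e3400200a) (.leaf 0x0))))) (.node (.node (.node (.node (.leaf 0x5e2000001) (.leaf 0x45e20043e1)) (.node (.leaf 0x24ca000003) (.leaf 0x20063b2))) (.node (.node (.leaf 0x20015e2) (.leaf 0x42a40055e2)) (.node (.leaf 0x2f58001f7b) (.leaf 0x0)))) (.node (.node (.node (.leaf 0x2000de2) (.leaf 0x4426004de2)) (.node (.leaf 0x1f71002d5b) (.leaf 0x2006c1e))) (.node (.node (.leaf 0x1de2000001) (.leaf 0x2005cf0)) (.node (.leaf 0x21ba002d32) (.leaf 0x0)))))) (.node (.node (.node (.node (.node (.leaf 0x20003e2) (.leaf 0xc0042e0)) (.node (.leaf 0x22f2000003) (.leaf 0x10061da))) (.node (.node (.leaf 0x10013e2) (.leaf 0x441b0043bf)) (.node (.leaf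 0x2635002eb7) (.leaf 0x0)))) (.node (.node (.node (.leaf 0x1000be2) (.leaf 0x4430004422)) (.node (.leaf 0x1f71002be2) (.leaf 0x10069ae))) (.node (.node (.leaf 0x1be2000003) (.leaf 0x2005b88)) (.node (.leaf 0x27a90032a0) (.leaf 0x0))))) (.node (.node (.node (.node (.leaf 0x7e2000001) (.leaf 0x47e200439c)) (.node (.leaf 0x2722000001) (.leaf 0x6581000001))) (.node (.node (.leaf 0x17e2000001) (.leaf 0x57e2000003)) (.node (.leaf 0x37e2001f72) (.leaf 0x0)))) (.node (.node (.node (.leaf 0xfe2000003) (.leaf 0x4fe200432f)) (.node (.leaf 0x2eca001f7b) (.leaf 0x1006efc))) (.node (.node (.leaf 0x1fba000003) (.leaf 0x1005e7a)) (.node (.leaf 0x5b000315f) (.leaf 0x0)))))))))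

/-- part -/
def slpT_20 : Tr Nat := (.node (.node (.node (.node (.node (.node (.node (.node (.leaf 0x2000004) (.leaf 0x268500306a)) (.node (.leaf 0x87a000003) (.leaf 0x1005ea1))) (.node (.node (.leaf 0x1012000003) (.leaf 0x439d005012)) (.node (.leaf 0x2b5e002450) (.leaf 0x2006f30)))) (.node (.node (.node (.leaf 0x812000001) (.leaf 0x4756004422)) (.node (.leaf 0x275a000003) (.leaf 0x20065b0))) (.node (.node (.leaf 0x1812000003) (.leaf 0x43a7005812)) (.node (.leaf 0x37690021a2) (.leaf 0x0))))) (.node (.node (.node (.node (.leaf 0x412000001) (.leaf 0x4412000020)) (.node (.leaf 0x231a000003) (.leaf 0x2006202))) (.node (.node (.leaf 0x3001412) (.leaf 0x43ba00438a)) (.node (.leaf 0x2635003215) (.leaf 0x0)))) (.node (.node (.node (.leaf 0x1000c12) (.leaf 0x4438004c12)) (.node (.leaf 0x1f71002c12) (.leaf 0x10069e2))) (.node (.node (.leaf 0x1c12000003) (.leaf 0x2005ba2)) (.node (.leaf 0x20a90030d9) (.leaf 0x0)))))) (.node (.node (.node (.node (.node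 (.leaf 0x212000001) (.leaf 0x295d0029bb)) (.node (.leaf 0x200214d) (.leaf 0x1005d35))) (.node (.node (.leaf 0x1001212) (.leaf 0x5212004349)) (.node (.leaf 0x2ac2001f72) (.leaf 0x0)))) (.node (.node (.node (.leaf 0xa12000001) (.leaf 0x4499004423)) (.node (.leaf 0x1f7b002a12) (.leaf 0x20067bb))) (.node (.node (.leaf 0x1a12000003) (.leaf 0x43ab005a12)) (.node (.leaf 0x29dc001f7b) (.leaf 0x0))))) (.node (.node (.node (.node (.leaf 0x14f000001) (.leaf 0x4612004437)) (.node (.leaf 0x24fe000003) (.leaf 0x20063e0))) (.node (.node (.leaf 0x1001612) (.leaf 0x4407005612)) (.node (.leaf 0x33c0001f72) (.leaf 0x0)))) (.node (.node (.node (.leaf 0x3000e12) (.leaf 0x44230043f0)) (.node (.leaf 0x247d002e12) (.leaf 0x1006c6a))) (.node (.node (.leaf 0x1e12000003) (.leaf 0x1005d12)) (.node (.leaf 0x22210030a6) (.leaf 0x0))))))) (.node (.node (.node (.node (.node (.node (.leaf 0x112000001) (.leaf 0x242d003754)) (.node (.leaf 0x20a2000003) (.leaf 0x2005f70))) (.node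 (.node (.leaf 0x3001112) (.leaf 0x43520049bf)) (.node (.leaf 0x1f71003112) (.leaf 0x20070e6)))) (.node (.node (.node (.leaf 0x559000003) (.leaf 0x49120043aa)) (.node (.leaf 0x2888000001) (.leaf 0x20066b2))) (.node (.node (.leaf 0x1912000001) (.leaf 0x4399005912)) (.node (.leaf 0x29be00013d) (.leaf 0x0))))) (.node (.node (.node (.node (.leaf 0x512000001) (.leaf 0x42e4004512)) (.node (.leaf 0x23fa000003) (.leaf 0x10062fc))) (.node (.node (.leaf 0x1001512) (.leaf 0x43f1004326)) (.node (.leaf 0x33840021ff) (.leaf 0x0)))) (.node (.node (.node (.leaf 0x1000d12) (.leaf 0x42c0004d12)) (.node (.leaf 0x22f7002ad9) (.leaf 0x1006b0c))) (.node (.node (.leaf 0x1001d12) (.leaf 0x200165e)) (.node (.leaf 0x2551002c6c) (.leaf 0x0)))))) (.node (.node (.node (.node (.node (.leaf 0x2000312) (.leaf 0x100430e)) (.node (.leaf 0x223e000001) (.leaf 0x2006110))) (.node (.node (.leaf 0x2001312) (.leaf 0x71005312)) (.node (.leaf 0x212f002c5a) (.leaf 0x0)))) (.node (.node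 (.node (.leaf 0xb12000001) (.leaf 0x4b120043e1)) (.node (.leaf 0x1f7b0029b5) (.leaf 0x20068b7))) (.node (.node (.leaf 0x1b12000003) (.leaf 0x5af0000003)) (.node (.leaf 0x276a00346a) (.leaf 0x0))))) (.node (.node (.node (.node (.leaf 0x712000003) (.leaf 0x3b004712)) (.node (.leaf 0x262e000003) (.leaf 0x10064be))) (.node (.node (.leaf 0x1712000003) (.leaf 0x20005712)) (.node (.leaf 0x3495002600) (.leaf 0x0)))) (.node (.node (.node (.leaf 0x2000f12) (.leaf 0x4f120043e3)) (.node (.leaf 0x1f71002f12) (.leaf 0x1006c0d))) (.node (.node (.leaf 0x1f12000003) (.leaf 0x2005de2)) (.node (.leaf 0x27e1002ba6) (.leaf 0x0)))))))) (.node (.node (.node (.node (.node (.node (.node (.leaf 0x2000092) (.leaf 0x21b3002a4e)) (.node (.leaf 0x203a000001) (.leaf 0x200222f))) (.node (.node (.leaf 0x1092000001) (.leaf 0x5092004384)) (.node (.leaf 0x1f71003092) (.leaf 0x1006fea)))) (.node (.node (.node (.leaf 0x892000003) (.leaf 0x4892000072)) (.node (.leaf 0x27e6000001)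 (.leaf 0x6631000001))) (.node (.node (.leaf 0x1892000003) (.leaf 0x10e8005892)) (.node (.leaf 0x35fe001f72) (.leaf 0x0))))) (.node (.node (.node (.node (.leaf 0x492000001) (.leaf 0x44920042ad)) (.node (.leaf 0x237e000001) (.leaf 0x200628a))) (.node (.node (.leaf 0x872000747) (.leaf 0x5492000002)) (.node (.leaf 0x1f71002ca2) (.leaf 0x0)))) (.node (.node (.node (.leaf 0x1000c92) (.leaf 0x4302004c92)) (.node (.leaf 0x1f71002c92) (.leaf 0x2006a7c))) (.node (.node (.leaf 0x1001c92) (.leaf 0x2002588)) (.node (.leaf 0x1fc400332e) (.leaf 0x0)))))) (.node (.node (.node (.node (.node (.leaf 0x1000292) (.leaf 0x428a004274)) (.node (.leaf 0x20021c7) (.leaf 0x20060a2))) (.node (.node (.leaf 0x1001292) (.leaf 0x529200429d)) (.node (.leaf 0x1f71002f5d) (.leaf 0x0)))) (.node (.node (.node (.leaf 0xa92000003) (.leaf 0x4a92000023)) (.node (.leaf 0x2a92001f72) (.leaf 0x100683e))) (.node (.node (.leaf 0x1a92000003) (.leaf 0x1005a92)) (.node (.leaf 0x249b0033ce)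 (.leaf 0x0))))) (.node (.node (.node (.node (.leaf 0x692000003) (.leaf 0x42fc004692)) (.node (.leaf 0x258e000003) (.leaf 0x1006450))) (.node (.node (.leaf 0x1692000001) (.leaf 0x3005692)) (.node (.leaf 0x34e00024b2) (.leaf 0x0)))) (.node (.node (.node (.leaf 0x2000e92) (.leaf 0x42fc004e92)) (.node (.leaf 0x2e92001f72) (.leaf 0x2006d10))) (.node (.node (.leaf 0x1e92000001) (.leaf 0x5d77000003)) (.node (.leaf 0x20e300350f) (.leaf 0x0))))))) (.node (.node (.node (.node (.node (.node (.leaf 0x1000192) (.leaf 0x2613002e30)) (.node (.leaf 0x2102000001) (.leaf 0x2005fd4))) (.node (.node (.leaf 0xf68001192) (.leaf 0x51920042c1)) (.node (.leaf 0x3192001fc0) (.leaf 0x0)))) (.node (.node (.node (.leaf 0x2000992) (.leaf 0x4992004398)) (.node (.leaf 0x295a000003) (.leaf 0x1006732))) (.node (.node (.leaf 0x1992000001) (.leaf 0x43e2005992)) (.node (.leaf 0x2fb20022ca) (.leaf 0x0))))) (.node (.node (.node (.node (.leaf 0x592000003) (.leaf 0x42f0004592)) (.node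 (.leaf 0x2478000003) (.leaf 0x1006370))) (.node (.node (.leaf 0x2001098) (.leaf 0x43270043bb)) (.node (.leaf 0x35920026da) (.leaf 0x0)))) (.node (.node (.node (.leaf 0x1000d92) (.leaf 0x4405004d92)) (.node (.leaf 0x1f71002d92) (.leaf 0x1006bb6))) (.node (.node (.leaf 0x1d92000003) (.leaf 0x1005cc0)) (.node (.leaf 0x262d00319b) (.leaf 0x0)))))) (.node (.node (.node (.node (.node (.leaf 0x392000002) (.leaf 0x432f004367)) (.node (.leaf 0x22ae000003) (.leaf 0x100618a))) (.node (.node (.leaf 0x2001392) (.leaf 0x539200439e)) (.node (.leaf 0x3392002080) (.leaf 0x0)))) (.node (.node (.node (.leaf 0xb92000002) (.leaf 0x43ec00462c)) (.node (.leaf 0x2b76001f7b) (.leaf 0x2006952))) (.node (.node (.leaf 0x1b92000001) (.leaf 0x2005b42)) (.node (.leaf 0x231f0033c1) (.leaf 0x0))))) (.node (.node (.node (.node (.leaf 0x792000001) (.leaf 0x479200428c)) (.node (.leaf 0x26ca000003) (.leaf 0x6541000003))) (.node (.node (.leaf 0x1792000001) (.leaf 0x57920042b2)) (.node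 (.leaf 0x53002ab7) (.leaf 0x0)))) (.node (.node (.node (.leaf 0x10008dd) (.leaf 0x42ec004f92)) (.node (.leaf 0x2f92001f72) (.leaf 0x2006e7c))) (.node (.node (.leaf 0x1cd6000001) (.leaf 0x1005e2c)) (.node (.leaf 0x2695002ab1) (.leaf 0x0)))))))))

/-- part -/
def slpT_21 : Tr Nat := (.node (.node (.node (.node (.node (.node (.node (.node (.leaf 0x52000001) (.leaf 0x266b002bd8)) (.node (.leaf 0x5a000003) (.leaf 0x1005ecf))) (.node (.node (.leaf 0x1052000001) (.leaf 0x47460042b0)) (.node (.leaf 0x2691002c2c) (.leaf 0x2006f92)))) (.node (.node (.node (.leaf 0x852000003) (.leaf 0x429c004852)) (.node (.leaf 0x27a0000003) (.leaf 0x65ed000003))) (.node (.node (.leaf 0x1852000001) (.leaf 0x43270043b8)) (.node (.leaf 0x2cbd001f7b) (.leaf 0x0))))) (.node (.node (.node (.node (.leaf 0x452000001) (.leaf 0x445200428f)) (.node (.leaf 0x2352000003) (.leaf 0x200624c))) (.node (.node (.leaf 0x1001452) (.leaf 0x479000442b)) (.node (.leaf 0x1f7b0031ef) (.leaf 0x0))))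 (.node (.node (.node (.leaf 0x20004dd) (.leaf 0x4399004c52)) (.node (.leaf 0x1f71002c36) (.leaf 0x2006a24))) (.node (.node (.leaf 0x1001933) (.leaf 0x1005bc8)) (.node (.leaf 0xa04002bac) (.leaf 0x0)))))) (.node (.node (.node (.node (.node (.leaf 0x2000252) (.leaf 0x2927002b59)) (.node (.leaf 0x2182000003) (.leaf 0x2006074))) (.node (.node (.leaf 0x1001252) (.leaf 0x43d8005252)) (.node (.leaf 0x2f8c001f72) (.leaf 0x0)))) (.node (.node (.node (.leaf 0xa52000003) (.leaf 0x4a52004408)) (.node (.leaf 0x29d1001f72) (.leaf 0x10067f7))) (.node (.node (.leaf 0x1a52000003) (.leaf 0x43d0004ea0)) (.node (.leaf 0x2189002c24) (.leaf 0x0))))) (.node (.node (.node (.node (.leaf 0x3d2000001) (.leaf 0x3004652)) (.node (.leaf 0x2548000001) (.leaf 0x20016e1))) (.node (.node (.leaf 0x2001652) (.leaf 0x43c3004429)) (.node (.leaf 0x2c2d00004e) (.leaf 0x0)))) (.node (.node (.node (.leaf 0x1000e52) (.leaf 0x42ec004e52)) (.node (.leaf 0x2e520024f2) (.leaf 0x1006cba)))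 (.node (.node (.leaf 0x2001e52) (.leaf 0x20022be)) (.node (.leaf 0x24470032cc) (.leaf 0x0))))))) (.node (.node (.node (.node (.node (.node (.leaf 0x2000152) (.leaf 0x23b1002c38)) (.node (.leaf 0x20da000003) (.leaf 0x1005f9e))) (.node (.node (.leaf 0x2001152) (.leaf 0x51520042ed)) (.node (.leaf 0x30e200254c) (.leaf 0x0)))) (.node (.node (.node (.leaf 0x952000001) (.leaf 0x49520042fb)) (.node (.leaf 0x28fa000001) (.leaf 0x10066f2))) (.node (.node (.leaf 0x1952000001) (.leaf 0x42fe005952)) (.node (.leaf 0x2ac2001f7b) (.leaf 0x0))))) (.node (.node (.node (.node (.leaf 0x552000003) (.leaf 0x4552004353)) (.node (.leaf 0x2434000003) (.leaf 0x2006336))) (.node (.node (.leaf 0x2001552) (.leaf 0x55520042e9)) (.node (.leaf 0x35520029a0) (.leaf 0x0)))) (.node (.node (.node (.leaf 0x2000d52) (.leaf 0x442a004d52)) (.node (.leaf 0x29f400018a) (.leaf 0x2006b58))) (.node (.node (.leaf 0x2001d52) (.leaf 0x1005c92)) (.node (.leaf 0x24e10034dd) (.leaf 0x0))))))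 (.node (.node (.node (.node (.node (.leaf 0x352000001) (.leaf 0x4324000022)) (.node (.leaf 0x2278000003) (.leaf 0x100614c))) (.node (.node (.leaf 0x1001352) (.leaf 0x5352004437)) (.node (.leaf 0x335200237e) (.leaf 0x0)))) (.node (.node (.node (.leaf 0xb52000001) (.leaf 0x437200441d)) (.node (.leaf 0x2b42001f72) (.leaf 0x2006908))) (.node (.node (.leaf 0x1b52000003) (.leaf 0x200200c)) (.node (.leaf 0x1f7b0035a3) (.leaf 0x0))))) (.node (.node (.node (.node (.leaf 0x752000003) (.leaf 0x43a9004752)) (.node (.leaf 0x1002671) (.leaf 0x10050be))) (.node (.node (.leaf 0x1752000001) (.leaf 0x45e600442b)) (.node (.leaf 0x1f71002dc2) (.leaf 0x0)))) (.node (.node (.node (.leaf 0x2000f52) (.leaf 0x4f520043aa)) (.node (.leaf 0x2e60001f72) (.leaf 0x2006e2a))) (.node (.node (.leaf 0x2001f52) (.leaf 0x2005e12)) (.node (.leaf 0xfda003277) (.leaf 0x0)))))))) (.node (.node (.node (.node (.node (.node (.node (.leaf 0xd2000001) (.leaf 0x186003343)) (.node (.leaf 0x50a000003)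 (.leaf 0x2005f40))) (.node (.node (.leaf 0x10d2000001) (.leaf 0x50d20042e7)) (.node (.leaf 0x30d2001f72) (.leaf 0x1007054)))) (.node (.node (.node (.leaf 0x8d2000001) (.leaf 0x48d2004303)) (.node (.leaf 0x2832000001) (.leaf 0x666f000001))) (.node (.node (.leaf 0x18d2000001) (.leaf 0x453e004373)) (.node (.leaf 0x3463001f7b) (.leaf 0x0))))) (.node (.node (.node (.node (.leaf 0x4d2000003) (.leaf 0x43a90044d2)) (.node (.leaf 0x23c0000003) (.leaf 0x10062be))) (.node (.node (.leaf 0x10014d2) (.leaf 0x54d2004402)) (.node (.leaf 0x34d2001f72) (.leaf 0x0)))) (.node (.node (.node (.leaf 0x3000cd2) (.leaf 0x4438004cd2)) (.node (.leaf 0x2971002a30) (.leaf 0x1006aba))) (.node (.node (.leaf 0x1c66001cd2) (.leaf 0x20020e0)) (.node (.leaf 0x244b00331e) (.leaf 0x0)))))) (.node (.node (.node (.node (.node (.leaf 0x20002d2) (.leaf 0x200042ce)) (.node (.leaf 0x21fe000001) (.leaf 0x10019bf))) (.node (.node (.leaf 0x10012d2) (.leaf 0x43a10052d2)) (.node (.leaf 0x1f71002db0)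 (.leaf 0x0)))) (.node (.node (.node (.leaf 0xad2000002) (.leaf 0x4ad2000072)) (.node (.leaf 0x2ad2001f7b) (.leaf 0x1006883))) (.node (.node (.leaf 0x1ad2000001) (.leaf 0x1fbb000003)) (.node (.leaf 0x2669002c4c) (.leaf 0x0))))) (.node (.node (.node (.node (.leaf 0x6d2000003) (.leaf 0x43160046d2)) (.node (.leaf 0x25d4000001) (.leaf 0x2006482))) (.node (.node (.leaf 0x16d2000003) (.leaf 0x42ae0048fb)) (.node (.leaf 0x29f10005e8) (.leaf 0x0)))) (.node (.node (.node (.leaf 0x1000ed2) (.leaf 0x437d004386)) (.node (.leaf 0x28e1002aab) (.leaf 0x10000e0))) (.node (.node (.leaf 0x1ed2000001) (.leaf 0x5db1000001)) (.node (.leaf 0x25e3002e06) (.leaf 0x0))))))) (.node (.node (.node (.node (.node (.node (.leaf 0x1d2000003) (.leaf 0x19da002fc9)) (.node (.leaf 0x20ab000003) (.leaf 0x1006008))) (.node (.node (.leaf 0x10011d2) (.leaf 0x43be004756)) (.node (.leaf 0x307b001f7b) (.leaf 0x0)))) (.node (.node (.node (.leaf 0x20009d2) (.leaf 0x43970049d2)) (.node (.leaf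 0x29d2001f72) (.leaf 0x2006778))) (.node (.node (.leaf 0x19d2000003) (.leaf 0x43c20043f4)) (.node (.leaf 0x3148002862) (.leaf 0x0))))) (.node (.node (.node (.node (.leaf 0x5d2000001) (.leaf 0x43ff0045d2)) (.node (.leaf 0x24ba000003) (.leaf 0x20063a4))) (.node (.node (.leaf 0x30015d2) (.leaf 0x42ae004cbe)) (.node (.leaf 0x3089001f72) (.leaf 0x0)))) (.node (.node (.node (.leaf 0x2000dd2) (.leaf 0x42fa004dd2)) (.node (.leaf 0x1f71002dd2) (.leaf 0x1006c08))) (.node (.node (.leaf 0x1dd2000001) (.leaf 0x2004bf1)) (.node (.leaf 0x21ba002dbd) (.leaf 0x0)))))) (.node (.node (.node (.node (.node (.leaf 0x20003d3) (.leaf 0x43240043d2)) (.node (.leaf 0x1fb000003) (.leaf 0x10061cc))) (.node (.node (.leaf 0x10013d2) (.leaf 0x53d20042b4)) (.node (.leaf 0x1f7b0033d2) (.leaf 0x0)))) (.node (.node (.node (.leaf 0x1000bd2) (.leaf 0x42ac004bd2)) (.node (.leaf 0x1f7b002bd2) (.leaf 0x200699a))) (.node (.node (.leaf 0x1bd2000002) (.leaf 0x1001368)) (.node (.leaf 0x27a9002bcc)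 (.leaf 0x0))))) (.node (.node (.node (.node (.leaf 0x7d2000001) (.leaf 0x43f00043c1)) (.node (.leaf 0x270c000003) (.leaf 0x6575000001))) (.node (.node (.leaf 0x17d2000003) (.leaf 0x57d2000072)) (.node (.leaf 0x2a1d002408) (.leaf 0x0)))) (.node (.node (.node (.leaf 0xfd2000001) (.leaf 0x42f0004492)) (.node (.leaf 0x2fd2001f72) (.leaf 0x1006ee6))) (.node (.node (.leaf 0x5ec000003) (.leaf 0x2005e71)) (.node (.leaf 0x228c002faf) (.leaf 0x0)))))))))

/-- part -/
def slpT_22 : Tr Nat := (.node (.node (.node (.node (.node (.node (.node (.node (.leaf 0x2000032) (.leaf 0x266b003114)) (.node (.leaf 0x65f000001) (.leaf 0x2005eb7))) (.node (.node (.leaf 0x1032000003) (.leaf 0x439d005032)) (.node (.leaf 0x3032001f72) (.leaf 0x2006f5e)))) (.node (.node (.node (.leaf 0x832000001) (.leaf 0x42ee004832)) (.node (.leaf 0x2779000003) (.leaf 0x10065d2))) (.node (.node (.leaf 0x1832000001) (.leaf 0x42ad0051c3)) (.node (.leaf 0x2d74001f72) (.leaf 0x0))))) (.node (.node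 (.node (.node (.leaf 0x432000003) (.leaf 0x441a0042e6)) (.node (.leaf 0x233a000003) (.leaf 0x100622c))) (.node (.node (.leaf 0x2001432) (.leaf 0x492d00432f)) (.node (.leaf 0x201f002b6d) (.leaf 0x0)))) (.node (.node (.node (.leaf 0x2000c32) (.leaf 0x43e0004c32)) (.node (.leaf 0x1f71002c32) (.leaf 0x1001566))) (.node (.node (.leaf 0x1001c33) (.leaf 0x2005bb2)) (.node (.leaf 0x25a1003134) (.leaf 0x0)))))) (.node (.node (.node (.node (.node (.leaf 0x2000232) (.leaf 0x21f4002a39)) (.node (.leaf 0x1002169) (.leaf 0x200605c))) (.node (.node (.leaf 0x2001232) (.leaf 0x5232004437)) (.node (.leaf 0x3232001f7b) (.leaf 0x0)))) (.node (.node (.node (.leaf 0xa32000003) (.leaf 0x4a320042e5)) (.node (.leaf 0x1f71002a32) (.leaf 0x20067d7))) (.node (.node (.leaf 0x1a32000003) (.leaf 0x42ad004dd8)) (.node (.leaf 0x38b40001d2) (.leaf 0x0))))) (.node (.node (.node (.node (.leaf 0x632000003) (.leaf 0x46320043a0)) (.node (.leaf 0x2518000003) (.leaf 0x20063fa))) (.node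 (.node (.leaf 0x1001632) (.leaf 0x42f0005632)) (.node (.leaf 0x347d001f72) (.leaf 0x0)))) (.node (.node (.node (.leaf 0x1000e32) (.leaf 0x4b2e004398)) (.node (.leaf 0x2e32001f7b) (.leaf 0x1006c94))) (.node (.node (.leaf 0x1001e32) (.leaf 0x1559000003)) (.node (.leaf 0x2221002b75) (.leaf 0x0))))))) (.node (.node (.node (.node (.node (.node (.leaf 0x132000003) (.leaf 0x264700322f)) (.node (.leaf 0x20be000003) (.leaf 0x1005f84))) (.node (.node (.leaf 0x3001132) (.leaf 0x5132004402)) (.node (.leaf 0x1f71002bce) (.leaf 0x0)))) (.node (.node (.node (.leaf 0x932000003) (.leaf 0x432400441e)) (.node (.leaf 0x28c6000003) (.leaf 0x20066d2))) (.node (.node (.leaf 0x1932000003) (.leaf 0x42b3005932)) (.node (.leaf 0x2b48001f7b) (.leaf 0x0))))) (.node (.node (.node (.node (.leaf 0x532000001) (.leaf 0x4532004303)) (.node (.leaf 0x2418000003) (.leaf 0x100631a))) (.node (.node (.leaf 0x2001532) (.leaf 0x553200003e)) (.node (.leaf 0x2fe40021ff) (.leaf 0x0)))) (.node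 (.node (.node (.leaf 0x100005d) (.leaf 0x3b004d32)) (.node (.leaf 0x1f71002d32) (.leaf 0x2006b32))) (.node (.node (.leaf 0x2001d32) (.leaf 0x2005c7a)) (.node (.leaf 0x20ad00317d) (.leaf 0x0)))))) (.node (.node (.node (.node (.node (.leaf 0x332000001) (.leaf 0x42ac00432c)) (.node (.leaf 0x2258000001) (.leaf 0x2006130))) (.node (.node (.leaf 0x1001332) (.leaf 0x533200440a)) (.node (.leaf 0x1f71003332) (.leaf 0x0)))) (.node (.node (.node (.leaf 0xb32000003) (.leaf 0x439f004b32)) (.node (.leaf 0x1f7b002b32) (.leaf 0x20068dd))) (.node (.node (.leaf 0x1b32000001) (.leaf 0x2005b07)) (.node (.leaf 0x97f0034a6) (.leaf 0x0))))) (.node (.node (.node (.node (.leaf 0x732000003) (.leaf 0x43ff004732)) (.node (.leaf 0x264c000001) (.leaf 0x10064e0))) (.node (.node (.leaf 0x1732000001) (.leaf 0x573200428d)) (.node (.leaf 0x2139002e29) (.leaf 0x0)))) (.node (.node (.node (.leaf 0x2000f32) (.leaf 0x4f32004402)) (.node (.leaf 0x1f71002f32) (.leaf 0x2006e08))) (.node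 (.node (.leaf 0x1f32000003) (.leaf 0x1005dfc)) (.node (.leaf 0x27e10030a7) (.leaf 0x0)))))))) (.node (.node (.node (.node (.node (.node (.node (.leaf 0xb2000001) (.leaf 0x1653002a43)) (.node (.leaf 0x204a000003) (.leaf 0x2005f26))) (.node (.node (.leaf 0x10b2000001) (.leaf 0x50b2004303)) (.node (.leaf 0x211f0030b2) (.leaf 0x1007018)))) (.node (.node (.node (.leaf 0x8b2000001) (.leaf 0x48b200442d)) (.node (.leaf 0x280a000003) (.leaf 0x664d000001))) (.node (.node (.leaf 0x18b2000003) (.leaf 0x43bc0044fc)) (.node (.leaf 0x2be9001f7b) (.leaf 0x0))))) (.node (.node (.node (.node (.leaf 0x4b2000003) (.leaf 0x42b30044b2)) (.node (.leaf 0x239c000003) (.leaf 0x20062a2))) (.node (.node (.leaf 0x20014b2) (.leaf 0x54b2000003)) (.node (.leaf 0x2915002e8b) (.leaf 0x0)))) (.node (.node (.node (.leaf 0x1000cb2) (.leaf 0x43ec00462b)) (.node (.leaf 0x1f7b002c64) (.leaf 0x2006a9a))) (.node (.node (.leaf 0x1001cb2) (.leaf 0x2005c0e)) (.node (.leaf 0x244b002fa9)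 (.leaf 0x0)))))) (.node (.node (.node (.node (.node (.leaf 0x20002b2) (.leaf 0x42b000428b)) (.node (.leaf 0x21e2000001) (.leaf 0x20060c2))) (.node (.node (.leaf 0x10012b2) (.leaf 0x52b2000001)) (.node (.leaf 0x967002e41) (.leaf 0x0)))) (.node (.node (.node (.leaf 0xab2000003) (.leaf 0x4ab20043d3)) (.node (.leaf 0x2a88001f72) (.leaf 0x200685d))) (.node (.node (.leaf 0x1ab2000001) (.leaf 0x2005ab2)) (.node (.leaf 0x249b003621) (.leaf 0x0))))) (.node (.node (.node (.node (.leaf 0x6b2000003) (.leaf 0x441f0043f0)) (.node (.leaf 0x25b0000003) (.leaf 0x100646a))) (.node (.node (.leaf 0x16b2000001) (.leaf 0x439b0056b2)) (.node (.leaf 0x2a920024b2) (.leaf 0x0)))) (.node (.node (.node (.leaf 0x1000eb2) (.leaf 0x43d2004eb2)) (.node (.leaf 0x2ba9001f7b) (.leaf 0x2006d3a))) (.node (.node (.leaf 0x1eb2000003) (.leaf 0x5d8f000003)) (.node (.leaf 0x227d0035e7) (.leaf 0x0))))))) (.node (.node (.node (.node (.node (.node (.leaf 0x20001b2) (.leaf 0x2505002c18))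 (.node (.leaf 0x2093000003) (.leaf 0x2005fee))) (.node (.node (.leaf 0xf680011b2) (.leaf 0x43d80051b2)) (.node (.leaf 0x31b200265e) (.leaf 0x0)))) (.node (.node (.node (.leaf 0x100067a) (.leaf 0x49b200429d)) (.node (.leaf 0x29b2001f72) (.leaf 0x2006758))) (.node (.node (.leaf 0x19b2000003) (.leaf 0x43d2005523)) (.node (.leaf 0x2a34002628) (.leaf 0x0))))) (.node (.node (.node (.node (.leaf 0x5b2000001) (.leaf 0x10e80045b2)) (.node (.leaf 0x249c000003) (.leaf 0x2006388))) (.node (.node (.leaf 0x10015b2) (.leaf 0x42ae005594)) (.node (.leaf 0x3459001f72) (.leaf 0x0)))) (.node (.node (.node (.leaf 0x2000db2) (.leaf 0x438900453e)) (.node (.leaf 0x1f71002db2) (.leaf 0x2006bd6))) (.node (.node (.leaf 0x1db200001d) (.leaf 0x2005cd2)) (.node (.leaf 0xfd4002bf2) (.leaf 0x0)))))) (.node (.node (.node (.node (.node (.leaf 0x3b2000001) (.leaf 0x43b2004370)) (.node (.leaf 0x22cc000001) (.leaf 0x20061a4))) (.node (.node (.leaf 0x20013b2) (.leaf 0x43990053b2))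 (.node (.leaf 0x2bcf00221c) (.leaf 0x0)))) (.node (.node (.node (.leaf 0xbb2000001) (.leaf 0x4432004bb2)) (.node (.leaf 0x1f7b002bb2) (.leaf 0x2006978))) (.node (.node (.leaf 0x1bb2000001) (.leaf 0x1005b5b)) (.node (.leaf 0x22e3002f85) (.leaf 0x0))))) (.node (.node (.node (.node (.leaf 0x7b2000001) (.leaf 0x47b20043a8)) (.node (.leaf 0x26ea000003) (.leaf 0x6557000003))) (.node (.node (.leaf 0x17b2000001) (.leaf 0x57b200428c)) (.node (.leaf 0x2407002c8a) (.leaf 0x0)))) (.node (.node (.node (.leaf 0x2000fb2) (.leaf 0x442e004378)) (.node (.leaf 0x2fb2001f72) (.leaf 0x1006eb6))) (.node (.node (.leaf 0x1d0000003) (.leaf 0x2005e5c)) (.node (.leaf 0x21530036c7) (.leaf 0x0)))))))))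

/-- part -/
def slpT_23 : Tr Nat := (.node (.node (.node (.node (.node (.node (.node (.node (.leaf 0x72000001) (.leaf 0x266b002aa7)) (.node (.leaf 0x201a000003) (.leaf 0x2005eea))) (.node (.node (.leaf 0x1072000003) (.leaf 0x5072004349)) (.node (.leaf 0xa03003072) (.leaf 0x1006fc2)))) (.node (.node (.node (.leaf 0x872000001) (.leaf 0x4872004437)) (.node (.leaf 0x27c0000003) (.leaf 0x47e5000003))) (.node (.node (.leaf 0x1872000001) (.leaf 0x42a4005872)) (.node (.leaf 0x2dd900252c) (.leaf 0x0))))) (.node (.node (.node (.node (.leaf 0x472000003) (.leaf 0x441c004327)) (.node (.leaf 0x2364000003) (.leaf 0x200626e))) (.node (.node (.leaf 0x2001472) (.leaf 0x449c0042ae)) (.node (.leaf 0xfd5002e79) (.leaf 0x0)))) (.node (.node (.node (.leaf 0x1000c72) (.leaf 0x4c72004388)) (.node (.leaf 0x1f71002c72) (.leaf 0x1006a46))) (.node (.node (.leaf 0x3001c72) (.leaf 0x2005bda)) (.node (.leaf 0x22fb002c06) (.leaf 0x0)))))) (.node (.node (.node (.node (.node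 (.leaf 0x2000272) (.leaf 0x20000020)) (.node (.leaf 0x10021a7) (.leaf 0x1005d9d))) (.node (.node (.leaf 0x1001272) (.leaf 0x43c20043f5)) (.node (.leaf 0x29de001f7b) (.leaf 0x0)))) (.node (.node (.node (.leaf 0xa72000003) (.leaf 0x4a72004437)) (.node (.leaf 0x2a72001f72) (.leaf 0x200681a))) (.node (.node (.leaf 0x1a72000066) (.leaf 0x43f70043b5)) (.node (.leaf 0x20b6002aa5) (.leaf 0x0))))) (.node (.node (.node (.node (.leaf 0x672000003) (.leaf 0x42e6004672)) (.node (.leaf 0x226000003) (.leaf 0x2006430))) (.node (.node (.leaf 0x200015e) (.leaf 0x43f10043c1)) (.node (.leaf 0x2f84001f72) (.leaf 0x0)))) (.node (.node (.node (.leaf 0x2000e72) (.leaf 0x43870048fc)) (.node (.leaf 0x2e72001f72) (.leaf 0x2006cea))) (.node (.node (.leaf 0x1e72000003) (.leaf 0x5d5b000001)) (.node (.leaf 0x27b900310e) (.leaf 0x0))))))) (.node (.node (.node (.node (.node (.node (.leaf 0x1000172) (.leaf 0x285b002da2)) (.node (.leaf 0x20ee000001) (.leaf 0x2005fba))) (.node (.node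 (.leaf 0x1001172) (.leaf 0x51720042ed)) (.node (.leaf 0x3093001fc0) (.leaf 0x0)))) (.node (.node (.node (.leaf 0x972000001) (.leaf 0x4972004437)) (.node (.leaf 0x2930000001) (.leaf 0x2006712))) (.node (.node (.leaf 0x1972000003) (.leaf 0x43ce004990)) (.node (.leaf 0x2c8b0022ca) (.leaf 0x0))))) (.node (.node (.node (.node (.leaf 0x572000003) (.leaf 0x429c004572)) (.node (.leaf 0x2456000003) (.leaf 0x2006356))) (.node (.node (.leaf 0x1001572) (.leaf 0x4428005572)) (.node (.leaf 0x35720029a0) (.leaf 0x0)))) (.node (.node (.node (.leaf 0xc56000d30) (.leaf 0x42fe004d72)) (.node (.leaf 0x2d72001f72) (.leaf 0x2006b88))) (.node (.node (.leaf 0x1d72000001) (.leaf 0x200246a)) (.node (.leaf 0x216d002ad7) (.leaf 0x0)))))) (.node (.node (.node (.node (.node (.leaf 0x372000001) (.leaf 0x436600436a)) (.node (.leaf 0x2291000003) (.leaf 0x100616a))) (.node (.node (.leaf 0x20002f6) (.leaf 0x5372004408)) (.node (.leaf 0x3372001f7b) (.leaf 0x0)))) (.node (.node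 (.node (.leaf 0xb72000001) (.leaf 0x442400441a)) (.node (.leaf 0x2b72001f72) (.leaf 0x200692c))) (.node (.node (.leaf 0x1b72000068) (.leaf 0x20021f6)) (.node (.leaf 0x20b5002fd1) (.leaf 0x0))))) (.node (.node (.node (.node (.leaf 0x772000003) (.leaf 0x47720042a5)) (.node (.leaf 0x200269b) (.leaf 0x100651a))) (.node (.node (.leaf 0x796000003) (.leaf 0x5772000004)) (.node (.leaf 0x1f7b002f99) (.leaf 0x0)))) (.node (.node (.node (.leaf 0x2000f72) (.leaf 0x4302004f72)) (.node (.leaf 0x2f72001f72) (.leaf 0x1006e4c))) (.node (.node (.leaf 0x1eee000001) (.leaf 0x2005e25)) (.node (.leaf 0xfda00317d) (.leaf 0x0)))))))) (.node (.node (.node (.node (.node (.node (.node (.leaf 0xf2000001) (.leaf 0x1860039e9)) (.node (.leaf 0x1e17000003) (.leaf 0x2005f56))) (.node (.node (.leaf 0xaae000003) (.leaf 0x42e80050f2)) (.node (.leaf 0x30f2001f72) (.leaf 0x10070a2)))) (.node (.node (.node (.leaf 0x8f2000003) (.leaf 0x48f200442f)) (.node (.leaf 0x2856000003) (.leaf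 0x20060a3))) (.node (.node (.leaf 0x18f2000002) (.leaf 0x58f20042e9)) (.node (.leaf 0x2a480021c8) (.leaf 0x0))))) (.node (.node (.node (.node (.leaf 0x4f2000003) (.leaf 0x43890044f3)) (.node (.leaf 0x23dc000003) (.leaf 0x20062de))) (.node (.node (.leaf 0x20014f2) (.leaf 0x434c0054f2)) (.node (.leaf 0x34d6001f72) (.leaf 0x0)))) (.node (.node (.node (.leaf 0x2000cf2) (.leaf 0x42cc004cf2)) (.node (.leaf 0x18b002c0c) (.leaf 0x2006ae8))) (.node (.node (.leaf 0x1001cf2) (.leaf 0x1005c42)) (.node (.leaf 0x233b002f12) (.leaf 0x0)))))) (.node (.node (.node (.node (.node (.leaf 0x10002f2) (.leaf 0x42e40042ec)) (.node (.leaf 0x221d000003) (.leaf 0x10060f4))) (.node (.node (.leaf 0x20012f2) (.leaf 0x42ac0052f2)) (.node (.leaf 0x27fd0032f2) (.leaf 0x0)))) (.node (.node (.node (.leaf 0xaf2000001) (.leaf 0x4716004429)) (.node (.leaf 0x1f71002af2) (.leaf 0x200689f))) (.node (.node (.leaf 0x1af2000002) (.leaf 0x5ad8000001)) (.node (.leaf 0x1fb5002e6d) (.leaf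 0x0))))) (.node (.node (.node (.node (.leaf 0x6f2000003) (.leaf 0x43c00043b8)) (.node (.leaf 0x25f8000003) (.leaf 0x200649e))) (.node (.node (.leaf 0x16f2000003) (.leaf 0x441f00451a)) (.node (.leaf 0x33c700258c) (.leaf 0x0)))) (.node (.node (.node (.leaf 0x1000ef2) (.leaf 0x4ef200443b)) (.node (.leaf 0x1f7b002c00) (.leaf 0x2006db6))) (.node (.node (.leaf 0x1ef2000003) (.leaf 0x2005dc4)) (.node (.leaf 0x27e1002a43) (.leaf 0x0))))))) (.node (.node (.node (.node (.node (.node (.leaf 0x1f2000003) (.leaf 0x2155002ba8)) (.node (.leaf 0xbc5000001) (.leaf 0x1006020))) (.node (.node (.leaf 0x10011f2) (.leaf 0x44070051f2)) (.node (.leaf 0x31f2001f72) (.leaf 0x0)))) (.node (.node (.node (.leaf 0x10009f2) (.leaf 0x49f2004359)) (.node (.leaf 0x1f710029f2) (.leaf 0x100679b))) (.node (.node (.leaf 0x19f2000001) (.leaf 0x43bc0043ef)) (.node (.leaf 0x2a31001f7b) (.leaf 0x0))))) (.node (.node (.node (.node (.leaf 0x5f2000001) (.leaf 0x45f2004435)) (.node (.leaf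 0x24d8000001) (.leaf 0x100620b))) (.node (.node (.leaf 0x20015f2) (.leaf 0x10e80055f2)) (.node (.leaf 0x2fa8002968) (.leaf 0x0)))) (.node (.node (.node (.leaf 0x2000df2) (.leaf 0x42ac004990)) (.node (.leaf 0x247d002a0a) (.leaf 0x1006c36))) (.node (.node (.leaf 0x673000001) (.leaf 0x10003c4)) (.node (.leaf 0x21ba002bb0) (.leaf 0x0)))))) (.node (.node (.node (.node (.node (.leaf 0x10003f2) (.leaf 0x43b80043ee)) (.node (.leaf 0x22fe000001) (.leaf 0x2002524))) (.node (.node (.leaf 0x10013f2) (.leaf 0x53f2000074)) (.node (.leaf 0x1f710031e5) (.leaf 0x0)))) (.node (.node (.node (.leaf 0x1000bf2) (.leaf 0x42b1004bf2)) (.node (.leaf 0x1f71002bf2) (.leaf 0x10069c2))) (.node (.node (.leaf 0x1bf2000002) (.leaf 0x2001b0f)) (.node (.leaf 0x2829003b0a) (.leaf 0x0))))) (.node (.node (.node (.node (.leaf 0x7f2000002) (.leaf 0x47f2004386)) (.node (.leaf 0x273a000001) (.leaf 0x658d000003))) (.node (.node (.leaf 0x17f2000001) (.leaf 0x43ff004f88)) (.node (.leaf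 0x35de001f72) (.leaf 0x0)))) (.node (.node (.node (.leaf 0xff2000001) (.leaf 0x4ff20043e1)) (.node (.leaf 0x2ff2001f7b) (.leaf 0x2006f0a))) (.node (.node (.leaf 0x1001fcb) (.leaf 0x1005e86)) (.node (.leaf 0x23e70034f7) (.leaf 0x0)))))))))

/-- part -/
def slpT_24 : Tr Nat := (.node (.node (.node (.node (.node (.node (.node (.node (.leaf 0xa000001) (.leaf 0x2059003730)) (.node (.leaf 0x1fdb000003) (.leaf 0x1005e9c))) (.node (.node (.leaf 0x100a000003) (.leaf 0x43ab00500a)) (.node (.leaf 0x2eca002450) (.leaf 0x2006f2a)))) (.node (.node (.node (.leaf 0x80a000001) (.leaf 0x480a000074)) (.node (.leaf 0x2753000001) (.leaf 0x65a9000003))) (.node (.node (.leaf 0x180a000003) (.leaf 0x429a00580a)) (.node (.leaf 0x380a001f72) (.leaf 0x0))))) (.node (.node (.node (.node (.leaf 0x40a000001) (.leaf 0x43e5000017)) (.node (.leaf 0x2312000001) (.leaf 0x20061fc))) (.node (.node (.leaf 0x200140a) (.leaf 0x540a0043e3)) (.node (.leaf 0x2635002c10) (.leaf 0x0))))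 (.node (.node (.node (.leaf 0x1000c0a) (.leaf 0x10e8004c0a)) (.node (.leaf 0x1f71002c0a) (.leaf 0x20069dc))) (.node (.node (.leaf 0x1c0a000002) (.leaf 0x2001c2e)) (.node (.leaf 0x21d7002a09) (.leaf 0x0)))))) (.node (.node (.node (.node (.node (.leaf 0x20a000001) (.leaf 0x295d0032ce)) (.node (.leaf 0x100214b) (.leaf 0x2006036))) (.node (.node (.leaf 0x100120a) (.leaf 0x520a00428d)) (.node (.leaf 0x2b58001f72) (.leaf 0x0)))) (.node (.node (.node (.leaf 0xa0a000001) (.leaf 0x4492004388)) (.node (.leaf 0x1f71002a0a) (.leaf 0x20067b5))) (.node (.node (.leaf 0x1a0a000001) (.leaf 0x4358005a0a)) (.node (.leaf 0x316c00218c) (.leaf 0x0))))) (.node (.node (.node (.node (.leaf 0x60a000003) (.leaf 0x460a004313)) (.node (.leaf 0x24f8000001) (.leaf 0x20063d4))) (.node (.node (.leaf 0x200160a) (.leaf 0x431200560a)) (.node (.leaf 0x360a001f72) (.leaf 0x0)))) (.node (.node (.node (.leaf 0x2000e0a) (.leaf 0x43ce00443e)) (.node (.leaf 0x1f71002e0a) (.leaf 0x2006c58)))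 (.node (.node (.leaf 0x1e0a000001) (.leaf 0x2005d0a)) (.node (.leaf 0x21ba002f44) (.leaf 0x0))))))) (.node (.node (.node (.node (.node (.node (.leaf 0x10a000001) (.leaf 0x251b002c78)) (.node (.leaf 0x2094000003) (.leaf 0x1005f6c))) (.node (.node (.leaf 0x200110b) (.leaf 0x43850043b2)) (.node (.leaf 0x288f002e43) (.leaf 0x10070da)))) (.node (.node (.node (.leaf 0x90a000001) (.leaf 0x490a0043aa)) (.node (.leaf 0x287e000001) (.leaf 0x10066ae))) (.node (.node (.leaf 0x190a000001) (.leaf 0x430200590a)) (.node (.leaf 0x2f210021c8) (.leaf 0x0))))) (.node (.node (.node (.node (.leaf 0x50a000001) (.leaf 0x450a0042f1)) (.node (.leaf 0x23f2000003) (.leaf 0x20062f4))) (.node (.node (.leaf 0x100150a) (.leaf 0x517a004427)) (.node (.leaf 0x3258001f72) (.leaf 0x0)))) (.node (.node (.node (.leaf 0x1000d0a) (.leaf 0x42f8004d0a)) (.node (.leaf 0x21eb002cba) (.leaf 0x2006b02))) (.node (.node (.leaf 0x1001d0a) (.leaf 0x1005c56)) (.node (.leaf 0x2551002a1e) (.leaf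 0x0)))))) (.node (.node (.node (.node (.node (.leaf 0x300030a) (.leaf 0x42e4004304)) (.node (.leaf 0x2233000003) (.leaf 0x2006108))) (.node (.node (.leaf 0x300130a) (.leaf 0x443a00530a)) (.node (.leaf 0x1f7100326f) (.leaf 0x0)))) (.node (.node (.node (.leaf 0xb0a000001) (.leaf 0x4b0a00003e)) (.node (.leaf 0x1f7b002a22) (.leaf 0x20068b3))) (.node (.node (.leaf 0x1b0a000001) (.leaf 0x1708000003)) (.node (.leaf 0x1f7100311e) (.leaf 0x0))))) (.node (.node (.node (.node (.leaf 0x70a000003) (.leaf 0x428e00470a)) (.node (.leaf 0x2628000001) (.leaf 0x10064b6))) (.node (.node (.leaf 0x170a000003) (.leaf 0x431600570a)) (.node (.leaf 0x316c00258c) (.leaf 0x0)))) (.node (.node (.node (.leaf 0x3000f0a) (.leaf 0x4f0a00439e)) (.node (.leaf 0x1f71002f0a) (.leaf 0x2006dda))) (.node (.node (.leaf 0x1f0a000003) (.leaf 0x2005dda)) (.node (.leaf 0x27e10039b9) (.leaf 0x0)))))))) (.node (.node (.node (.node (.node (.node (.node (.leaf 0x200008a) (.leaf 0x266b002dc2))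 (.node (.leaf 0x2032000001) (.leaf 0x2005f00))) (.node (.node (.leaf 0x108a000001) (.leaf 0x508a004402)) (.node (.leaf 0x1f7b002e91) (.leaf 0x2006fda)))) (.node (.node (.node (.leaf 0x88a000001) (.leaf 0x45dc00436b)) (.node (.leaf 0x27dc000001) (.leaf 0x6629000001))) (.node (.node (.leaf 0x188a000002) (.leaf 0x439f00588a)) (.node (.leaf 0x2c250023c4) (.leaf 0x0))))) (.node (.node (.node (.node (.leaf 0x48a000003) (.leaf 0x428c00448a)) (.node (.leaf 0x2149000003) (.leaf 0x1005c79))) (.node (.node (.leaf 0x200148a) (.leaf 0x548a0043e3)) (.node (.leaf 0x1f71002a93) (.leaf 0x0)))) (.node (.node (.node (.leaf 0x1000c8a) (.leaf 0x43d8004c8a)) (.node (.leaf 0x1f71002c8a) (.leaf 0x2006a70))) (.node (.node (.leaf 0x1001c8a) (.leaf 0x2005bec)) (.node (.leaf 0x24ad002f97) (.leaf 0x0)))))) (.node (.node (.node (.node (.node (.leaf 0x100028a) (.leaf 0x428a00428a)) (.node (.leaf 0x20021bd) (.leaf 0x200609a))) (.node (.node (.leaf 0x100128a) (.leaf 0x528a0043e3))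 (.node (.leaf 0x28790029e6) (.leaf 0x0)))) (.node (.node (.node (.leaf 0xa8a000003) (.leaf 0x4a8a004301)) (.node (.leaf 0x2a5e001f72) (.leaf 0x2006836))) (.node (.node (.leaf 0x1a8a000003) (.leaf 0x43ab005a8a)) (.node (.leaf 0x1f71003a6e) (.leaf 0x0))))) (.node (.node (.node (.node (.leaf 0x68a000001) (.leaf 0x42a400468a)) (.node (.leaf 0x2584000001) (.leaf 0x1006448))) (.node (.node (.leaf 0x168a000001) (.leaf 0x43a700568a)) (.node (.leaf 0x2fa20024b2) (.leaf 0x0)))) (.node (.node (.node (.leaf 0x1000e8a) (.leaf 0x4432004e8a)) (.node (.leaf 0x2e8a001f72) (.leaf 0x2006d08))) (.node (.node (.leaf 0x1e8a000003) (.leaf 0x5d6f000003)) (.node (.leaf 0x20e3002d50) (.leaf 0x0))))))) (.node (.node (.node (.node (.node (.node (.leaf 0x200018a) (.leaf 0x285b0033ab)) (.node (.leaf 0x20fc000003) (.leaf 0x2005fcc))) (.node (.node (.leaf 0x200118a) (.leaf 0x518a0042cd)) (.node (.leaf 0x2bab001fc0) (.leaf 0x0)))) (.node (.node (.node (.leaf 0x200098a) (.leaf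 0x498a0042f9)) (.node (.leaf 0x2954000003) (.leaf 0x100672c))) (.node (.node (.leaf 0x198a001938) (.leaf 0x430e00598a)) (.node (.leaf 0x344d0022ca) (.leaf 0x0))))) (.node (.node (.node (.node (.leaf 0x58a000003) (.leaf 0x42ec00458a)) (.node (.leaf 0x246e000003) (.leaf 0x2006368))) (.node (.node (.leaf 0x100158a) (.leaf 0x42ac00451b)) (.node (.leaf 0x2e7a0026da) (.leaf 0x0)))) (.node (.node (.node (.leaf 0x1000d8b) (.leaf 0x4409004d8a)) (.node (.leaf 0x21eb002d8a) (.leaf 0x2006bac))) (.node (.node (.leaf 0x1d8a000002) (.leaf 0x1005cb8)) (.node (.leaf 0x1fc002ab8) (.leaf 0x0)))))) (.node (.node (.node (.node (.node (.leaf 0x38a000003) (.leaf 0x4329004367)) (.node (.leaf 0x22aa000001) (.leaf 0x2001e1f))) (.node (.node (.leaf 0x100138a) (.leaf 0x538a0042fd)) (.node (.leaf 0x338a001f72) (.leaf 0x0)))) (.node (.node (.node (.leaf 0xb8a000003) (.leaf 0x430e004b8a)) (.node (.leaf 0x2b8a001f72) (.leaf 0x200694c))) (.node (.node (.leaf 0x1b8a000001) (.leaf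 0x2005b38)) (.node (.leaf 0x231f003039) (.leaf 0x0))))) (.node (.node (.node (.node (.leaf 0x78a000001) (.leaf 0x42fa00478a)) (.node (.leaf 0x26c0000003) (.leaf 0x653d000001))) (.node (.node (.leaf 0x178a000003) (.leaf 0x578a0010e7)) (.node (.leaf 0x53002a09) (.leaf 0x0)))) (.node (.node (.node (.leaf 0x2000f8a) (.leaf 0x42e6004f8a)) (.node (.leaf 0x2f07001f72) (.leaf 0x1006e6e))) (.node (.node (.leaf 0x1f86000001) (.leaf 0x2005e3b)) (.node (.leaf 0x2754003635) (.leaf 0x0)))))))))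

/-- part -/
def slpT_25 : Tr Nat := (.node (.node (.node (.node (.node (.node (.node (.node (.leaf 0x4a000001) (.leaf 0x266b003617)) (.node (.leaf 0x1ffe000003) (.leaf 0x1005ec9))) (.node (.node (.leaf 0x104a000001) (.leaf 0x428a00504a)) (.node (.leaf 0x2a27001f72) (.leaf 0x1006f8a)))) (.node (.node (.node (.leaf 0x84a000003) (.leaf 0x436a0044e8)) (.node (.leaf 0x279a000001) (.leaf 0x10065e4))) (.node (.node (.leaf 0x184a000001) (.leaf 0x442600476b)) (.node (.leaf 0x1f7b00319d) (.leaf 0x0))))) (.node (.node (.node (.node (.leaf 0x44a000001) (.leaf 0x200444a)) (.node (.leaf 0x234a000001) (.leaf 0x1006242))) (.node (.node (.leaf 0x100144a) (.leaf 0x4cbf00432f)) (.node (.leaf 0x1f7b002d20) (.leaf 0x0)))) (.node (.node (.node (.leaf 0x2000c4a) (.leaf 0x42af004c4a)) (.node (.leaf 0x1f7b002b97) (.leaf 0x1006a1c))) (.node (.node (.leaf 0x1001c4a) (.leaf 0x2005bc2)) (.node (.leaf 0x2499002e92) (.leaf 0x0)))))) (.node (.node (.node (.node (.node (.leaf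 0x300024a) (.leaf 0x19a0037f3)) (.node (.leaf 0xfd3000003) (.leaf 0x100606c))) (.node (.node (.leaf 0x200124a) (.leaf 0x524a00434d)) (.node (.leaf 0x2f9c001f7b) (.leaf 0x0)))) (.node (.node (.node (.leaf 0xa4a000003) (.leaf 0x4790004425)) (.node (.leaf 0x2a4a001f7b) (.leaf 0x20067f1))) (.node (.node (.leaf 0x1a4a000002) (.leaf 0x42ad005a3b)) (.node (.leaf 0x2189002c6c) (.leaf 0x0))))) (.node (.node (.node (.node (.leaf 0x64a000001) (.leaf 0x2000464a)) (.node (.leaf 0x2540000003) (.leaf 0x2006412))) (.node (.node (.leaf 0x100164a) (.leaf 0x564a004400)) (.node (.leaf 0x346b00004e) (.leaf 0x0)))) (.node (.node (.node (.leaf 0x1000e4a) (.leaf 0x434c004e4a)) (.node (.leaf 0x2dc10024f2) (.leaf 0x2006cae))) (.node (.node (.leaf 0x3001e4a) (.leaf 0x5d3b000001)) (.node (.leaf 0x187003345) (.leaf 0x0))))))) (.node (.node (.node (.node (.node (.node (.leaf 0x100014a) (.leaf 0x23b1002fdd)) (.node (.leaf 0x20d2000003) (.leaf 0x2001717))) (.node (.node (.leaf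 0x300114a) (.leaf 0x514a0042f1)) (.node (.leaf 0x3142001f72) (.leaf 0x0)))) (.node (.node (.node (.leaf 0x94a000001) (.leaf 0x494a00428c)) (.node (.leaf 0x28f0000001) (.leaf 0x10066ea))) (.node (.node (.leaf 0x194a000001) (.leaf 0x427400594a)) (.node (.leaf 0x35b8000f7b) (.leaf 0x0))))) (.node (.node (.node (.node (.leaf 0x54a000002) (.leaf 0x454a0042fb)) (.node (.leaf 0x242e000001) (.leaf 0x1006330))) (.node (.node (.leaf 0x200154a) (.leaf 0x554a004435)) (.node (.leaf 0x30a90029a0) (.leaf 0x0)))) (.node (.node (.node (.leaf 0x1000d4a) (.leaf 0x42e8004d4a)) (.node (.leaf 0x1f7b002d4a) (.leaf 0x2006b4e))) (.node (.node (.leaf 0x1001d4a) (.leaf 0x1005c86)) (.node (.leaf 0x24e100347c) (.leaf 0x0)))))) (.node (.node (.node (.node (.node (.leaf 0x34a000001) (.leaf 0x42ac004348)) (.node (.leaf 0x669000001) (.leaf 0x2006146))) (.node (.node (.leaf 0x200134a) (.leaf 0x534a0043ac)) (.node (.leaf 0x334a001f72) (.leaf 0x0)))) (.node (.node (.node (.leaf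 0xb4a000003) (.leaf 0x44280047e7)) (.node (.leaf 0x2b4a001f72) (.leaf 0x20068f8))) (.node (.node (.leaf 0x1b4a000002) (.leaf 0x2005b17)) (.node (.leaf 0x20cc0030d1) (.leaf 0x0))))) (.node (.node (.node (.node (.leaf 0x74a000003) (.leaf 0x43f700441c)) (.node (.leaf 0x100266b) (.leaf 0x10064f4))) (.node (.node (.leaf 0x174a000001) (.leaf 0x574a00442d)) (.node (.leaf 0x1f710033b5) (.leaf 0x0)))) (.node (.node (.node (.leaf 0x2000f4a) (.leaf 0x43ee004326)) (.node (.leaf 0x1f710029cc) (.leaf 0x2006e22))) (.node (.node (.leaf 0x1001675) (.leaf 0x1005e0e)) (.node (.leaf 0xfda003774) (.leaf 0x0)))))))) (.node (.node (.node (.node (.node (.node (.node (.leaf 0xca000001) (.leaf 0x186003098)) (.node (.leaf 0x205a000001) (.leaf 0x2005f38))) (.node (.node (.leaf 0x10ca000003) (.leaf 0x50ca004402)) (.node (.leaf 0x211f002a8f) (.leaf 0x2007042)))) (.node (.node (.node (.leaf 0x8ca000001) (.leaf 0x48ca00429d)) (.node (.leaf 0x2826000001) (.leaf 0x6665000003)))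 (.node (.node (.leaf 0x18ca000003) (.leaf 0x58ca000004)) (.node (.leaf 0x2fb2001f7b) (.leaf 0x0))))) (.node (.node (.node (.node (.leaf 0x4ca000003) (.leaf 0x10044ca)) (.node (.leaf 0x23b6000003) (.leaf 0x10062b4))) (.node (.node (.leaf 0x10014ca) (.leaf 0x54ca0042e9)) (.node (.leaf 0x31d8001f7b) (.leaf 0x0)))) (.node (.node (.node (.leaf 0x2000cca) (.leaf 0x43a1004cca)) (.node (.leaf 0x29ab002c2e) (.leaf 0x1006ab4))) (.node (.node (.leaf 0x2001cca) (.leaf 0x2005c22)) (.node (.leaf 0x244b0033b5) (.leaf 0x0)))))) (.node (.node (.node (.node (.node (.leaf 0x20002ca) (.leaf 0x42ac000073)) (.node (.leaf 0x21f2000003) (.leaf 0x20060d4))) (.node (.node (.leaf 0x10012ca) (.leaf 0x20052ca)) (.node (.leaf 0x1f710030fc) (.leaf 0x0)))) (.node (.node (.node (.leaf 0xaca000003) (.leaf 0x436a00445f)) (.node (.leaf 0x2aca001f72) (.leaf 0x1006877))) (.node (.node (.leaf 0x1aca000001) (.leaf 0x5ac7000003)) (.node (.leaf 0x23ef002c96) (.leaf 0x0))))) (.node (.node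 (.node (.node (.leaf 0x6ca000002) (.leaf 0x44070046ca)) (.node (.leaf 0x25cc000003) (.leaf 0x200647a))) (.node (.node (.leaf 0x1605000003) (.leaf 0x443a0056ca)) (.node (.leaf 0x2e5e0005e8) (.leaf 0x0)))) (.node (.node (.node (.leaf 0x1000eca) (.leaf 0x4b7f004427)) (.node (.leaf 0x2c3f001f72) (.leaf 0x1006d68))) (.node (.node (.leaf 0x1eca000001) (.leaf 0x5dad000001)) (.node (.leaf 0x2043002b91) (.leaf 0x0))))))) (.node (.node (.node (.node (.node (.node (.leaf 0x1ca000003) (.leaf 0x19da0030a0)) (.node (.leaf 0x211e000001) (.leaf 0x2006000))) (.node (.node (.leaf 0x10011ca) (.leaf 0x44280046e0)) (.node (.leaf 0x31ca001f7b) (.leaf 0x0)))) (.node (.node (.node (.leaf 0x10005ef) (.leaf 0x42e40049ca)) (.node (.leaf 0x1f7b001f72) (.leaf 0x100676e))) (.node (.node (.leaf 0x19ca000003) (.leaf 0x43c200441b)) (.node (.leaf 0x2b3b00213c) (.leaf 0x0))))) (.node (.node (.node (.node (.leaf 0x472000001) (.leaf 0x42b30045ca)) (.node (.leaf 0x24b4000001) (.leaf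 0x200639e))) (.node (.node (.leaf 0x20015ca) (.leaf 0x43870043f9)) (.node (.leaf 0x3053001f7b) (.leaf 0x0)))) (.node (.node (.node (.leaf 0x1000dca) (.leaf 0x10e8004dca)) (.node (.leaf 0x1f71002dca) (.leaf 0x2006c00))) (.node (.node (.leaf 0x1dca000003) (.leaf 0x1005ce4)) (.node (.leaf 0x21ba002fa7) (.leaf 0x0)))))) (.node (.node (.node (.node (.node (.leaf 0x3ca000001) (.leaf 0x43b30043c4)) (.node (.leaf 0x22de000001) (.leaf 0x200552c))) (.node (.node (.leaf 0x10013ca) (.leaf 0x53ca000021)) (.node (.leaf 0x1f7b003191) (.leaf 0x0)))) (.node (.node (.node (.leaf 0x1000bcb) (.leaf 0x42e4004bca)) (.node (.leaf 0x1f7b002bca) (.leaf 0x2006990))) (.node (.node (.leaf 0x17a6000003) (.leaf 0x2005b72)) (.node (.leaf 0x27a9002a51) (.leaf 0x0))))) (.node (.node (.node (.node (.leaf 0x7ca000001) (.leaf 0x47ca0042ac)) (.node (.leaf 0x2706000001) (.leaf 0x656f000003))) (.node (.node (.leaf 0x17ca000002) (.leaf 0x4419004371)) (.node (.leaf 0x24070034bf) (.leaf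 0x0)))) (.node (.node (.node (.leaf 0xfca000f69) (.leaf 0x42cc004fca)) (.node (.leaf 0x2fca001f72) (.leaf 0x2006eda))) (.node (.node (.leaf 0x1f99000003) (.leaf 0x1005e6d)) (.node (.leaf 0x20f7002eaf) (.leaf 0x0)))))))))

/-- part -/
def slpT_26 : Tr Nat := (.node (.node (.node (.node (.node (.node (.node (.node (.leaf 0x200002a) (.leaf 0x266b003294)) (.node (.leaf 0x1fdc000003) (.leaf 0x10003c2))) (.node (.node (.leaf 0x102a000001) (.leaf 0x443400502a)) (.node (.leaf 0x2a35002450) (.leaf 0x2006f4e)))) (.node (.node (.node (.leaf 0x82a000001) (.leaf 0x482a004433)) (.node (.leaf 0x21f7000003) (.leaf 0x10065ca))) (.node (.node (.leaf 0x182a000003) (.leaf 0x43e200582a)) (.node (.leaf 0x30f200269c) (.leaf 0x0))))) (.node (.node (.node (.node (.leaf 0x42a000002) (.leaf 0x42ac004426)) (.node (.leaf 0x2332000001) (.leaf 0x200621e))) (.node (.node (.leaf 0x300142a) (.leaf 0x451c004384)) (.node (.leaf 0x201f002ba1) (.leaf 0x0)))) (.node (.node (.node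 (.leaf 0x2000c2a) (.leaf 0x43bc004460)) (.node (.leaf 0x1f7b002c2a) (.leaf 0x1006a04))) (.node (.node (.leaf 0x1c2a000003) (.leaf 0x1005bae)) (.node (.leaf 0x25a100322b) (.leaf 0x0)))))) (.node (.node (.node (.node (.node (.leaf 0x300022a) (.leaf 0x193800306a)) (.node (.leaf 0x200215d) (.leaf 0x2002636))) (.node (.node (.leaf 0x300122a) (.leaf 0x522a0042fd)) (.node (.leaf 0x2be5001f72) (.leaf 0x0)))) (.node (.node (.node (.leaf 0xa2a000003) (.leaf 0x4a2a0042c1)) (.node (.leaf 0x1f71002a2a) (.leaf 0x10067d1))) (.node (.node (.leaf 0x1a2a000002) (.leaf 0x43ce004b7e)) (.node (.leaf 0x370e001f7b) (.leaf 0x0))))) (.node (.node (.node (.node (.leaf 0x62a000001) (.leaf 0x441b004367)) (.node (.leaf 0x2514000001) (.leaf 0x100627b))) (.node (.node (.leaf 0x100162a) (.leaf 0x43a100562a)) (.node (.leaf 0x362a001f7b) (.leaf 0x0)))) (.node (.node (.node (.leaf 0x1000e2a) (.leaf 0x4e2a000023)) (.node (.leaf 0x24f1002e2a) (.leaf 0x1006c8a))) (.node (.node (.leaf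 0x1001e2a) (.leaf 0x5d23000003)) (.node (.leaf 0x22210030d3) (.leaf 0x0))))))) (.node (.node (.node (.node (.node (.node (.leaf 0xf6000001) (.leaf 0x21e70033b1)) (.node (.leaf 0x20b6000003) (.leaf 0x1000c55))) (.node (.node (.leaf 0x200112a) (.leaf 0x512a000023)) (.node (.leaf 0x1f71002c76) (.leaf 0x0)))) (.node (.node (.node (.leaf 0x92a000003) (.leaf 0x492a004408)) (.node (.leaf 0x28b8000003) (.leaf 0x10066cc))) (.node (.node (.leaf 0x192a000001) (.leaf 0x430000592a)) (.node (.leaf 0x38500027f0) (.leaf 0x0))))) (.node (.node (.node (.node (.leaf 0x52a000001) (.leaf 0x452a004317)) (.node (.leaf 0x2410000001) (.leaf 0x2006312))) (.node (.node (.leaf 0x200152a) (.leaf 0x552a0043e1)) (.node (.leaf 0x2fcc001f7b) (.leaf 0x0)))) (.node (.node (.node (.leaf 0x2000d2a) (.leaf 0x44210043f6)) (.node (.leaf 0x1f71002d2a) (.leaf 0x1006b2a))) (.node (.node (.leaf 0x1001d2a) (.leaf 0x2005c70)) (.node (.leaf 0x2551003302) (.leaf 0x0)))))) (.node (.node (.node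 (.node (.node (.leaf 0x100032a) (.leaf 0x42ac004328)) (.node (.leaf 0x2254000001) (.leaf 0x100612a))) (.node (.node (.leaf 0x100132a) (.leaf 0x532a000074)) (.node (.leaf 0x1f7b003088) (.leaf 0x0)))) (.node (.node (.node (.leaf 0xb2a000003) (.leaf 0x3b004b2a)) (.node (.leaf 0x1f71002b2a) (.leaf 0x10068cf))) (.node (.node (.leaf 0x1b2a000001) (.leaf 0x5afe000003)) (.node (.leaf 0x276a002aa1) (.leaf 0x0))))) (.node (.node (.node (.node (.leaf 0x72a000003) (.leaf 0x440100472a)) (.node (.leaf 0x2644000003) (.leaf 0x20064da))) (.node (.node (.leaf 0x172a000001) (.leaf 0x439d00572a)) (.node (.leaf 0x3626001f72) (.leaf 0x0)))) (.node (.node (.node (.leaf 0x3000f2a) (.leaf 0x4f2a0042ed)) (.node (.leaf 0x1f7b002c54) (.leaf 0x2006dfa))) (.node (.node (.leaf 0x1f2a000003) (.leaf 0x2005df4)) (.node (.leaf 0x27e1002ecf) (.leaf 0x0)))))))) (.node (.node (.node (.node (.node (.node (.node (.leaf 0x2000018) (.leaf 0x257b0034c7)) (.node (.leaf 0x2046000001) (.leaf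 0x10003ca))) (.node (.node (.leaf 0x10aa000001) (.leaf 0x50aa0043ac)) (.node (.leaf 0x1f710030aa) (.leaf 0x2007012)))) (.node (.node (.node (.leaf 0x8aa000001) (.leaf 0x48aa0042b4)) (.node (.leaf 0x2804000003) (.leaf 0x6645000003))) (.node (.node (.leaf 0x18aa000003) (.leaf 0x44260058aa)) (.node (.leaf 0x38aa0027ce) (.leaf 0x0))))) (.node (.node (.node (.node (.leaf 0x4aa000003) (.leaf 0x42fe0044aa)) (.node (.leaf 0x2394000003) (.leaf 0x100629e))) (.node (.node (.leaf 0x10014aa) (.leaf 0x54aa0042f9)) (.node (.leaf 0x1f710034aa) (.leaf 0x0)))) (.node (.node (.node (.leaf 0x1000caa) (.leaf 0x43d2004caa)) (.node (.leaf 0x1f7b002caa) (.leaf 0x2006a94))) (.node (.node (.leaf 0x1001caa) (.leaf 0x2005c08)) (.node (.leaf 0x244b0029cf) (.leaf 0x0)))))) (.node (.node (.node (.node (.node (.leaf 0x670002aa) (.leaf 0x428b0042aa)) (.node (.leaf 0x203f000003) (.leaf 0x10060ba))) (.node (.node (.leaf 0x20012aa) (.leaf 0x52aa00429d)) (.node (.leaf 0x967002cb0)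 (.leaf 0x0)))) (.node (.node (.node (.leaf 0xaaa000001) (.leaf 0x44190043bf)) (.node (.leaf 0x2aaa001f7b) (.leaf 0x1006855))) (.node (.node (.leaf 0x1aaa000003) (.leaf 0x428c0056b9)) (.node (.leaf 0x249b002e24) (.leaf 0x0))))) (.node (.node (.node (.node (.leaf 0x6aa000002) (.leaf 0x43d20046aa)) (.node (.leaf 0x25a4000001) (.leaf 0x2006462))) (.node (.node (.leaf 0x16aa000003) (.leaf 0x42a40056aa)) (.node (.leaf 0x334a0024b2) (.leaf 0x0)))) (.node (.node (.node (.leaf 0x2000eaa) (.leaf 0x42e4004eaa)) (.node (.leaf 0x2c9d001f72) (.leaf 0x1006d30))) (.node (.node (.leaf 0x1eaa001e24) (.leaf 0x5d8b000003)) (.node (.leaf 0x227d002c1e) (.leaf 0x0))))))) (.node (.node (.node (.node (.node (.node (.leaf 0x10001aa) (.leaf 0x1fa9002d48)) (.node (.leaf 0x210e000003) (.leaf 0x2005fe8))) (.node (.node (.leaf 0x20011aa) (.leaf 0x428c0051aa)) (.node (.leaf 0x2b4000265e) (.leaf 0x0)))) (.node (.node (.node (.leaf 0x20009aa) (.leaf 0x436600436d)) (.node (.leaf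 0x29a6000001) (.leaf 0x1006750))) (.node (.node (.leaf 0x19aa000003) (.leaf 0x4383005673)) (.node (.leaf 0x2f45002628) (.leaf 0x0))))) (.node (.node (.node (.node (.leaf 0x5aa000003) (.leaf 0x42fa0045aa)) (.node (.leaf 0x2492000003) (.leaf 0x2006382))) (.node (.node (.leaf 0x20015aa) (.leaf 0x4328004b25)) (.node (.leaf 0x2edd001f7b) (.leaf 0x0)))) (.node (.node (.node (.leaf 0x3000daa) (.leaf 0x4383004daa)) (.node (.leaf 0x236d002daa) (.leaf 0x2006bcc))) (.node (.node (.leaf 0x1daa000001) (.leaf 0x200245a)) (.node (.leaf 0x280300356d) (.leaf 0x0)))))) (.node (.node (.node (.node (.node (.leaf 0x3aa000001) (.leaf 0x43a8000001)) (.node (.leaf 0x22c4000003) (.leaf 0x200619e))) (.node (.node (.leaf 0x20013aa) (.leaf 0x43990053aa)) (.node (.leaf 0x2dd1001f7b) (.leaf 0x0)))) (.node (.node (.node (.leaf 0xbaa000001) (.leaf 0x4352004baa)) (.node (.leaf 0x1f71002baa) (.leaf 0x2006972))) (.node (.node (.leaf 0x1baa000001) (.leaf 0x2005b55)) (.node (.leaf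 0x22e3002da0) (.leaf 0x0))))) (.node (.node (.node (.node (.leaf 0x7aa000001) (.leaf 0x447d004371)) (.node (.leaf 0x26e2000003) (.leaf 0x1c51000003))) (.node (.node (.leaf 0x17aa000001) (.leaf 0x57aa004349)) (.node (.leaf 0x53003766) (.leaf 0x0)))) (.node (.node (.node (.leaf 0x1000faa) (.leaf 0x432e004faa)) (.node (.leaf 0x2ebe0020cc) (.leaf 0x1006ea8))) (.node (.node (.leaf 0x1f9e000003) (.leaf 0x2005e56)) (.node (.leaf 0x215300313a) (.leaf 0x0)))))))))

/-- part -/
def slpT_27 : Tr Nat := (.node (.node (.node (.node (.node (.node (.node (.node (.leaf 0x6a000003) (.leaf 0x266b0035df)) (.node (.leaf 0x2014000001) (.leaf 0x2005ee2))) (.node (.node (.leaf 0x106a000002) (.leaf 0x506a004437)) (.node (.leaf 0x1f7100306a) (.leaf 0x2006fbc)))) (.node (.node (.node (.leaf 0x86a000003) (.leaf 0x443a00486a)) (.node (.leaf 0x27ba000003) (.leaf 0x6607000003))) (.node (.node (.leaf 0x186a000001) (.leaf 0x431200586a)) (.node (.leaf 0x311500252c) (.leaf 0x0)))))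 (.node (.node (.node (.node (.leaf 0x46a000001) (.leaf 0x43fd00446a)) (.node (.leaf 0x2360000003) (.leaf 0x2006266))) (.node (.node (.leaf 0x200146a) (.leaf 0x49b60043d3)) (.node (.leaf 0x1f7b00346a) (.leaf 0x0)))) (.node (.node (.node (.leaf 0x1000c6a) (.leaf 0x4c6a004349)) (.node (.leaf 0x1f7b002c6a) (.leaf 0x2006a38))) (.node (.node (.leaf 0x2001c6a) (.leaf 0x1005bd8)) (.node (.leaf 0x21210032cc) (.leaf 0x0)))))) (.node (.node (.node (.node (.node (.leaf 0x200026a) (.leaf 0x22dd002bf8)) (.node (.leaf 0x200219d) (.leaf 0x2006082))) (.node (.node (.leaf 0x100126a) (.leaf 0x4426004bd3)) (.node (.leaf 0x2d3b001f7b) (.leaf 0x0)))) (.node (.node (.node (.leaf 0xa6a000003) (.leaf 0x4a6a000002)) (.node (.leaf 0x2a6a001f72) (.leaf 0x2006812))) (.node (.node (.leaf 0x1a6a000001) (.leaf 0x43720043b6)) (.node (.leaf 0x1f710029f0) (.leaf 0x0))))) (.node (.node (.node (.node (.leaf 0x66a000003) (.leaf 0x440100466a)) (.node (.leaf 0x2477000003) (.leaf 0x200642a)))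 (.node (.node (.leaf 0x100166a) (.leaf 0x44620042ad)) (.node (.leaf 0x34fc00004e) (.leaf 0x0)))) (.node (.node (.node (.leaf 0x2000e6a) (.leaf 0x43ff00443e)) (.node (.leaf 0x2e6a001f7b) (.leaf 0x1006ce4))) (.node (.node (.leaf 0x1e6a000003) (.leaf 0x5d51000003)) (.node (.leaf 0x27b9002e7b) (.leaf 0x0))))))) (.node (.node (.node (.node (.node (.node (.leaf 0x200016a) (.leaf 0x23b1003571)) (.node (.leaf 0x20e8000003) (.leaf 0x1005fb0))) (.node (.node (.leaf 0x100116a) (.leaf 0x516a0042b0)) (.node (.leaf 0x2bf8001f7b) (.leaf 0x0)))) (.node (.node (.node (.leaf 0x96a000003) (.leaf 0x496a004301)) (.node (.leaf 0x292c000001) (.leaf 0x1006708))) (.node (.node (.leaf 0x196a000001) (.leaf 0x43ce00596a)) (.node (.leaf 0x396a001f72) (.leaf 0x0))))) (.node (.node (.node (.node (.leaf 0x56a000003) (.leaf 0x43ec0043b8)) (.node (.leaf 0x244c000003) (.leaf 0x100634a))) (.node (.node (.leaf 0x200156a) (.leaf 0x42b100556a)) (.node (.leaf 0x336a001f72) (.leaf 0x0))))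 (.node (.node (.node (.leaf 0x2000d6a) (.leaf 0x43ab004d6a)) (.node (.leaf 0x29f10028d2) (.leaf 0x2006677))) (.node (.node (.leaf 0x1d6a000001) (.leaf 0x1005ca6)) (.node (.leaf 0x216d00313f) (.leaf 0x0)))))) (.node (.node (.node (.node (.node (.leaf 0x36a000001) (.leaf 0x4324004368)) (.node (.leaf 0x228d000003) (.leaf 0x1006162))) (.node (.node (.leaf 0x100136a) (.leaf 0x536a000001)) (.node (.leaf 0x2bc1001f72) (.leaf 0x0)))) (.node (.node (.node (.leaf 0xb6a000001) (.leaf 0x432e004603)) (.node (.leaf 0x2b6a001f72) (.leaf 0x1006928))) (.node (.node (.leaf 0x1b6a000001) (.leaf 0x1005b2d)) (.node (.leaf 0x26c7002f8d) (.leaf 0x0))))) (.node (.node (.node (.node (.leaf 0x76a000001) (.leaf 0x43f10043bd)) (.node (.leaf 0x200268d) (.leaf 0x2006510))) (.node (.node (.leaf 0x176a000003) (.leaf 0x576a000004)) (.node (.leaf 0x1f7b002c42) (.leaf 0x0)))) (.node (.node (.node (.leaf 0x1000d6f) (.leaf 0x4407004f6a)) (.node (.leaf 0x2de5001f72) (.leaf 0x2006e44)))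 (.node (.node (.leaf 0x1001f6a) (.leaf 0x2005e21)) (.node (.leaf 0xfda0033d0) (.leaf 0x0)))))))) (.node (.node (.node (.node (.node (.node (.node (.leaf 0x100000f) (.leaf 0x1860037ed)) (.node (.leaf 0x2074000003) (.leaf 0x2005f50))) (.node (.node (.leaf 0x10ea000003) (.leaf 0x50ea0042b2)) (.node (.leaf 0x3030001f72) (.leaf 0x200708e)))) (.node (.node (.node (.leaf 0x8ea000002) (.leaf 0x48ea0042e7)) (.node (.leaf 0x284e000003) (.leaf 0x2006692))) (.node (.node (.leaf 0x18ea000003) (.leaf 0x58ea0042e5)) (.node (.leaf 0x33ef001f7b) (.leaf 0x0))))) (.node (.node (.node (.node (.leaf 0x4ea000001) (.leaf 0x44ea00442d)) (.node (.leaf 0x23d4000001) (.leaf 0x10062d6))) (.node (.node (.leaf 0x30014ea) (.leaf 0x42ec0054ea)) (.node (.leaf 0x2f43001f7b) (.leaf 0x0)))) (.node (.node (.node (.leaf 0x3000cea) (.leaf 0x43270043f0)) (.node (.leaf 0xfcd002c74) (.leaf 0x1006ade))) (.node (.node (.leaf 0x1001cea) (.leaf 0x20020ee)) (.node (.leaf 0x233b0032e8) (.leaf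 0x0)))))) (.node (.node (.node (.node (.node (.leaf 0x10002ea) (.leaf 0x42ac0042e4)) (.node (.leaf 0x2215000001) (.leaf 0x20060ec))) (.node (.node (.leaf 0x30012ea) (.leaf 0x43480052ea)) (.node (.leaf 0x27fd0032ea) (.leaf 0x0)))) (.node (.node (.node (.leaf 0xaea000001) (.leaf 0x4aea000001)) (.node (.leaf 0x1f7b002ade) (.leaf 0x2006899))) (.node (.node (.leaf 0x1aea000003) (.leaf 0x2121000003)) (.node (.leaf 0x2669002cbe) (.leaf 0x0))))) (.node (.node (.node (.node (.leaf 0x6ea000003) (.leaf 0x43ce0046ea)) (.node (.leaf 0x25ec000003) (.leaf 0x100624d))) (.node (.node (.leaf 0x16ea000002) (.leaf 0x43280056ea)) (.node (.leaf 0x36ea001f72) (.leaf 0x0)))) (.node (.node (.node (.leaf 0x1000eea) (.leaf 0x43b8004422)) (.node (.leaf 0x28e1002ab5) (.leaf 0x2006daa))) (.node (.node (.leaf 0xc3c000001) (.leaf 0x2005dbe)) (.node (.leaf 0x27e10033c5) (.leaf 0x0))))))) (.node (.node (.node (.node (.node (.node (.leaf 0x1ea000001) (.leaf 0x1b0034f7)) (.node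 (.leaf 0x2134000003) (.leaf 0x1005afc))) (.node (.node (.leaf 0x10011ea) (.leaf 0x43120051ea)) (.node (.leaf 0x2c33001f7b) (.leaf 0x0)))) (.node (.node (.node (.leaf 0x20009ea) (.leaf 0x45a400436b)) (.node (.leaf 0x1f7b0029ea) (.leaf 0x1006795))) (.node (.node (.leaf 0x19ea000001) (.leaf 0x4428004b75)) (.node (.leaf 0x33c2001f7b) (.leaf 0x0))))) (.node (.node (.node (.node (.leaf 0x5ea000003) (.leaf 0x45ea0042c1)) (.node (.leaf 0x24d0000001) (.leaf 0x10063b8))) (.node (.node (.leaf 0x30015ea) (.leaf 0x43a90055ea)) (.node (.leaf 0x3262002968) (.leaf 0x0)))) (.node (.node (.node (.leaf 0x2000dea) (.leaf 0x442c0048fc)) (.node (.leaf 0x22f7002dea) (.leaf 0x1006c28))) (.node (.node (.leaf 0x1dea001d60) (.leaf 0x1005cfa)) (.node (.leaf 0x21ba0034e5) (.leaf 0x0)))))) (.node (.node (.node (.node (.node (.leaf 0x20003ea) (.leaf 0x43920043ea)) (.node (.leaf 0x22f8000001) (.leaf 0x20061e0))) (.node (.node (.leaf 0x10013ea) (.leaf 0x53ea004313)) (.node (.leaf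 0x26350033ea) (.leaf 0x0)))) (.node (.node (.node (.leaf 0x1000bea) (.leaf 0x43bc00441c)) (.node (.leaf 0x1f71002bea) (.leaf 0x20069b6))) (.node (.node (.leaf 0x1bea000003) (.leaf 0x1005b8e)) (.node (.leaf 0x2478003203) (.leaf 0x0))))) (.node (.node (.node (.node (.leaf 0x7ea000003) (.leaf 0x47ea0042ed)) (.node (.leaf 0x272e000003) (.leaf 0x6589000001))) (.node (.node (.leaf 0x17ea000001) (.leaf 0x57ea004301)) (.node (.leaf 0x310500271a) (.leaf 0x0)))) (.node (.node (.node (.leaf 0xfea000001) (.leaf 0x453d004371)) (.node (.leaf 0x2fea001f72) (.leaf 0x1006f04))) (.node (.node (.leaf 0x2001fbf) (.leaf 0x2005e82)) (.node (.leaf 0x23e70036ff) (.leaf 0x0)))))))))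

/-- part -/
def slpT_28 : Tr Nat := (.node (.node (.node (.node (.node (.node (.node (.node (.leaf 0x200001a) (.leaf 0x242f003a8c)) (.node (.leaf 0x1fe4000003) (.leaf 0x2005ea5))) (.node (.node (.leaf 0x101a000001) (.leaf 0x300501a)) (.node (.leaf 0x2c87001f72) (.leaf 0x2006f3c)))) (.node (.node (.node (.leaf 0x81a000001) (.leaf 0x481a00440a)) (.node (.leaf 0x2762000003) (.leaf 0x10065b8))) (.node (.node (.leaf 0x181a000002) (.leaf 0x442c00460d)) (.node (.leaf 0x34ea001f7b) (.leaf 0x0))))) (.node (.node (.node (.node (.leaf 0x41a000001) (.leaf 0x441a0043b3)) (.node (.leaf 0x2322000001) (.leaf 0x2006208))) (.node (.node (.leaf 0x200141a) (.leaf 0x45110043fe)) (.node (.leaf 0x2635003037) (.leaf 0x0)))) (.node (.node (.node (.leaf 0x2000c1a) (.leaf 0x42e6004c1a)) (.node (.leaf 0x1f71002a7f) (.leaf 0x20069ea))) (.node (.node (.leaf 0x1c1a000003) (.leaf 0x200218e)) (.node (.leaf 0x20a9002c1c) (.leaf 0x0)))))) (.node (.node (.node (.node (.node (.leaf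 0x21a000001) (.leaf 0x27bb003591)) (.node (.leaf 0x1002155) (.leaf 0x2006042))) (.node (.node (.leaf 0x100121a) (.leaf 0x521a000002)) (.node (.leaf 0x321a001f72) (.leaf 0x0)))) (.node (.node (.node (.leaf 0xa1a000003) (.leaf 0x4a1a00003c)) (.node (.leaf 0x1f71002a1a) (.leaf 0x20067c1))) (.node (.node (.leaf 0x1a1a000001) (.leaf 0x4383004a4c)) (.node (.leaf 0x377100004f) (.leaf 0x0))))) (.node (.node (.node (.node (.leaf 0x61a000003) (.leaf 0x461a00428c)) (.node (.leaf 0x2506000001) (.leaf 0x1006271))) (.node (.node (.leaf 0x100161a) (.leaf 0x429c00561a)) (.node (.leaf 0x2b27002178) (.leaf 0x0)))) (.node (.node (.node (.leaf 0x2000e1a) (.leaf 0x4e1a0042a5)) (.node (.leaf 0x247d002e1a) (.leaf 0x2006c72))) (.node (.node (.leaf 0x1e1a000003) (.leaf 0x2005d18)) (.node (.leaf 0x2221003422) (.leaf 0x0))))))) (.node (.node (.node (.node (.node (.node (.leaf 0x11a000003) (.leaf 0x21e70033bd)) (.node (.leaf 0x20aa000003) (.leaf 0x2005f76))) (.node (.node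 (.leaf 0x200111a) (.leaf 0x2200511a)) (.node (.leaf 0x1f7100311a) (.leaf 0x2007100)))) (.node (.node (.node (.leaf 0x91a000002) (.leaf 0x491a0010e7)) (.node (.leaf 0x2898000001) (.leaf 0x10066ba))) (.node (.node (.leaf 0x191a000001) (.leaf 0x2000591a)) (.node (.leaf 0x2f0d00013d) (.leaf 0x0))))) (.node (.node (.node (.node (.leaf 0x51a000001) (.leaf 0x451a004327)) (.node (.leaf 0x2402000003) (.leaf 0x2006304))) (.node (.node (.leaf 0x200151a) (.leaf 0x4b25004388)) (.node (.leaf 0x2e090021ff) (.leaf 0x0)))) (.node (.node (.node (.leaf 0x2000d1a) (.leaf 0x4397004d1a)) (.node (.leaf 0x29ab002d1a) (.leaf 0x2006b14))) (.node (.node (.leaf 0x1001d1a) (.leaf 0x1005c64)) (.node (.leaf 0x2551002da0) (.leaf 0x0)))))) (.node (.node (.node (.node (.node (.leaf 0x100031a) (.leaf 0x3c0042e0)) (.node (.leaf 0x2246000003) (.leaf 0x2006118))) (.node (.node (.leaf 0x100131a) (.leaf 0x430e00531a)) (.node (.leaf 0x1f710030d3) (.leaf 0x0)))) (.node (.node (.node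 (.leaf 0xb1a000003) (.leaf 0x4b1a00440a)) (.node (.leaf 0x1f7b002b1a) (.leaf 0x10068c1))) (.node (.node (.leaf 0x1b1a000003) (.leaf 0x20a9000003)) (.node (.leaf 0x276a0034c9) (.leaf 0x0))))) (.node (.node (.node (.node (.leaf 0x71a000002) (.leaf 0x428e00471a)) (.node (.leaf 0x2636000003) (.leaf 0x10064c8))) (.node (.node (.leaf 0x171a000003) (.leaf 0x2000571a)) (.node (.leaf 0x33d7001f7b) (.leaf 0x0)))) (.node (.node (.node (.leaf 0xd9e000f1a) (.leaf 0x4f1a004406)) (.node (.leaf 0x1f71002f1a) (.leaf 0x2006dea))) (.node (.node (.leaf 0x1f1a000001) (.leaf 0x1005de4)) (.node (.leaf 0x27e10029df) (.leaf 0x0)))))))) (.node (.node (.node (.node (.node (.node (.node (.leaf 0x200009a) (.leaf 0x21b3003060)) (.node (.leaf 0x203e000003) (.leaf 0x2005f12))) (.node (.node (.leaf 0x109a000001) (.leaf 0x4324004429)) (.node (.leaf 0xa0300309a) (.leaf 0x2006ffa)))) (.node (.node (.node (.leaf 0x89a000003) (.leaf 0x489a0042fb)) (.node (.leaf 0x27ec000003) (.leaf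 0x6637000003))) (.node (.node (.leaf 0xe09000003) (.leaf 0x42e400589a)) (.node (.leaf 0x2fde0027ce) (.leaf 0x0))))) (.node (.node (.node (.node (.leaf 0x49a000001) (.leaf 0x449a0043bd)) (.node (.leaf 0x2382000001) (.leaf 0x2006292))) (.node (.node (.leaf 0x200149a) (.leaf 0x549a0042fb)) (.node (.leaf 0x1f71003494) (.leaf 0x0)))) (.node (.node (.node (.leaf 0x1000c9a) (.leaf 0x439d004c9a)) (.node (.leaf 0x1f71002c9a) (.leaf 0x1006a84))) (.node (.node (.leaf 0x1001c9a) (.leaf 0x2005bf6)) (.node (.leaf 0x225b003292) (.leaf 0x0)))))) (.node (.node (.node (.node (.node (.leaf 0x100029a) (.leaf 0x428a00003b)) (.node (.leaf 0x10021d1) (.leaf 0x10060aa))) (.node (.node (.leaf 0x200129a) (.leaf 0x529a004406)) (.node (.leaf 0x1f71003094) (.leaf 0x0)))) (.node (.node (.node (.leaf 0xa9a000001) (.leaf 0x4a9a00428d)) (.node (.leaf 0x2a9a001f72) (.leaf 0x1006844))) (.node (.node (.leaf 0x1a9a000002) (.leaf 0x42cc005a9a)) (.node (.leaf 0x249b003151) (.leaf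 0x0))))) (.node (.node (.node (.node (.leaf 0x5ca000001) (.leaf 0x42c000469a)) (.node (.leaf 0x2594000001) (.leaf 0x2006456))) (.node (.node (.leaf 0x169a000003) (.leaf 0x440500569a)) (.node (.leaf 0x31ba0024b2) (.leaf 0x0)))) (.node (.node (.node (.leaf 0x3000e9a) (.leaf 0x42f8004e9a)) (.node (.leaf 0x2e9a00219a) (.leaf 0x2006d18))) (.node (.node (.leaf 0x1e9a000001) (.leaf 0x2002374)) (.node (.leaf 0x20e30038e1) (.leaf 0x0))))))) (.node (.node (.node (.node (.node (.node (.leaf 0x200019a) (.leaf 0x1fa90033ee)) (.node (.leaf 0x205d000003) (.leaf 0x1005fdc))) (.node (.node (.leaf 0x200119a) (.leaf 0x519a004439)) (.node (.leaf 0x319a001f7b) (.leaf 0x0)))) (.node (.node (.node (.leaf 0x2000026) (.leaf 0x499a004398)) (.node (.leaf 0x296e000003) (.leaf 0x200673e))) (.node (.node (.leaf 0x199a000003) (.leaf 0x43e200599a)) (.node (.leaf 0x2a1d002628) (.leaf 0x0))))) (.node (.node (.node (.node (.leaf 0x59a000002) (.leaf 0x438500459a)) (.node (.leaf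 0x2480000003) (.leaf 0x2006376))) (.node (.node (.leaf 0x300159a) (.leaf 0x440900559a)) (.node (.leaf 0x359a001f7b) (.leaf 0x0)))) (.node (.node (.node (.leaf 0x2000d9a) (.leaf 0x428d004d9a)) (.node (.leaf 0x1f71002d9a) (.leaf 0x1006bbc))) (.node (.node (.leaf 0x1d9a000001) (.leaf 0x2005cc4)) (.node (.leaf 0x262d00372f) (.leaf 0x0)))))) (.node (.node (.node (.node (.node (.leaf 0x39a000003) (.leaf 0x21004367)) (.node (.leaf 0x22b4000003) (.leaf 0x200618e))) (.node (.node (.leaf 0x20010c2) (.leaf 0x539a004349)) (.node (.leaf 0x339a001f72) (.leaf 0x0)))) (.node (.node (.node (.leaf 0xb9a000003) (.leaf 0x43ab004b9a)) (.node (.leaf 0x2b9a001f7b) (.leaf 0x200695c))) (.node (.node (.leaf 0x1b9a000001) (.leaf 0x1005b4c)) (.node (.leaf 0x15d002ea7) (.leaf 0x0))))) (.node (.node (.node (.node (.leaf 0x79a000001) (.leaf 0x479a00432f)) (.node (.leaf 0x26d0000003) (.leaf 0x6547000003))) (.node (.node (.leaf 0x179a000001) (.leaf 0x579a0042f1)) (.node (.leaf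 0x1f7b0030b8) (.leaf 0x0)))) (.node (.node (.node (.leaf 0x1000f9a) (.leaf 0x428a004f9a)) (.node (.leaf 0x2f9a001f72) (.leaf 0x1006e84))) (.node (.node (.leaf 0xd89000001) (.leaf 0x1005e49)) (.node (.leaf 0x2153003161) (.leaf 0x0)))))))))

/-- part -/
def slpT_29 : Tr Nat := (.node (.node (.node (.node (.node (.node (.node (.node (.leaf 0x5a000001) (.leaf 0x266b0032c2)) (.node (.leaf 0x200a000001) (.leaf 0x1005e79))) (.node (.node (.leaf 0x105a000001) (.leaf 0x505a0042ed)) (.node (.leaf 0x2691002d5d) (.leaf 0x2006f9c)))) (.node (.node (.node (.leaf 0x85a000003) (.leaf 0x43c20043ee)) (.node (.leaf 0x27aa000001) (.leaf 0x5f5e000001))) (.node (.node (.leaf 0x185a000001) (.leaf 0x42a400585a)) (.node (.leaf 0x2e7000252c) (.leaf 0x0))))) (.node (.node (.node (.node (.leaf 0x45a000001) (.leaf 0x2200445a)) (.node (.leaf 0x2187000003) (.leaf 0x2006258))) (.node (.node (.leaf 0x200145a) (.leaf 0x545a004429)) (.node (.leaf 0x1f7b002be2) (.leaf 0x0)))) (.node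 (.node (.node (.leaf 0x1000c5a) (.leaf 0x4c5a0042fd)) (.node (.leaf 0x1f71002c4a) (.leaf 0x10058f0))) (.node (.node (.leaf 0x2001c5a) (.leaf 0x2005bcc)) (.node (.leaf 0x19b00311a) (.leaf 0x0)))))) (.node (.node (.node (.node (.node (.leaf 0x200025a) (.leaf 0x2639003163)) (.node (.leaf 0x218c000001) (.leaf 0x20010ba))) (.node (.node (.leaf 0x100125a) (.leaf 0x442a00525a)) (.node (.leaf 0x325a001f72) (.leaf 0x0)))) (.node (.node (.node (.leaf 0xa5a000001) (.leaf 0x4a5a00439a)) (.node (.leaf 0x2a5a001f72) (.leaf 0x1006805))) (.node (.node (.leaf 0x1a5a000001) (.leaf 0x44300050a4)) (.node (.leaf 0x96e002afa) (.leaf 0x0))))) (.node (.node (.node (.node (.leaf 0x65a000001) (.leaf 0x440100465a)) (.node (.leaf 0x2556000003) (.leaf 0x100641c))) (.node (.node (.leaf 0x100165a) (.leaf 0x4b5b0043a8)) (.node (.leaf 0x2f45001f72) (.leaf 0x0)))) (.node (.node (.node (.leaf 0x2000e5a) (.leaf 0x4428004e5a)) (.node (.leaf 0x2e5a001f72) (.leaf 0x2006cc4))) (.node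 (.node (.leaf 0x1e5a000003) (.leaf 0x2005d46)) (.node (.leaf 0x9710033d0) (.leaf 0x0))))))) (.node (.node (.node (.node (.node (.node (.leaf 0x100015a) (.leaf 0x23b1002fcb)) (.node (.leaf 0x20dc000003) (.leaf 0x2005fa6))) (.node (.node (.leaf 0x200115a) (.leaf 0x515a004402)) (.node (.leaf 0x315a001f7b) (.leaf 0x0)))) (.node (.node (.node (.leaf 0x95a000001) (.leaf 0x495a000023)) (.node (.leaf 0x290e000003) (.leaf 0x20066f8))) (.node (.node (.leaf 0x195a000001) (.leaf 0x42ee00595a)) (.node (.leaf 0x2eb6001f7b) (.leaf 0x0))))) (.node (.node (.node (.node (.leaf 0x55a000003) (.leaf 0x428c00455b)) (.node (.leaf 0x243a000003) (.leaf 0x200633e))) (.node (.node (.leaf 0x200155a) (.leaf 0x555a0042ac)) (.node (.leaf 0x2c650029a0) (.leaf 0x0)))) (.node (.node (.node (.leaf 0x1000d5a) (.leaf 0x442e004792)) (.node (.leaf 0x2d5a001f72) (.leaf 0x1006b68))) (.node (.node (.leaf 0x1001c37) (.leaf 0x1001b13)) (.node (.leaf 0xf76003643) (.leaf 0x0)))))) (.node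 (.node (.node (.node (.node (.leaf 0x35a000001) (.leaf 0x432400003d)) (.node (.leaf 0x2287000003) (.leaf 0x2006152))) (.node (.node (.leaf 0x100006b) (.leaf 0x535a0042cd)) (.node (.leaf 0x335a001f7b) (.leaf 0x0)))) (.node (.node (.node (.leaf 0xb5a000001) (.leaf 0x43ab004b5a)) (.node (.leaf 0x2a76001f72) (.leaf 0x2006912))) (.node (.node (.leaf 0x1b5a000001) (.leaf 0x1000662)) (.node (.leaf 0x1f7b003b0e) (.leaf 0x0))))) (.node (.node (.node (.node (.leaf 0x75a000001) (.leaf 0x475a004349)) (.node (.leaf 0x2678000001) (.leaf 0x2006500))) (.node (.node (.leaf 0x175a000003) (.leaf 0x447d004326)) (.node (.leaf 0x1f71002b4f) (.leaf 0x0)))) (.node (.node (.node (.leaf 0x2000f5a) (.leaf 0x43ff004368)) (.node (.leaf 0x2f5a001f7b) (.leaf 0x1006e36))) (.node (.node (.leaf 0x1001f5a) (.leaf 0x1005e1a)) (.node (.leaf 0xfda0037ed) (.leaf 0x0)))))))) (.node (.node (.node (.node (.node (.node (.node (.leaf 0xda000001) (.leaf 0x186002d38)) (.node (.leaf 0x2068000003)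 (.leaf 0x1005f44))) (.node (.node (.leaf 0x10da000003) (.leaf 0x50da00428b)) (.node (.leaf 0x2bed001f72) (.leaf 0x2007062)))) (.node (.node (.node (.leaf 0x8da000001) (.leaf 0x48da000023)) (.node (.leaf 0x283a000003) (.leaf 0x6679000003))) (.node (.node (.leaf 0x18da000001) (.leaf 0x58da00443b)) (.node (.leaf 0x369a001f72) (.leaf 0x0))))) (.node (.node (.node (.node (.leaf 0x4da000001) (.leaf 0x42cc0044da)) (.node (.leaf 0x23c6000001) (.leaf 0x20062c4))) (.node (.node (.leaf 0x10014da) (.leaf 0x54da00428c)) (.node (.leaf 0x3421000a14) (.leaf 0x0)))) (.node (.node (.node (.leaf 0x2000cda) (.leaf 0x10e8004cda)) (.node (.leaf 0x2971002c36) (.leaf 0x1006ac6))) (.node (.node (.leaf 0x1001cda) (.leaf 0x2002590)) (.node (.leaf 0x244b0030ce) (.leaf 0x0)))))) (.node (.node (.node (.node (.node (.leaf 0x20002da) (.leaf 0x3d0042da)) (.node (.leaf 0x2206000001) (.leaf 0x20060e2))) (.node (.node (.leaf 0x10012da) (.leaf 0x42b10052da)) (.node (.leaf 0x1f71002fcb)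 (.leaf 0x0)))) (.node (.node (.node (.leaf 0xada000003) (.leaf 0x4ada004437)) (.node (.leaf 0x1f71002ada) (.leaf 0x2006889))) (.node (.node (.leaf 0x1ada000001) (.leaf 0x1fb5000003)) (.node (.leaf 0x26690030b2) (.leaf 0x0))))) (.node (.node (.node (.node (.leaf 0x6da000003) (.leaf 0x200046da)) (.node (.leaf 0x25da000001) (.leaf 0x2006488))) (.node (.node (.leaf 0x16da000001) (.leaf 0x442e004a26)) (.node (.leaf 0x34e00005e8) (.leaf 0x0)))) (.node (.node (.node (.leaf 0x1000eda) (.leaf 0x44f30043d1)) (.node (.leaf 0x1f71002eda) (.leaf 0x2006d88))) (.node (.node (.leaf 0x1eda000003) (.leaf 0x2002348)) (.node (.leaf 0x2729003326) (.leaf 0x0))))))) (.node (.node (.node (.node (.node (.node (.leaf 0x1da000001) (.leaf 0x229c003801)) (.node (.leaf 0x212a000001) (.leaf 0x1005dab))) (.node (.node (.leaf 0x10011da) (.leaf 0x43be00462c)) (.node (.leaf 0x2c3b001f7b) (.leaf 0x0)))) (.node (.node (.node (.leaf 0x20009da) (.leaf 0x49da004427)) (.node (.leaf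 0x29da001f72) (.leaf 0x2004922))) (.node (.node (.leaf 0x19da000003) (.leaf 0x44300044fc)) (.node (.leaf 0x2ac0002712) (.leaf 0x0))))) (.node (.node (.node (.node (.leaf 0x5da000001) (.leaf 0x43b700441a)) (.node (.leaf 0x24c2000001) (.leaf 0x10063aa))) (.node (.node (.leaf 0x20015da) (.leaf 0x43c80043f0)) (.node (.leaf 0x3204001f72) (.leaf 0x0)))) (.node (.node (.node (.leaf 0x3000dda) (.leaf 0x434c004dda)) (.node (.leaf 0x1f71002d52) (.leaf 0x1006c12))) (.node (.node (.leaf 0x1dda000001) (.leaf 0x20045db)) (.node (.leaf 0x21ba0035cb) (.leaf 0x0)))))) (.node (.node (.node (.node (.node (.leaf 0x30003da) (.leaf 0x43b30042c0)) (.node (.leaf 0x22ea000003) (.leaf 0x20061d4))) (.node (.node (.leaf 0x10013da) (.leaf 0x53da004427)) (.node (.leaf 0x26350033da) (.leaf 0x0)))) (.node (.node (.node (.leaf 0x2000bda) (.leaf 0x442a004827)) (.node (.leaf 0x1f71002bda) (.leaf 0x20052d7))) (.node (.node (.leaf 0x1bda000003) (.leaf 0x1005b82)) (.node (.leaf 0x27a90030f3)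 (.leaf 0x0))))) (.node (.node (.node (.node (.leaf 0x7da000001) (.leaf 0x47da00003c)) (.node (.leaf 0x2714000003) (.leaf 0x657b000001))) (.node (.node (.leaf 0x17da000003) (.leaf 0x57da00429d)) (.node (.leaf 0x2e74001f72) (.leaf 0x0)))) (.node (.node (.node (.leaf 0xfda000003) (.leaf 0x434c004fda)) (.node (.leaf 0x2c60001f72) (.leaf 0x2006ef0))) (.node (.node (.leaf 0x1001fb5) (.leaf 0x2005e75)) (.node (.leaf 0x879002bf8) (.leaf 0x0)))))))))

/-- part -/
def slpT_30 : Tr Nat := (.node (.node (.node (.node (.node (.node (.node (.node (.leaf 0x1000003) (.leaf 0x266b00338b)) (.node (.leaf 0x1ff3000003) (.leaf 0x1005ebf))) (.node (.node (.leaf 0x103a000002) (.leaf 0x42fa00503a)) (.node (.leaf 0x303a00211e) (.leaf 0x2006f72)))) (.node (.node (.node (.leaf 0x83a000003) (.leaf 0x42e400483a)) (.node (.leaf 0x2781000003) (.leaf 0x20065d8))) (.node (.node (.leaf 0x183a000001) (.leaf 0x43830052fc)) (.node (.leaf 0x2bb3001fef) (.leaf 0x0))))) (.node (.node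 (.node (.node (.leaf 0x43a000003) (.leaf 0x1e00440f)) (.node (.leaf 0x2342000001) (.leaf 0x2006234))) (.node (.node (.leaf 0x200143a) (.leaf 0x454f00442b)) (.node (.leaf 0x1f7100343a) (.leaf 0x0)))) (.node (.node (.node (.leaf 0x1000c3a) (.leaf 0x43da004c3a)) (.node (.leaf 0x1f71002c3a) (.leaf 0x1006a0e))) (.node (.node (.leaf 0x2001c3a) (.leaf 0x2004eca)) (.node (.leaf 0x25a1003343) (.leaf 0x0)))))) (.node (.node (.node (.node (.node (.leaf 0x200023a) (.leaf 0x258f003446)) (.node (.leaf 0x2170000001) (.leaf 0x2006062))) (.node (.node (.leaf 0x200123a) (.leaf 0x523a004437)) (.node (.leaf 0x323a001f72) (.leaf 0x0)))) (.node (.node (.node (.leaf 0x77a000001) (.leaf 0x4a3a0043d1)) (.node (.leaf 0x29df001f72) (.leaf 0x20067df))) (.node (.node (.leaf 0x1a3a000003) (.leaf 0x4383005a3a)) (.node (.leaf 0x30c700133a) (.leaf 0x0))))) (.node (.node (.node (.node (.leaf 0x63a000003) (.leaf 0x429c00463a)) (.node (.leaf 0x2526000001) (.leaf 0x2006402))) (.node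 (.node (.leaf 0x100163a) (.leaf 0x434800563a)) (.node (.leaf 0x363a001f72) (.leaf 0x0)))) (.node (.node (.node (.leaf 0x1000e3a) (.leaf 0x2004e3a)) (.node (.leaf 0x2b0f0024f2) (.leaf 0x2006c9c))) (.node (.node (.leaf 0x1001e3a) (.leaf 0x5d2f000001)) (.node (.leaf 0x22210029cc) (.leaf 0x0))))))) (.node (.node (.node (.node (.node (.node (.leaf 0x13a000003) (.leaf 0x23b10034e5)) (.node (.leaf 0x20c2000003) (.leaf 0x1005f8a))) (.node (.node (.leaf 0x200113a) (.leaf 0x513a0042b4)) (.node (.leaf 0x1f7b002f0a) (.leaf 0x0)))) (.node (.node (.node (.leaf 0x93a000002) (.leaf 0x493a00429b)) (.node (.leaf 0x1e21000001) (.leaf 0x10066d6))) (.node (.node (.leaf 0x193a000001) (.leaf 0x443400593a)) (.node (.leaf 0x2c020027f0) (.leaf 0x0))))) (.node (.node (.node (.node (.leaf 0x53a000001) (.leaf 0x453a0042a5)) (.node (.leaf 0x241e000003) (.leaf 0x2006320))) (.node (.node (.leaf 0x300153a) (.leaf 0x553a000002)) (.node (.leaf 0x33d10021ff) (.leaf 0x0)))) (.node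 (.node (.node (.leaf 0x2000d3a) (.leaf 0x4d3a000074)) (.node (.leaf 0xfcd002d3a) (.leaf 0x1006b3a))) (.node (.node (.leaf 0x2001d3a) (.leaf 0x1001d3c)) (.node (.leaf 0x284900377c) (.leaf 0x0)))))) (.node (.node (.node (.node (.node (.leaf 0x33a000001) (.leaf 0x4324004332)) (.node (.leaf 0x2260000003) (.leaf 0x20012a6))) (.node (.node (.leaf 0x200133a) (.leaf 0x462c004422)) (.node (.leaf 0x1f71002bae) (.leaf 0x0)))) (.node (.node (.node (.leaf 0xb3a000003) (.leaf 0x42ee004b3a)) (.node (.leaf 0x1f71002b3a) (.leaf 0x20068e6))) (.node (.node (.leaf 0x208001b3a) (.leaf 0x2005b0f)) (.node (.leaf 0x97f0036c5) (.leaf 0x0))))) (.node (.node (.node (.node (.leaf 0x73a000002) (.leaf 0x43fd00463e)) (.node (.leaf 0x2656000001) (.leaf 0x20064e6))) (.node (.node (.leaf 0x173a000001) (.leaf 0x573a0042a5)) (.node (.leaf 0x1f7b00373a) (.leaf 0x0)))) (.node (.node (.node (.leaf 0x200004a) (.leaf 0x4f3a0043d3)) (.node (.leaf 0x1f7b002f3a) (.leaf 0x2006e0e))) (.node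 (.node (.leaf 0x1f3a000003) (.leaf 0x1005e02)) (.node (.leaf 0x27e1003460) (.leaf 0x0)))))))) (.node (.node (.node (.node (.node (.node (.node (.leaf 0xba000001) (.leaf 0x23f3002b1e)) (.node (.leaf 0xfd6000001) (.leaf 0x1005f2c))) (.node (.node (.leaf 0x96a000001) (.leaf 0x50ba00439e)) (.node (.leaf 0x211f002c48) (.leaf 0x2007024)))) (.node (.node (.node (.leaf 0x8ba000001) (.leaf 0x43660043c1)) (.node (.leaf 0x2814000001) (.leaf 0x6655000003))) (.node (.node (.leaf 0x18ba000003) (.leaf 0x58ba0043ac)) (.node (.leaf 0x38ba0022c6) (.leaf 0x0))))) (.node (.node (.node (.node (.leaf 0x4ba000001) (.leaf 0x43fd0044ba)) (.node (.leaf 0x23a8000003) (.leaf 0x10062aa))) (.node (.node (.leaf 0x10014ba) (.leaf 0x54ba0042fb)) (.node (.leaf 0x1f71002dfc) (.leaf 0x0)))) (.node (.node (.node (.leaf 0x1000cba) (.leaf 0x4358004cba)) (.node (.leaf 0x1f71002a02) (.leaf 0x1006aa2))) (.node (.node (.leaf 0x2001cba) (.leaf 0x2005c12)) (.node (.leaf 0x244b0030aa) (.leaf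 0x0)))))) (.node (.node (.node (.node (.node (.leaf 0x10002ba) (.leaf 0x42ac00428b)) (.node (.leaf 0x21e8000001) (.leaf 0x10060c8))) (.node (.node (.leaf 0x20012ba) (.leaf 0x44070052ba)) (.node (.leaf 0x1f710031a7) (.leaf 0x0)))) (.node (.node (.node (.leaf 0xaba000002) (.leaf 0x45f900432f)) (.node (.leaf 0x2aba001f72) (.leaf 0x1006869))) (.node (.node (.leaf 0x1aba000001) (.leaf 0x2005aba)) (.node (.leaf 0x23ef002b5f) (.leaf 0x0))))) (.node (.node (.node (.node (.leaf 0x6ba000003) (.leaf 0x442300441d)) (.node (.leaf 0x25ba000001) (.leaf 0x2006472))) (.node (.node (.leaf 0x16ba000001) (.leaf 0x43da0056ba)) (.node (.leaf 0x2eff0024b2) (.leaf 0x0)))) (.node (.node (.node (.leaf 0x1000eba) (.leaf 0x4eba004431)) (.node (.leaf 0x2eba00219a) (.leaf 0x1006d48))) (.node (.node (.leaf 0x1eba000003) (.leaf 0x5d9d000003)) (.node (.leaf 0x227d00363b) (.leaf 0x0))))))) (.node (.node (.node (.node (.node (.node (.leaf 0x10001ba) (.leaf 0xa09002e51)) (.node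 (.leaf 0xf42000003) (.leaf 0x1005d21))) (.node (.node (.leaf 0x20011ba) (.leaf 0x42f00051ba)) (.node (.leaf 0x31ba001f7b) (.leaf 0x0)))) (.node (.node (.node (.leaf 0x20009ba) (.leaf 0x43120049ba)) (.node (.leaf 0x29ba001f7b) (.leaf 0x1006760))) (.node (.node (.leaf 0x19ba000003) (.leaf 0x4385004b95)) (.node (.leaf 0x33e700213c) (.leaf 0x0))))) (.node (.node (.node (.node (.leaf 0x5ba000003) (.leaf 0x42c00045ba)) (.node (.leaf 0x24a2000001) (.leaf 0x20028c8))) (.node (.node (.leaf 0x10015ba) (.leaf 0x42ad0055ba)) (.node (.leaf 0x2ef3000024) (.leaf 0x0)))) (.node (.node (.node (.leaf 0x1000dba) (.leaf 0x436a0043f1)) (.node (.leaf 0x1f71002dba) (.leaf 0x2006bdc))) (.node (.node (.leaf 0x1dba000003) (.leaf 0x20016a6)) (.node (.leaf 0x1f82003b54) (.leaf 0x0)))))) (.node (.node (.node (.node (.node (.leaf 0x3ba000003) (.leaf 0x43b3004324)) (.node (.leaf 0x22d0000001) (.leaf 0x20061b0))) (.node (.node (.leaf 0x10013ba) (.leaf 0x53ba0042b4)) (.node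 (.leaf 0x2a4d00221c) (.leaf 0x0)))) (.node (.node (.node (.leaf 0xbba000001) (.leaf 0x42f0004bba)) (.node (.leaf 0x1f71002bba) (.leaf 0x2006982))) (.node (.node (.leaf 0x1bba000001) (.leaf 0x2001fed)) (.node (.leaf 0x22e3003730) (.leaf 0x0))))) (.node (.node (.node (.node (.leaf 0x7ba000001) (.leaf 0x47ba000021)) (.node (.leaf 0x26f4000001) (.leaf 0x655d000001))) (.node (.node (.leaf 0x17ba000001) (.leaf 0x57ba004400)) (.node (.leaf 0x24070035f7) (.leaf 0x0)))) (.node (.node (.node (.leaf 0x3000fba) (.leaf 0x43d0004379)) (.node (.leaf 0x2fba0020cc) (.leaf 0x2006ec2))) (.node (.node (.leaf 0x1fa2000003) (.leaf 0x2005e60)) (.node (.leaf 0x2153002f38) (.leaf 0x0)))))))))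

/-- part -/
def slpT_31 : Tr Nat := (.node (.node (.node (.node (.node (.node (.node (.node (.leaf 0x7a000003) (.leaf 0x266b002a5f)) (.node (.leaf 0x2022000001) (.leaf 0x1005ef4))) (.node (.node (.leaf 0x107a000003) (.leaf 0x507a004402)) (.node (.leaf 0x1f7100307a) (.leaf 0x2006fc6)))) (.node (.node (.node (.leaf 0x87a000001) (.leaf 0x487a0042b4)) (.node (.leaf 0x27ca000001) (.leaf 0x6617000001))) (.node (.node (.leaf 0x187a000001) (.leaf 0x4428004fc4)) (.node (.leaf 0x2e300023c4) (.leaf 0x0))))) (.node (.node (.node (.node (.leaf 0x47a000002) (.leaf 0x447a0043e1)) (.node (.leaf 0x236c000001) (.leaf 0x1006276))) (.node (.node (.leaf 0x300147a) (.leaf 0x44fe0043d1)) (.node (.leaf 0x1f7b00312c) (.leaf 0x0)))) (.node (.node (.node (.leaf 0x1000c7a) (.leaf 0x4c7a0042f1)) (.node (.leaf 0x1f71002c7a) (.leaf 0x2006a58))) (.node (.node (.leaf 0x2001c7a) (.leaf 0x200170f)) (.node (.leaf 0x2183002cb0) (.leaf 0x0)))))) (.node (.node (.node (.node (.node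 (.leaf 0x100027a) (.leaf 0x20004276)) (.node (.leaf 0x21b0000001) (.leaf 0x200608e))) (.node (.node (.leaf 0x100127a) (.leaf 0x43e000527a)) (.node (.leaf 0x29eb001f72) (.leaf 0x0)))) (.node (.node (.node (.leaf 0xa7a000001) (.leaf 0x4a7a004439)) (.node (.leaf 0x2a7a001f7b) (.leaf 0x1001f5e))) (.node (.node (.leaf 0x1a7a000003) (.leaf 0x1005a7a)) (.node (.leaf 0x20b6003933) (.leaf 0x0))))) (.node (.node (.node (.node (.leaf 0x67a000001) (.leaf 0x42ac00467a)) (.node (.leaf 0x23df000003) (.leaf 0x2006436))) (.node (.node (.leaf 0x200008b) (.leaf 0x436c0043b4)) (.node (.leaf 0x2e84001f7b) (.leaf 0x0)))) (.node (.node (.node (.leaf 0x1000e7a) (.leaf 0x42fe004e7a)) (.node (.leaf 0x2e7a001f72) (.leaf 0x1006cf4))) (.node (.node (.leaf 0x1e7a000003) (.leaf 0x1005d64)) (.node (.leaf 0x27b9003893) (.leaf 0x0))))))) (.node (.node (.node (.node (.node (.node (.leaf 0x100017a) (.leaf 0x285b0034ac)) (.node (.leaf 0x2089000003) (.leaf 0x1005fc0))) (.node (.node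 (.leaf 0x200117a) (.leaf 0x517a004429)) (.node (.leaf 0x317a001fc0) (.leaf 0x0)))) (.node (.node (.node (.leaf 0x200097a) (.leaf 0x497a00429b)) (.node (.leaf 0x2938000001) (.leaf 0x1006718))) (.node (.node (.leaf 0x197a000002) (.leaf 0x4430004418)) (.node (.leaf 0x33110022ca) (.leaf 0x0))))) (.node (.node (.node (.node (.leaf 0x57a000003) (.leaf 0x200457a)) (.node (.leaf 0x2460000001) (.leaf 0x100635c))) (.node (.node (.leaf 0x100157a) (.leaf 0x442400441c)) (.node (.leaf 0x30650029a0) (.leaf 0x0)))) (.node (.node (.node (.leaf 0x2000d7a) (.leaf 0x43a7004d7a)) (.node (.leaf 0x2c590021ec) (.leaf 0x2006b9a))) (.node (.node (.leaf 0x1d7a000001) (.leaf 0x200249e)) (.node (.leaf 0x2383002b72) (.leaf 0x0)))))) (.node (.node (.node (.node (.node (.leaf 0x37a000001) (.leaf 0x4373004367)) (.node (.leaf 0x2299000003) (.leaf 0x2006170))) (.node (.node (.leaf 0x100137a) (.leaf 0x537a004406)) (.node (.leaf 0x337a001f72) (.leaf 0x0)))) (.node (.node (.node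 (.leaf 0xb7a000001) (.leaf 0x43a9004b7a)) (.node (.leaf 0x2b7a001f72) (.leaf 0x2006936))) (.node (.node (.leaf 0x1b7a000001) (.leaf 0x2005b32)) (.node (.leaf 0x18e0031ef) (.leaf 0x0))))) (.node (.node (.node (.node (.leaf 0x2ff000001) (.leaf 0x429a00477a)) (.node (.leaf 0x10026a5) (.leaf 0x2006520))) (.node (.node (.leaf 0x177a000002) (.leaf 0x43ba00436b)) (.node (.leaf 0x1f7b002e0c) (.leaf 0x0)))) (.node (.node (.node (.leaf 0x1000f7a) (.leaf 0x428e004f7a)) (.node (.leaf 0x2c21002604) (.leaf 0x2006e52))) (.node (.node (.leaf 0x1000145) (.leaf 0x2005e2d)) (.node (.leaf 0x286d002aec) (.leaf 0x0)))))))) (.node (.node (.node (.node (.node (.node (.node (.leaf 0xfa000003) (.leaf 0x186003355)) (.node (.leaf 0x2084000003) (.leaf 0x1005f5e))) (.node (.node (.leaf 0x10fa000002) (.leaf 0x44280050fa)) (.node (.leaf 0x1f710030fb) (.leaf 0x20070ae)))) (.node (.node (.node (.leaf 0x8fa000001) (.leaf 0x43ee004420)) (.node (.leaf 0x286e000001) (.leaf 0x200669e)))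 (.node (.node (.leaf 0x18fa000003) (.leaf 0x58fa00442f)) (.node (.leaf 0x2ae90021c8) (.leaf 0x0))))) (.node (.node (.node (.node (.leaf 0x4fa000003) (.leaf 0x43ba00441a)) (.node (.leaf 0x23e2000003) (.leaf 0x10062e8))) (.node (.node (.leaf 0x20014fa) (.leaf 0x54fa004400)) (.node (.leaf 0x2b66001f7b) (.leaf 0x0)))) (.node (.node (.node (.leaf 0x2000cfa) (.leaf 0x43a1004cfa)) (.node (.leaf 0x28d1002b2c) (.leaf 0x1006af2))) (.node (.node (.leaf 0x1001cfa) (.leaf 0x2005c46)) (.node (.leaf 0x233b002ec3) (.leaf 0x0)))))) (.node (.node (.node (.node (.node (.leaf 0x10002fa) (.leaf 0x42e40010e8)) (.node (.leaf 0x2225000001) (.leaf 0x20060fa))) (.node (.node (.leaf 0x20012fa) (.leaf 0x44210043f3)) (.node (.leaf 0x1f71003255) (.leaf 0x0)))) (.node (.node (.node (.leaf 0xafa000001) (.leaf 0x43660043c9)) (.node (.leaf 0x1f71002afa) (.leaf 0x20068a7))) (.node (.node (.leaf 0x1afa000003) (.leaf 0x5ae4000003)) (.node (.leaf 0x1fb50038bd) (.leaf 0x0))))) (.node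 (.node (.node (.node (.leaf 0x6fa000003) (.leaf 0x43a70046fa)) (.node (.leaf 0x2608000001) (.leaf 0x10064a6))) (.node (.node (.leaf 0x16fa000003) (.leaf 0x3b0056fa)) (.node (.leaf 0x2b1700258c) (.leaf 0x0)))) (.node (.node (.node (.leaf 0x1000efa) (.leaf 0x4efa0043e3)) (.node (.leaf 0x1f71002c08) (.leaf 0x2006dbe))) (.node (.node (.leaf 0x1efa000001) (.leaf 0x2005dca)) (.node (.leaf 0x27e1002be6) (.leaf 0x0))))))) (.node (.node (.node (.node (.node (.node (.leaf 0x1fa000002) (.leaf 0x23d700330a)) (.node (.leaf 0x213e000001) (.leaf 0x200602a))) (.node (.node (.leaf 0x10011fa) (.leaf 0x51fa00439a)) (.node (.leaf 0x31fa001f72) (.leaf 0x0)))) (.node (.node (.node (.leaf 0x10009fa) (.leaf 0x49c8004329)) (.node (.leaf 0x1f7b0029fa) (.leaf 0x10067a3))) (.node (.node (.leaf 0x19fa000003) (.leaf 0x10059fa)) (.node (.leaf 0x2e4400218c) (.leaf 0x0))))) (.node (.node (.node (.node (.leaf 0x5fa000003) (.leaf 0x45fa0042ac)) (.node (.leaf 0x24e6000003) (.leaf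 0x20063c8))) (.node (.node (.leaf 0x20015fa) (.leaf 0x43a90055fa)) (.node (.leaf 0x30cb000c32) (.leaf 0x0)))) (.node (.node (.node (.leaf 0x3000dfa) (.leaf 0x43830044e9)) (.node (.leaf 0x1f710029ce) (.leaf 0x2006c48))) (.node (.node (.leaf 0x1dfa000003) (.leaf 0x20027b4)) (.node (.leaf 0x21ba002bec) (.leaf 0x0)))))) (.node (.node (.node (.node (.node (.leaf 0x10003fa) (.leaf 0x436b0043ee)) (.node (.leaf 0x2304000001) (.leaf 0x10061f2))) (.node (.node (.leaf 0x10013fa) (.leaf 0x53fa00429d)) (.node (.leaf 0x26350033fa) (.leaf 0x0)))) (.node (.node (.node (.leaf 0x1000bfa) (.leaf 0x4328004bfa)) (.node (.leaf 0x1f71002af3) (.leaf 0x10069ca))) (.node (.node (.leaf 0x1bfa000003) (.leaf 0x2002154)) (.node (.leaf 0x294f002b99) (.leaf 0x0))))) (.node (.node (.node (.node (.leaf 0x7fa000003) (.leaf 0x43b6004422)) (.node (.leaf 0x2743000001) (.leaf 0x6599000003))) (.node (.node (.leaf 0x17fa000003) (.leaf 0x441f00441d)) (.node (.leaf 0x2caf00271a) (.leaf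 0x0)))) (.node (.node (.node (.leaf 0xffa000003) (.leaf 0x4ffa000001)) (.node (.leaf 0x2ffa001f72) (.leaf 0x2006f18))) (.node (.node (.leaf 0x1000d8d) (.leaf 0x1005e8d)) (.node (.leaf 0x24a500368d) (.leaf 0x0)))))))))

/-- part -/
def slpT_32 : Tr Nat := (.node (.node (.node (.node (.node (.node (.node (.node (.leaf 0x0) (.leaf 0x24a5002f44)) (.node (.leaf 0x1fd6000001) (.leaf 0x2005e93))) (.node (.node (.leaf 0x1000000001) (.leaf 0x42fc005000)) (.node (.leaf 0x2a44002048) (.leaf 0x1006f1e)))) (.node (.node (.node (.leaf 0x800000001) (.leaf 0x48000042f9)) (.node (.leaf 0x2747000003) (.leaf 0x659f000003))) (.node (.node (.leaf 0x1800000001) (.leaf 0x439d005800)) (.node (.leaf 0x3491001f72) (.leaf 0x0))))) (.node (.node (.node (.node (.leaf 0x2000400) (.leaf 0x428b0043ee)) (.node (.leaf 0x230a000003) (.leaf 0x10003c8))) (.node (.node (.leaf 0x2001400) (.leaf 0x5400004301)) (.node (.leaf 0x26350033b1) (.leaf 0x0)))) (.node (.node (.node (.leaf 0x2000c00)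 (.leaf 0x3b004c00)) (.node (.leaf 0x1f71002a12) (.leaf 0x10069d0))) (.node (.node (.leaf 0x1c00000001) (.leaf 0x20021ac)) (.node (.leaf 0x1f7b002f65) (.leaf 0x0)))))) (.node (.node (.node (.node (.node (.leaf 0x200000001) (.leaf 0x295d0036eb)) (.node (.leaf 0x2142000003) (.leaf 0x10016dd))) (.node (.node (.leaf 0x2001200) (.leaf 0x5200004435)) (.node (.leaf 0x3200001f72) (.leaf 0x0)))) (.node (.node (.node (.leaf 0x1000a00) (.leaf 0x4a00004406)) (.node (.leaf 0x1f71002a00) (.leaf 0x10067a9))) (.node (.node (.leaf 0x1a00000003) (.leaf 0x4438005a00)) (.node (.leaf 0x327e001f7b) (.leaf 0x0))))) (.node (.node (.node (.node (.leaf 0x600000001) (.leaf 0x460000003e)) (.node (.leaf 0x24ec000003) (.leaf 0x20045bf))) (.node (.node (.leaf 0x1000615) (.leaf 0x2005600)) (.node (.leaf 0x3291000c32) (.leaf 0x0)))) (.node (.node (.node (.leaf 0x1000e00) (.leaf 0x71004e00)) (.node (.leaf 0x247d002c84) (.leaf 0x1006c50))) (.node (.node (.leaf 0x1e00000001) (.leaf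 0x2005d04)) (.node (.leaf 0x21ba0034e9) (.leaf 0x0))))))) (.node (.node (.node (.node (.node (.node (.leaf 0x100000001) (.leaf 0x1860034e9)) (.node (.leaf 0x208a000003) (.leaf 0x2005f62))) (.node (.node (.leaf 0x1100000001) (.leaf 0x4312005100)) (.node (.leaf 0x1f71002a45) (.leaf 0x20070ca)))) (.node (.node (.node (.leaf 0x900000002) (.leaf 0x490000439c)) (.node (.leaf 0x2874000001) (.leaf 0x20066a2))) (.node (.node (.leaf 0x1900000001) (.leaf 0x42f0005901)) (.node (.leaf 0x2deb0021c8) (.leaf 0x0))))) (.node (.node (.node (.node (.leaf 0x500000003) (.leaf 0x428a004500)) (.node (.leaf 0x23e6000003) (.leaf 0x10062ec))) (.node (.node (.leaf 0x2001500) (.leaf 0x43bb004422)) (.node (.leaf 0x2a2f001f7b) (.leaf 0x0)))) (.node (.node (.node (.leaf 0x2000d00) (.leaf 0x4328004d00)) (.node (.leaf 0x28d1002c56) (.leaf 0x2006afa))) (.node (.node (.leaf 0x3001d00) (.leaf 0x2005c4e)) (.node (.leaf 0x233b0037d0) (.leaf 0x0)))))) (.node (.node (.node (.node (.node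 (.leaf 0x1000300) (.leaf 0x42e40042c0)) (.node (.leaf 0x2229000001) (.leaf 0x1006100))) (.node (.node (.leaf 0x1001300) (.leaf 0x4302005300)) (.node (.leaf 0x1f710030f3) (.leaf 0x0)))) (.node (.node (.node (.leaf 0xb00000003) (.leaf 0x4b0000439e)) (.node (.leaf 0x1f71002b00) (.leaf 0x10068ab))) (.node (.node (.leaf 0x1b0000006c) (.leaf 0x1655000003)) (.node (.leaf 0x266d002c54) (.leaf 0x0))))) (.node (.node (.node (.node (.leaf 0x700000001) (.leaf 0x43d6004700)) (.node (.leaf 0x2614000001) (.leaf 0x20064ac))) (.node (.node (.leaf 0x1700000001) (.leaf 0x4407005700)) (.node (.leaf 0x370000258c) (.leaf 0x0)))) (.node (.node (.node (.leaf 0x1000f00) (.leaf 0x4f000042b2)) (.node (.leaf 0x21002f00) (.leaf 0x2006dce))) (.node (.node (.leaf 0x1f00000003) (.leaf 0x200234a)) (.node (.leaf 0x27e1002c9e) (.leaf 0x0)))))))) (.node (.node (.node (.node (.node (.node (.node (.leaf 0x80000003) (.leaf 0x266b002c5e)) (.node (.leaf 0x2028000001) (.leaf 0x2005ef6)))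 (.node (.node (.leaf 0x1080000003) (.leaf 0x44f300442b)) (.node (.leaf 0x1f71002bf9) (.leaf 0x2006fd2)))) (.node (.node (.node (.leaf 0x880000003) (.leaf 0x43f5004371)) (.node (.leaf 0x27d0000003) (.leaf 0x6619000003))) (.node (.node (.leaf 0x1880000001) (.leaf 0x71005880)) (.node (.leaf 0x2d890023c4) (.leaf 0x0))))) (.node (.node (.node (.node (.leaf 0x480000001) (.leaf 0x42b3004480)) (.node (.leaf 0x2370000003) (.leaf 0x100627c))) (.node (.node (.leaf 0x1001480) (.leaf 0x548000430f)) (.node (.leaf 0x2b0003480) (.leaf 0x0)))) (.node (.node (.node (.leaf 0x3000c80) (.leaf 0x43ce004c81)) (.node (.leaf 0x1f71002b5b) (.leaf 0x1006a60))) (.node (.node (.leaf 0x2000ffa) (.leaf 0x1005be4)) (.node (.leaf 0x27c90030f5) (.leaf 0x0)))))) (.node (.node (.node (.node (.node (.leaf 0x3000280) (.leaf 0x2004280)) (.node (.leaf 0x20021b3) (.leaf 0x1006094))) (.node (.node (.leaf 0x2001280) (.leaf 0x52800043a2)) (.node (.leaf 0x3280001f7b) (.leaf 0x0)))) (.node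 (.node (.node (.leaf 0xa80000001) (.leaf 0x4a800043a2)) (.node (.leaf 0x2a80001f7b) (.leaf 0x1006828))) (.node (.node (.leaf 0x1a80000001) (.leaf 0x3005a80)) (.node (.leaf 0x2106002a50) (.leaf 0x0))))) (.node (.node (.node (.node (.leaf 0x680000001) (.leaf 0x429a004680)) (.node (.leaf 0x257a000003) (.leaf 0x1006440))) (.node (.node (.leaf 0x1680000001) (.leaf 0x4312005680)) (.node (.leaf 0x34d800004e) (.leaf 0x0)))) (.node (.node (.node (.leaf 0x3000e80) (.leaf 0x42ac004e80)) (.node (.leaf 0x2a74001f7b) (.leaf 0x1006cfa))) (.node (.node (.leaf 0x1e80000001) (.leaf 0x1005d66)) (.node (.leaf 0x20e3002a89) (.leaf 0x0))))))) (.node (.node (.node (.node (.node (.node (.leaf 0x2000180) (.leaf 0x285b002b16)) (.node (.leaf 0x20f6000003) (.leaf 0x1005fc4))) (.node (.node (.leaf 0x1001180) (.leaf 0x51800042cd)) (.node (.leaf 0x306d001f7b) (.leaf 0x0)))) (.node (.node (.node (.leaf 0x2000980) (.leaf 0x498000439e)) (.node (.leaf 0x2946000003) (.leaf 0x1006720)))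 (.node (.node (.leaf 0x1980000001) (.leaf 0x4405005980)) (.node (.leaf 0x30890022ca) (.leaf 0x0))))) (.node (.node (.node (.node (.leaf 0x580000001) (.leaf 0x434c004580)) (.node (.leaf 0x20bb000003) (.leaf 0x2006360))) (.node (.node (.leaf 0x3001580) (.leaf 0x42fe005580)) (.node (.leaf 0x334e001f72) (.leaf 0x0)))) (.node (.node (.node (.leaf 0x2000219) (.leaf 0x439b004d80)) (.node (.leaf 0x2d800021ec) (.leaf 0x2006ba2))) (.node (.node (.leaf 0x1d80000001) (.leaf 0x1005cb2)) (.node (.leaf 0x2819003633) (.leaf 0x0)))))) (.node (.node (.node (.node (.node (.leaf 0x380000003) (.leaf 0x437e004325)) (.node (.leaf 0x22a2000003) (.leaf 0x2006176))) (.node (.node (.leaf 0x2001380) (.leaf 0x53800042ed)) (.node (.leaf 0x3380001f72) (.leaf 0x0)))) (.node (.node (.node (.leaf 0xb80000003) (.leaf 0x4438004b80)) (.node (.leaf 0x2b80001f72) (.leaf 0x1006944))) (.node (.node (.leaf 0x1b80000002) (.leaf 0x200221f)) (.node (.leaf 0x18e002a22) (.leaf 0x0))))) (.node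 (.node (.node (.node (.leaf 0x780000003) (.leaf 0x4300004780)) (.node (.leaf 0x10026af) (.leaf 0x100652a))) (.node (.node (.leaf 0x1780000001) (.leaf 0x57800042fb)) (.node (.leaf 0x1f71003080) (.leaf 0x0)))) (.node (.node (.node (.leaf 0x1000f80) (.leaf 0x4352004f80)) (.node (.leaf 0x2f80001f7b) (.leaf 0x1006e5c))) (.node (.node (.leaf 0x1f80000001) (.leaf 0x1005e33)) (.node (.leaf 0x286d00365d) (.leaf 0x0)))))))))

/-- part -/
def slpT_33 : Tr Nat := (.node (.node (.node (.node (.node (.node (.node (.node (.leaf 0x40000001) (.leaf 0x266b00381f)) (.node (.leaf 0x1ffb000003) (.leaf 0x2002728))) (.node (.node (.leaf 0x1040000001) (.leaf 0x2005040)) (.node (.leaf 0x2be7001f7b) (.leaf 0x2006f80)))) (.node (.node (.node (.leaf 0x840000001) (.leaf 0x43bc0045a4)) (.node (.leaf 0x2786000003) (.leaf 0x1001b1f))) (.node (.node (.leaf 0x1840000003) (.leaf 0x4358005840)) (.node (.leaf 0x1f7100330e) (.leaf 0x0))))) (.node (.node (.node (.node (.leaf 0x440000003)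 (.leaf 0x4440004329)) (.node (.leaf 0x2344000003) (.leaf 0x100623a))) (.node (.node (.leaf 0x2001440) (.leaf 0x54400043ac)) (.node (.leaf 0x1f7b00313d) (.leaf 0x0)))) (.node (.node (.node (.leaf 0x2000c40) (.leaf 0x43d8004c40)) (.node (.leaf 0x1f71002c40) (.leaf 0x1006a12))) (.node (.node (.leaf 0x1001552) (.leaf 0x2005bbe)) (.node (.leaf 0xfd90038e1) (.leaf 0x0)))))) (.node (.node (.node (.node (.node (.leaf 0x1000240) (.leaf 0x25e70029b5)) (.node (.leaf 0x2174000003) (.leaf 0x2006066))) (.node (.node (.leaf 0x2001240) (.leaf 0x5240004388)) (.node (.leaf 0x3240001f72) (.leaf 0x0)))) (.node (.node (.node (.leaf 0xa40000003) (.leaf 0x4a400043e1)) (.node (.leaf 0x2a40001f72) (.leaf 0x10067e5))) (.node (.node (.leaf 0x1a40000001) (.leaf 0x43c000445f)) (.node (.leaf 0x2189003243) (.leaf 0x0))))) (.node (.node (.node (.node (.leaf 0x640000001) (.leaf 0x4397004640)) (.node (.leaf 0x2532000003) (.leaf 0x2006408))) (.node (.node (.leaf 0x2001640) (.leaf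 0x43f70044a5)) (.node (.leaf 0x30e4001f72) (.leaf 0x0)))) (.node (.node (.node (.leaf 0x2000e40) (.leaf 0x42ac004e40)) (.node (.leaf 0x2b86001f7b) (.leaf 0x2006ca0))) (.node (.node (.leaf 0x1001e40) (.leaf 0x5d33000001)) (.node (.leaf 0x1cf003031) (.leaf 0x0))))))) (.node (.node (.node (.node (.node (.node (.leaf 0x140000003) (.leaf 0x23b1002b34)) (.node (.leaf 0x20ca000001) (.leaf 0x2005f8c))) (.node (.node (.leaf 0x1001140) (.leaf 0x47fb004431)) (.node (.leaf 0x2c4b001f7b) (.leaf 0x0)))) (.node (.node (.node (.leaf 0x940000001) (.leaf 0x4940004353)) (.node (.leaf 0x28da000003) (.leaf 0x10066dc))) (.node (.node (.leaf 0x1940000002) (.leaf 0x42ee0045c1)) (.node (.leaf 0x3802001f7b) (.leaf 0x0))))) (.node (.node (.node (.node (.leaf 0x540000001) (.leaf 0x454000428b)) (.node (.leaf 0x2426000001) (.leaf 0x1006324))) (.node (.node (.leaf 0x1001540) (.leaf 0x554000434d)) (.node (.leaf 0x3540001f72) (.leaf 0x0)))) (.node (.node (.node (.leaf 0x2000d40)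 (.leaf 0x435200442b)) (.node (.leaf 0x18b002d40) (.leaf 0x2006b3c))) (.node (.node (.leaf 0x2001d40) (.leaf 0x20055b3)) (.node (.leaf 0x24e1002da0) (.leaf 0x0)))))) (.node (.node (.node (.node (.node (.leaf 0x340000002) (.leaf 0x4324004336)) (.node (.leaf 0x2218000003) (.leaf 0x200613a))) (.node (.node (.leaf 0x1001340) (.leaf 0x5340004275)) (.node (.leaf 0x31de001f72) (.leaf 0x0)))) (.node (.node (.node (.leaf 0xb40000001) (.leaf 0x43c00043f3)) (.node (.leaf 0x2b40001f72) (.leaf 0x20068ea))) (.node (.node (.leaf 0x1b40000001) (.leaf 0x1005b13)) (.node (.leaf 0x22b7002adc) (.leaf 0x0))))) (.node (.node (.node (.node (.leaf 0x740000001) (.leaf 0x71004740)) (.node (.leaf 0x200265f) (.leaf 0x2005113))) (.node (.node (.leaf 0x1740000003) (.leaf 0x5740004359)) (.node (.leaf 0x2139002aec) (.leaf 0x0)))) (.node (.node (.node (.leaf 0x1000f40) (.leaf 0x4f4000429b)) (.node (.leaf 0x1f71002a9f) (.leaf 0x1006e1a))) (.node (.node (.leaf 0x1f40000003) (.leaf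 0x2005e04)) (.node (.leaf 0xfda0035c5) (.leaf 0x0)))))))) (.node (.node (.node (.node (.node (.node (.node (.leaf 0xc0000003) (.leaf 0x27c10039b9)) (.node (.leaf 0x2054000001) (.leaf 0x1005f30))) (.node (.node (.leaf 0x10c0000001) (.leaf 0x50c0004400)) (.node (.leaf 0x1f7b002c68) (.leaf 0x200702c)))) (.node (.node (.node (.leaf 0x8c0000003) (.leaf 0x48c0004301)) (.node (.leaf 0x2818000001) (.leaf 0x665b000003))) (.node (.node (.leaf 0x18c0000001) (.leaf 0x58c0000023)) (.node (.leaf 0x37310022c6) (.leaf 0x0))))) (.node (.node (.node (.node (.leaf 0x4c0000003) (.leaf 0x710044c0)) (.node (.leaf 0x23ac000003) (.leaf 0x20062ac))) (.node (.node (.leaf 0x10014c0) (.leaf 0x54c000442b)) (.node (.leaf 0x34c0002566) (.leaf 0x0)))) (.node (.node (.node (.leaf 0x2000cc0) (.leaf 0x4352004cc0)) (.node (.leaf 0x29ab0029e5) (.leaf 0x2006aaa))) (.node (.node (.leaf 0x1001cc0) (.leaf 0x1005c1a)) (.node (.leaf 0x244b00313d) (.leaf 0x0)))))) (.node (.node (.node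 (.node (.node (.leaf 0x10002c0) (.leaf 0x42ac0010e8)) (.node (.leaf 0x21ea000003) (.leaf 0x20060ca))) (.node (.node (.leaf 0x10012c0) (.leaf 0x44320052c0)) (.node (.leaf 0x1f7b00311a) (.leaf 0x0)))) (.node (.node (.node (.leaf 0xac0000001) (.leaf 0x4ac00043e3)) (.node (.leaf 0x2ac0001f72) (.leaf 0x200686d))) (.node (.node (.leaf 0x1ac0000003) (.leaf 0x1005ac0)) (.node (.leaf 0x23ef002a0c) (.leaf 0x0))))) (.node (.node (.node (.node (.leaf 0x6c0000001) (.leaf 0x42fc0046c0)) (.node (.leaf 0x25c4000003) (.leaf 0x2006476))) (.node (.node (.leaf 0x16c0000003) (.leaf 0x42f00056c0)) (.node (.leaf 0x2fd60024b2) (.leaf 0x0)))) (.node (.node (.node (.leaf 0x2000ec0) (.leaf 0x4ec00042cd)) (.node (.leaf 0x2ec000219a) (.leaf 0x1006d52))) (.node (.node (.leaf 0x1ec0000003) (.leaf 0x5da3000003)) (.node (.leaf 0x2455002b06) (.leaf 0x0))))))) (.node (.node (.node (.node (.node (.node (.leaf 0x20001c0) (.leaf 0x200500343a)) (.node (.leaf 0x2063000003) (.leaf 0x1001d3f)))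 (.node (.node (.leaf 0x10011c0) (.leaf 0x43240043b9)) (.node (.leaf 0x2bbf001f7b) (.leaf 0x0)))) (.node (.node (.node (.leaf 0x20009c0) (.leaf 0x43520049c0)) (.node (.leaf 0x29c0001f72) (.leaf 0x2006762))) (.node (.node (.leaf 0x19c0000003) (.leaf 0x10059c0)) (.node (.leaf 0x380a00213c) (.leaf 0x0))))) (.node (.node (.node (.node (.leaf 0x5c0000003) (.leaf 0x43870045c0)) (.node (.leaf 0x24a4000003) (.leaf 0x2006394))) (.node (.node (.leaf 0x20015c0) (.leaf 0x43580055c0)) (.node (.leaf 0x3204000024) (.leaf 0x0)))) (.node (.node (.node (.leaf 0x3000dc0) (.leaf 0x4300004dc0)) (.node (.leaf 0x1f7b002dc0) (.leaf 0x2006bf2))) (.node (.node (.leaf 0x1dc0000001) (.leaf 0x2005cde)) (.node (.leaf 0x28f50031b1) (.leaf 0x0)))))) (.node (.node (.node (.node (.node (.leaf 0x3c0000003) (.leaf 0x43b30043bc)) (.node (.leaf 0x22d4000003) (.leaf 0x10061be))) (.node (.node (.leaf 0x30013c0) (.leaf 0x51d500442b)) (.node (.leaf 0x31ce001f72) (.leaf 0x0)))) (.node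 (.node (.node (.leaf 0xbc0000003) (.leaf 0x43ce004ac3)) (.node (.leaf 0x1f7b002bc0) (.leaf 0x1005126))) (.node (.node (.leaf 0x1bc0000003) (.leaf 0x2005b68)) (.node (.leaf 0x22e30036ff) (.leaf 0x0))))) (.node (.node (.node (.node (.leaf 0x7c0000002) (.leaf 0x47c000442f)) (.node (.leaf 0x26fa000001) (.leaf 0x6563000001))) (.node (.node (.leaf 0x17c0000003) (.leaf 0x57c000003c)) (.node (.leaf 0x2407002c5e) (.leaf 0x0)))) (.node (.node (.node (.leaf 0x1000fc0) (.leaf 0x4316004fc0)) (.node (.leaf 0x2e360020cc) (.leaf 0x2006ed0))) (.node (.node (.leaf 0x1fa6000003) (.leaf 0x1005e65)) (.node (.leaf 0x2153003885) (.leaf 0x0)))))))))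

/-- part -/
def slpT_34 : Tr Nat := (.node (.node (.node (.node (.node (.node (.node (.node (.leaf 0x2000020) (.leaf 0x266b002e5d)) (.node (.leaf 0x1fe9000003) (.leaf 0x1005eab))) (.node (.node (.leaf 0x1020000002) (.leaf 0x42e8005020)) (.node (.leaf 0x2d37001f72) (.leaf 0x2006f3e)))) (.node (.node (.node (.leaf 0x820000003) (.leaf 0x48200042f1)) (.node (.leaf 0x2769000003) (.leaf 0x20065bc))) (.node (.node (.leaf 0x1820000001) (.leaf 0x5005820)) (.node (.leaf 0x3036001f72) (.leaf 0x0))))) (.node (.node (.node (.node (.leaf 0x420000003) (.leaf 0x432700441b)) (.node (.leaf 0x232a000001) (.leaf 0x2006210))) (.node (.node (.leaf 0x1001420) (.leaf 0x5420000001)) (.node (.leaf 0x1f7100306e) (.leaf 0x0)))) (.node (.node (.node (.leaf 0x1000c20) (.leaf 0x4424004366)) (.node (.leaf 0x1f71002c20) (.leaf 0x20069f0))) (.node (.node (.leaf 0xf3c000001) (.leaf 0x200219c)) (.node (.leaf 0x20a9002e6f) (.leaf 0x0)))))) (.node (.node (.node (.node (.node (.leaf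 0x220000003) (.leaf 0x297d002e43)) (.node (.leaf 0x2002157) (.leaf 0x2006046))) (.node (.node (.leaf 0x2001220) (.leaf 0x5220004435)) (.node (.leaf 0x3022001f7b) (.leaf 0x0)))) (.node (.node (.node (.leaf 0xa20000003) (.leaf 0x4a200043a2)) (.node (.leaf 0x1f71002a20) (.leaf 0x10067c9))) (.node (.node (.leaf 0x1143001a1e) (.leaf 0x3b005a20)) (.node (.leaf 0x2b3500004f) (.leaf 0x0))))) (.node (.node (.node (.node (.leaf 0x620000001) (.leaf 0x44fc004373)) (.node (.leaf 0x250e000001) (.leaf 0x10063ec))) (.node (.node (.leaf 0x1001620) (.leaf 0x428e005620)) (.node (.leaf 0x2f6c001f72) (.leaf 0x0)))) (.node (.node (.node (.leaf 0x1000e20) (.leaf 0x4e20000021)) (.node (.leaf 0x24f1002e20) (.leaf 0x1006c7c))) (.node (.node (.leaf 0x1e20000001) (.leaf 0x5d1f000001)) (.node (.leaf 0x222100314b) (.leaf 0x0))))))) (.node (.node (.node (.node (.node (.node (.leaf 0x120000003) (.leaf 0x21e7003947)) (.node (.leaf 0xd90000003) (.leaf 0x2005f7a))) (.node (.node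 (.leaf 0x1001120) (.leaf 0x5120004386)) (.node (.leaf 0x1f71003120) (.leaf 0x2007120)))) (.node (.node (.node (.leaf 0x920000001) (.leaf 0x28f8000002)) (.node (.leaf 0x28a4000003) (.leaf 0x10066c0))) (.node (.node (.leaf 0xf73000001) (.leaf 0x43d6005920)) (.node (.leaf 0x2a1f00013d) (.leaf 0x0))))) (.node (.node (.node (.node (.leaf 0x520000003) (.leaf 0x4520000021)) (.node (.leaf 0x240a000001) (.leaf 0x2006308))) (.node (.node (.leaf 0x1001520) (.leaf 0x5520004317)) (.node (.leaf 0x32d70021ff) (.leaf 0x0)))) (.node (.node (.node (.leaf 0x1000d20) (.leaf 0x43ec0044fc)) (.node (.leaf 0x1f71002d20) (.leaf 0x2006b1a))) (.node (.node (.leaf 0x2001d20) (.leaf 0x2005c68)) (.node (.leaf 0x2551002fa3) (.leaf 0x0)))))) (.node (.node (.node (.node (.node (.leaf 0x3000320) (.leaf 0x428a004320)) (.node (.leaf 0x224c000003) (.leaf 0x1006122))) (.node (.node (.leaf 0x3001320) (.leaf 0x53200043a2)) (.node (.leaf 0x212f003320) (.leaf 0x0)))) (.node (.node (.node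 (.leaf 0xb20000001) (.leaf 0x4b2000439c)) (.node (.leaf 0x1f7b002b20) (.leaf 0x1006852))) (.node (.node (.leaf 0xeff001b20) (.leaf 0x5adf000001)) (.node (.leaf 0x276a00394d) (.leaf 0x0))))) (.node (.node (.node (.node (.leaf 0x720000001) (.leaf 0x43d2004720)) (.node (.leaf 0x263c000003) (.leaf 0x20064ce))) (.node (.node (.leaf 0xb34000003) (.leaf 0x4432005720)) (.node (.leaf 0x33cd002600) (.leaf 0x0)))) (.node (.node (.node (.leaf 0x1000f20) (.leaf 0x4f20000003)) (.node (.leaf 0x1f71002f20) (.leaf 0x1006dee))) (.node (.node (.leaf 0x1f20000003) (.leaf 0x2005dea)) (.node (.leaf 0x27e1003167) (.leaf 0x0)))))))) (.node (.node (.node (.node (.node (.node (.node (.leaf 0x10000a0) (.leaf 0x21b300312c)) (.node (.leaf 0x2040000003) (.leaf 0x2005f1c))) (.node (.node (.leaf 0x10a0000002) (.leaf 0x50a0004313)) (.node (.leaf 0x1f710030a0) (.leaf 0x2007006)))) (.node (.node (.node (.leaf 0x8a0000003) (.leaf 0x48a0004386)) (.node (.leaf 0x27f6000001) (.leaf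 0x3cd000001))) (.node (.node (.leaf 0x18a0000001) (.leaf 0x43870049c8)) (.node (.leaf 0x2f8c0027ce) (.leaf 0x0))))) (.node (.node (.node (.node (.leaf 0x4a0000001) (.leaf 0x44a0000023)) (.node (.leaf 0x21c3000003) (.leaf 0x2006296))) (.node (.node (.leaf 0x20014a0) (.leaf 0x54a00042ed)) (.node (.leaf 0x2915002a59) (.leaf 0x0)))) (.node (.node (.node (.leaf 0x2000ca0) (.leaf 0x4389004ca0)) (.node (.leaf 0x1f71002ca0) (.leaf 0x2006a88))) (.node (.node (.leaf 0x2001ca0) (.leaf 0x1005bfe)) (.node (.leaf 0x2463003754) (.leaf 0x0)))))) (.node (.node (.node (.node (.node (.leaf 0x20002a0) (.leaf 0x100429c)) (.node (.leaf 0x10021d3) (.leaf 0x20060b0))) (.node (.node (.leaf 0x20012a0) (.leaf 0x52a00042f9)) (.node (.leaf 0x1f7b0032a0) (.leaf 0x0)))) (.node (.node (.node (.leaf 0xaa0000002) (.leaf 0x44fd0043f8)) (.node (.leaf 0x29f7001f7b) (.leaf 0x200684a))) (.node (.node (.leaf 0x1aa0000001) (.leaf 0x43d8005aa0)) (.node (.leaf 0x249b003249) (.leaf 0x0)))))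 (.node (.node (.node (.node (.leaf 0x53e000001) (.leaf 0x43fd0046a0)) (.node (.leaf 0x259c000001) (.leaf 0x100645a))) (.node (.node (.leaf 0x2be000003) (.leaf 0x200056a0)) (.node (.leaf 0x2b0d0024b2) (.leaf 0x0)))) (.node (.node (.node (.leaf 0x1000ea0) (.leaf 0x43d2004ea0)) (.node (.leaf 0x2ea0001f7b) (.leaf 0x1006d1c))) (.node (.node (.leaf 0x1ea0000003) (.leaf 0x5d81000003)) (.node (.leaf 0x208a00375c) (.leaf 0x0))))))) (.node (.node (.node (.node (.node (.node (.leaf 0x10001a0) (.leaf 0x1fa9002d30)) (.node (.leaf 0x2108000001) (.leaf 0x1005fe2))) (.node (.node (.leaf 0x10011a0) (.leaf 0x51a0004388)) (.node (.leaf 0x2d8b00265e) (.leaf 0x0)))) (.node (.node (.node (.leaf 0x20009a0) (.leaf 0x445f004425)) (.node (.leaf 0x2980000003) (.leaf 0x1006746))) (.node (.node (.leaf 0x19a0000001) (.leaf 0x10059a0)) (.node (.leaf 0x2a7e002628) (.leaf 0x0))))) (.node (.node (.node (.node (.leaf 0x5a0000001) (.leaf 0x730045a0)) (.node (.leaf 0x248a000001)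 (.leaf 0x100637c))) (.node (.node (.leaf 0x10015a0) (.leaf 0x220055a0)) (.node (.leaf 0x33d30026da) (.leaf 0x0)))) (.node (.node (.node (.leaf 0x1000da0) (.leaf 0x43d00044e8)) (.node (.leaf 0x1f71002da0) (.leaf 0x2006bc2))) (.node (.node (.leaf 0x1da0000002) (.leaf 0x1005cc8)) (.node (.leaf 0x2748003611) (.leaf 0x0)))))) (.node (.node (.node (.node (.node (.leaf 0x3a0000068) (.leaf 0x439a004367)) (.node (.leaf 0x22ba000001) (.leaf 0x2006192))) (.node (.node (.leaf 0x10013a0) (.leaf 0x43d80053a0)) (.node (.leaf 0x2a68001f8e) (.leaf 0x0)))) (.node (.node (.node (.leaf 0xba0000003) (.leaf 0x4432004ba0)) (.node (.leaf 0x2ba0001f72) (.leaf 0x2006966))) (.node (.node (.leaf 0x1ba0000003) (.leaf 0x1005b51)) (.node (.leaf 0x22e3002fe1) (.leaf 0x0))))) (.node (.node (.node (.node (.leaf 0x7a0000002) (.leaf 0x47a000429d)) (.node (.leaf 0x26d6000003) (.leaf 0x654b000003))) (.node (.node (.leaf 0x17a0000003) (.leaf 0x56270043fe)) (.node (.leaf 0x53003067)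 (.leaf 0x0)))) (.node (.node (.node (.leaf 0x3000fa0) (.leaf 0x43890048bc)) (.node (.leaf 0x2fa0001f72) (.leaf 0x1006e94))) (.node (.node (.leaf 0x1f94000003) (.leaf 0x1005e4d)) (.node (.leaf 0x21530035c5) (.leaf 0x0)))))))))

/-- part -/
def slpT_35 : Tr Nat := (.node (.node (.node (.node (.node (.node (.node (.node (.leaf 0x60000039) (.leaf 0x266b002fb8)) (.node (.leaf 0x11be000001) (.leaf 0x1005ed8))) (.node (.node (.leaf 0x1060000003) (.leaf 0x50600042f1)) (.node (.leaf 0x1f71002f40) (.leaf 0x1006fa6)))) (.node (.node (.node (.leaf 0x860000001) (.leaf 0x4405004860)) (.node (.leaf 0x27ae000001) (.leaf 0x65fb000003))) (.node (.node (.leaf 0x1860000003) (.leaf 0x4405005860)) (.node (.leaf 0x2d1b00252c) (.leaf 0x0))))) (.node (.node (.node (.node (.leaf 0x460000002) (.leaf 0x44600043bd)) (.node (.leaf 0x1db000003) (.leaf 0x200625e))) (.node (.node (.leaf 0x1001460) (.leaf 0x54600043e1)) (.node (.leaf 0x1f71003460) (.leaf 0x0)))) (.node (.node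 (.node (.leaf 0x3000c60) (.leaf 0x4c600042e7)) (.node (.leaf 0x1f71002c60) (.leaf 0x1006a2e))) (.node (.node (.leaf 0x1001c60) (.leaf 0x2005bd0)) (.node (.leaf 0x212100308c) (.leaf 0x0)))))) (.node (.node (.node (.node (.node (.leaf 0x1000260) (.leaf 0x27fb003031)) (.node (.leaf 0x2190000003) (.leaf 0x20025e8))) (.node (.node (.leaf 0x2001260) (.leaf 0x4405005260)) (.node (.leaf 0x3260001f72) (.leaf 0x0)))) (.node (.node (.node (.leaf 0xa60000001) (.leaf 0x4a600043d9)) (.node (.leaf 0x2a60001f72) (.leaf 0x100680b))) (.node (.node (.leaf 0x1a60000002) (.leaf 0x43a7005a60)) (.node (.leaf 0x96e003239) (.leaf 0x0))))) (.node (.node (.node (.node (.leaf 0x660000003) (.leaf 0x442a0044b0)) (.node (.leaf 0x255e000001) (.leaf 0x1006205))) (.node (.node (.leaf 0x2001660) (.leaf 0x56600042fd)) (.node (.leaf 0x2d6e00004e) (.leaf 0x0)))) (.node (.node (.node (.leaf 0x1000e60) (.leaf 0x3d004e60)) (.node (.leaf 0x2e60001f7b) (.leaf 0x2006cc8))) (.node (.node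 (.leaf 0x1e60000001) (.leaf 0x2005ab6)) (.node (.leaf 0x27b90039ed) (.leaf 0x0))))))) (.node (.node (.node (.node (.node (.node (.leaf 0x2000160) (.leaf 0x23b1002e30)) (.node (.leaf 0x20e0000003) (.leaf 0x2002656))) (.node (.node (.leaf 0x2001160) (.leaf 0x474c0042ae)) (.node (.leaf 0x2b13001f72) (.leaf 0x0)))) (.node (.node (.node (.leaf 0x960000003) (.leaf 0x4960004386)) (.node (.leaf 0x291c000003) (.leaf 0x20066fe))) (.node (.node (.leaf 0x1960000002) (.leaf 0x4383004745)) (.node (.leaf 0x3960001f7b) (.leaf 0x0))))) (.node (.node (.node (.node (.leaf 0x560000001) (.leaf 0x43c000441a)) (.node (.leaf 0x2440000003) (.leaf 0x2006342))) (.node (.node (.leaf 0x2001560) (.leaf 0x55600042cd)) (.node (.leaf 0x3560001f72) (.leaf 0x0)))) (.node (.node (.node (.leaf 0x1000d60) (.leaf 0x5004d60)) (.node (.leaf 0x2b640028d2) (.leaf 0x2006b6c))) (.node (.node (.leaf 0x1333000003) (.leaf 0x20046d5)) (.node (.leaf 0xf760033da) (.leaf 0x0)))))) (.node (.node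 (.node (.node (.node (.leaf 0x360000003) (.leaf 0x434d004320)) (.node (.leaf 0x2289000003) (.leaf 0x200615a))) (.node (.node (.leaf 0x2001360) (.leaf 0x53600043a0)) (.node (.leaf 0x3344002080) (.leaf 0x0)))) (.node (.node (.node (.leaf 0xb60000003) (.leaf 0x43d6004b60)) (.node (.leaf 0x2b60001f7b) (.leaf 0x2006916))) (.node (.node (.leaf 0x1b60000002) (.leaf 0x1005b23)) (.node (.leaf 0x2823002a39) (.leaf 0x0))))) (.node (.node (.node (.node (.leaf 0x760000001) (.leaf 0x453d0043f8)) (.node (.leaf 0x2680000003) (.leaf 0x2006508))) (.node (.node (.leaf 0x1760000001) (.leaf 0x73005760)) (.node (.leaf 0x1fb7002e34) (.leaf 0x0)))) (.node (.node (.node (.leaf 0x1000f60) (.leaf 0x43a7004f60)) (.node (.leaf 0x2f60001f72) (.leaf 0x1006e3c))) (.node (.node (.leaf 0x2000d92) (.leaf 0x1005e1c)) (.node (.leaf 0xfda003809) (.leaf 0x0)))))))) (.node (.node (.node (.node (.node (.node (.node (.leaf 0xe0000003) (.leaf 0x186002c90)) (.node (.leaf 0x87e000003) (.leaf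 0x1005f48))) (.node (.node (.leaf 0x10e0000001) (.leaf 0x43c7004400)) (.node (.leaf 0x30a8001f72) (.leaf 0x200706a)))) (.node (.node (.node (.leaf 0x8e0000001) (.leaf 0x48e0004429)) (.node (.leaf 0x283e000001) (.leaf 0x2006682))) (.node (.node (.leaf 0x18e0000003) (.leaf 0x58e00042ed)) (.node (.leaf 0x34d4001f72) (.leaf 0x0))))) (.node (.node (.node (.node (.leaf 0x4e0000003) (.leaf 0x42f00044e0)) (.node (.leaf 0x23ca000003) (.leaf 0x10062ca))) (.node (.node (.leaf 0x20014e0) (.leaf 0x43d20054e1)) (.node (.leaf 0x2af1001f72) (.leaf 0x0)))) (.node (.node (.node (.leaf 0x1000ce0) (.leaf 0x428e004ce0)) (.node (.leaf 0xfcd0029e8) (.leaf 0x1006ad0))) (.node (.node (.leaf 0x3001ce0) (.leaf 0x1005c34)) (.node (.leaf 0x233b002ad9) (.leaf 0x0)))))) (.node (.node (.node (.node (.node (.leaf 0x20002e0) (.leaf 0x1f830042e0)) (.node (.leaf 0x2208000003) (.leaf 0x20060e6))) (.node (.node (.leaf 0x20012e0) (.leaf 0x43870046eb)) (.node (.leaf 0x27fd0031b7) (.leaf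 0x0)))) (.node (.node (.node (.leaf 0xae0000001) (.leaf 0x4ae000428d)) (.node (.leaf 0x1f7b002ac5) (.leaf 0x100688f))) (.node (.node (.leaf 0x1ae0000003) (.leaf 0x1fcb000003)) (.node (.leaf 0x266900335b) (.leaf 0x0))))) (.node (.node (.node (.node (.leaf 0x6e0000001) (.leaf 0x43d00046e0)) (.node (.leaf 0x25e2000001) (.leaf 0x1006492))) (.node (.node (.leaf 0x16e0000001) (.leaf 0x42a40056e0)) (.node (.leaf 0x2b460005e8) (.leaf 0x0)))) (.node (.node (.node (.leaf 0x2000ee0) (.leaf 0x4ee000429b)) (.node (.leaf 0x1f71002ee0) (.leaf 0x2006d94))) (.node (.node (.leaf 0x1ee0000003) (.leaf 0x1005db6)) (.node (.leaf 0x27af002dde) (.leaf 0x0))))))) (.node (.node (.node (.node (.node (.node (.leaf 0x1e0000002) (.leaf 0x229c0030f9)) (.node (.leaf 0x212e000003) (.leaf 0x2001f6f))) (.node (.node (.leaf 0x20011e0) (.leaf 0x439b0051e0)) (.node (.leaf 0x2ca1001f7b) (.leaf 0x0)))) (.node (.node (.node (.leaf 0x10009e0) (.leaf 0x49e00043aa)) (.node (.leaf 0x29e0001f72)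 (.leaf 0x2006789))) (.node (.node (.leaf 0x19e0000001) (.leaf 0x50059e0)) (.node (.leaf 0x2bed00200a) (.leaf 0x0))))) (.node (.node (.node (.node (.leaf 0x5e0000003) (.leaf 0x45e00042f9)) (.node (.leaf 0x24c8000003) (.leaf 0x10063b0))) (.node (.node (.leaf 0x10015e0) (.leaf 0x42fe0055e0)) (.node (.leaf 0x35e0001f72) (.leaf 0x0)))) (.node (.node (.node (.leaf 0x1000de0) (.leaf 0x43ec0043b7)) (.node (.leaf 0x22f7002a3a) (.leaf 0x2006c1a))) (.node (.node (.leaf 0x1de0000003) (.leaf 0x1005cee)) (.node (.leaf 0x21ba002b49) (.leaf 0x0)))))) (.node (.node (.node (.node (.node (.leaf 0x10003e0) (.leaf 0x43b3000073)) (.node (.leaf 0x22f2000001) (.leaf 0x10061d8))) (.node (.node (.leaf 0x20013e0) (.leaf 0x53e0000072)) (.node (.leaf 0x2635002baa) (.leaf 0x0)))) (.node (.node (.node (.leaf 0x2000557) (.leaf 0x3d004be0)) (.node (.leaf 0x1f71002be0) (.leaf 0x20069aa))) (.node (.node (.leaf 0x1be0000001) (.leaf 0x2001d38)) (.node (.leaf 0x27a9003599) (.leaf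 0x0))))) (.node (.node (.node (.node (.leaf 0x7e0000003) (.leaf 0x47e00043d7)) (.node (.leaf 0x2720000001) (.leaf 0x657f000003))) (.node (.node (.leaf 0x17e0000003) (.leaf 0x57e000428d)) (.node (.leaf 0x30c7001f72) (.leaf 0x0)))) (.node (.node (.node (.leaf 0xfe0000001) (.leaf 0x436800441c)) (.node (.leaf 0x2fe0001f72) (.leaf 0x2006efa))) (.node (.node (.leaf 0xf6f000001) (.leaf 0x2005e78)) (.node (.leaf 0x1ca00324d) (.leaf 0x0)))))))))

/-- part -/
def slpT_36 : Tr Nat := (.node (.node (.node (.node (.node (.node (.node (.node (.leaf 0x2000010) (.leaf 0xbc00335d)) (.node (.leaf 0x193000003) (.leaf 0x2005e9e))) (.node (.node (.leaf 0x1010000001) (.leaf 0x42e4005010)) (.node (.leaf 0x29e3002450) (.leaf 0x1006f30)))) (.node (.node (.node (.leaf 0x810000002) (.leaf 0x48100043a2)) (.node (.leaf 0x2758000001) (.leaf 0x10065b0))) (.node (.node (.leaf 0x1810000001) (.leaf 0x439b005810)) (.node (.leaf 0x331f0021a2) (.leaf 0x0))))) (.node (.node (.node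 (.node (.leaf 0x410000002) (.leaf 0x441000003b)) (.node (.leaf 0x2318000001) (.leaf 0x2006200))) (.node (.node (.leaf 0x1001410) (.leaf 0x54100043ac)) (.node (.leaf 0x2635003410) (.leaf 0x0)))) (.node (.node (.node (.leaf 0x2000c10) (.leaf 0x42f0004c10)) (.node (.leaf 0x1f71002c10) (.leaf 0x20069e0))) (.node (.node (.leaf 0x1c10000001) (.leaf 0x2002698)) (.node (.leaf 0x20a9002dfd) (.leaf 0x0)))))) (.node (.node (.node (.node (.node (.leaf 0x210000002) (.leaf 0x295d003571)) (.node (.leaf 0x200050d) (.leaf 0x200603a))) (.node (.node (.leaf 0x3001210) (.leaf 0x452d004386)) (.node (.leaf 0x2bc9001f7b) (.leaf 0x0)))) (.node (.node (.node (.leaf 0xa10000003) (.leaf 0x4a10004317)) (.node (.leaf 0x1f71002a10) (.leaf 0x20067b9))) (.node (.node (.leaf 0x1a10000003) (.leaf 0x3005a10)) (.node (.leaf 0x33e7001f7b) (.leaf 0x0))))) (.node (.node (.node (.node (.leaf 0x610000003) (.leaf 0x46100043d9)) (.node (.leaf 0x24fc000001) (.leaf 0x10063e0))) (.node (.node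 (.leaf 0x2001610) (.leaf 0x20005610)) (.node (.leaf 0x3610001f7b) (.leaf 0x0)))) (.node (.node (.node (.leaf 0x1000e10) (.leaf 0x429c004e10)) (.node (.leaf 0x1f71002e10) (.leaf 0x2006c62))) (.node (.node (.leaf 0x1e10000001) (.leaf 0x1005d10)) (.node (.leaf 0x22210033bf) (.leaf 0x0))))))) (.node (.node (.node (.node (.node (.node (.leaf 0x110000003) (.leaf 0x242d0036f7)) (.node (.leaf 0x20a0000003) (.leaf 0x2005f6e))) (.node (.node (.leaf 0x1001110) (.leaf 0x43ab005110)) (.node (.leaf 0x1f71003110) (.leaf 0x20070e2)))) (.node (.node (.node (.leaf 0x910000003) (.leaf 0x4910000002)) (.node (.leaf 0x2886000003) (.leaf 0x10066b2))) (.node (.node (.leaf 0x1910000002) (.leaf 0x434c005910)) (.node (.leaf 0x335600013d) (.leaf 0x0))))) (.node (.node (.node (.node (.leaf 0x510000002) (.leaf 0x4428004511)) (.node (.leaf 0x23fa000001) (.leaf 0x1001668))) (.node (.node (.leaf 0x2001510) (.leaf 0x551000429d)) (.node (.leaf 0x2dd10021ff) (.leaf 0x0)))) (.node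 (.node (.node (.leaf 0x2000d10) (.leaf 0x42e4004d10)) (.node (.leaf 0x236d002cbe) (.leaf 0x2006b08))) (.node (.node (.leaf 0x2001d10) (.leaf 0x2005c5a)) (.node (.leaf 0x255100382f) (.leaf 0x0)))))) (.node (.node (.node (.node (.node (.leaf 0x1000310) (.leaf 0x42e400429a)) (.node (.leaf 0x2236000003) (.leaf 0x100610e))) (.node (.node (.leaf 0x1001310) (.leaf 0x4436005310)) (.node (.leaf 0x212f003310) (.leaf 0x0)))) (.node (.node (.node (.leaf 0xb10000003) (.leaf 0x4b10004301)) (.node (.leaf 0x1f7b002b10) (.leaf 0x20068b5))) (.node (.node (.leaf 0x1b10000001) (.leaf 0x5aec000003)) (.node (.leaf 0x276a00335b) (.leaf 0x0))))) (.node (.node (.node (.node (.leaf 0x710000001) (.leaf 0x439b004710)) (.node (.leaf 0x262a000003) (.leaf 0x20064ba))) (.node (.node (.leaf 0x1710000001) (.leaf 0x42af005710)) (.node (.leaf 0x29f9002600) (.leaf 0x0)))) (.node (.node (.node (.leaf 0x1000f10) (.leaf 0x4f100042f9)) (.node (.leaf 0x1f7b002e4d) (.leaf 0x2006de0)))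 (.node (.node (.leaf 0x1d55000001) (.leaf 0x1005de0)) (.node (.leaf 0x27e1002c9c) (.leaf 0x0)))))))) (.node (.node (.node (.node (.node (.node (.node (.leaf 0x1000090) (.leaf 0x21b300331e)) (.node (.leaf 0x2036000003) (.leaf 0x1005f06))) (.node (.node (.leaf 0x1090000003) (.leaf 0x441e004371)) (.node (.leaf 0x1f71002d63) (.leaf 0x2006fe8)))) (.node (.node (.node (.leaf 0x890000003) (.leaf 0x4890000002)) (.node (.leaf 0x27e4000003) (.leaf 0x662f000001))) (.node (.node (.leaf 0x1890000001) (.leaf 0x4434005890)) (.node (.leaf 0x304e0023c4) (.leaf 0x0))))) (.node (.node (.node (.node (.leaf 0x490000003) (.leaf 0x43b40043c3)) (.node (.leaf 0x237c000001) (.leaf 0x2006288))) (.node (.node (.leaf 0x872001282) (.leaf 0x5490004435)) (.node (.leaf 0x2b0002afd) (.leaf 0x0)))) (.node (.node (.node (.leaf 0x2000c90) (.leaf 0x42ec0043bd)) (.node (.leaf 0x1f7b002aa3) (.leaf 0x1006a78))) (.node (.node (.leaf 0x2001c90) (.leaf 0x2005bf0)) (.node (.leaf 0x2561003318)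 (.leaf 0x0)))))) (.node (.node (.node (.node (.node (.leaf 0x2000290) (.leaf 0x428a000022)) (.node (.leaf 0x10021c7) (.leaf 0x10060a2))) (.node (.node (.leaf 0x2001290) (.leaf 0x5290000002)) (.node (.leaf 0x1f7b002a0c) (.leaf 0x0)))) (.node (.node (.node (.leaf 0xa90000001) (.leaf 0x4a90004349)) (.node (.leaf 0x2a90001f72) (.leaf 0x2000f64))) (.node (.node (.leaf 0x1a90000001) (.leaf 0x3005a90)) (.node (.leaf 0x249b002b0c) (.leaf 0x0))))) (.node (.node (.node (.node (.leaf 0x690000003) (.leaf 0x4348004690)) (.node (.leaf 0x258a000003) (.leaf 0x100644e))) (.node (.node (.leaf 0x1690000003) (.leaf 0x43d8005690)) (.node (.leaf 0x324c0024b2) (.leaf 0x0)))) (.node (.node (.node (.leaf 0x1000ae3) (.leaf 0x4385004c71)) (.node (.leaf 0x2e90001f72) (.leaf 0x1006d10))) (.node (.node (.leaf 0x1e90000003) (.leaf 0x5d75000001)) (.node (.leaf 0x20e3002e20) (.leaf 0x0))))))) (.node (.node (.node (.node (.node (.node (.leaf 0x2000190) (.leaf 0x26130038e3)) (.node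 (.leaf 0x2100000001) (.leaf 0x1005fd4))) (.node (.node (.leaf 0x1001190) (.leaf 0x5190004402)) (.node (.leaf 0x305f001f72) (.leaf 0x0)))) (.node (.node (.node (.leaf 0x1000990) (.leaf 0x49900042ac)) (.node (.leaf 0x295a000001) (.leaf 0x2006730))) (.node (.node (.leaf 0x16a1000003) (.leaf 0x428e005990)) (.node (.leaf 0x2b0f0022ca) (.leaf 0x0))))) (.node (.node (.node (.node (.leaf 0x590000001) (.leaf 0x4389004590)) (.node (.leaf 0x2476000003) (.leaf 0x100636e))) (.node (.node (.leaf 0x2001590) (.leaf 0x43a7005590)) (.node (.leaf 0x2f2f001f7b) (.leaf 0x0)))) (.node (.node (.node (.leaf 0x2000d90) (.leaf 0x439d004d90)) (.node (.leaf 0x1f71002d90) (.leaf 0x1006bb4))) (.node (.node (.leaf 0x1d90000001) (.leaf 0x2001995)) (.node (.leaf 0x1fc00322b) (.leaf 0x0)))))) (.node (.node (.node (.node (.node (.leaf 0x390000001) (.leaf 0x438a004325)) (.node (.leaf 0x1244000003) (.leaf 0x1006186))) (.node (.node (.leaf 0x1001390) (.leaf 0x5390004398)) (.node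 (.leaf 0x3162001f72) (.leaf 0x0)))) (.node (.node (.node (.leaf 0xb90000001) (.leaf 0x42cc004b90)) (.node (.leaf 0x2b90001f7b) (.leaf 0x1006952))) (.node (.node (.leaf 0x1b90000003) (.leaf 0x2001ef0)) (.node (.leaf 0x231f00393d) (.leaf 0x0))))) (.node (.node (.node (.node (.leaf 0x790000003) (.leaf 0x4790004327)) (.node (.leaf 0x26ca000001) (.leaf 0x6541000001))) (.node (.node (.leaf 0x1790000003) (.leaf 0x57900042ac)) (.node (.leaf 0x53002dde) (.leaf 0x0)))) (.node (.node (.node (.leaf 0x2000f90) (.leaf 0x437200445f)) (.node (.leaf 0x2f90001f7b) (.leaf 0x2006e78))) (.node (.node (.leaf 0x1f88000003) (.leaf 0x2005e43)) (.node (.leaf 0x217d003afe) (.leaf 0x0)))))))))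

/-- part -/
def slpT_37 : Tr Nat := (.node (.node (.node (.node (.node (.node (.node (.node (.leaf 0x50000003) (.leaf 0x266b00360b)) (.node (.leaf 0xa0a000003) (.leaf 0x20001fa))) (.node (.node (.leaf 0x1050000002) (.leaf 0x436c00453d)) (.node (.leaf 0x1f71003050) (.leaf 0x1006f92)))) (.node (.node (.node (.leaf 0x850000001) (.leaf 0x42f8004850)) (.node (.leaf 0x27a0000001) (.leaf 0x65eb000003))) (.node (.node (.leaf 0x1850000002) (.leaf 0x43e2005850)) (.node (.leaf 0x2e62001f72) (.leaf 0x0))))) (.node (.node (.node (.node (.leaf 0x450000003) (.leaf 0x44500042e5)) (.node (.leaf 0x2352000001) (.leaf 0x1001996))) (.node (.node (.leaf 0x2001450) (.leaf 0x545000429d)) (.node (.leaf 0xfd5003450) (.leaf 0x0)))) (.node (.node (.node (.leaf 0x1000c50) (.leaf 0x42e600460d)) (.node (.leaf 0x1f7b002c50) (.leaf 0x2006a22))) (.node (.node (.leaf 0x1c50000fca) (.leaf 0x2005bc6)) (.node (.leaf 0x2499002c62) (.leaf 0x0)))))) (.node (.node (.node (.node (.node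 (.leaf 0x1000250) (.leaf 0x19a0034e9)) (.node (.leaf 0x2182000001) (.leaf 0x1006074))) (.node (.node (.leaf 0x2001250) (.leaf 0x43fd005251)) (.node (.leaf 0x2c210024bc) (.leaf 0x0)))) (.node (.node (.node (.leaf 0xa50000001) (.leaf 0x4a500043db)) (.node (.leaf 0x2a50001f72) (.leaf 0x20067f5))) (.node (.node (.leaf 0x1a50000001) (.leaf 0x43a7005a50)) (.node (.leaf 0x2189003025) (.leaf 0x0))))) (.node (.node (.node (.node (.leaf 0x650000001) (.leaf 0x428d004650)) (.node (.leaf 0x2546000001) (.leaf 0x2006414))) (.node (.node (.leaf 0x1001650) (.leaf 0x565000430f)) (.node (.leaf 0x2d7800004e) (.leaf 0x0)))) (.node (.node (.node (.leaf 0x2000e50) (.leaf 0x442e004417)) (.node (.leaf 0x2e50001f7b) (.leaf 0x1006cb8))) (.node (.node (.leaf 0x1001e50) (.leaf 0x2005d40)) (.node (.leaf 0x2447003460) (.leaf 0x0))))))) (.node (.node (.node (.node (.node (.node (.leaf 0x1000150) (.leaf 0x23b1002eab)) (.node (.leaf 0x20d8000003) (.leaf 0x2005f9c))) (.node (.node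 (.leaf 0x1001150) (.leaf 0x45de00442f)) (.node (.leaf 0x3150001f72) (.leaf 0x0)))) (.node (.node (.node (.leaf 0x950000002) (.leaf 0x45e50042b2)) (.node (.leaf 0x28f8000003) (.leaf 0x20066f0))) (.node (.node (.leaf 0x1950000003) (.leaf 0x43d8005950)) (.node (.leaf 0x3360002258) (.leaf 0x0))))) (.node (.node (.node (.node (.leaf 0x550000001) (.leaf 0x45500043cf)) (.node (.leaf 0x2432000003) (.leaf 0x2006334))) (.node (.node (.leaf 0x2001550) (.leaf 0x44230043d1)) (.node (.leaf 0x321e001f7b) (.leaf 0x0)))) (.node (.node (.node (.leaf 0x1000d50) (.leaf 0x43c80043b8)) (.node (.leaf 0x1f71002d50) (.leaf 0x2006b56))) (.node (.node (.leaf 0x10003ae) (.leaf 0x1005c90)) (.node (.leaf 0x24e100316b) (.leaf 0x0)))))) (.node (.node (.node (.node (.node (.leaf 0x350000003) (.leaf 0x43240042ec)) (.node (.leaf 0x2245000003) (.leaf 0x200614a))) (.node (.node (.leaf 0x2001350) (.leaf 0x53500042e7)) (.node (.leaf 0x3228001f7b) (.leaf 0x0)))) (.node (.node (.node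 (.leaf 0xb50000003) (.leaf 0x4409004b50)) (.node (.leaf 0x2a9e001f72) (.leaf 0x2006906))) (.node (.node (.leaf 0x1b50000001) (.leaf 0x2363000003)) (.node (.leaf 0x99f00360b) (.leaf 0x0))))) (.node (.node (.node (.node (.leaf 0x750000003) (.leaf 0x4436004750)) (.node (.leaf 0x200266f) (.leaf 0x20064f8))) (.node (.node (.leaf 0x1750000003) (.leaf 0x575000430f)) (.node (.leaf 0x1f4700306c) (.leaf 0x0)))) (.node (.node (.node (.leaf 0x2000f50) (.leaf 0x4f50000002)) (.node (.leaf 0x2f500027da) (.leaf 0x2006e26))) (.node (.node (.leaf 0x2001f50) (.leaf 0x2005e10)) (.node (.leaf 0xfda002e69) (.leaf 0x0)))))))) (.node (.node (.node (.node (.node (.node (.node (.leaf 0xd0000003) (.leaf 0x1860030d3)) (.node (.leaf 0x205e000003) (.leaf 0x1005f3e))) (.node (.node (.leaf 0x10d0000003) (.leaf 0x4947004431)) (.node (.leaf 0x30d0001f7b) (.leaf 0x200704a)))) (.node (.node (.node (.leaf 0x8d0000002) (.leaf 0x48d00042e7)) (.node (.leaf 0x282e000003) (.leaf 0x666d000001)))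 (.node (.node (.leaf 0x18d0000003) (.leaf 0x58d000003c)) (.node (.leaf 0x2edd002262) (.leaf 0x0))))) (.node (.node (.node (.node (.leaf 0x4d0000003) (.leaf 0x20044d0)) (.node (.leaf 0x23be000001) (.leaf 0x10062ba))) (.node (.node (.leaf 0x30014d0) (.leaf 0x4acc0043d3)) (.node (.leaf 0x327e001f72) (.leaf 0x0)))) (.node (.node (.node (.leaf 0x1000cd0) (.leaf 0x4401004cd0)) (.node (.leaf 0x2971002a14) (.leaf 0x1006ab8))) (.node (.node (.leaf 0x1001cd0) (.leaf 0x1005c2a)) (.node (.leaf 0x244b002c68) (.leaf 0x0)))))) (.node (.node (.node (.node (.node (.leaf 0x10002d0) (.leaf 0x42ac00003d)) (.node (.leaf 0x21fc000003) (.leaf 0x10060da))) (.node (.node (.leaf 0x30012d0) (.leaf 0x42f00052d0)) (.node (.leaf 0x27fd0030a6) (.leaf 0x0)))) (.node (.node (.node (.leaf 0xad0000001) (.leaf 0x4ad000428f)) (.node (.leaf 0x2ad0001f72) (.leaf 0x1006881))) (.node (.node (.leaf 0x1ad0000003) (.leaf 0x5aca000001)) (.node (.leaf 0x1f710032a4) (.leaf 0x0))))) (.node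 (.node (.node (.node (.leaf 0x6d0000001) (.leaf 0x42f00046d0)) (.node (.leaf 0x25d2000003) (.leaf 0x2006480))) (.node (.node (.leaf 0x16d0000001) (.leaf 0x50056d0)) (.node (.leaf 0x33c90005e8) (.leaf 0x0)))) (.node (.node (.node (.leaf 0x3000ed0) (.leaf 0x4ed0000001)) (.node (.leaf 0x28e1002ed0) (.leaf 0x2006d78))) (.node (.node (.leaf 0x1ed0000003) (.leaf 0x5daf000003)) (.node (.leaf 0x25e30036ff) (.leaf 0x0))))))) (.node (.node (.node (.node (.node (.node (.leaf 0x1d0000001) (.leaf 0x19da002b93)) (.node (.leaf 0x20a7000003) (.leaf 0x1006006))) (.node (.node (.leaf 0x20006bb) (.leaf 0x43a70051d0)) (.node (.leaf 0x31d000265e) (.leaf 0x0)))) (.node (.node (.node (.leaf 0x10009d0) (.leaf 0x438500436c)) (.node (.leaf 0x29d0001f7b) (.leaf 0x1006776))) (.node (.node (.leaf 0x19d0000003) (.leaf 0x43990059d0)) (.node (.leaf 0x303a002862) (.leaf 0x0))))) (.node (.node (.node (.node (.leaf 0x5d0000003) (.leaf 0x43c80043ee)) (.node (.leaf 0x24b8000003)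 (.leaf 0x20063a2))) (.node (.node (.leaf 0x10015d0) (.leaf 0x3d0055d0)) (.node (.leaf 0x2ad2001f72) (.leaf 0x0)))) (.node (.node (.node (.leaf 0x2000dd0) (.leaf 0x428a004dd0)) (.node (.leaf 0x1f71002dd0) (.leaf 0x1006c06))) (.node (.node (.leaf 0x1dd0000003) (.leaf 0x1005bff)) (.node (.leaf 0x21ba002b4f) (.leaf 0x0)))))) (.node (.node (.node (.node (.node (.leaf 0x3d0000003) (.leaf 0x43b3004385)) (.node (.leaf 0x1d5c000003) (.leaf 0x20061ca))) (.node (.node (.leaf 0x20013d0) (.leaf 0x53d0004431)) (.node (.leaf 0x1f71003397) (.leaf 0x0)))) (.node (.node (.node (.leaf 0x2000bd0) (.leaf 0x4421004367)) (.node (.leaf 0x1f71002bd0) (.leaf 0x1006998))) (.node (.node (.leaf 0x1bd0000001) (.leaf 0x1005b78)) (.node (.leaf 0x27a9003764) (.leaf 0x0))))) (.node (.node (.node (.node (.leaf 0x7d0000003) (.leaf 0x47d000429d)) (.node (.leaf 0x270a000003) (.leaf 0x6573000003))) (.node (.node (.leaf 0x17d0000001) (.leaf 0x57d000439a)) (.node (.leaf 0x37d0002408)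 (.leaf 0x0)))) (.node (.node (.node (.leaf 0xfd0000003) (.leaf 0x42a4004fd0)) (.node (.leaf 0x2fd0001f72) (.leaf 0x2006ee4))) (.node (.node (.leaf 0x1f93000003) (.leaf 0x2005e6f)) (.node (.leaf 0x228c003563) (.leaf 0x0)))))))))

/-- part -/
def slpT_38 : Tr Nat := (.node (.node (.node (.node (.node (.node (.node (.node (.leaf 0x1000030) (.leaf 0x266b0034df)) (.node (.leaf 0x1fe1000003) (.leaf 0x1005e55))) (.node (.node (.leaf 0x1030000001) (.leaf 0x428d005030)) (.node (.leaf 0x2b64001f7b) (.leaf 0x1006f58)))) (.node (.node (.node (.leaf 0x830000003) (.leaf 0x43ce004831)) (.node (.leaf 0x2777000003) (.leaf 0x20065ce))) (.node (.node (.leaf 0x1830000003) (.leaf 0x43ab005830)) (.node (.leaf 0x2f37001f7b) (.leaf 0x0))))) (.node (.node (.node (.node (.leaf 0x430000001) (.leaf 0x441a00428a)) (.node (.leaf 0x2336000001) (.leaf 0x1006226))) (.node (.node (.leaf 0x1001430) (.leaf 0x5430000004)) (.node (.leaf 0x201f0030a8) (.leaf 0x0)))) (.node (.node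 (.node (.leaf 0x10003a6) (.leaf 0x22004c30)) (.node (.leaf 0x1f71002c30) (.leaf 0x2006a06))) (.node (.node (.leaf 0x1938000003) (.leaf 0x2005bb0)) (.node (.leaf 0x25a1002efa) (.leaf 0x0)))))) (.node (.node (.node (.node (.node (.leaf 0x1000230) (.leaf 0x21f4002a7f)) (.node (.leaf 0x2002165) (.leaf 0x1006058))) (.node (.node (.leaf 0x1001230) (.leaf 0x52300042ef)) (.node (.leaf 0x3230001f72) (.leaf 0x0)))) (.node (.node (.node (.leaf 0xa30000001) (.leaf 0x4a30004388)) (.node (.leaf 0x1f71001f71) (.leaf 0x10067d7))) (.node (.node (.leaf 0x1a30000001) (.leaf 0x43e0005a30)) (.node (.leaf 0x2b9a0001d2) (.leaf 0x0))))) (.node (.node (.node (.node (.leaf 0x630000001) (.leaf 0x463000428d)) (.node (.leaf 0x88a000003) (.leaf 0x10063f8))) (.node (.node (.leaf 0x2001630) (.leaf 0x42ac005630)) (.node (.leaf 0x3038002706) (.leaf 0x0)))) (.node (.node (.node (.leaf 0x3000e30) (.leaf 0x4e30004313)) (.node (.leaf 0x2e30001f72) (.leaf 0x2006c8e))) (.node (.node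 (.leaf 0x3001e30) (.leaf 0x22b5000003)) (.node (.leaf 0x22210037d0) (.leaf 0x0))))))) (.node (.node (.node (.node (.node (.node (.leaf 0x130000001) (.leaf 0x2647002d32)) (.node (.leaf 0x20ba000003) (.leaf 0x2005f82))) (.node (.node (.leaf 0x1001130) (.leaf 0x51300042ae)) (.node (.leaf 0x1f7b003130) (.leaf 0x0)))) (.node (.node (.node (.leaf 0x930000001) (.leaf 0x443a004930)) (.node (.leaf 0x28c4000001) (.leaf 0x10066d2))) (.node (.node (.leaf 0x3a9000001) (.leaf 0x4387005930)) (.node (.leaf 0x32640027f0) (.leaf 0x0))))) (.node (.node (.node (.node (.leaf 0x530000002) (.leaf 0x45300042e7)) (.node (.leaf 0x2414000001) (.leaf 0x2006318))) (.node (.node (.leaf 0x1001530) (.leaf 0x5530000002)) (.node (.leaf 0x2c130021ff) (.leaf 0x0)))) (.node (.node (.node (.leaf 0xc58000d30) (.leaf 0x42fe004d30)) (.node (.leaf 0x1f71002d30) (.leaf 0x1006b30))) (.node (.node (.leaf 0x1001d30) (.leaf 0x2005c78)) (.node (.leaf 0x20ad002c86) (.leaf 0x0)))))) (.node (.node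 (.node (.node (.node (.leaf 0x2000330) (.leaf 0x432400432a)) (.node (.leaf 0x21f3000003) (.leaf 0x100612e))) (.node (.node (.leaf 0x2001330) (.leaf 0x53300042c1)) (.node (.leaf 0x1f71002a53) (.leaf 0x0)))) (.node (.node (.node (.leaf 0xb30000001) (.leaf 0x42b3004b30)) (.node (.leaf 0x1f71002b30) (.leaf 0x10068dd))) (.node (.node (.leaf 0x1b30000003) (.leaf 0x2005b05)) (.node (.leaf 0x97f002cb8) (.leaf 0x0))))) (.node (.node (.node (.node (.leaf 0x730000001) (.leaf 0x43f7004499)) (.node (.leaf 0x264a000001) (.leaf 0x20064de))) (.node (.node (.leaf 0x1730000003) (.leaf 0x57300042ae)) (.node (.leaf 0x2139002db8) (.leaf 0x0)))) (.node (.node (.node (.leaf 0x1000f30) (.leaf 0x4ad500442b)) (.node (.leaf 0x1f7b002a20) (.leaf 0x1006e06))) (.node (.node (.leaf 0x1f30000001) (.leaf 0x1005dfa)) (.node (.leaf 0x27e1002fc5) (.leaf 0x0)))))))) (.node (.node (.node (.node (.node (.node (.node (.leaf 0x20000b0) (.leaf 0x257b003023)) (.node (.leaf 0x1fcd000003)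 (.leaf 0x2005f24))) (.node (.node (.leaf 0x10b0000003) (.leaf 0x50b000434d)) (.node (.leaf 0x1f710030b0) (.leaf 0x2007016)))) (.node (.node (.node (.leaf 0x8b0000002) (.leaf 0x441e004369)) (.node (.leaf 0x2808000003) (.leaf 0x664b000003))) (.node (.node (.leaf 0x18b0000001) (.leaf 0x429c0058b0)) (.node (.leaf 0x37af001f7b) (.leaf 0x0))))) (.node (.node (.node (.node (.leaf 0x4b0000001) (.leaf 0x43ff0044b0)) (.node (.leaf 0x239c000001) (.leaf 0x10062a2))) (.node (.node (.leaf 0x10014b0) (.leaf 0x54b000428d)) (.node (.leaf 0x1f710034b0) (.leaf 0x0)))) (.node (.node (.node (.leaf 0x2000cb0) (.leaf 0x429a004cb0)) (.node (.leaf 0x1f71002c4c) (.leaf 0x2006a98))) (.node (.node (.leaf 0x2001cb0) (.leaf 0x20020ec)) (.node (.leaf 0x244b0033c3) (.leaf 0x0)))))) (.node (.node (.node (.node (.node (.leaf 0x10002b0) (.leaf 0x428d0042ad)) (.node (.leaf 0x21de000003) (.leaf 0x10060c0))) (.node (.node (.leaf 0x20012b0) (.leaf 0x52b0000002)) (.node (.leaf 0x1f71002e6f)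 (.leaf 0x0)))) (.node (.node (.node (.leaf 0xab0000001) (.leaf 0x453d0043c9)) (.node (.leaf 0x2ab0001f7b) (.leaf 0x2006859))) (.node (.node (.leaf 0x1ab0000003) (.leaf 0x200227a)) (.node (.leaf 0x249b002c28) (.leaf 0x0))))) (.node (.node (.node (.node (.leaf 0x6b0000001) (.leaf 0x44090046b0)) (.node (.leaf 0x25b0000001) (.leaf 0x2006468))) (.node (.node (.leaf 0x16b0000003) (.leaf 0x42ee0056b0)) (.node (.leaf 0x2d4a0024b2) (.leaf 0x0)))) (.node (.node (.node (.leaf 0x2000eb0) (.leaf 0x436a0043f2)) (.node (.leaf 0x2eb000219a) (.leaf 0x1006d38))) (.node (.node (.leaf 0x1eb0000001) (.leaf 0x5d8f000001)) (.node (.leaf 0x227d002f0a) (.leaf 0x0))))))) (.node (.node (.node (.node (.node (.node (.leaf 0x10001b0) (.leaf 0x25050030f8)) (.node (.leaf 0x2075000003) (.leaf 0x1005fee))) (.node (.node (.leaf 0x10011b0) (.leaf 0x4383004716)) (.node (.leaf 0x3146001f7b) (.leaf 0x0)))) (.node (.node (.node (.leaf 0x20009b0) (.leaf 0x49b0004275)) (.node (.leaf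 0x1f72001f7b) (.leaf 0x1006758))) (.node (.node (.leaf 0x19b0000001) (.leaf 0x10059b0)) (.node (.leaf 0x2b96002628) (.leaf 0x0))))) (.node (.node (.node (.node (.leaf 0x5b0000003) (.leaf 0x42af0045b0)) (.node (.leaf 0x249a000001) (.leaf 0x1006388))) (.node (.node (.leaf 0x20015b0) (.leaf 0x43580055b0)) (.node (.leaf 0x35b0001f7b) (.leaf 0x0)))) (.node (.node (.node (.leaf 0x1000db0) (.leaf 0x1004db0)) (.node (.leaf 0x1f7b002db0) (.leaf 0x2006bd4))) (.node (.node (.leaf 0x1db0000003) (.leaf 0x2005cce)) (.node (.leaf 0xfd4003633) (.leaf 0x0)))))) (.node (.node (.node (.node (.node (.leaf 0x15e000003) (.leaf 0x43b0004395)) (.node (.leaf 0x22ca000001) (.leaf 0x10061a4))) (.node (.node (.leaf 0x20013b0) (.leaf 0x428d0053b0)) (.node (.leaf 0x2f31001f7b) (.leaf 0x0)))) (.node (.node (.node (.leaf 0xbb0000003) (.leaf 0x43d20046d6)) (.node (.leaf 0x1f710029fa) (.leaf 0x1006978))) (.node (.node (.leaf 0x1bb0000003) (.leaf 0x1005b59)) (.node (.leaf 0x22e3003507)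 (.leaf 0x0))))) (.node (.node (.node (.node (.leaf 0x7b0000003) (.leaf 0x47b000439a)) (.node (.leaf 0x26ea000001) (.leaf 0x6555000003))) (.node (.node (.leaf 0x17b0000002) (.leaf 0x48b1004400)) (.node (.leaf 0x2407002b9f) (.leaf 0x0)))) (.node (.node (.node (.leaf 0x1000fb0) (.leaf 0x43e2004fb0)) (.node (.leaf 0x2fb0001f72) (.leaf 0x1006eb4))) (.node (.node (.leaf 0x3ab000001) (.leaf 0x1005e5c)) (.node (.leaf 0x2153003895) (.leaf 0x0)))))))))

/-- part -/
def slpT_39 : Tr Nat := (.node (.node (.node (.node (.node (.node (.node (.node (.leaf 0x70000003) (.leaf 0x266b00373a)) (.node (.leaf 0x2018000003) (.leaf 0x2005ee8))) (.node (.node (.leaf 0x1070000001) (.leaf 0x5070004431)) (.node (.leaf 0x1f71003070) (.leaf 0x2005045)))) (.node (.node (.node (.leaf 0x189000003) (.leaf 0x4870004349)) (.node (.leaf 0x27be000003) (.leaf 0x47e5000001))) (.node (.node (.leaf 0x1870000002) (.leaf 0x43da005870)) (.node (.leaf 0x348700252c) (.leaf 0x0))))) (.node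 (.node (.node (.node (.leaf 0x470000003) (.leaf 0x429c004470)) (.node (.leaf 0x2364000001) (.leaf 0x100626c))) (.node (.node (.leaf 0x1001470) (.leaf 0x5470004406)) (.node (.leaf 0xfd5002a26) (.leaf 0x0)))) (.node (.node (.node (.leaf 0x2000c70) (.leaf 0x43f100436d)) (.node (.leaf 0x1f71002bee) (.leaf 0x2006a44))) (.node (.node (.leaf 0x1001c70) (.leaf 0x1005bda)) (.node (.leaf 0x22fb00319f) (.leaf 0x0)))))) (.node (.node (.node (.node (.node (.leaf 0x1000270) (.leaf 0x2346002db0)) (.node (.leaf 0x20021a1) (.leaf 0x2006086))) (.node (.node (.leaf 0x3001270) (.leaf 0x4312005270)) (.node (.leaf 0x326c001f72) (.leaf 0x0)))) (.node (.node (.node (.leaf 0xa70000003) (.leaf 0x4a7000428c)) (.node (.leaf 0x2a70001f7b) (.leaf 0x100681a))) (.node (.node (.leaf 0x1a70000003) (.leaf 0x429a005a70)) (.node (.leaf 0x1f710039f1) (.leaf 0x0))))) (.node (.node (.node (.node (.leaf 0x670000003) (.leaf 0x43d200443f)) (.node (.leaf 0x256c000003) (.leaf 0x1006430)))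 (.node (.node (.leaf 0x2001670) (.leaf 0x56700043a8)) (.node (.leaf 0x307100004e) (.leaf 0x0)))) (.node (.node (.node (.leaf 0x1000e70) (.leaf 0x4405004e70)) (.node (.leaf 0x2e70001f7b) (.leaf 0x2006ce8))) (.node (.node (.leaf 0x1e70000001) (.leaf 0x5d57000001)) (.node (.leaf 0x27b9002f0c) (.leaf 0x0))))))) (.node (.node (.node (.node (.node (.node (.leaf 0x2000170) (.leaf 0x285b003b54)) (.node (.leaf 0x20ec000001) (.leaf 0x2005fb8))) (.node (.node (.leaf 0x2001170) (.leaf 0x49150043d3)) (.node (.leaf 0x3063001f72) (.leaf 0x0)))) (.node (.node (.node (.leaf 0x970000003) (.leaf 0x49700042e7)) (.node (.leaf 0x292e000003) (.leaf 0x1006710))) (.node (.node (.leaf 0x1970000001) (.leaf 0x4358005970)) (.node (.leaf 0x29e70022ca) (.leaf 0x0))))) (.node (.node (.node (.node (.leaf 0x570000001) (.leaf 0x20004570)) (.node (.leaf 0x2452000003) (.leaf 0x2006354))) (.node (.node (.leaf 0x2001570) (.leaf 0x441f00462b)) (.node (.leaf 0x2e6e001f7b) (.leaf 0x0))))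 (.node (.node (.node (.leaf 0x1000c30) (.leaf 0x42e8004d70)) (.node (.leaf 0x2d70001f7b) (.leaf 0x2006b86))) (.node (.node (.leaf 0x1d70000003) (.leaf 0x2005caa)) (.node (.leaf 0x216d002c7a) (.leaf 0x0)))))) (.node (.node (.node (.node (.node (.leaf 0x370000003) (.leaf 0x432400436a)) (.node (.leaf 0x2291000001) (.leaf 0x1006168))) (.node (.node (.leaf 0x20002f0) (.leaf 0x537000439e)) (.node (.leaf 0x2f0f001f72) (.leaf 0x0)))) (.node (.node (.node (.leaf 0xb70000003) (.leaf 0x5004b70)) (.node (.leaf 0x2b70001f7b) (.leaf 0x200692a))) (.node (.node (.leaf 0x1b70000003) (.leaf 0x1001658)) (.node (.leaf 0x20b5002ffb) (.leaf 0x0))))) (.node (.node (.node (.node (.leaf 0x770000001) (.leaf 0x4770004303)) (.node (.leaf 0x2002699) (.leaf 0x1006516))) (.node (.node (.leaf 0x1770001720) (.leaf 0x5770000023)) (.node (.leaf 0x1f7b002e1a) (.leaf 0x0)))) (.node (.node (.node (.leaf 0x2000f70) (.leaf 0x42b1004f70)) (.node (.leaf 0x2b07001f7b) (.leaf 0x2006e48)))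 (.node (.node (.leaf 0x1f70000003) (.leaf 0x1005e25)) (.node (.leaf 0xfda002bc4) (.leaf 0x0)))))))) (.node (.node (.node (.node (.node (.node (.node (.leaf 0xf0000003) (.leaf 0x1860034a6)) (.node (.leaf 0x207c000003) (.leaf 0x1005f56))) (.node (.node (.leaf 0x559000f69) (.leaf 0x442a0050f1)) (.node (.leaf 0x2a1b001f7b) (.leaf 0x10070a0)))) (.node (.node (.node (.leaf 0x8f0000001) (.leaf 0x44a5004326)) (.node (.leaf 0x2854000001) (.leaf 0x1006075))) (.node (.node (.leaf 0x18f0000001) (.leaf 0x493400442d)) (.node (.leaf 0x36c60021c8) (.leaf 0x0))))) (.node (.node (.node (.node (.leaf 0x4f0000001) (.leaf 0x44f00043a8)) (.node (.leaf 0x23d8000003) (.leaf 0x10062dc))) (.node (.node (.leaf 0x10014f0) (.leaf 0x43890054f0)) (.node (.leaf 0x2eb800265f) (.leaf 0x0)))) (.node (.node (.node (.leaf 0x1000cf0) (.leaf 0x4300004cf0)) (.node (.leaf 0x18b002b26) (.leaf 0x2006ae6))) (.node (.node (.leaf 0x2001cf0) (.leaf 0x1005c40)) (.node (.leaf 0x233b00381b)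 (.leaf 0x0)))))) (.node (.node (.node (.node (.node (.leaf 0x30002f0) (.leaf 0x42ac0042e8)) (.node (.leaf 0x2219000003) (.leaf 0x20060f2))) (.node (.node (.leaf 0x10012f0) (.leaf 0x437200453e)) (.node (.leaf 0x1f7b0032f0) (.leaf 0x0)))) (.node (.node (.node (.leaf 0xaf0000002) (.leaf 0x4af00042a5)) (.node (.leaf 0x1f7b0029e1) (.leaf 0x200689d))) (.node (.node (.leaf 0x1af0000001) (.leaf 0x5ad4000003)) (.node (.leaf 0x1f71002cbe) (.leaf 0x0))))) (.node (.node (.node (.node (.leaf 0x6f0000001) (.leaf 0x43e20046f0)) (.node (.leaf 0x25f6000001) (.leaf 0x200649c))) (.node (.node (.leaf 0x16f0000001) (.leaf 0x43a90056f0)) (.node (.leaf 0x2f6200258c) (.leaf 0x0)))) (.node (.node (.node (.leaf 0x3000ef0) (.leaf 0x4ef0004437)) (.node (.leaf 0x1f7b002e59) (.leaf 0x1006db4))) (.node (.node (.leaf 0x5bd000001) (.leaf 0x2005dc2)) (.node (.leaf 0x27e1002a63) (.leaf 0x0))))))) (.node (.node (.node (.node (.node (.node (.leaf 0x1f0000001) (.leaf 0x2155002b20))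 (.node (.leaf 0x213a000001) (.leaf 0x200601e))) (.node (.node (.leaf 0x20011f0) (.leaf 0x42740051f0)) (.node (.leaf 0x2ddd001f7b) (.leaf 0x0)))) (.node (.node (.node (.leaf 0x20009f0) (.leaf 0x49f0004439)) (.node (.leaf 0x1f7b0029cb) (.leaf 0x2006797))) (.node (.node (.leaf 0x19f0000003) (.leaf 0x3b0059f0)) (.node (.leaf 0x38c8001f7b) (.leaf 0x0))))) (.node (.node (.node (.node (.leaf 0x5f0000003) (.leaf 0x45f000442f)) (.node (.leaf 0x24d4000003) (.leaf 0x20063be))) (.node (.node (.leaf 0x10015f0) (.leaf 0x42ee0055f0)) (.node (.leaf 0x2f82002968) (.leaf 0x0)))) (.node (.node (.node (.leaf 0x1000df0) (.leaf 0x42a4004df0)) (.node (.leaf 0x22f7002c02) (.leaf 0x1006c32))) (.node (.node (.leaf 0x1df0000003) (.leaf 0x1005cfe)) (.node (.leaf 0x21ba0030b8) (.leaf 0x0)))))) (.node (.node (.node (.node (.node (.leaf 0x20003f0) (.leaf 0x43ee0043b4)) (.node (.leaf 0x22fc000003) (.leaf 0x20061e6))) (.node (.node (.leaf 0x20013f0) (.leaf 0x53f00042f9)) (.node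 (.leaf 0x2635002ee8) (.leaf 0x0)))) (.node (.node (.node (.leaf 0x2000bf0) (.leaf 0x43d0004621)) (.node (.leaf 0x1f7b002bf0) (.leaf 0x20069c0))) (.node (.node (.leaf 0x1bf0000001) (.leaf 0x2005b92)) (.node (.leaf 0x2478002b02) (.leaf 0x0))))) (.node (.node (.node (.node (.leaf 0x7f0000001) (.leaf 0x43f400436b)) (.node (.leaf 0x2736000001) (.leaf 0x658d000001))) (.node (.node (.leaf 0x17f0000003) (.leaf 0x57f0004349)) (.node (.leaf 0x2db900271a) (.leaf 0x0)))) (.node (.node (.node (.leaf 0xff0000003) (.leaf 0x4ff0000023)) (.node (.leaf 0x2ff0001f72) (.leaf 0x2006f08))) (.node (.node (.leaf 0x1fc8000003) (.leaf 0x2005e84)) (.node (.leaf 0x23e7002ba3) (.leaf 0x0)))))))))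

/-- part -/
def slpT_40 : Tr Nat := (.node (.node (.node (.node (.node (.node (.node (.node (.leaf 0x8000003) (.leaf 0x2059003169)) (.node (.leaf 0x1fda000003) (.leaf 0x2005e99))) (.node (.node (.leaf 0x1008000001) (.leaf 0x4302005008)) (.node (.leaf 0x2cbf001f7b) (.leaf 0x1006f28)))) (.node (.node (.node (.leaf 0x808000003) (.leaf 0x4808004275)) (.node (.leaf 0x2751000001) (.leaf 0x65a7000001))) (.node (.node (.leaf 0x1808000001) (.leaf 0x42fe005808)) (.node (.leaf 0x350c001f7b) (.leaf 0x0))))) (.node (.node (.node (.node (.leaf 0x408000003) (.leaf 0x4406000003)) (.node (.leaf 0x2310000003) (.leaf 0x10061fc))) (.node (.node (.leaf 0x1001408) (.leaf 0x54080043a2)) (.node (.leaf 0x2635002b1e) (.leaf 0x0)))) (.node (.node (.node (.leaf 0x3000c08) (.leaf 0x442c0043c5)) (.node (.leaf 0x1f7b002c08) (.leaf 0x10069da))) (.node (.node (.leaf 0x1c08000001) (.leaf 0x20021ce)) (.node (.leaf 0x21d70033de) (.leaf 0x0)))))) (.node (.node (.node (.node (.node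 (.leaf 0x208000003) (.leaf 0x295d002b7b)) (.node (.leaf 0x2002149) (.leaf 0x2006034))) (.node (.node (.leaf 0x2001208) (.leaf 0x5208004384)) (.node (.leaf 0x2b46001f7b) (.leaf 0x0)))) (.node (.node (.node (.leaf 0xa08000003) (.leaf 0x4a08004359)) (.node (.leaf 0x1f71002a08) (.leaf 0x20067b3))) (.node (.node (.leaf 0x13a1000003) (.leaf 0x42fc005a08)) (.node (.leaf 0x337200218c) (.leaf 0x0))))) (.node (.node (.node (.node (.leaf 0x608000001) (.leaf 0x46080042ff)) (.node (.leaf 0x24f4000001) (.leaf 0x10063d2))) (.node (.node (.leaf 0x1001608) (.leaf 0x439d005608)) (.node (.leaf 0x3278001f7b) (.leaf 0x0)))) (.node (.node (.node (.leaf 0x1000e08) (.leaf 0x443a004e08)) (.node (.leaf 0x1f7b002e08) (.leaf 0x2006c56))) (.node (.node (.leaf 0x1e08000003) (.leaf 0x1005d0a)) (.node (.leaf 0x21ba0035db) (.leaf 0x0))))))) (.node (.node (.node (.node (.node (.node (.leaf 0x108000003) (.leaf 0x251b00339b)) (.node (.leaf 0x1eeb000003) (.leaf 0x1005f6a))) (.node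 (.node (.leaf 0x1108000001) (.leaf 0x430e005108)) (.node (.leaf 0x1f7b002c1c) (.leaf 0x10070d8)))) (.node (.node (.node (.leaf 0x908000003) (.leaf 0x49080042f9)) (.node (.leaf 0x2878000003) (.leaf 0x10066ac))) (.node (.node (.leaf 0x1908000003) (.leaf 0x42f0005908)) (.node (.leaf 0x37770021c8) (.leaf 0x0))))) (.node (.node (.node (.node (.leaf 0x207000003) (.leaf 0x42ac004508)) (.node (.leaf 0x23f2000001) (.leaf 0x20062f2))) (.node (.node (.leaf 0x3001508) (.leaf 0x5508000001)) (.node (.leaf 0x3508001f72) (.leaf 0x0)))) (.node (.node (.node (.leaf 0x3000d08) (.leaf 0x42f0004d08)) (.node (.leaf 0x21eb002c7c) (.leaf 0x2006b00))) (.node (.node (.leaf 0x2001d08) (.leaf 0x2005c54)) (.node (.leaf 0x25510033b5) (.leaf 0x0)))))) (.node (.node (.node (.node (.node (.leaf 0x1000308) (.leaf 0x20004302)) (.node (.leaf 0x2233000001) (.leaf 0x1006108))) (.node (.node (.leaf 0x1001308) (.leaf 0x42ec005308)) (.node (.leaf 0x1f7100320d) (.leaf 0x0)))) (.node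 (.node (.node (.leaf 0xb08000002) (.leaf 0x4b08004437)) (.node (.leaf 0x1f71002b08) (.leaf 0x20068b1))) (.node (.node (.leaf 0x1b08000003) (.leaf 0x5aea000003)) (.node (.leaf 0x1f71002b93) (.leaf 0x0))))) (.node (.node (.node (.node (.leaf 0x708000001) (.leaf 0x4432004708)) (.node (.leaf 0x2626000003) (.leaf 0x10064b4))) (.node (.node (.leaf 0x1708000001) (.leaf 0x4300005708)) (.node (.leaf 0x330f00258c) (.leaf 0x0)))) (.node (.node (.node (.leaf 0x1000f08) (.leaf 0x4f08004433)) (.node (.leaf 0x1f71002f08) (.leaf 0x1006dda))) (.node (.node (.leaf 0x1f08000001) (.leaf 0x1005dda)) (.node (.leaf 0x27e1002bd2) (.leaf 0x0)))))))) (.node (.node (.node (.node (.node (.node (.node (.leaf 0x2000089) (.leaf 0x266b002f77)) (.node (.leaf 0x2030000001) (.leaf 0x200278c))) (.node (.node (.leaf 0x1088000002) (.leaf 0x4457004329)) (.node (.leaf 0xa03003088) (.leaf 0x1006fda)))) (.node (.node (.node (.leaf 0x888000003) (.leaf 0x488800429d)) (.node (.leaf 0x27d8000003)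 (.leaf 0x6627000003))) (.node (.node (.leaf 0x1888000001) (.leaf 0x42e6005888)) (.node (.leaf 0x327e0023c4) (.leaf 0x0))))) (.node (.node (.node (.node (.leaf 0x488000001) (.leaf 0x442a004488)) (.node (.leaf 0x2376000003) (.leaf 0x2006282))) (.node (.node (.leaf 0x1001488) (.leaf 0x54880042fd)) (.node (.leaf 0x2b0002dee) (.leaf 0x0)))) (.node (.node (.node (.leaf 0x2000c88) (.leaf 0x432e00437c)) (.node (.leaf 0x1f71002c88) (.leaf 0x2006a6c))) (.node (.node (.leaf 0x3001c88) (.leaf 0x2001f4e)) (.node (.leaf 0x22e1002bdc) (.leaf 0x0)))))) (.node (.node (.node (.node (.node (.leaf 0x2000288) (.leaf 0x42790000b3)) (.node (.leaf 0x20021b7) (.leaf 0x100609a))) (.node (.node (.leaf 0x2001288) (.leaf 0x52880042f9)) (.node (.leaf 0x2879003223) (.leaf 0x0)))) (.node (.node (.node (.leaf 0xa88000001) (.leaf 0x4a88004349)) (.node (.leaf 0x2a88001f7b) (.leaf 0x2006832))) (.node (.node (.leaf 0x1a88000001) (.leaf 0x42f8005a88)) (.node (.leaf 0x1f710031fb)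 (.leaf 0x0))))) (.node (.node (.node (.node (.leaf 0x688000003) (.leaf 0x10e8004688)) (.node (.leaf 0x2582000003) (.leaf 0x1006446))) (.node (.node (.leaf 0x1688000003) (.leaf 0x42f8005688)) (.node (.leaf 0x2da900004e) (.leaf 0x0)))) (.node (.node (.node (.leaf 0x2000e88) (.leaf 0x42ae004499)) (.node (.leaf 0x2e88001f72) (.leaf 0x2006d04))) (.node (.node (.leaf 0x1e88000001) (.leaf 0x5d6d000003)) (.node (.leaf 0x20e300336f) (.leaf 0x0))))))) (.node (.node (.node (.node (.node (.node (.leaf 0x1000188) (.leaf 0x285b003277)) (.node (.leaf 0x20fc000001) (.leaf 0x2005fca))) (.node (.node (.leaf 0x1001188) (.leaf 0x518800439a)) (.node (.leaf 0x2d66001fc0) (.leaf 0x0)))) (.node (.node (.node (.leaf 0x1000988) (.leaf 0x49880042ef)) (.node (.leaf 0x294c000003) (.leaf 0x200672a))) (.node (.node (.leaf 0x1988000001) (.leaf 0x42fe005988)) (.node (.leaf 0x31b00022ca) (.leaf 0x0))))) (.node (.node (.node (.node (.leaf 0x588000001) (.leaf 0x442a004588)) (.node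 (.leaf 0x246e000001) (.leaf 0x1006366))) (.node (.node (.leaf 0x2001588) (.leaf 0x4312005588)) (.node (.leaf 0x350a0026da) (.leaf 0x0)))) (.node (.node (.node (.leaf 0x3a6000001) (.leaf 0x4348004d88)) (.node (.leaf 0x1f7b002d89) (.leaf 0x1006baa))) (.node (.node (.leaf 0x1d88000001) (.leaf 0x2005cb6)) (.node (.leaf 0x1fc003102) (.leaf 0x0)))))) (.node (.node (.node (.node (.node (.leaf 0x388000001) (.leaf 0x4384004367)) (.node (.leaf 0x22a8000003) (.leaf 0x1006180))) (.node (.node (.leaf 0x2001388) (.leaf 0x53880043d7)) (.node (.leaf 0x3274001f72) (.leaf 0x0)))) (.node (.node (.node (.leaf 0xb88000001) (.leaf 0x4399004b88)) (.node (.leaf 0x2b88001f72) (.leaf 0x200694a))) (.node (.node (.leaf 0x1b88000003) (.leaf 0x1005b38)) (.node (.leaf 0x18e0035d3) (.leaf 0x0))))) (.node (.node (.node (.node (.leaf 0x788000002) (.leaf 0x434c004788)) (.node (.leaf 0x2369000003) (.leaf 0x6537000001))) (.node (.node (.leaf 0x1788000001) (.leaf 0x57880042f1)) (.node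 (.leaf 0x53002b7b) (.leaf 0x0)))) (.node (.node (.node (.leaf 0x1000f88) (.leaf 0x4428004f88)) (.node (.leaf 0x2b3b002604) (.leaf 0x2006e6a))) (.node (.node (.leaf 0x1b23000003) (.leaf 0x2005e39)) (.node (.leaf 0x21f5003442) (.leaf 0x0)))))))))

/-- part -/
def slpT_41 : Tr Nat := (.node (.node (.node (.node (.node (.node (.node (.node (.leaf 0x48000003) (.leaf 0x266b002c94)) (.node (.leaf 0x2bf000001) (.leaf 0x2005ec7))) (.node (.node (.leaf 0xaff000003) (.leaf 0x42ac004f39)) (.node (.leaf 0x2bb7001f7b) (.leaf 0x2006f88)))) (.node (.node (.node (.leaf 0x848000001) (.leaf 0x4358004848)) (.node (.leaf 0x2792000003) (.leaf 0x20065e2))) (.node (.node (.leaf 0x1848000003) (.leaf 0x43e0005848)) (.node (.leaf 0x1f71003087) (.leaf 0x0))))) (.node (.node (.node (.node (.leaf 0x448000002) (.leaf 0x43d6004448)) (.node (.leaf 0x2348000001) (.leaf 0x1006240))) (.node (.node (.leaf 0x3001448) (.leaf 0x5448000001)) (.node (.leaf 0x1f7b0032cc) (.leaf 0x0))))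 (.node (.node (.node (.leaf 0x1000c48) (.leaf 0x442e004c48)) (.node (.leaf 0x1f71002c48) (.leaf 0x1006a1a))) (.node (.node (.leaf 0x2001c48) (.leaf 0x1005bc2)) (.node (.leaf 0xfd9002cac) (.leaf 0x0)))))) (.node (.node (.node (.node (.node (.leaf 0x1000248) (.leaf 0x19a003385)) (.node (.leaf 0x217c000003) (.leaf 0x2005dc3))) (.node (.node (.leaf 0x1001248) (.leaf 0x5248004388)) (.node (.leaf 0x3248001f72) (.leaf 0x0)))) (.node (.node (.node (.leaf 0xa48000003) (.leaf 0x4a48004408)) (.node (.leaf 0x2a48001f72) (.leaf 0x10067ef))) (.node (.node (.leaf 0x1a48000001) (.leaf 0x443a005a48)) (.node (.leaf 0x2189002e4d) (.leaf 0x0))))) (.node (.node (.node (.node (.leaf 0x648000003) (.leaf 0x42af004648)) (.node (.leaf 0x253e000003) (.leaf 0x1006412))) (.node (.node (.leaf 0x20004c7) (.leaf 0x43c2004790)) (.node (.leaf 0x3542001f7b) (.leaf 0x0)))) (.node (.node (.node (.leaf 0x3000e48) (.leaf 0x42ad00449a)) (.node (.leaf 0x2e480024f2) (.leaf 0x2006cac)))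 (.node (.node (.leaf 0x1001e48) (.leaf 0x5d39000003)) (.node (.leaf 0x187002fb1) (.leaf 0x0))))))) (.node (.node (.node (.node (.node (.node (.leaf 0x2000148) (.leaf 0x23b1002b55)) (.node (.leaf 0x20d2000001) (.leaf 0x2005f94))) (.node (.node (.leaf 0x1001148) (.leaf 0x4afb00432f)) (.node (.leaf 0x3148001f72) (.leaf 0x0)))) (.node (.node (.node (.leaf 0x948000003) (.leaf 0x4948004384)) (.node (.leaf 0x28ee000003) (.leaf 0x20066e4))) (.node (.node (.leaf 0x1948000003) (.leaf 0x42ec005948)) (.node (.leaf 0x30bb000f7b) (.leaf 0x0))))) (.node (.node (.node (.node (.leaf 0x548000001) (.leaf 0x4548004433)) (.node (.leaf 0x242c000003) (.leaf 0x100632e))) (.node (.node (.leaf 0x1001548) (.leaf 0x55480042ad)) (.node (.leaf 0x3270001f7b) (.leaf 0x0)))) (.node (.node (.node (.leaf 0x2000d48) (.leaf 0x432e004d48)) (.node (.leaf 0x1f71002d48) (.leaf 0x2006b4c))) (.node (.node (.leaf 0x2001d48) (.leaf 0x2001c60)) (.node (.leaf 0x24e1003a70) (.leaf 0x0))))))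 (.node (.node (.node (.node (.node (.leaf 0x348000003) (.leaf 0x43240042e4)) (.node (.leaf 0x2275000003) (.leaf 0x2006144))) (.node (.node (.leaf 0x1001348) (.leaf 0x5348004439)) (.node (.leaf 0x2d8b001f72) (.leaf 0x0)))) (.node (.node (.node (.leaf 0xb48000001) (.leaf 0x4407004b48)) (.node (.leaf 0x2b1f001f7b) (.leaf 0x20068f6))) (.node (.node (.leaf 0x1b48000001) (.leaf 0x1005b17)) (.node (.leaf 0x20cc003617) (.leaf 0x0))))) (.node (.node (.node (.node (.leaf 0x4d8000001) (.leaf 0x1004748)) (.node (.leaf 0x2002667) (.leaf 0x20064f2))) (.node (.node (.leaf 0x1748000002) (.leaf 0x462b004325)) (.node (.leaf 0x1f47002ba8) (.leaf 0x0)))) (.node (.node (.node (.leaf 0x1000f48) (.leaf 0x4f480042cd)) (.node (.leaf 0x27d9002ab1) (.leaf 0x2006e20))) (.node (.node (.leaf 0x2001f48) (.leaf 0x1005e0c)) (.node (.leaf 0xfda002d73) (.leaf 0x0)))))))) (.node (.node (.node (.node (.node (.node (.node (.leaf 0xc8000003) (.leaf 0x18600362d)) (.node (.leaf 0x2058000003)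 (.leaf 0x1005f38))) (.node (.node (.leaf 0x10c8000003) (.leaf 0x4a5d00438a)) (.node (.leaf 0x1f7b0030c8) (.leaf 0x2007040)))) (.node (.node (.node (.leaf 0x8c8000003) (.leaf 0x48c8004303)) (.node (.leaf 0x2822000003) (.leaf 0xc56000001))) (.node (.node (.leaf 0x18c8000001) (.leaf 0x58c800439e)) (.node (.leaf 0x2ef3001f72) (.leaf 0x0))))) (.node (.node (.node (.node (.leaf 0x4c8000001) (.leaf 0x439f0044c8)) (.node (.leaf 0x23b4000003) (.leaf 0x20062b2))) (.node (.node (.leaf 0x20014c8) (.leaf 0x461800442d)) (.node (.leaf 0x2a6e001f72) (.leaf 0x0)))) (.node (.node (.node (.leaf 0x1000cc8) (.leaf 0x4432004cc8)) (.node (.leaf 0x29ab002bfa) (.leaf 0x1006ab2))) (.node (.node (.leaf 0x1001cc8) (.leaf 0x20025ba)) (.node (.leaf 0x244b003084) (.leaf 0x0)))))) (.node (.node (.node (.node (.node (.leaf 0x10002c8) (.leaf 0x42ac000001)) (.node (.leaf 0xa12000003) (.leaf 0x20060d2))) (.node (.node (.leaf 0x20006d7) (.leaf 0x43d80052c8)) (.node (.leaf 0x967002d63)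 (.leaf 0x0)))) (.node (.node (.node (.leaf 0xac8000001) (.leaf 0x4409004ac8)) (.node (.leaf 0x2ac8001f7b) (.leaf 0x1004727))) (.node (.node (.leaf 0x1ac8000003) (.leaf 0x128f000003)) (.node (.leaf 0x23ef003052) (.leaf 0x0))))) (.node (.node (.node (.node (.leaf 0x6c8000001) (.leaf 0x220046c8)) (.node (.leaf 0x25ca000003) (.leaf 0x100647a))) (.node (.node (.leaf 0x16c8000001) (.leaf 0x220056c8)) (.node (.leaf 0x2b0b0005e8) (.leaf 0x0)))) (.node (.node (.node (.leaf 0x2000ec8) (.leaf 0x4ec80043aa)) (.node (.leaf 0x2ec8001f72) (.leaf 0x1006d64))) (.node (.node (.leaf 0x1ec8000003) (.leaf 0x1f1a000003)) (.node (.leaf 0x2455002a65) (.leaf 0x0))))))) (.node (.node (.node (.node (.node (.node (.leaf 0x10000b4) (.leaf 0x19da00306e)) (.node (.leaf 0x211c000001) (.leaf 0x1006000))) (.node (.node (.leaf 0x20011c8) (.leaf 0x42a40051c8)) (.node (.leaf 0x31c8001f72) (.leaf 0x0)))) (.node (.node (.node (.leaf 0x10009c8) (.leaf 0x42ac0049c8)) (.node (.leaf 0x29c8001f72)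 (.leaf 0x200676c))) (.node (.node (.leaf 0x19c8000001) (.leaf 0x443a0059c8)) (.node (.leaf 0x2c9d00213c) (.leaf 0x0))))) (.node (.node (.node (.node (.leaf 0x5c8000003) (.leaf 0x42ac004418)) (.node (.leaf 0x24ae000001) (.leaf 0x200639c))) (.node (.node (.leaf 0x10015c8) (.leaf 0x3b0055c8)) (.node (.leaf 0x30fb000024) (.leaf 0x0)))) (.node (.node (.node (.leaf 0x2000dc8) (.leaf 0x43d8004dc8)) (.node (.leaf 0x1f71002dc8) (.leaf 0x1006c00))) (.node (.node (.leaf 0x1dc8000001) (.leaf 0x2005ce2)) (.node (.leaf 0x21ba002d44) (.leaf 0x0)))))) (.node (.node (.node (.node (.node (.leaf 0x3c8000003) (.leaf 0x43b3004325)) (.node (.leaf 0x22da000003) (.leaf 0x20061c4))) (.node (.node (.leaf 0x20013c8) (.leaf 0x53c8004349)) (.node (.leaf 0x1f71002fbd) (.leaf 0x0)))) (.node (.node (.node (.leaf 0xbc8000003) (.leaf 0x43ce004377)) (.node (.leaf 0x1f71002bc8) (.leaf 0x100698e))) (.node (.node (.leaf 0x1bc8000066) (.leaf 0x1005b70)) (.node (.leaf 0x27a9002ba6)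 (.leaf 0x0))))) (.node (.node (.node (.node (.leaf 0x7c8000003) (.leaf 0x47900043ed)) (.node (.leaf 0x2702000003) (.leaf 0x656b000003))) (.node (.node (.leaf 0x17c8000001) (.leaf 0x57c80043aa)) (.node (.leaf 0x24070029ec) (.leaf 0x0)))) (.node (.node (.node (.leaf 0x1000fc8) (.leaf 0x43da004fc8)) (.node (.leaf 0x2fc8001f72) (.leaf 0x2006ed8))) (.node (.node (.leaf 0x1faa000003) (.leaf 0x1005e6b)) (.node (.leaf 0x20f7002b57) (.leaf 0x0)))))))))

/-- part -/
def slpT_42 : Tr Nat := (.node (.node (.node (.node (.node (.node (.node (.node (.leaf 0x2000028) (.leaf 0x266b0032a0)) (.node (.leaf 0x1fed000003) (.leaf 0x1005eb3))) (.node (.node (.leaf 0x1028000003) (.leaf 0x4385005028)) (.node (.leaf 0x3028001f72) (.leaf 0x2006f4c)))) (.node (.node (.node (.leaf 0x828000002) (.leaf 0x4828004400)) (.node (.leaf 0x2771000003) (.leaf 0x20065c6))) (.node (.node (.leaf 0x1828000001) (.leaf 0x42fc005828)) (.node (.leaf 0x2fb000269c) (.leaf 0x0))))) (.node (.node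 (.node (.node (.leaf 0x428000001) (.leaf 0x441a0043ce)) (.node (.leaf 0x2330000001) (.leaf 0x200621a))) (.node (.node (.leaf 0x1001428) (.leaf 0x5428000004)) (.node (.leaf 0x201f002c24) (.leaf 0x0)))) (.node (.node (.node (.leaf 0x1000c28) (.leaf 0x43e0004c28)) (.node (.leaf 0x1f71002c28) (.leaf 0x1006643))) (.node (.node (.leaf 0x1c28000001) (.leaf 0x20021c2)) (.node (.leaf 0x20a9002ca4) (.leaf 0x0)))))) (.node (.node (.node (.node (.node (.leaf 0x1000228) (.leaf 0x22df002afe)) (.node (.leaf 0x100215d) (.leaf 0x200604e))) (.node (.node (.leaf 0x1001228) (.leaf 0x52280043d9)) (.node (.leaf 0x32280024bc) (.leaf 0x0)))) (.node (.node (.node (.leaf 0xa28000003) (.leaf 0x4a280042ed)) (.node (.leaf 0x1f71002a28) (.leaf 0x200171f))) (.node (.node (.leaf 0x1a28000001) (.leaf 0x42cc005a28)) (.node (.leaf 0x37690001d2) (.leaf 0x0))))) (.node (.node (.node (.node (.leaf 0x628000003) (.leaf 0x46280043e3)) (.node (.leaf 0x2512000003) (.leaf 0x10063f4)))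 (.node (.node (.leaf 0x2001628) (.leaf 0x434c005628)) (.node (.leaf 0x2f78001f72) (.leaf 0x0)))) (.node (.node (.node (.leaf 0x2000e28) (.leaf 0x4e280042e5)) (.node (.leaf 0x1f71002e28) (.leaf 0x1006c88))) (.node (.node (.leaf 0x2001e28) (.leaf 0x5d23000001)) (.node (.leaf 0x2221002a69) (.leaf 0x0))))))) (.node (.node (.node (.node (.node (.node (.leaf 0x128000003) (.leaf 0x21e70033b5)) (.node (.leaf 0x20b4000003) (.leaf 0x20055fd))) (.node (.node (.leaf 0x1001128) (.leaf 0x51280042b0)) (.node (.leaf 0x21a9002c08) (.leaf 0x0)))) (.node (.node (.node (.leaf 0x928000001) (.leaf 0x49280043a2)) (.node (.leaf 0x28b4000001) (.leaf 0x20066ca))) (.node (.node (.leaf 0x1928000003) (.leaf 0x42b1005928)) (.node (.leaf 0x2ac40027f0) (.leaf 0x0))))) (.node (.node (.node (.node (.leaf 0x528000003) (.leaf 0x452800434d)) (.node (.leaf 0x240e000003) (.leaf 0x2006310))) (.node (.node (.leaf 0x1001528) (.leaf 0x5528004303)) (.node (.leaf 0x302a0021ff) (.leaf 0x0))))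 (.node (.node (.node (.leaf 0x1000d28) (.leaf 0x4316004d28)) (.node (.leaf 0x1f71002d28) (.leaf 0x1001687))) (.node (.node (.leaf 0x2001d28) (.leaf 0x1005c70)) (.node (.leaf 0x255100301d) (.leaf 0x0)))))) (.node (.node (.node (.node (.node (.leaf 0x2000328) (.leaf 0x43240042ad)) (.node (.leaf 0x2252000003) (.leaf 0x1006128))) (.node (.node (.leaf 0x2001328) (.leaf 0x53280043a0)) (.node (.leaf 0x212f002f00) (.leaf 0x0)))) (.node (.node (.node (.leaf 0xb28000001) (.leaf 0x4300004b28)) (.node (.leaf 0x1f7b002b28) (.leaf 0x20068cd))) (.node (.node (.leaf 0x1b28000003) (.leaf 0x5afe000001)) (.node (.leaf 0x276a003122) (.leaf 0x0))))) (.node (.node (.node (.node (.leaf 0x728000001) (.leaf 0x442a004728)) (.node (.leaf 0x2642000001) (.leaf 0x10064d8))) (.node (.node (.leaf 0x1728000002) (.leaf 0x42e4005728)) (.node (.leaf 0x2b52001f7b) (.leaf 0x0)))) (.node (.node (.node (.leaf 0x1000f28) (.leaf 0x43f30043d3)) (.node (.leaf 0x21002d4c) (.leaf 0x1006df8)))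 (.node (.node (.leaf 0x1f28000001) (.leaf 0x2005df2)) (.node (.leaf 0x27e1002ef8) (.leaf 0x0)))))))) (.node (.node (.node (.node (.node (.node (.node (.leaf 0x10000a8) (.leaf 0x257b002fa7)) (.node (.leaf 0x1d1000003) (.leaf 0x2005f22))) (.node (.node (.leaf 0x10a8000003) (.leaf 0x50a8004303)) (.node (.leaf 0x1f71002dcc) (.leaf 0x2007010)))) (.node (.node (.node (.leaf 0x407000003) (.leaf 0x48a80042ae)) (.node (.leaf 0x2802000001) (.leaf 0x6641000003))) (.node (.node (.leaf 0x18a8000001) (.leaf 0x43680043b5)) (.node (.leaf 0x374d001f7b) (.leaf 0x0))))) (.node (.node (.node (.node (.leaf 0x4a8000001) (.leaf 0x42e80044a8)) (.node (.leaf 0x2394000001) (.leaf 0x200629c))) (.node (.node (.leaf 0x20014a8) (.leaf 0x54a80042e9)) (.node (.leaf 0x1f71003100) (.leaf 0x0)))) (.node (.node (.node (.leaf 0x2000ca8) (.leaf 0x441f0043b4)) (.node (.leaf 0x1f71002a3b) (.leaf 0x1006a90))) (.node (.node (.leaf 0x3001ca8) (.leaf 0x2005c04)) (.node (.leaf 0x244b0030e2)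 (.leaf 0x0)))))) (.node (.node (.node (.node (.node (.leaf 0x20002a8) (.leaf 0x42990000b5)) (.node (.leaf 0x2019000003) (.leaf 0x20060b6))) (.node (.node (.leaf 0x20012a8) (.leaf 0x52a800428f)) (.node (.leaf 0x967002b83) (.leaf 0x0)))) (.node (.node (.node (.leaf 0xaa8000003) (.leaf 0x4aa8004313)) (.node (.leaf 0x2aa8001f72) (.leaf 0x1006853))) (.node (.node (.leaf 0x1aa8000001) (.leaf 0x42cc005aa8)) (.node (.leaf 0x249b002aea) (.leaf 0x0))))) (.node (.node (.node (.node (.leaf 0x6a8000001) (.leaf 0x43700043b8)) (.node (.leaf 0x25a2000003) (.leaf 0x1006462))) (.node (.node (.leaf 0x16a8000003) (.leaf 0x439f0056a8)) (.node (.leaf 0x3268001f72) (.leaf 0x0)))) (.node (.node (.node (.leaf 0x1000ea8) (.leaf 0x42ae0045a6)) (.node (.leaf 0x2ea800219a) (.leaf 0x2006d2c))) (.node (.node (.leaf 0x1ea8000003) (.leaf 0x5d8b000001)) (.node (.leaf 0x1eb3002d57) (.leaf 0x0))))))) (.node (.node (.node (.node (.node (.node (.leaf 0x20001a8) (.leaf 0x1fa9002fa7))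 (.node (.leaf 0x210e000001) (.leaf 0x20025e6))) (.node (.node (.leaf 0x10011a8) (.leaf 0x42ac0051a9)) (.node (.leaf 0x31a800265e) (.leaf 0x0)))) (.node (.node (.node (.leaf 0x10009a8) (.leaf 0x49a8004408)) (.node (.leaf 0x299c000001) (.leaf 0x100674e))) (.node (.node (.leaf 0x164f000001) (.leaf 0x44050059a8)) (.node (.leaf 0x38be002628) (.leaf 0x0))))) (.node (.node (.node (.node (.leaf 0x5a8000001) (.leaf 0x44340045a8)) (.node (.leaf 0x2490000003) (.leaf 0x1006382))) (.node (.node (.leaf 0x10015a8) (.leaf 0x43a70055a8)) (.node (.leaf 0x3232001f72) (.leaf 0x0)))) (.node (.node (.node (.leaf 0x1000da8) (.leaf 0x43680044fc)) (.node (.leaf 0x1f71002da8) (.leaf 0x2006bca))) (.node (.node (.leaf 0x1da8000003) (.leaf 0x2005cca)) (.node (.leaf 0x290030f5) (.leaf 0x0)))))) (.node (.node (.node (.node (.node (.leaf 0x3a8000003) (.leaf 0x429b004367)) (.node (.leaf 0x22c2000003) (.leaf 0x200619c))) (.node (.node (.leaf 0x20013a8) (.leaf 0x44010053a8)) (.node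 (.leaf 0x33a8001f7b) (.leaf 0x0)))) (.node (.node (.node (.leaf 0xba8000002) (.leaf 0x43ff004ba8)) (.node (.leaf 0x1f71002ba8) (.leaf 0x2006970))) (.node (.node (.leaf 0x1ba8000003) (.leaf 0x1005b47)) (.node (.leaf 0x22e3002af8) (.leaf 0x0))))) (.node (.node (.node (.node (.leaf 0x7a8000003) (.leaf 0x47a8000072)) (.node (.leaf 0x26e0000003) (.leaf 0x654f000003))) (.node (.node (.leaf 0x17a8000003) (.leaf 0x44890042ac)) (.node (.leaf 0x53002d30) (.leaf 0x0)))) (.node (.node (.node (.leaf 0x2000fa8) (.leaf 0x43c20044e8)) (.node (.leaf 0x1f7b002fa9) (.leaf 0x2006ea0))) (.node (.node (.leaf 0x1f9c000003) (.leaf 0x1005e52)) (.node (.leaf 0x2153002cbe) (.leaf 0x0)))))))))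

/-- part -/
def slpT_43 : Tr Nat := (.node (.node (.node (.node (.node (.node (.node (.node (.leaf 0x68000003) (.leaf 0x266b002b36)) (.node (.leaf 0x2012000001) (.leaf 0x1005ee0))) (.node (.node (.leaf 0x1068000001) (.leaf 0x506800434d)) (.node (.leaf 0x1f71002e69) (.leaf 0x1006fb8)))) (.node (.node (.node (.leaf 0x868000001) (.leaf 0x42c0004868)) (.node (.leaf 0x27ba000001) (.leaf 0x6605000003))) (.node (.node (.leaf 0x1868000003) (.leaf 0x4399005868)) (.node (.leaf 0x2ff000252c) (.leaf 0x0))))) (.node (.node (.node (.node (.leaf 0x468000003) (.leaf 0x43c20043b5)) (.node (.leaf 0x235c000003) (.leaf 0x2006264))) (.node (.node (.leaf 0x1001468) (.leaf 0x546800429d)) (.node (.leaf 0x1f71002dee) (.leaf 0x0)))) (.node (.node (.node (.leaf 0x2000c68) (.leaf 0x4c6800442f)) (.node (.leaf 0x1f71002c68) (.leaf 0x2006a36))) (.node (.node (.leaf 0x1001c68) (.leaf 0x200129c)) (.node (.leaf 0x2121002bf0) (.leaf 0x0)))))) (.node (.node (.node (.node (.node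 (.leaf 0x1000268) (.leaf 0x22dd003302)) (.node (.leaf 0x100219d) (.leaf 0x1006082))) (.node (.node (.leaf 0x200072b) (.leaf 0x4407005268)) (.node (.leaf 0x32680026f4) (.leaf 0x0)))) (.node (.node (.node (.leaf 0x60000001) (.leaf 0x4a680042f1)) (.node (.leaf 0x2a68001f7b) (.leaf 0x1006811))) (.node (.node (.leaf 0x1a68000003) (.leaf 0x4312005a68)) (.node (.leaf 0x96e003837) (.leaf 0x0))))) (.node (.node (.node (.node (.leaf 0x668000001) (.leaf 0x4389004550)) (.node (.leaf 0x2562000003) (.leaf 0x100642a))) (.node (.node (.leaf 0x2001668) (.leaf 0x5668004303)) (.node (.leaf 0x35e600004e) (.leaf 0x0)))) (.node (.node (.node (.leaf 0x1000e68) (.leaf 0x42cc004e68)) (.node (.leaf 0x2e68001f72) (.leaf 0x2006cd8))) (.node (.node (.leaf 0x1e68000001) (.leaf 0x5b70000001)) (.node (.leaf 0x27b9003241) (.leaf 0x0))))))) (.node (.node (.node (.node (.node (.node (.leaf 0x1000168) (.leaf 0x23b1002c4c)) (.node (.leaf 0x20e6000003) (.leaf 0x2005fae))) (.node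 (.node (.leaf 0x3001168) (.leaf 0x4bfa004329)) (.node (.leaf 0x3168001f72) (.leaf 0x0)))) (.node (.node (.node (.leaf 0x968000003) (.leaf 0x4968004435)) (.node (.leaf 0x2928000003) (.leaf 0x2006706))) (.node (.node (.leaf 0x1968000003) (.leaf 0x43ec0043f1)) (.node (.leaf 0x34bc001f7b) (.leaf 0x0))))) (.node (.node (.node (.node (.leaf 0x568000001) (.leaf 0x429c004568)) (.node (.leaf 0x2448000003) (.leaf 0x2006348))) (.node (.node (.leaf 0x1001568) (.leaf 0x43d2004f92)) (.node (.leaf 0x2cb90029a0) (.leaf 0x0)))) (.node (.node (.node (.leaf 0x10000b0) (.leaf 0x2004d68)) (.node (.leaf 0x2d680028d2) (.leaf 0x2006b7e))) (.node (.node (.leaf 0x1d68000002) (.leaf 0x2005ca2)) (.node (.leaf 0x216d0029fc) (.leaf 0x0)))))) (.node (.node (.node (.node (.node (.leaf 0x368000003) (.leaf 0x4366004326)) (.node (.leaf 0x228d000001) (.leaf 0x2006160))) (.node (.node (.leaf 0x2001368) (.leaf 0x53680043a2)) (.node (.leaf 0x2cbb001f7b) (.leaf 0x0)))) (.node (.node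 (.node (.leaf 0xb68000003) (.leaf 0x3b004b68)) (.node (.leaf 0x2a5a001f7b) (.leaf 0x2006924))) (.node (.node (.leaf 0x1b68000003) (.leaf 0x1005b2b)) (.node (.leaf 0x2823003351) (.leaf 0x0))))) (.node (.node (.node (.node (.leaf 0x768000003) (.leaf 0x4768004317)) (.node (.leaf 0x200268b) (.leaf 0x200650e))) (.node (.node (.leaf 0x1768000001) (.leaf 0x5768004303)) (.node (.leaf 0x1f710033ca) (.leaf 0x0)))) (.node (.node (.node (.leaf 0xf680006f5) (.leaf 0x2004f68)) (.node (.leaf 0x2b440027da) (.leaf 0x1006e44))) (.node (.node (.leaf 0x2001f68) (.leaf 0x2005e1f)) (.node (.leaf 0xfda002fe7) (.leaf 0x0)))))))) (.node (.node (.node (.node (.node (.node (.node (.leaf 0x20000e8) (.leaf 0x1860034ef)) (.node (.leaf 0x2074000001) (.leaf 0x1005f4e))) (.node (.node (.leaf 0x619000001) (.leaf 0x494700442f)) (.node (.leaf 0x2c77002890) (.leaf 0x100707c)))) (.node (.node (.node (.leaf 0x8e8000001) (.leaf 0x43b50043c3)) (.node (.leaf 0x284a000003) (.leaf 0x1006690)))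 (.node (.node (.leaf 0x18e8000001) (.leaf 0x58e800432f)) (.node (.leaf 0x2d2b001f7b) (.leaf 0x0))))) (.node (.node (.node (.node (.leaf 0x4e8000003) (.leaf 0x44e80043bd)) (.node (.leaf 0x23d0000003) (.leaf 0x20062d4))) (.node (.node (.leaf 0x10014e8) (.leaf 0x43d200446b)) (.node (.leaf 0x33d3001f72) (.leaf 0x0)))) (.node (.node (.node (.leaf 0x1000ce8) (.leaf 0x71004ce8)) (.node (.leaf 0xfcd002b97) (.leaf 0x2006ada))) (.node (.node (.leaf 0x2001ce8) (.leaf 0x2005c3c)) (.node (.leaf 0x233b002c36) (.leaf 0x0)))))) (.node (.node (.node (.node (.node (.leaf 0x20002e8) (.leaf 0x42e40042e4)) (.node (.leaf 0x2213000001) (.leaf 0x10060ec))) (.node (.node (.leaf 0x10012e8) (.leaf 0x4389004588)) (.node (.leaf 0x1f7b0032e8) (.leaf 0x0)))) (.node (.node (.node (.leaf 0xae8000003) (.leaf 0x4ae8004353)) (.node (.leaf 0x1f7b002ae8) (.leaf 0x2006895))) (.node (.node (.leaf 0x1ae8000001) (.leaf 0x5ad2000003)) (.node (.leaf 0x2669002a04) (.leaf 0x0))))) (.node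 (.node (.node (.node (.leaf 0x6e8000001) (.leaf 0x44240043f1)) (.node (.leaf 0x25ea000003) (.leaf 0x200649a))) (.node (.node (.leaf 0x16e8000001) (.leaf 0x436c0043ef)) (.node (.leaf 0x2fca001f7b) (.leaf 0x0)))) (.node (.node (.node (.leaf 0x2000ee8) (.leaf 0x4ee800429b)) (.node (.leaf 0x28e1002ee8) (.leaf 0x1006da6))) (.node (.node (.leaf 0x1ee8000003) (.leaf 0x1005dbc)) (.node (.leaf 0x28ad002b22) (.leaf 0x0))))))) (.node (.node (.node (.node (.node (.node (.leaf 0x1e8000003) (.leaf 0x830034a6)) (.node (.leaf 0x2134000001) (.leaf 0x2006018))) (.node (.node (.leaf 0x20011e8) (.leaf 0x42f80051e8)) (.node (.leaf 0x2c3f0020b0) (.leaf 0x0)))) (.node (.node (.node (.leaf 0x10009e8) (.leaf 0x49e80043ac)) (.node (.leaf 0x1f710029e8) (.leaf 0x2006791))) (.node (.node (.leaf 0x19e8000003) (.leaf 0x43ab0059e8)) (.node (.leaf 0x33fb001f7b) (.leaf 0x0))))) (.node (.node (.node (.node (.leaf 0x5e8000001) (.leaf 0x45e80042e5)) (.node (.leaf 0x4db000001) (.leaf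 0x1006127))) (.node (.node (.leaf 0x10015e8) (.leaf 0x42740055e8)) (.node (.leaf 0x2a96002968) (.leaf 0x0)))) (.node (.node (.node (.leaf 0x1000de8) (.leaf 0x3b004de8)) (.node (.leaf 0x1f7b002de8) (.leaf 0x1006c26))) (.node (.node (.leaf 0x1de8000003) (.leaf 0x1005cf6)) (.node (.leaf 0x21ba0039f1) (.leaf 0x0)))))) (.node (.node (.node (.node (.node (.leaf 0x10003e8) (.leaf 0x42e90043e8)) (.node (.leaf 0x22f6000003) (.leaf 0x20061de))) (.node (.node (.leaf 0x20013e8) (.leaf 0x53e80042fd)) (.node (.leaf 0x1f7b00315f) (.leaf 0x0)))) (.node (.node (.node (.leaf 0x3000be8) (.leaf 0x4409004be8)) (.node (.leaf 0x1f71002be8) (.leaf 0x10069b6))) (.node (.node (.leaf 0x1be8000001) (.leaf 0x1005ab2)) (.node (.leaf 0x2478003933) (.leaf 0x0))))) (.node (.node (.node (.node (.leaf 0x7e8000003) (.leaf 0x47e80042ad)) (.node (.leaf 0x272c000001) (.leaf 0x6587000001))) (.node (.node (.leaf 0x17e8000002) (.leaf 0x57e800428d)) (.node (.leaf 0x2a9600271a) (.leaf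 0x0)))) (.node (.node (.node (.leaf 0xfe8000003) (.leaf 0x4fe8000074)) (.node (.leaf 0x2fe8001f72) (.leaf 0x2006f02))) (.node (.node (.leaf 0x2001fbd) (.leaf 0x2005e80)) (.node (.leaf 0x23e700340e) (.leaf 0x0)))))))))

/-- part -/
def slpT_44 : Tr Nat := (.node (.node (.node (.node (.node (.node (.node (.node (.leaf 0x1000018) (.leaf 0x242f002e73)) (.node (.leaf 0x1fe4000001) (.leaf 0x100160f))) (.node (.node (.leaf 0x1018000003) (.leaf 0x42ee005018)) (.node (.leaf 0x3018001f7b) (.leaf 0x1006f3c)))) (.node (.node (.node (.leaf 0x818000003) (.leaf 0x4818000023)) (.node (.leaf 0xc4a000003) (.leaf 0x20065b6))) (.node (.node (.leaf 0x1818000001) (.leaf 0x439d005818)) (.node (.leaf 0x31390021a2) (.leaf 0x0))))) (.node (.node (.node (.node (.leaf 0x418000003) (.leaf 0x43b6004419)) (.node (.leaf 0x2163000003) (.leaf 0x1000f61))) (.node (.node (.leaf 0x1001418) (.leaf 0x541800440a)) (.node (.leaf 0x2635003418) (.leaf 0x0)))) (.node (.node (.node (.leaf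 0x1000c18) (.leaf 0x43ce004c18)) (.node (.leaf 0x1f71002c18) (.leaf 0x20069e8))) (.node (.node (.leaf 0x1c18000001) (.leaf 0x2005ba6)) (.node (.leaf 0x20a900311a) (.leaf 0x0)))))) (.node (.node (.node (.node (.node (.leaf 0x218000003) (.leaf 0x27bb003302)) (.node (.leaf 0x2002151) (.leaf 0x1006042))) (.node (.node (.leaf 0x2001218) (.leaf 0x4ffd004388)) (.node (.leaf 0x3218001f7b) (.leaf 0x0)))) (.node (.node (.node (.leaf 0xa18000003) (.leaf 0x4a18004303)) (.node (.leaf 0x1f71002a18) (.leaf 0x20067bf))) (.node (.node (.leaf 0x1a18000003) (.leaf 0x42cc005a18)) (.node (.leaf 0x321600004f) (.leaf 0x0))))) (.node (.node (.node (.node (.leaf 0x618000001) (.leaf 0x4618004429)) (.node (.leaf 0x2504000003) (.leaf 0x10063e6))) (.node (.node (.leaf 0x2001618) (.leaf 0x439b005618)) (.node (.leaf 0x3085002180) (.leaf 0x0)))) (.node (.node (.node (.leaf 0x1000e18) (.leaf 0x4e180010e7)) (.node (.leaf 0x1f71002e18) (.leaf 0x2006c6e))) (.node (.node (.leaf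 0x1e18000003) (.leaf 0x2005d16)) (.node (.leaf 0x222100336f) (.leaf 0x0))))))) (.node (.node (.node (.node (.node (.node (.leaf 0x118000001) (.leaf 0x21e7003062)) (.node (.leaf 0x20aa000001) (.leaf 0x1005f76))) (.node (.node (.leaf 0x1001118) (.leaf 0x42f0005118)) (.node (.leaf 0x1f71003118) (.leaf 0x1007100)))) (.node (.node (.node (.leaf 0x918000001) (.leaf 0x49180042e5)) (.node (.leaf 0x2890000003) (.leaf 0x20066b8))) (.node (.node (.leaf 0x1918000003) (.leaf 0x42ec005918)) (.node (.leaf 0x31e000013d) (.leaf 0x0))))) (.node (.node (.node (.node (.leaf 0x518000003) (.leaf 0x43b400441a)) (.node (.leaf 0x2402000001) (.leaf 0x2006302))) (.node (.node (.leaf 0x1001518) (.leaf 0x5518004437)) (.node (.leaf 0x2c4d0021ff) (.leaf 0x0)))) (.node (.node (.node (.leaf 0x1000d18) (.leaf 0x42ac004d18)) (.node (.leaf 0x1f71002bc2) (.leaf 0x1006b12))) (.node (.node (.leaf 0x3001d18) (.leaf 0x1005c62)) (.node (.leaf 0x2551002f4f) (.leaf 0x0)))))) (.node (.node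 (.node (.node (.node (.leaf 0x2000318) (.leaf 0x42e4000967)) (.node (.leaf 0x2242000001) (.leaf 0x2006116))) (.node (.node (.leaf 0x2001318) (.leaf 0x22005318)) (.node (.leaf 0x212f003318) (.leaf 0x0)))) (.node (.node (.node (.leaf 0xb18000003) (.leaf 0x4b18004275)) (.node (.leaf 0x1f71002b18) (.leaf 0x10068bf))) (.node (.node (.leaf 0x1b18000003) (.leaf 0x1c2c000001)) (.node (.leaf 0x276a003464) (.leaf 0x0))))) (.node (.node (.node (.node (.leaf 0x718000001) (.leaf 0x42e4004718)) (.node (.leaf 0x2634000001) (.leaf 0x10064c6))) (.node (.node (.leaf 0x1718000001) (.leaf 0x42f0005718)) (.node (.leaf 0x2f1f002600) (.leaf 0x0)))) (.node (.node (.node (.leaf 0x1000f18) (.leaf 0x4f180043db)) (.node (.leaf 0x1f7b002f18) (.leaf 0x2006de8))) (.node (.node (.leaf 0x1f18000003) (.leaf 0x2005c3f)) (.node (.leaf 0x27e100375e) (.leaf 0x0)))))))) (.node (.node (.node (.node (.node (.node (.node (.leaf 0x2000098) (.leaf 0x21b3003645)) (.node (.leaf 0x203c000003)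 (.leaf 0x2005f10))) (.node (.node (.leaf 0x1098000003) (.leaf 0x5098000074)) (.node (.leaf 0x1f7b003098) (.leaf 0x1006ffa)))) (.node (.node (.node (.leaf 0x898000001) (.leaf 0x48980042e9)) (.node (.leaf 0x27ec000001) (.leaf 0x6637000001))) (.node (.node (.leaf 0x1898000068) (.leaf 0x42ae005898)) (.node (.leaf 0x2eba0027ce) (.leaf 0x0))))) (.node (.node (.node (.node (.leaf 0x498000003) (.leaf 0x441b0043bb)) (.node (.leaf 0x2380000003) (.leaf 0x2006290))) (.node (.node (.leaf 0x1001498) (.leaf 0x54980042ed)) (.node (.leaf 0x2b0003498) (.leaf 0x0)))) (.node (.node (.node (.leaf 0x3000c98) (.leaf 0x42f0004c98)) (.node (.leaf 0x1f7b0029bf) (.leaf 0x2006a82))) (.node (.node (.leaf 0x2001c98) (.leaf 0x1005bf6)) (.node (.leaf 0x1fc4002a4e) (.leaf 0x0)))))) (.node (.node (.node (.node (.node (.leaf 0x3000298) (.leaf 0x428a000001)) (.node (.leaf 0x20021cf) (.leaf 0x20060a8))) (.node (.node (.leaf 0x1001298) (.leaf 0x52980042f9)) (.node (.leaf 0x1f71003298)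 (.leaf 0x0)))) (.node (.node (.node (.leaf 0xa98000003) (.leaf 0x4a98004386)) (.node (.leaf 0x2a8e001f7b) (.leaf 0x2006842))) (.node (.node (.leaf 0x1a98000001) (.leaf 0x4436005a98)) (.node (.leaf 0x249b0037f3) (.leaf 0x0))))) (.node (.node (.node (.node (.leaf 0x698000003) (.leaf 0x42b1004698)) (.node (.leaf 0x2592000001) (.leaf 0x2006454))) (.node (.node (.leaf 0x1698000001) (.leaf 0x4300005698)) (.node (.leaf 0x3618001f72) (.leaf 0x0)))) (.node (.node (.node (.leaf 0x1000e98) (.leaf 0x42e8004e98)) (.node (.leaf 0x2e98001f72) (.leaf 0x2006d14))) (.node (.node (.leaf 0x1e98000002) (.leaf 0x5d7d000001)) (.node (.leaf 0x20e3003a72) (.leaf 0x0))))))) (.node (.node (.node (.node (.node (.node (.leaf 0x1000198) (.leaf 0x1fa9002b5d)) (.node (.leaf 0x2104000003) (.leaf 0x2005fd8))) (.node (.node (.leaf 0x1001198) (.leaf 0x5198004398)) (.node (.leaf 0x2f1f001f72) (.leaf 0x0)))) (.node (.node (.node (.leaf 0x2000998) (.leaf 0x48bb004400)) (.node (.leaf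 0x296a000003) (.leaf 0x100673c))) (.node (.node (.leaf 0x1998000003) (.leaf 0x42c0005998)) (.node (.leaf 0x2a2d002628) (.leaf 0x0))))) (.node (.node (.node (.node (.leaf 0x598000001) (.leaf 0x43f70043bb)) (.node (.leaf 0x247e000003) (.leaf 0x1006376))) (.node (.node (.leaf 0x1001598) (.leaf 0x4274005598)) (.node (.leaf 0x31ec001f72) (.leaf 0x0)))) (.node (.node (.node (.leaf 0x1000d98) (.leaf 0x432e00437d)) (.node (.leaf 0x1f7b002a9b) (.leaf 0x1006bba))) (.node (.node (.leaf 0x1d98000003) (.leaf 0x2002434)) (.node (.leaf 0x262d00320d) (.leaf 0x0)))))) (.node (.node (.node (.node (.node (.leaf 0x398000001) (.leaf 0x3004367)) (.node (.leaf 0x22b2000003) (.leaf 0x200618c))) (.node (.node (.leaf 0x200015d) (.leaf 0x53980042ad)) (.node (.leaf 0x2b0f001f7b) (.leaf 0x0)))) (.node (.node (.node (.leaf 0xb98000001) (.leaf 0x2004b98)) (.node (.leaf 0x2b98001f72) (.leaf 0x2006958))) (.node (.node (.leaf 0x1b98000002) (.leaf 0x2005b4a)) (.node (.leaf 0x6f002afa)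 (.leaf 0x0))))) (.node (.node (.node (.node (.leaf 0x798000003) (.leaf 0x43ef004373)) (.node (.leaf 0x26ce000003) (.leaf 0x6547000001))) (.node (.node (.leaf 0x1798000002) (.leaf 0x441e004386)) (.node (.leaf 0x53003310) (.leaf 0x0)))) (.node (.node (.node (.leaf 0x2000f98) (.leaf 0x42ae0048a8)) (.node (.leaf 0x2f98001f72) (.leaf 0x2006e82))) (.node (.node (.leaf 0x1f90000001) (.leaf 0x2005e47)) (.node (.leaf 0x2153003801) (.leaf 0x0)))))))))

/-- part -/
def slpT_45 : Tr Nat := (.node (.node (.node (.node (.node (.node (.node (.node (.leaf 0x58000003) (.leaf 0x266b002e6d)) (.node (.leaf 0x2008000003) (.leaf 0x2005ed3))) (.node (.node (.leaf 0x1058000003) (.leaf 0x4c71004427)) (.node (.leaf 0x2691002b1a) (.leaf 0x2006f98)))) (.node (.node (.node (.leaf 0x858000001) (.leaf 0x42e4004858)) (.node (.leaf 0x27a6000003) (.leaf 0x65f5000003))) (.node (.node (.leaf 0x1858000003) (.leaf 0x42fe005858)) (.node (.leaf 0x367600252c) (.leaf 0x0))))) (.node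 (.node (.node (.node (.leaf 0x458000003) (.leaf 0x4401004458)) (.node (.leaf 0x2147000003) (.leaf 0x2006256))) (.node (.node (.leaf 0x1001458) (.leaf 0x453d0043ed)) (.node (.leaf 0x1f7b003253) (.leaf 0x0)))) (.node (.node (.node (.leaf 0x20008c2) (.leaf 0x4c580043d1)) (.node (.leaf 0x1f71002c58) (.leaf 0x2006a2a))) (.node (.node (.leaf 0x1001c58) (.leaf 0x1005bcc)) (.node (.leaf 0x19b002c04) (.leaf 0x0)))))) (.node (.node (.node (.node (.node (.leaf 0x1000258) (.leaf 0x2639002d1a)) (.node (.leaf 0x218a000003) (.leaf 0x10010ba))) (.node (.node (.leaf 0x2001258) (.leaf 0x43680043b3)) (.node (.leaf 0x2c6f001f7b) (.leaf 0x0)))) (.node (.node (.node (.leaf 0xa58000003) (.leaf 0x4a58004398)) (.node (.leaf 0x2a58001f72) (.leaf 0x1006803))) (.node (.node (.leaf 0x1a58000003) (.leaf 0x43e0005a58)) (.node (.leaf 0x96e002e20) (.leaf 0x0))))) (.node (.node (.node (.node (.leaf 0x23000003) (.leaf 0x4328004658)) (.node (.leaf 0x2556000001) (.leaf 0x20028ac)))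 (.node (.node (.leaf 0x2001658) (.leaf 0x5658004313)) (.node (.leaf 0x2e3300004e) (.leaf 0x0)))) (.node (.node (.node (.leaf 0x2000e58) (.leaf 0x43700044fc)) (.node (.leaf 0x2acc001f72) (.leaf 0x2006cc2))) (.node (.node (.leaf 0x1001e58) (.leaf 0x2005d44)) (.node (.leaf 0x2995002b95) (.leaf 0x0))))))) (.node (.node (.node (.node (.node (.node (.leaf 0x2000158) (.leaf 0x23b10030fb)) (.node (.leaf 0x20dc000001) (.leaf 0x1005fa6))) (.node (.node (.leaf 0x1001158) (.leaf 0x515800432f)) (.node (.leaf 0x2ffc001f72) (.leaf 0x0)))) (.node (.node (.node (.leaf 0x958000003) (.leaf 0x495800428d)) (.node (.leaf 0x2908000003) (.leaf 0x20066f6))) (.node (.node (.leaf 0x1958000003) (.leaf 0x4389005958)) (.node (.leaf 0x3958002258) (.leaf 0x0))))) (.node (.node (.node (.node (.leaf 0x558000001) (.leaf 0x453e004425)) (.node (.leaf 0x243a000001) (.leaf 0x100633c))) (.node (.node (.leaf 0x1001558) (.leaf 0x43b600436b)) (.node (.leaf 0x2d330029a0) (.leaf 0x0))))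 (.node (.node (.node (.leaf 0x2000d58) (.leaf 0x42a4004d58)) (.node (.leaf 0x2d58001f72) (.leaf 0x1006b64))) (.node (.node (.leaf 0x2001d58) (.leaf 0x2005c96)) (.node (.leaf 0xf76002aab) (.leaf 0x0)))))) (.node (.node (.node (.node (.node (.leaf 0x358000002) (.leaf 0x432400430e)) (.node (.leaf 0x2281000003) (.leaf 0x1006152))) (.node (.node (.leaf 0x1001358) (.leaf 0x53580042fb)) (.node (.leaf 0x2ec4001f72) (.leaf 0x0)))) (.node (.node (.node (.leaf 0xb58000002) (.leaf 0x439d004b58)) (.node (.leaf 0x2b58001f7b) (.leaf 0x1006910))) (.node (.node (.leaf 0x1b58000003) (.leaf 0x2017000003)) (.node (.leaf 0x28230030e4) (.leaf 0x0))))) (.node (.node (.node (.node (.leaf 0x758000003) (.leaf 0x475800438a)) (.node (.leaf 0x2676000001) (.leaf 0x10064fe))) (.node (.node (.leaf 0x1758000001) (.leaf 0x57580043aa)) (.node (.leaf 0x1f7100363b) (.leaf 0x0)))) (.node (.node (.node (.leaf 0x100066e) (.leaf 0x4f580042c1)) (.node (.leaf 0x2f58001f72) (.leaf 0x1006e30)))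 (.node (.node (.leaf 0x2001f58) (.leaf 0x1001662)) (.node (.leaf 0xfda002ad1) (.leaf 0x0)))))))) (.node (.node (.node (.node (.node (.node (.node (.leaf 0xd8000003) (.leaf 0x18600304f)) (.node (.leaf 0x2064000003) (.leaf 0x2005f42))) (.node (.node (.leaf 0x10d8000003) (.leaf 0x484c00442b)) (.node (.leaf 0x2e7c001f7b) (.leaf 0x200705c)))) (.node (.node (.node (.leaf 0x8d8000003) (.leaf 0x48d8004353)) (.node (.leaf 0x283a000001) (.leaf 0x6677000001))) (.node (.node (.leaf 0x18d8000002) (.leaf 0x58d80010e7)) (.node (.leaf 0x2fa8001f7b) (.leaf 0x0))))) (.node (.node (.node (.node (.leaf 0x4d8000003) (.leaf 0x42fa0044d8)) (.node (.leaf 0x23c4000003) (.leaf 0x10062c2))) (.node (.node (.leaf 0x20014d8) (.leaf 0x453d004326)) (.node (.leaf 0x2ea8000a14) (.leaf 0x0)))) (.node (.node (.node (.leaf 0x1000cd8) (.leaf 0x434c004cd8)) (.node (.leaf 0x2971002c00) (.leaf 0x2006ac4))) (.node (.node (.leaf 0x200034d) (.leaf 0x2001b39)) (.node (.leaf 0x244b002ec7)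 (.leaf 0x0)))))) (.node (.node (.node (.node (.node (.leaf 0x20002d8) (.leaf 0xd850042d8)) (.node (.leaf 0x2204000001) (.leaf 0x20060e0))) (.node (.node (.leaf 0x20012d8) (.leaf 0x43ff0052d8)) (.node (.leaf 0x1f71002abb) (.leaf 0x0)))) (.node (.node (.node (.leaf 0xad8000001) (.leaf 0x4ad800428c)) (.node (.leaf 0x1f7b0029f8) (.leaf 0x1006889))) (.node (.node (.leaf 0x1ad8000002) (.leaf 0x159000001)) (.node (.leaf 0x1f7b003033) (.leaf 0x0))))) (.node (.node (.node (.node (.leaf 0x6d8000001) (.leaf 0x43970046d8)) (.node (.leaf 0x25d8000003) (.leaf 0x1006488))) (.node (.node (.leaf 0x16d8000003) (.leaf 0x44050056d8)) (.node (.leaf 0x2f130005e8) (.leaf 0x0)))) (.node (.node (.node (.leaf 0x2000ed8) (.leaf 0x4ed8004317)) (.node (.leaf 0x1f71002ed8) (.leaf 0x1006d88))) (.node (.node (.leaf 0x1ed8000001) (.leaf 0x1005db4)) (.node (.leaf 0x2729002f99) (.leaf 0x0))))))) (.node (.node (.node (.node (.node (.node (.leaf 0x1d8000003) (.leaf 0x229c0029fa))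 (.node (.leaf 0x2128000003) (.leaf 0x2001f7a))) (.node (.node (.leaf 0x30011d8) (.leaf 0x43120051d8)) (.node (.leaf 0x31d8001f72) (.leaf 0x0)))) (.node (.node (.node (.leaf 0x10009d8) (.leaf 0x44240043f4)) (.node (.leaf 0x29d8001f72) (.leaf 0x200677c))) (.node (.node (.leaf 0x19d8000001) (.leaf 0x44090059d8)) (.node (.leaf 0x2dcf002712) (.leaf 0x0))))) (.node (.node (.node (.node (.leaf 0x5d8000002) (.leaf 0x43e00045d8)) (.node (.leaf 0x24c0000003) (.leaf 0x10063a8))) (.node (.node (.leaf 0x10015d8) (.leaf 0x430e0055d8)) (.node (.leaf 0x35d8002968) (.leaf 0x0)))) (.node (.node (.node (.leaf 0x1000dd8) (.leaf 0x4389004dd8)) (.node (.leaf 0x22f7002dd8) (.leaf 0x2006c10))) (.node (.node (.leaf 0x1dd8000002) (.leaf 0x200246c)) (.node (.leaf 0x21ba003a01) (.leaf 0x0)))))) (.node (.node (.node (.node (.node (.leaf 0x10003d8) (.leaf 0x43b3000020)) (.node (.leaf 0x22e8000001) (.leaf 0x20061d2))) (.node (.node (.leaf 0x30013d8) (.leaf 0x43bb004425)) (.node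 (.leaf 0x1f7b002fe1) (.leaf 0x0)))) (.node (.node (.node (.leaf 0x2000bd8) (.leaf 0x429a004bd8)) (.node (.leaf 0x1f71002bd8) (.leaf 0x200699e))) (.node (.node (.leaf 0x1bd8000001) (.leaf 0x2005b7e)) (.node (.leaf 0x27a9002efc) (.leaf 0x0))))) (.node (.node (.node (.node (.leaf 0x7d8000002) (.leaf 0x47d800439e)) (.node (.leaf 0x2714000001) (.leaf 0x6579000001))) (.node (.node (.leaf 0x17d8000001) (.leaf 0x57d800439e)) (.node (.leaf 0x368e001f72) (.leaf 0x0)))) (.node (.node (.node (.leaf 0xfd8000001) (.leaf 0x4387004a97)) (.node (.leaf 0x2fd8001f72) (.leaf 0x2006eee))) (.node (.node (.leaf 0x1fb2000003) (.leaf 0x1005e75)) (.node (.leaf 0x879002d7d) (.leaf 0x0)))))))))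

/-- part -/
def slpT_46 : Tr Nat := (.node (.node (.node (.node (.node (.node (.node (.node (.leaf 0x38000038) (.leaf 0x266b002a91)) (.node (.leaf 0x1fe6000003) (.leaf 0x2005ebd))) (.node (.node (.leaf 0x1038000001) (.leaf 0x428c005038)) (.node (.leaf 0x3038001f72) (.leaf 0x2006f66)))) (.node (.node (.node (.leaf 0x838000003) (.leaf 0x43ec0043f2)) (.node (.leaf 0x277d000003) (.leaf 0x10065d8))) (.node (.node (.leaf 0x1838000002) (.leaf 0x430e005838)) (.node (.leaf 0x2add001fef) (.leaf 0x0))))) (.node (.node (.node (.node (.leaf 0x438000001) (.leaf 0x441a000001)) (.node (.leaf 0x233e000003) (.leaf 0x2006230))) (.node (.node (.leaf 0x1001438) (.leaf 0x5438004406)) (.node (.leaf 0x1f7100316b) (.leaf 0x0)))) (.node (.node (.node (.leaf 0x2000c38) (.leaf 0x4434004c38)) (.node (.leaf 0x1f71002c38) (.leaf 0x2006a0c))) (.node (.node (.leaf 0x1001c38) (.leaf 0x20021d0)) (.node (.leaf 0x25a1002a06) (.leaf 0x0)))))) (.node (.node (.node (.node (.node (.leaf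 0x1000238) (.leaf 0x16d800329a)) (.node (.leaf 0x216e000003) (.leaf 0x2006060))) (.node (.node (.leaf 0x1001238) (.leaf 0x52380042f1)) (.node (.leaf 0x2e56001f72) (.leaf 0x0)))) (.node (.node (.node (.leaf 0x748000001) (.leaf 0x43670043c1)) (.node (.leaf 0x1f71002a38) (.leaf 0x10067df))) (.node (.node (.leaf 0x1a38000001) (.leaf 0x4423004366)) (.node (.leaf 0x2c6b00133a) (.leaf 0x0))))) (.node (.node (.node (.node (.leaf 0x638000003) (.leaf 0x42f8004638)) (.node (.leaf 0x2524000001) (.leaf 0x20063fe))) (.node (.node (.leaf 0x3001638) (.leaf 0x442e004732)) (.node (.leaf 0x3638001f72) (.leaf 0x0)))) (.node (.node (.node (.leaf 0x2000e38) (.leaf 0x42e8004e38)) (.node (.leaf 0x2e380024f2) (.leaf 0x2006c9a))) (.node (.node (.leaf 0x2001e38) (.leaf 0x5d2d000001)) (.node (.leaf 0x2221003b0a) (.leaf 0x0))))))) (.node (.node (.node (.node (.node (.node (.leaf 0x138000003) (.leaf 0x25a5002cb0)) (.node (.leaf 0xa0e000003) (.leaf 0x1005f88))) (.node (.node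 (.leaf 0x1001138) (.leaf 0x48770042ad)) (.node (.leaf 0x1f7b003138) (.leaf 0x0)))) (.node (.node (.node (.leaf 0x938000001) (.leaf 0x49380043a2)) (.node (.leaf 0x28d0000003) (.leaf 0x2002818))) (.node (.node (.leaf 0x1810000003) (.leaf 0x442c005938)) (.node (.leaf 0x2fa90027f0) (.leaf 0x0))))) (.node (.node (.node (.node (.leaf 0x538000003) (.leaf 0x45380042c1)) (.node (.leaf 0x241e000001) (.leaf 0x200631e))) (.node (.node (.leaf 0x1001538) (.leaf 0x55380042ef)) (.node (.leaf 0x35380021ff) (.leaf 0x0)))) (.node (.node (.node (.leaf 0x1000d38) (.leaf 0x4d38000002)) (.node (.leaf 0x1f71002d38) (.leaf 0x1006b38))) (.node (.node (.leaf 0x1001d38) (.leaf 0x2005c7e)) (.node (.leaf 0x27b3002b04) (.leaf 0x0)))))) (.node (.node (.node (.node (.node (.leaf 0x338000003) (.leaf 0x4324004330)) (.node (.leaf 0x225e000001) (.leaf 0x2006134))) (.node (.node (.leaf 0x1001338) (.leaf 0x53380043a8)) (.node (.leaf 0x237d002d50) (.leaf 0x0)))) (.node (.node (.node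 (.leaf 0xb38000001) (.leaf 0x442a004b38)) (.node (.leaf 0x1f71002b38) (.leaf 0x20068e4))) (.node (.node (.leaf 0x1b38000003) (.leaf 0x2005b0d)) (.node (.leaf 0x97f0035cb) (.leaf 0x0))))) (.node (.node (.node (.node (.leaf 0x738000001) (.leaf 0x42a4004738)) (.node (.leaf 0x2652000003) (.leaf 0x10064e4))) (.node (.node (.leaf 0x1738000003) (.leaf 0x57380042fd)) (.node (.leaf 0x1f71002fcd) (.leaf 0x0)))) (.node (.node (.node (.leaf 0xd9e000f38) (.leaf 0x43f4004327)) (.node (.leaf 0x1f71002f38) (.leaf 0x2006e0c))) (.node (.node (.leaf 0x1f38000003) (.leaf 0x1005e00)) (.node (.leaf 0x27e1003725) (.leaf 0x0)))))))) (.node (.node (.node (.node (.node (.node (.node (.leaf 0xb8000003) (.leaf 0x1653002c0a)) (.node (.leaf 0xa40000001) (.leaf 0x2005f2a))) (.node (.node (.leaf 0x10b8000003) (.leaf 0x50b80042e9)) (.node (.leaf 0x1f710030b8) (.leaf 0x1007024)))) (.node (.node (.node (.leaf 0x8b8000003) (.leaf 0x48b80043a8)) (.node (.leaf 0x2812000003) (.leaf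 0x6655000001))) (.node (.node (.leaf 0x18b8000001) (.leaf 0x58b80042f9)) (.node (.leaf 0x38b8001f72) (.leaf 0x0))))) (.node (.node (.node (.node (.leaf 0x4b8000003) (.leaf 0x43c000441e)) (.node (.leaf 0x23a6000003) (.leaf 0x10062a8))) (.node (.node (.leaf 0x20014b8) (.leaf 0x54b800428d)) (.node (.leaf 0x1f7b002f38) (.leaf 0x0)))) (.node (.node (.node (.leaf 0x3000cb8) (.leaf 0x42fc004cb8)) (.node (.leaf 0x1f71002cb8) (.leaf 0x2006aa0))) (.node (.node (.leaf 0x1001cb8) (.leaf 0x1005c12)) (.node (.leaf 0x244b003b0c) (.leaf 0x0)))))) (.node (.node (.node (.node (.node (.leaf 0x20002b8) (.leaf 0x428a0042b3)) (.node (.leaf 0x21e6000003) (.leaf 0x20060c6))) (.node (.node (.leaf 0x1000618) (.leaf 0x44360052b8)) (.node (.leaf 0x967002c30) (.leaf 0x0)))) (.node (.node (.node (.leaf 0xab8000001) (.leaf 0x4ab8004408)) (.node (.leaf 0x29da001f7b) (.leaf 0x2006863))) (.node (.node (.leaf 0x1ab8000002) (.leaf 0x2005ab8)) (.node (.leaf 0x23ef003072) (.leaf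 0x0))))) (.node (.node (.node (.node (.leaf 0x6b8000001) (.leaf 0x43a70046b8)) (.node (.leaf 0x25b8000001) (.leaf 0x2006470))) (.node (.node (.leaf 0x16b8000003) (.leaf 0x44010056b8)) (.node (.leaf 0x33900024b2) (.leaf 0x0)))) (.node (.node (.node (.leaf 0x3000eb8) (.leaf 0x43670043f8)) (.node (.leaf 0x2eb8001f72) (.leaf 0x2006d44))) (.node (.node (.leaf 0x1eb8000001) (.leaf 0x5d9b000003)) (.node (.leaf 0x227d002bea) (.leaf 0x0))))))) (.node (.node (.node (.node (.node (.node (.leaf 0x20001b8) (.leaf 0xa09002c26)) (.node (.leaf 0xf42000001) (.leaf 0x2005ff2))) (.node (.node (.leaf 0x20011b8) (.leaf 0x43ce0047fb)) (.node (.leaf 0x31b8001f72) (.leaf 0x0)))) (.node (.node (.node (.leaf 0x10009b8) (.leaf 0x439f0049b8)) (.node (.leaf 0x29b8001f72) (.leaf 0x200675e))) (.node (.node (.leaf 0x19b8000003) (.leaf 0x50059b8)) (.node (.leaf 0x3342001f7b) (.leaf 0x0))))) (.node (.node (.node (.node (.leaf 0x5b8000003) (.leaf 0x44340045b8)) (.node (.leaf 0x20cb000003)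 (.leaf 0x2006392))) (.node (.node (.leaf 0x30015b8) (.leaf 0x441f00441e)) (.node (.leaf 0x35b8000024) (.leaf 0x0)))) (.node (.node (.node (.leaf 0x2000458) (.leaf 0x43a9004db8)) (.node (.leaf 0x1f71002db8) (.leaf 0x1006bdc))) (.node (.node (.leaf 0x1db8000001) (.leaf 0x10016a6)) (.node (.leaf 0x26430029e4) (.leaf 0x0)))))) (.node (.node (.node (.node (.node (.leaf 0x3b8000001) (.leaf 0x43660043b5)) (.node (.leaf 0xa6c000001) (.leaf 0x20061ae))) (.node (.node (.leaf 0x20013b8) (.leaf 0x42ad0053b8)) (.node (.leaf 0x33b800221c) (.leaf 0x0)))) (.node (.node (.node (.leaf 0xbb8000003) (.leaf 0x42ac004896)) (.node (.leaf 0x1f7b002bb8) (.leaf 0x200697e))) (.node (.node (.leaf 0x1bb8000002) (.leaf 0x2005b5e)) (.node (.leaf 0x22e3003114) (.leaf 0x0))))) (.node (.node (.node (.node (.leaf 0x7b8000003) (.leaf 0x47b80042e7)) (.node (.leaf 0x26f2000003) (.leaf 0x655b000003))) (.node (.node (.leaf 0x17b8000003) (.leaf 0x43b4004423)) (.node (.leaf 0x2407002e12)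 (.leaf 0x0)))) (.node (.node (.node (.leaf 0x1000fb8) (.leaf 0x71004fb8)) (.node (.leaf 0x2fb8001f7b) (.leaf 0x2006ec0))) (.node (.node (.leaf 0x1fa2000001) (.leaf 0x1005e60)) (.node (.leaf 0x2153002e92) (.leaf 0x0)))))))))

/-- part -/
def slpT_47 : Tr Nat := (.node (.node (.node (.node (.node (.node (.node (.node (.leaf 0x78000003) (.leaf 0x266b003776)) (.node (.leaf 0x1faf000003) (.leaf 0x2005ef0))) (.node (.node (.leaf 0x1078000001) (.leaf 0x50780043d3)) (.node (.leaf 0x1f71003078) (.leaf 0x1006fc6)))) (.node (.node (.node (.leaf 0x878000003) (.leaf 0x48780043d1)) (.node (.leaf 0x27c8000001) (.leaf 0x6615000001))) (.node (.node (.leaf 0x1878000003) (.leaf 0x4407005878)) (.node (.leaf 0x33960023c4) (.leaf 0x0))))) (.node (.node (.node (.node (.leaf 0x478000001) (.leaf 0x4478004275)) (.node (.leaf 0x236a000003) (.leaf 0x2006274))) (.node (.node (.leaf 0x1001478) (.leaf 0x54780043e3)) (.node (.leaf 0xfd5002fcf) (.leaf 0x0)))) (.node (.node (.node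 (.leaf 0x2000c78) (.leaf 0x4ab20043fe)) (.node (.leaf 0x1f71002c78) (.leaf 0x1006a56))) (.node (.node (.leaf 0x1001c78) (.leaf 0x1005bde)) (.node (.leaf 0x22fb003840) (.leaf 0x0)))))) (.node (.node (.node (.node (.node (.leaf 0x2000278) (.leaf 0x2004276)) (.node (.leaf 0x21ae000003) (.leaf 0x200608a))) (.node (.node (.leaf 0x2001278) (.leaf 0x4399005278)) (.node (.leaf 0x2fa60026f4) (.leaf 0x0)))) (.node (.node (.node (.leaf 0xa78000003) (.leaf 0x4a78004433)) (.node (.leaf 0x2a78001f72) (.leaf 0x1006822))) (.node (.node (.leaf 0x1a78000001) (.leaf 0x4436005a78)) (.node (.leaf 0x20b6002f34) (.leaf 0x0))))) (.node (.node (.node (.node (.leaf 0x678000003) (.leaf 0x43680043f2)) (.node (.leaf 0x2572000001) (.leaf 0x100617b))) (.node (.node (.leaf 0x2001678) (.leaf 0x4407005678)) (.node (.leaf 0x2a9e00004e) (.leaf 0x0)))) (.node (.node (.node (.leaf 0x2000e78) (.leaf 0x428c004e78)) (.node (.leaf 0x2e3e001f72) (.leaf 0x1006cf2))) (.node (.node (.leaf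 0x1e78000001) (.leaf 0x2005d62)) (.node (.leaf 0x27b9002e1a) (.leaf 0x0))))))) (.node (.node (.node (.node (.node (.node (.leaf 0x2000178) (.leaf 0x285b00320d)) (.node (.leaf 0xf9000003) (.leaf 0x2005fbe))) (.node (.node (.leaf 0x1001178) (.leaf 0x462b004425)) (.node (.leaf 0x3178001f7b) (.leaf 0x0)))) (.node (.node (.node (.leaf 0x2000979) (.leaf 0x4978000021)) (.node (.leaf 0x2936000003) (.leaf 0x2006716))) (.node (.node (.leaf 0x1978000001) (.leaf 0x43e0005978)) (.node (.leaf 0x2ef50022ca) (.leaf 0x0))))) (.node (.node (.node (.node (.leaf 0x578000001) (.leaf 0x428c004578)) (.node (.leaf 0x245e000003) (.leaf 0x200635a))) (.node (.node (.leaf 0x200058f) (.leaf 0x443a005578)) (.node (.leaf 0x2b2d0029a0) (.leaf 0x0)))) (.node (.node (.node (.leaf 0x1000d78) (.leaf 0x439b004d78)) (.node (.leaf 0x2d780021ec) (.leaf 0x1006b96))) (.node (.node (.leaf 0x1d78000003) (.leaf 0x2005cae)) (.node (.leaf 0x1fe7003217) (.leaf 0x0)))))) (.node (.node (.node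 (.node (.node (.leaf 0x378000002) (.leaf 0x4371004325)) (.node (.leaf 0x2299000001) (.leaf 0x200616e))) (.node (.node (.leaf 0x2001378) (.leaf 0x537800439c)) (.node (.leaf 0x3378001f72) (.leaf 0x0)))) (.node (.node (.node (.leaf 0xb78000002) (.leaf 0x4300004b78)) (.node (.leaf 0x2b78001f72) (.leaf 0x2006930))) (.node (.node (.leaf 0x1b78000003) (.leaf 0x200225e)) (.node (.leaf 0x1f7b00314f) (.leaf 0x0))))) (.node (.node (.node (.node (.leaf 0x778000003) (.leaf 0x22004778)) (.node (.leaf 0x20026a1) (.leaf 0x200651c))) (.node (.node (.leaf 0x1778000001) (.leaf 0x57780043ac)) (.node (.leaf 0x1f710035a9) (.leaf 0x0)))) (.node (.node (.node (.leaf 0x2000f78) (.leaf 0x4401004f78)) (.node (.leaf 0x2a3c002604) (.leaf 0x2006e50))) (.node (.node (.leaf 0x1f78000002) (.leaf 0x1005e2b)) (.node (.leaf 0xfda003302) (.leaf 0x0)))))))) (.node (.node (.node (.node (.node (.node (.node (.leaf 0xf8000001) (.leaf 0x186002c7c)) (.node (.leaf 0xf70000003) (.leaf 0x2005f5c)))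 (.node (.node (.leaf 0x10f8000001) (.leaf 0x44230043f2)) (.node (.leaf 0x30f8001f7b) (.leaf 0x10070a8)))) (.node (.node (.node (.leaf 0x8f8000003) (.leaf 0x48f8004317)) (.node (.leaf 0x2864000003) (.leaf 0x200669c))) (.node (.node (.leaf 0x18f8000001) (.leaf 0x43ba004327)) (.node (.leaf 0x2a3e0021c8) (.leaf 0x0))))) (.node (.node (.node (.node (.leaf 0x4f8000001) (.leaf 0x43a70044f8)) (.node (.leaf 0x23e0000003) (.leaf 0x10062e6))) (.node (.node (.leaf 0x10014f8) (.leaf 0x436c0045a5)) (.node (.leaf 0x34f8001f72) (.leaf 0x0)))) (.node (.node (.node (.leaf 0x1000cf8) (.leaf 0x42ee004cf8)) (.node (.leaf 0x18b002b91) (.leaf 0x2006af0))) (.node (.node (.leaf 0x2001cf8) (.leaf 0x2005c44)) (.node (.leaf 0x233b002ad7) (.leaf 0x0)))))) (.node (.node (.node (.node (.node (.leaf 0x20002f8) (.leaf 0x42e4000020)) (.node (.leaf 0x2223000001) (.leaf 0x20060f8))) (.node (.node (.leaf 0x10012f8) (.leaf 0x43a90052f8)) (.node (.leaf 0x1f71002d5d) (.leaf 0x0))))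 (.node (.node (.node (.leaf 0xaf8000003) (.leaf 0x4af8000001)) (.node (.leaf 0x1f7b002af8) (.leaf 0x10068a5))) (.node (.node (.leaf 0x1af8000001) (.leaf 0x5ae4000001)) (.node (.leaf 0x1fb5003136) (.leaf 0x0))))) (.node (.node (.node (.node (.leaf 0x6f8000001) (.leaf 0x42fe0046f8)) (.node (.leaf 0x2604000003) (.leaf 0x20064a4))) (.node (.node (.leaf 0x16f8000001) (.leaf 0x43990056f8)) (.node (.leaf 0x36f800258c) (.leaf 0x0)))) (.node (.node (.node (.leaf 0x2000ef8) (.leaf 0x4ef80043db)) (.node (.leaf 0x1f7b002ef8) (.leaf 0x1006dbe))) (.node (.node (.leaf 0x1ef8000003) (.leaf 0x1005dca)) (.node (.leaf 0x27e1002d4c) (.leaf 0x0))))))) (.node (.node (.node (.node (.node (.node (.leaf 0x1f8000001) (.leaf 0x23d7002fc9)) (.node (.leaf 0x213c000003) (.leaf 0x1006028))) (.node (.node (.leaf 0x30011f8) (.leaf 0x51f80043d9)) (.node (.leaf 0x31f8001f7b) (.leaf 0x0)))) (.node (.node (.node (.leaf 0x20009f8) (.leaf 0x49f800439c)) (.node (.leaf 0x1f710029f8)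 (.leaf 0x20067a1))) (.node (.node (.leaf 0x19f8000001) (.leaf 0x44380059f8)) (.node (.leaf 0x333e00218c) (.leaf 0x0))))) (.node (.node (.node (.node (.leaf 0x5f8000001) (.leaf 0x44fd00436d)) (.node (.leaf 0x24e2000001) (.leaf 0x10063c6))) (.node (.node (.leaf 0x10015f8) (.leaf 0x44010055f8)) (.node (.leaf 0x3113001f7b) (.leaf 0x0)))) (.node (.node (.node (.leaf 0x1000df8) (.leaf 0x1004df8)) (.node (.leaf 0x247d002df8) (.leaf 0x1006c48))) (.node (.node (.leaf 0x1df8000001) (.leaf 0x2005d00)) (.node (.leaf 0x21ba0038bd) (.leaf 0x0)))))) (.node (.node (.node (.node (.node (.leaf 0x30003f8) (.leaf 0x43690043ee)) (.node (.leaf 0x2302000003) (.leaf 0x20061f0))) (.node (.node (.leaf 0x30013f8) (.leaf 0x53f8000003)) (.node (.leaf 0x1f710033f8) (.leaf 0x0)))) (.node (.node (.node (.leaf 0x2000bf8) (.leaf 0x432700449a)) (.node (.leaf 0x1f71002bf8) (.leaf 0x20069c8))) (.node (.node (.leaf 0x1bf8000001) (.leaf 0x10014be)) (.node (.leaf 0x2829002c1a) (.leaf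 0x0))))) (.node (.node (.node (.node (.leaf 0x7f8000001) (.leaf 0x47f800003e)) (.node (.leaf 0x2741000003) (.leaf 0x6597000001))) (.node (.node (.leaf 0x17f8000001) (.leaf 0x44070057f8)) (.node (.leaf 0x31ec00271a) (.leaf 0x0)))) (.node (.node (.node (.leaf 0x8f8000001) (.leaf 0x4ff8000002)) (.node (.leaf 0x2e09001f72) (.leaf 0x2006f14))) (.node (.node (.leaf 0x1001fcf) (.leaf 0x1005e8b)) (.node (.leaf 0x24a5003c02) (.leaf 0x0)))))))))

/-- part -/
def slpT_48 : Tr Nat := (.node (.node (.node (.node (.node (.node (.node (.node (.leaf 0x3000004) (.leaf 0x2174002e20)) (.node (.leaf 0x1fd8000003) (.leaf 0x2005e95))) (.node (.node (.leaf 0x1004000001) (.leaf 0x43850043b6)) (.node (.leaf 0x3004001f7b) (.leaf 0x2006f22)))) (.node (.node (.node (.leaf 0x804000003) (.leaf 0x47fb004400)) (.node (.leaf 0x274b000001) (.leaf 0x65a3000003))) (.node (.node (.leaf 0x1804000001) (.leaf 0x432e005091)) (.node (.leaf 0x30b70021a2) (.leaf 0x0))))) (.node (.node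 (.node (.node (.leaf 0x2000404) (.leaf 0x10043ee)) (.node (.leaf 0x230e000001) (.leaf 0x10061f8))) (.node (.node (.leaf 0x2001404) (.leaf 0x437d0043cf)) (.node (.leaf 0x1f71003404) (.leaf 0x0)))) (.node (.node (.node (.leaf 0x3000c04) (.leaf 0x3004c04)) (.node (.leaf 0x1f7b002c04) (.leaf 0x20069d6))) (.node (.node (.leaf 0x1c04000001) (.leaf 0x2005b9a)) (.node (.leaf 0x2015002c14) (.leaf 0x0)))))) (.node (.node (.node (.node (.node (.leaf 0x204000001) (.leaf 0x295d002a5b)) (.node (.leaf 0x2146000003) (.leaf 0x1006030))) (.node (.node (.leaf 0x2001204) (.leaf 0x52040043e1)) (.node (.leaf 0x3204001f7b) (.leaf 0x0)))) (.node (.node (.node (.leaf 0x2000a04) (.leaf 0x4a040043d7)) (.node (.leaf 0x1f7b0029b3) (.leaf 0x20067af))) (.node (.node (.leaf 0x1a04000003) (.leaf 0x4385004e25)) (.node (.leaf 0x305100218c) (.leaf 0x0))))) (.node (.node (.node (.node (.leaf 0x604000001) (.leaf 0x46040043d3)) (.node (.leaf 0x24f0000001) (.leaf 0x10063d0))) (.node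 (.node (.leaf 0x1001604) (.leaf 0x432e0055bb)) (.node (.leaf 0x30b7001f7b) (.leaf 0x0)))) (.node (.node (.node (.leaf 0x1000e04) (.leaf 0x428d004e04)) (.node (.leaf 0x1f7b002b18) (.leaf 0x2006c54))) (.node (.node (.leaf 0x1e04000001) (.leaf 0x1005d06)) (.node (.leaf 0x21ba003023) (.leaf 0x0))))))) (.node (.node (.node (.node (.node (.node (.leaf 0x104000001) (.leaf 0x251b003023)) (.node (.leaf 0x2092000001) (.leaf 0x1005f66))) (.node (.node (.leaf 0x1104000001) (.leaf 0x428a005104)) (.node (.leaf 0x1f71003104) (.leaf 0x10070ce)))) (.node (.node (.node (.leaf 0x904000002) (.leaf 0x48ea0043d3)) (.node (.leaf 0x2876000003) (.leaf 0x10066a4))) (.node (.node (.leaf 0x1904000003) (.leaf 0x42a4005904)) (.node (.leaf 0x2e0f0021c8) (.leaf 0x0))))) (.node (.node (.node (.node (.leaf 0x504000003) (.leaf 0x4405004504)) (.node (.leaf 0x23ea000003) (.leaf 0x20062ee))) (.node (.node (.leaf 0x3001504) (.leaf 0x5504004353)) (.node (.leaf 0x35040021ff) (.leaf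 0x0)))) (.node (.node (.node (.leaf 0x3000d04) (.leaf 0x4358004d04)) (.node (.leaf 0x21eb002c1a) (.leaf 0x2006afc))) (.node (.node (.leaf 0x2001d04) (.leaf 0x20028ca)) (.node (.leaf 0x233b002b6d) (.leaf 0x0)))))) (.node (.node (.node (.node (.node (.leaf 0x1000304) (.leaf 0x42e40042fa)) (.node (.leaf 0x19d000003) (.leaf 0x2006104))) (.node (.node (.leaf 0x1001304) (.leaf 0x43c00043ba)) (.node (.leaf 0x212f003239) (.leaf 0x0)))) (.node (.node (.node (.leaf 0xb04000003) (.leaf 0x4370004429)) (.node (.leaf 0x1f71002b04) (.leaf 0x10068af))) (.node (.node (.leaf 0x1b04000003) (.leaf 0x5ae8000001)) (.node (.leaf 0x266d003420) (.leaf 0x0))))) (.node (.node (.node (.node (.leaf 0x704000001) (.leaf 0x43e2004704)) (.node (.leaf 0x261e000003) (.leaf 0x10064b0))) (.node (.node (.leaf 0x1704000001) (.leaf 0x42ad005704)) (.node (.leaf 0x2be900258c) (.leaf 0x0)))) (.node (.node (.node (.leaf 0x1000f04) (.leaf 0x4f040042cd)) (.node (.leaf 0x1f71002f04) (.leaf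 0x2006dd4))) (.node (.node (.leaf 0x1f04000001) (.leaf 0x2002370)) (.node (.leaf 0x27e1003333) (.leaf 0x0)))))))) (.node (.node (.node (.node (.node (.node (.node (.leaf 0x84000003) (.leaf 0x266b002c32)) (.node (.leaf 0x202c000003) (.leaf 0x1005efc))) (.node (.node (.leaf 0x1084000002) (.leaf 0x50840043a2)) (.node (.leaf 0x1f71003067) (.leaf 0x1006fd8)))) (.node (.node (.node (.leaf 0x884000003) (.leaf 0x4884004353)) (.node (.leaf 0x27d6000001) (.leaf 0x661d000003))) (.node (.node (.leaf 0x1884000001) (.leaf 0x4352005884)) (.node (.leaf 0x33be001f72) (.leaf 0x0))))) (.node (.node (.node (.node (.leaf 0x484000001) (.leaf 0x42a4004484)) (.node (.leaf 0x2374000001) (.leaf 0x200627e))) (.node (.node (.leaf 0x1001484) (.leaf 0x5484004431)) (.node (.leaf 0x1f71002b59) (.leaf 0x0)))) (.node (.node (.node (.leaf 0x2000c84) (.leaf 0x4302004c84)) (.node (.leaf 0x1f71002c84) (.leaf 0x2006a68))) (.node (.node (.leaf 0x2001c84) (.leaf 0x2005bea)) (.node (.leaf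 0x22e1003308) (.leaf 0x0)))))) (.node (.node (.node (.node (.node (.leaf 0x2000284) (.leaf 0x20001f8f)) (.node (.leaf 0x10021b5) (.leaf 0x1006098))) (.node (.node (.leaf 0xd8e001284) (.leaf 0x49ab0042ac)) (.node (.leaf 0x3284001f72) (.leaf 0x0)))) (.node (.node (.node (.leaf 0xa84000001) (.leaf 0x44e8004325)) (.node (.leaf 0x2a84001f72) (.leaf 0x100682a))) (.node (.node (.leaf 0x1a84000001) (.leaf 0x43ff00455a)) (.node (.leaf 0x21060039cd) (.leaf 0x0))))) (.node (.node (.node (.node (.leaf 0x684000003) (.leaf 0x4428004684)) (.node (.leaf 0x2580000003) (.leaf 0x2006442))) (.node (.node (.leaf 0x1684000001) (.leaf 0x43ff005684)) (.node (.leaf 0x31dc00004e) (.leaf 0x0)))) (.node (.node (.node (.leaf 0x2000e84) (.leaf 0x4274004e84)) (.node (.leaf 0x2e84001f72) (.leaf 0x2006cfe))) (.node (.node (.leaf 0x1e84000001) (.leaf 0x20022ca)) (.node (.leaf 0x20e3002c74) (.leaf 0x0))))))) (.node (.node (.node (.node (.node (.node (.leaf 0x10000ea) (.leaf 0x285b002c44))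 (.node (.leaf 0x20f8000003) (.leaf 0x2005fc6))) (.node (.node (.leaf 0x1001184) (.leaf 0x518400442d)) (.node (.leaf 0x3184001fc0) (.leaf 0x0)))) (.node (.node (.node (.leaf 0x2000984) (.leaf 0x44fc0043bd)) (.node (.leaf 0x2948000003) (.leaf 0x1006726))) (.node (.node (.leaf 0x1984000001) (.leaf 0x4387005984)) (.node (.leaf 0x2fb40022ca) (.leaf 0x0))))) (.node (.node (.node (.node (.leaf 0x584000001) (.leaf 0x4407004584)) (.node (.leaf 0x246a000001) (.leaf 0x2006362))) (.node (.node (.leaf 0x3001584) (.leaf 0x42ac00460e)) (.node (.leaf 0x35840026da) (.leaf 0x0)))) (.node (.node (.node (.leaf 0x2000d84) (.leaf 0x442100453d)) (.node (.leaf 0x2ae30021ec) (.leaf 0x1006ba6))) (.node (.node (.leaf 0x1d84000001) (.leaf 0x1005cb4)) (.node (.leaf 0x1fc003953) (.leaf 0x0)))))) (.node (.node (.node (.node (.node (.leaf 0x384000003) (.leaf 0x42ae004367)) (.node (.leaf 0x5b7000003) (.leaf 0x100617a))) (.node (.node (.leaf 0x2001384) (.leaf 0x538400429d)) (.node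 (.leaf 0x3384001f72) (.leaf 0x0)))) (.node (.node (.node (.leaf 0xb84000003) (.leaf 0x442e0043fa)) (.node (.leaf 0x2a1d001f72) (.leaf 0x2006946))) (.node (.node (.leaf 0x1b84000003) (.leaf 0x200223a)) (.node (.leaf 0x18e003271) (.leaf 0x0))))) (.node (.node (.node (.node (.leaf 0x784000002) (.leaf 0x436c004499)) (.node (.leaf 0x10026b7) (.leaf 0x652f000003))) (.node (.node (.leaf 0x1784000001) (.leaf 0x44a50043c1)) (.node (.leaf 0x53003283) (.leaf 0x0)))) (.node (.node (.node (.leaf 0x1000f84) (.leaf 0x1004f84)) (.node (.leaf 0x2f84001f7b) (.leaf 0x2006e68))) (.node (.node (.leaf 0x1f82000003) (.leaf 0x1005e37)) (.node (.leaf 0x286d0030a6) (.leaf 0x0)))))))))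

/-- part -/
def slpT_49 : Tr Nat := (.node (.node (.node (.node (.node (.node (.node (.node (.leaf 0x44000003) (.leaf 0x266b003969)) (.node (.leaf 0x1ffc000003) (.leaf 0x1005ec5))) (.node (.node (.leaf 0x1044000001) (.leaf 0x43480043be)) (.node (.leaf 0x2c5d00211e) (.leaf 0x2006f84)))) (.node (.node (.node (.leaf 0x844000001) (.leaf 0x42af004844)) (.node (.leaf 0x278c000001) (.leaf 0x10065e0))) (.node (.node (.leaf 0x1844000003) (.leaf 0x42e6005844)) (.node (.leaf 0x1f7b0030aa) (.leaf 0x0))))) (.node (.node (.node (.node (.leaf 0x444000002) (.leaf 0x4444000002)) (.node (.leaf 0x2183000003) (.leaf 0x200623c))) (.node (.node (.leaf 0x3001444) (.leaf 0x544400434d)) (.node (.leaf 0x1f71003444) (.leaf 0x0)))) (.node (.node (.node (.leaf 0x1000c44) (.leaf 0x3d004c44)) (.node (.leaf 0x1f71002c44) (.leaf 0x2006a16))) (.node (.node (.leaf 0x1001c44) (.leaf 0x10051b9)) (.node (.leaf 0xfd9002d20) (.leaf 0x0)))))) (.node (.node (.node (.node (.node (.leaf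 0x1000244) (.leaf 0x203b00339d)) (.node (.leaf 0x217a000001) (.leaf 0x1005da7))) (.node (.node (.leaf 0x2001244) (.leaf 0x5244004313)) (.node (.leaf 0x2f0d001f7b) (.leaf 0x0)))) (.node (.node (.node (.leaf 0xa44000003) (.leaf 0x4a440042e5)) (.node (.leaf 0x2a44001f72) (.leaf 0x20067e7))) (.node (.node (.leaf 0x1a44000001) (.leaf 0x428c005a44)) (.node (.leaf 0x2189002b57) (.leaf 0x0))))) (.node (.node (.node (.node (.leaf 0x644000001) (.leaf 0x443a004644)) (.node (.leaf 0x2534000003) (.leaf 0x200640e))) (.node (.node (.leaf 0x2001644) (.leaf 0x42fa005644)) (.node (.leaf 0x3644001f7b) (.leaf 0x0)))) (.node (.node (.node (.leaf 0x2000e44) (.leaf 0x22004e44)) (.node (.leaf 0x2e44001f72) (.leaf 0x2006caa))) (.node (.node (.leaf 0x1001e44) (.leaf 0x1714000003)) (.node (.leaf 0x1cf0037f3) (.leaf 0x0))))))) (.node (.node (.node (.node (.node (.node (.leaf 0x2000144) (.leaf 0x23b10030eb)) (.node (.leaf 0x20ce000001) (.leaf 0x1005f92))) (.node (.node (.leaf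 0x1001144) (.leaf 0x5144004275)) (.node (.leaf 0x3144001f72) (.leaf 0x0)))) (.node (.node (.node (.leaf 0x944000001) (.leaf 0x494400430f)) (.node (.leaf 0x28de000003) (.leaf 0x10066e0))) (.node (.node (.leaf 0x1944000002) (.leaf 0x73005944)) (.node (.leaf 0x2f2f000f7b) (.leaf 0x0))))) (.node (.node (.node (.node (.leaf 0x544000001) (.leaf 0x454400429d)) (.node (.leaf 0x2428000003) (.leaf 0x2006328))) (.node (.node (.leaf 0x1001544) (.leaf 0x55440043e1)) (.node (.leaf 0x2dab001f7b) (.leaf 0x0)))) (.node (.node (.node (.leaf 0x2000d44) (.leaf 0x5004d44)) (.node (.leaf 0x18b002d44) (.leaf 0x2006b48))) (.node (.node (.leaf 0x1001d44) (.leaf 0x1005c84)) (.node (.leaf 0x24e1002ca8) (.leaf 0x0)))))) (.node (.node (.node (.node (.node (.leaf 0x344000003) (.leaf 0x42ac00433c)) (.node (.leaf 0x2273000001) (.leaf 0x100613e))) (.node (.node (.leaf 0x1001344) (.leaf 0x4d87004384)) (.node (.leaf 0x3344001f72) (.leaf 0x0)))) (.node (.node (.node (.leaf 0xb44000001)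 (.leaf 0x428c004b44)) (.node (.leaf 0x2b44001f72) (.leaf 0x20068ee))) (.node (.node (.leaf 0x1b44000001) (.leaf 0x20001d6)) (.node (.leaf 0x22b7003235) (.leaf 0x0))))) (.node (.node (.node (.node (.leaf 0x744000001) (.leaf 0x4430004744)) (.node (.leaf 0x1002663) (.leaf 0x20064ea))) (.node (.node (.leaf 0x1744000002) (.leaf 0x57440042ff)) (.node (.leaf 0x1f7100311c) (.leaf 0x0)))) (.node (.node (.node (.leaf 0x1000010) (.leaf 0x4f440042b2)) (.node (.leaf 0x1f7b002f44) (.leaf 0x1006e1e))) (.node (.node (.leaf 0x1001f45) (.leaf 0x1005e08)) (.node (.leaf 0xfda00396b) (.leaf 0x0)))))))) (.node (.node (.node (.node (.node (.node (.node (.leaf 0xc4000003) (.leaf 0x2278003267)) (.node (.leaf 0x2056000003) (.leaf 0x2005f32))) (.node (.node (.leaf 0x10c4000003) (.leaf 0x50c40010e7)) (.node (.leaf 0x1f7b002a2a) (.leaf 0x1007036)))) (.node (.node (.node (.leaf 0x8c4000003) (.leaf 0x43c4004431)) (.node (.leaf 0x281c000001) (.leaf 0x665f000003))) (.node (.node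 (.leaf 0x18c4000001) (.leaf 0x4915004427)) (.node (.leaf 0x374d0022c6) (.leaf 0x0))))) (.node (.node (.node (.node (.leaf 0x1c9000001) (.leaf 0x44300044c4)) (.node (.leaf 0xa16000003) (.leaf 0x20062ae))) (.node (.node (.leaf 0x10014c4) (.leaf 0x54c4000021)) (.node (.leaf 0x2f94001f72) (.leaf 0x0)))) (.node (.node (.node (.leaf 0x2000cc4) (.leaf 0x1004cc4)) (.node (.leaf 0x29ab002a9f) (.leaf 0x1005703))) (.node (.node (.leaf 0x1001cc4) (.leaf 0x2005c1c)) (.node (.leaf 0x244b002bea) (.leaf 0x0)))))) (.node (.node (.node (.node (.node (.leaf 0x10002c4) (.leaf 0x200042c0)) (.node (.leaf 0x21ee000001) (.leaf 0x10060ce))) (.node (.node (.leaf 0x10012c4) (.leaf 0x43a90052c4)) (.node (.leaf 0x967003052) (.leaf 0x0)))) (.node (.node (.node (.leaf 0xac4000001) (.leaf 0x4434004ac4)) (.node (.leaf 0x2ac4001f72) (.leaf 0x2006871))) (.node (.node (.leaf 0x1ac4000003) (.leaf 0x2001f8e)) (.node (.leaf 0x23ef002d28) (.leaf 0x0))))) (.node (.node (.node (.node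 (.leaf 0x6c4000001) (.leaf 0x43d200437e)) (.node (.leaf 0x25c8000001) (.leaf 0x100622f))) (.node (.node (.leaf 0x16c4000003) (.leaf 0x442a004ab1)) (.node (.leaf 0x36c4001f72) (.leaf 0x0)))) (.node (.node (.node (.leaf 0x2000ec4) (.leaf 0x4ec4004435)) (.node (.leaf 0x2b11001f72) (.leaf 0x1006d5e))) (.node (.node (.leaf 0x1ec4000003) (.leaf 0x5da7000003)) (.node (.leaf 0x2455002e3d) (.leaf 0x0))))))) (.node (.node (.node (.node (.node (.node (.leaf 0x10001c4) (.leaf 0x19da002bc6)) (.node (.leaf 0x2118000003) (.leaf 0x2005ffc))) (.node (.node (.leaf 0x10011c4) (.leaf 0x42ec0051c4)) (.node (.leaf 0x313300265e) (.leaf 0x0)))) (.node (.node (.node (.leaf 0x20009c4) (.leaf 0x43a90049c4)) (.node (.leaf 0x29c4001f72) (.leaf 0x2006768))) (.node (.node (.leaf 0x19c4000003) (.leaf 0x42ee0059c4)) (.node (.leaf 0x3386001f7b) (.leaf 0x0))))) (.node (.node (.node (.node (.leaf 0x5c4000003) (.leaf 0x43000045c4)) (.node (.leaf 0x2105000003) (.leaf 0x2006398)))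 (.node (.node (.leaf 0x20015c4) (.leaf 0x43d60055c4)) (.node (.leaf 0x35c4001f72) (.leaf 0x0)))) (.node (.node (.node (.leaf 0x3000dc4) (.leaf 0x4368004367)) (.node (.leaf 0x236d002a26) (.leaf 0x1006bf8))) (.node (.node (.leaf 0x1dc4000001) (.leaf 0x2005ce0)) (.node (.leaf 0x25bf00349e) (.leaf 0x0)))))) (.node (.node (.node (.node (.node (.leaf 0x3c4000001) (.leaf 0x43b30043be)) (.node (.leaf 0x22d6000003) (.leaf 0x20061c0))) (.node (.node (.leaf 0x20013c4) (.leaf 0x53c400430f)) (.node (.leaf 0x2c47001f7b) (.leaf 0x0)))) (.node (.node (.node (.leaf 0xbc4000001) (.leaf 0x428e004bc4)) (.node (.leaf 0x1f71002bc4) (.leaf 0x100698a))) (.node (.node (.leaf 0x1bc4000003) (.leaf 0x2005b6c)) (.node (.leaf 0x22e3002bc2) (.leaf 0x0))))) (.node (.node (.node (.node (.leaf 0x7c4000003) (.leaf 0x47c40042ff)) (.node (.leaf 0x26fe000001) (.leaf 0x6569000001))) (.node (.node (.leaf 0x17c4000001) (.leaf 0x57c40042b2)) (.node (.leaf 0x24070034c3) (.leaf 0x0))))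 (.node (.node (.node (.leaf 0x1000fc4) (.leaf 0x43ff004fc4)) (.node (.leaf 0x2a27001f7b) (.leaf 0x2006ed4))) (.node (.node (.leaf 0x1cd000003) (.leaf 0x2005e67)) (.node (.leaf 0x20f70036ed) (.leaf 0x0)))))))))

/-- part -/
def slpT_50 : Tr Nat := (.node (.node (.node (.node (.node (.node (.node (.node (.leaf 0x2000024) (.leaf 0x266b002d75)) (.node (.leaf 0xf3e000001) (.leaf 0x2005eaf))) (.node (.node (.leaf 0x1024000003) (.leaf 0x43a7005024)) (.node (.leaf 0x3024001f72) (.leaf 0x2006f44)))) (.node (.node (.node (.leaf 0x824000003) (.leaf 0x4824004408)) (.node (.leaf 0x276f000003) (.leaf 0x20065c2))) (.node (.node (.leaf 0x1824000001) (.leaf 0x4385005824)) (.node (.leaf 0x3822001f7b) (.leaf 0x0))))) (.node (.node (.node (.node (.leaf 0x424000001) (.leaf 0x441a0042ae)) (.node (.leaf 0x232c000003) (.leaf 0x2006216))) (.node (.node (.leaf 0x1001424) (.leaf 0x54240043d7)) (.node (.leaf 0x201f002a69) (.leaf 0x0)))) (.node (.node (.node (.leaf 0x1000c24)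 (.leaf 0x42e8004c24)) (.node (.leaf 0x1f71002c24) (.leaf 0x20069f6))) (.node (.node (.leaf 0x1c24000001) (.leaf 0x20021a8)) (.node (.leaf 0x20a9002d22) (.leaf 0x0)))))) (.node (.node (.node (.node (.node (.leaf 0x1000224) (.leaf 0x297d002faf)) (.node (.leaf 0x100215b) (.leaf 0x200604c))) (.node (.node (.leaf 0x1001224) (.leaf 0x522400429d)) (.node (.leaf 0x3224001f7b) (.leaf 0x0)))) (.node (.node (.node (.leaf 0xa24000003) (.leaf 0x451a0043ed)) (.node (.leaf 0x1f71002a24) (.leaf 0x10067cd))) (.node (.node (.leaf 0x1a24000001) (.leaf 0x42ec005a24)) (.node (.leaf 0x34e600004f) (.leaf 0x0))))) (.node (.node (.node (.node (.leaf 0x624000001) (.leaf 0x46240042b2)) (.node (.leaf 0x2510000001) (.leaf 0x10063ee))) (.node (.node (.leaf 0x2001624) (.leaf 0x43f7004790)) (.node (.leaf 0x3624001f72) (.leaf 0x0)))) (.node (.node (.node (.leaf 0x2000e24) (.leaf 0x462c0043c9)) (.node (.leaf 0x1f71002e24) (.leaf 0x2006c82))) (.node (.node (.leaf 0x2001e25) (.leaf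 0x58cf000003)) (.node (.leaf 0x222100347c) (.leaf 0x0))))))) (.node (.node (.node (.node (.node (.node (.leaf 0x124000001) (.leaf 0x21e7002a2a)) (.node (.leaf 0x1240000003) (.leaf 0x2005f7c))) (.node (.node (.leaf 0x1001124) (.leaf 0x5124004317)) (.node (.leaf 0x21a9003112) (.leaf 0x0)))) (.node (.node (.node (.leaf 0x924000001) (.leaf 0x492400432f)) (.node (.leaf 0x28a8000003) (.leaf 0x20066c2))) (.node (.node (.leaf 0x1924000001) (.leaf 0x429a005924)) (.node (.leaf 0x2b0900013d) (.leaf 0x0))))) (.node (.node (.node (.node (.leaf 0x524000003) (.leaf 0x43f4004369)) (.node (.leaf 0x240c000003) (.leaf 0x100630e))) (.node (.node (.leaf 0x1001524) (.leaf 0x552400442b)) (.node (.leaf 0x344d0021ff) (.leaf 0x0)))) (.node (.node (.node (.leaf 0x1000d24) (.leaf 0x42e8004d24)) (.node (.leaf 0x2971002c4e) (.leaf 0x2006b1c))) (.node (.node (.leaf 0x2001d24) (.leaf 0x2001c44)) (.node (.leaf 0x255100332c) (.leaf 0x0)))))) (.node (.node (.node (.node (.node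 (.leaf 0x3000324) (.leaf 0x4324004324)) (.node (.leaf 0x224e000003) (.leaf 0x2006124))) (.node (.node (.leaf 0x3001324) (.leaf 0x4daa0042ae)) (.node (.leaf 0x1f71003324) (.leaf 0x0)))) (.node (.node (.node (.leaf 0xb24000001) (.leaf 0x449a00436b)) (.node (.leaf 0x1f7b002b24) (.leaf 0x10068cb))) (.node (.node (.leaf 0x1b24000003) (.leaf 0x5afc000001)) (.node (.leaf 0x276a002bd4) (.leaf 0x0))))) (.node (.node (.node (.node (.leaf 0x724000001) (.leaf 0x4724004437)) (.node (.leaf 0xf79000001) (.leaf 0x20064d2))) (.node (.node (.leaf 0x1724000003) (.leaf 0x430e005724)) (.node (.leaf 0x3620001f72) (.leaf 0x0)))) (.node (.node (.node (.leaf 0x1000f24) (.leaf 0x479a00442f)) (.node (.leaf 0x21002f24) (.leaf 0x2006df0))) (.node (.node (.leaf 0x1f24000003) (.leaf 0x1005df0)) (.node (.leaf 0x27e1002f46) (.leaf 0x0)))))))) (.node (.node (.node (.node (.node (.node (.node (.leaf 0x10000a4) (.leaf 0x21b3002ae6)) (.node (.leaf 0x2042000003) (.leaf 0x1005f20)))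 (.node (.node (.leaf 0x10a4000002) (.leaf 0x50a4004329)) (.node (.leaf 0x1f7b003087) (.leaf 0x200700a)))) (.node (.node (.node (.leaf 0x8a4000003) (.leaf 0x48a400003c)) (.node (.leaf 0x27fe000001) (.leaf 0x663d000003))) (.node (.node (.leaf 0x18a4000001) (.leaf 0x44380058a4)) (.node (.leaf 0x306d0027ce) (.leaf 0x0))))) (.node (.node (.node (.node (.leaf 0x4a4000001) (.leaf 0x43240044a5)) (.node (.leaf 0x238a000003) (.leaf 0x2006298))) (.node (.node (.leaf 0x20014a4) (.leaf 0x54a40043e1)) (.node (.leaf 0x1f710031df) (.leaf 0x0)))) (.node (.node (.node (.leaf 0x2000ca4) (.leaf 0x42c0004ca4)) (.node (.leaf 0x1f71002a79) (.leaf 0x1006a8c))) (.node (.node (.leaf 0x3001ca4) (.leaf 0x2005c00)) (.node (.leaf 0x244b0036c3) (.leaf 0x0)))))) (.node (.node (.node (.node (.node (.leaf 0x20002a4) (.leaf 0x428a002505)) (.node (.leaf 0x202d000003) (.leaf 0x10060b4))) (.node (.node (.leaf 0x20012a4) (.leaf 0x447300442f)) (.node (.leaf 0x1f710029ee) (.leaf 0x0))))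 (.node (.node (.node (.leaf 0xaa4000003) (.leaf 0x4aa4004349)) (.node (.leaf 0x2aa4001f72) (.leaf 0x200684c))) (.node (.node (.leaf 0x1aa4000001) (.leaf 0x5005aa4)) (.node (.leaf 0x249b003840) (.leaf 0x0))))) (.node (.node (.node (.node (.leaf 0x6a4000001) (.leaf 0x43a10046a4)) (.node (.leaf 0x259e000003) (.leaf 0x100645e))) (.node (.node (.leaf 0x16a4000003) (.leaf 0x438700476c)) (.node (.leaf 0x2f210024b2) (.leaf 0x0)))) (.node (.node (.node (.leaf 0x1000ea4) (.leaf 0x42fa004ea4)) (.node (.leaf 0x2ea4001f72) (.leaf 0x2006d22))) (.node (.node (.leaf 0x1ea4000003) (.leaf 0x5d87000003)) (.node (.leaf 0x208a0034e7) (.leaf 0x0))))))) (.node (.node (.node (.node (.node (.node (.leaf 0x10001a4) (.leaf 0x1fa9002d1a)) (.node (.leaf 0x210c000003) (.leaf 0x1005fe6))) (.node (.node (.leaf 0x10011a4) (.leaf 0x51a40043a0)) (.node (.leaf 0x3135001f7b) (.leaf 0x0)))) (.node (.node (.node (.leaf 0x20009a4) (.leaf 0x49a40043d7)) (.node (.leaf 0x2992000003) (.leaf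 0x100674a))) (.node (.node (.leaf 0xd17000001) (.leaf 0x44010059a4)) (.node (.leaf 0x35b4002628) (.leaf 0x0))))) (.node (.node (.node (.node (.leaf 0x5a4000001) (.leaf 0x44210045a4)) (.node (.leaf 0x20b9000003) (.leaf 0x200637e))) (.node (.node (.leaf 0x10015a4) (.leaf 0x428c004fc5)) (.node (.leaf 0x35a4001f72) (.leaf 0x0)))) (.node (.node (.node (.leaf 0x1000da4) (.leaf 0x20004da4)) (.node (.leaf 0x1f71002aa9) (.leaf 0x2006bc4))) (.node (.node (.leaf 0x1da4000002) (.leaf 0x20023ea)) (.node (.leaf 0x27480030f7) (.leaf 0x0)))))) (.node (.node (.node (.node (.node (.leaf 0x20003a4) (.leaf 0x439e0042e5)) (.node (.leaf 0x22be000001) (.leaf 0x1006198))) (.node (.node (.leaf 0x20013a4) (.leaf 0x429a0053a4)) (.node (.leaf 0x2beb001f7b) (.leaf 0x0)))) (.node (.node (.node (.leaf 0xba4000003) (.leaf 0x42cc004ba4)) (.node (.leaf 0x1f7b002ba4) (.leaf 0x200696c))) (.node (.node (.leaf 0x1ba4000003) (.leaf 0x200226f)) (.node (.leaf 0x22e3003627) (.leaf 0x0)))))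 (.node (.node (.node (.node (.leaf 0x7a4000002) (.leaf 0x47a40042e5)) (.node (.leaf 0x26dc000003) (.leaf 0x5f36000001))) (.node (.node (.leaf 0x17a4000003) (.leaf 0x57a40043a0)) (.node (.leaf 0x53002e43) (.leaf 0x0)))) (.node (.node (.node (.leaf 0x2000fa4) (.leaf 0x43da004fa4)) (.node (.leaf 0x2fa4001f72) (.leaf 0x2006e9a))) (.node (.node (.leaf 0x1ee5000003) (.leaf 0x2002758)) (.node (.leaf 0x2153002c68) (.leaf 0x0)))))))))

/-- part -/
def slpT_51 : Tr Nat := (.node (.node (.node (.node (.node (.node (.node (.node (.leaf 0x64000002) (.leaf 0x266b003503)) (.node (.leaf 0x200e000003) (.leaf 0x1005e94))) (.node (.node (.leaf 0x1064000001) (.leaf 0x5064004406)) (.node (.leaf 0x1f71003064) (.leaf 0x2006fb0)))) (.node (.node (.node (.leaf 0x864000001) (.leaf 0x43d2004864)) (.node (.leaf 0x27b6000003) (.leaf 0x6601000001))) (.node (.node (.leaf 0x1864000003) (.leaf 0x442a005864)) (.node (.leaf 0x2d9100252c) (.leaf 0x0))))) (.node (.node (.node (.node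 (.leaf 0x464000002) (.leaf 0x4464004353)) (.node (.leaf 0x235a000003) (.leaf 0x1006262))) (.node (.node (.leaf 0x1001464) (.leaf 0x5464004402)) (.node (.leaf 0xfd50033bd) (.leaf 0x0)))) (.node (.node (.node (.leaf 0x3000c64) (.leaf 0x4c640043a8)) (.node (.leaf 0x1f71002c64) (.leaf 0x1006a34))) (.node (.node (.leaf 0x1001c64) (.leaf 0x20025a0)) (.node (.leaf 0x2121002ab8) (.leaf 0x0)))))) (.node (.node (.node (.node (.node (.leaf 0x1000264) (.leaf 0x21c3003541)) (.node (.leaf 0x219a000001) (.leaf 0x100607e))) (.node (.node (.leaf 0x1001264) (.leaf 0x42b3005264)) (.node (.leaf 0x2db50026f4) (.leaf 0x0)))) (.node (.node (.node (.leaf 0xa64000001) (.leaf 0x4a6400443b)) (.node (.leaf 0x2a64001f7b) (.leaf 0x200680d))) (.node (.node (.leaf 0x1a64000002) (.leaf 0x42e4005a64)) (.node (.leaf 0x96e003211) (.leaf 0x0))))) (.node (.node (.node (.node (.leaf 0x664000001) (.leaf 0x42fa004664)) (.node (.leaf 0x2560000003) (.leaf 0x2006424))) (.node (.node (.leaf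 0x1001664) (.leaf 0x4e400043d1)) (.node (.leaf 0x30d400004e) (.leaf 0x0)))) (.node (.node (.node (.leaf 0x1000e64) (.leaf 0x43d6004e64)) (.node (.leaf 0x2d3b001f72) (.leaf 0x2006cd0))) (.node (.node (.leaf 0x1e64000001) (.leaf 0x5d4f000003)) (.node (.leaf 0x27b9002a0c) (.leaf 0x0))))))) (.node (.node (.node (.node (.node (.node (.leaf 0x2000164) (.leaf 0x23b1002dbd)) (.node (.leaf 0x20e4000001) (.leaf 0x1005fac))) (.node (.node (.leaf 0x3001164) (.leaf 0x51640010e7)) (.node (.leaf 0x3164001f72) (.leaf 0x0)))) (.node (.node (.node (.leaf 0x2b1000003) (.leaf 0x4964004303)) (.node (.leaf 0x2922000001) (.leaf 0x1006702))) (.node (.node (.leaf 0x1964000003) (.leaf 0x42c0005964)) (.node (.leaf 0x3137001f7b) (.leaf 0x0))))) (.node (.node (.node (.node (.leaf 0x564000001) (.leaf 0x4432004564)) (.node (.leaf 0x2446000003) (.leaf 0x2006344))) (.node (.node (.leaf 0x2001564) (.leaf 0x55640042b2)) (.node (.leaf 0x35640029a0) (.leaf 0x0)))) (.node (.node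 (.node (.leaf 0x1000d64) (.leaf 0x43ff004d64)) (.node (.leaf 0x2d64001f7b) (.leaf 0x2006b74))) (.node (.node (.leaf 0x1d64000003) (.leaf 0x2005c9e)) (.node (.leaf 0xf76002fbd) (.leaf 0x0)))))) (.node (.node (.node (.node (.node (.leaf 0x364000003) (.leaf 0x4327004364)) (.node (.leaf 0x228b000003) (.leaf 0x200615e))) (.node (.node (.leaf 0x1001364) (.leaf 0x53640043cf)) (.node (.leaf 0x3364002080) (.leaf 0x0)))) (.node (.node (.node (.leaf 0xb64000003) (.leaf 0x3d004b64)) (.node (.leaf 0x2b64001f72) (.leaf 0x2006920))) (.node (.node (.leaf 0x1b64000002) (.leaf 0x2005b25)) (.node (.leaf 0x28230029c1) (.leaf 0x0))))) (.node (.node (.node (.node (.leaf 0x764000003) (.leaf 0x4764004402)) (.node (.leaf 0x2002685) (.leaf 0x100650c))) (.node (.node (.leaf 0x1764000001) (.leaf 0x5764004384)) (.node (.leaf 0x1f7100370d) (.leaf 0x0)))) (.node (.node (.node (.leaf 0x1000f64) (.leaf 0x42ac004f64)) (.node (.leaf 0x2f64001f72) (.leaf 0x2006e3e))) (.node (.node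 (.leaf 0x1eee001f64) (.leaf 0x2005e1d)) (.node (.leaf 0xfda0033e6) (.leaf 0x0)))))))) (.node (.node (.node (.node (.node (.node (.node (.leaf 0x20000e5) (.leaf 0x18600365b)) (.node (.leaf 0x206e000003) (.leaf 0x2005f4a))) (.node (.node (.leaf 0x10e4000001) (.leaf 0x50e40010e7)) (.node (.leaf 0x2bbf002890) (.leaf 0x1007072)))) (.node (.node (.node (.leaf 0x8e4000001) (.leaf 0x48e4000023)) (.node (.leaf 0x2842000003) (.leaf 0x1006688))) (.node (.node (.leaf 0x18e4000003) (.leaf 0x58e4000004)) (.node (.leaf 0x2eb000209e) (.leaf 0x0))))) (.node (.node (.node (.node (.leaf 0x4e4000003) (.leaf 0x42cc0044e4)) (.node (.leaf 0x23ce000001) (.leaf 0x10062d0))) (.node (.node (.leaf 0x10014e4) (.leaf 0x20054e4)) (.node (.leaf 0x2d9d001f72) (.leaf 0x0)))) (.node (.node (.node (.leaf 0x1000ce4) (.leaf 0x42b100448a)) (.node (.leaf 0xfcd002b12) (.leaf 0x2006ad2))) (.node (.node (.leaf 0x3001ce4) (.leaf 0x20025c6)) (.node (.leaf 0x233b00325d) (.leaf 0x0))))))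 (.node (.node (.node (.node (.node (.leaf 0x20002e4) (.leaf 0x42e400428a)) (.node (.leaf 0x220d000003) (.leaf 0x20060e8))) (.node (.node (.leaf 0x10012e4) (.leaf 0x43a10052e4)) (.node (.leaf 0x1f7b003149) (.leaf 0x0)))) (.node (.node (.node (.leaf 0xae4000003) (.leaf 0x445f0043c1)) (.node (.leaf 0x1f7b002ae4) (.leaf 0x2006893))) (.node (.node (.leaf 0x1ae4000003) (.leaf 0x19ac000003)) (.node (.leaf 0x2669003130) (.leaf 0x0))))) (.node (.node (.node (.node (.leaf 0x6e4000001) (.leaf 0x439d0046e4)) (.node (.leaf 0x25e8000001) (.leaf 0x1006498))) (.node (.node (.leaf 0x16e4000001) (.leaf 0x43d80056e4)) (.node (.leaf 0x325e0005e8) (.leaf 0x0)))) (.node (.node (.node (.leaf 0x2000ee4) (.leaf 0x4ee400428d)) (.node (.leaf 0x28e1002b57) (.leaf 0x2006d9c))) (.node (.node (.leaf 0x152000001) (.leaf 0x2005db8)) (.node (.leaf 0x23310034f9) (.leaf 0x0))))))) (.node (.node (.node (.node (.node (.node (.leaf 0x1e4000003) (.leaf 0x83002f93)) (.node (.leaf 0x2132000001)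 (.leaf 0x20026b4))) (.node (.node (.leaf 0x20011e4) (.leaf 0x442c00449a)) (.node (.leaf 0x2c5d001f7b) (.leaf 0x0)))) (.node (.node (.node (.leaf 0x10009e4) (.leaf 0x49e40042b2)) (.node (.leaf 0x1f710029e5) (.leaf 0x100678d))) (.node (.node (.leaf 0x19e4000001) (.leaf 0x44340059e4)) (.node (.leaf 0x29b600200a) (.leaf 0x0))))) (.node (.node (.node (.node (.leaf 0x5e4000003) (.leaf 0x44600043bf)) (.node (.leaf 0x24cc000003) (.leaf 0x10063b4))) (.node (.node (.leaf 0x10015e4) (.leaf 0x4385004f4c)) (.node (.leaf 0x35e4001f72) (.leaf 0x0)))) (.node (.node (.node (.leaf 0x1000de4) (.leaf 0x4434004de4)) (.node (.leaf 0x22f7002de4) (.leaf 0x1006c24))) (.node (.node (.leaf 0x1de4000003) (.leaf 0x2005cf2)) (.node (.leaf 0x21ba003088) (.leaf 0x0)))))) (.node (.node (.node (.node (.node (.leaf 0x10003e4) (.leaf 0x43e30043e4)) (.node (.leaf 0xfd9000003) (.leaf 0x20061da))) (.node (.node (.leaf 0x20013e4) (.leaf 0x53e4004400)) (.node (.leaf 0x1f71002c96) (.leaf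 0x0)))) (.node (.node (.node (.leaf 0x2000be4) (.leaf 0x428d004be4)) (.node (.leaf 0x1f71002a41) (.leaf 0x20069ae))) (.node (.node (.leaf 0x1be4000001) (.leaf 0x2005b8a)) (.node (.leaf 0x27a9003459) (.leaf 0x0))))) (.node (.node (.node (.node (.leaf 0x7e4000003) (.leaf 0x47e40043a8)) (.node (.leaf 0x2722000003) (.leaf 0x6583000003))) (.node (.node (.leaf 0x17e4000002) (.leaf 0x57e400443b)) (.node (.leaf 0x2b1d00271a) (.leaf 0x0)))) (.node (.node (.node (.leaf 0xfe4000003) (.leaf 0x4fe40042e9)) (.node (.leaf 0x2fd8001f7b) (.leaf 0x1006f00))) (.node (.node (.leaf 0x10011b9) (.leaf 0x2005e7c)) (.node (.leaf 0x23e7002b36) (.leaf 0x0)))))))))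

/-- part -/
def slpT_52 : Tr Nat := (.node (.node (.node (.node (.node (.node (.node (.node (.leaf 0x1000014) (.leaf 0x242f002f8b)) (.node (.leaf 0x1fe0000003) (.leaf 0x2005ea1))) (.node (.node (.leaf 0x1014000003) (.leaf 0x443a005014)) (.node (.leaf 0x2bb3002450) (.leaf 0x2006f36)))) (.node (.node (.node (.leaf 0x814000003) (.leaf 0x4814004431)) (.node (.leaf 0x275c000003) (.leaf 0x10065b4))) (.node (.node (.leaf 0x1814000001) (.leaf 0x442c004a43)) (.node (.leaf 0x344f0021a2) (.leaf 0x0))))) (.node (.node (.node (.node (.leaf 0x414000002) (.leaf 0x4414004348)) (.node (.leaf 0x231c000001) (.leaf 0x1006204))) (.node (.node (.leaf 0x1001414) (.leaf 0x5414004402)) (.node (.leaf 0x2635002b72) (.leaf 0x0)))) (.node (.node (.node (.leaf 0x2000c14) (.leaf 0x5004c14)) (.node (.leaf 0x1f71002c14) (.leaf 0x20069e4))) (.node (.node (.leaf 0x1c14000001) (.leaf 0x1005ba4)) (.node (.leaf 0x20a9002b9f) (.leaf 0x0)))))) (.node (.node (.node (.node (.node (.leaf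 0x214000002) (.leaf 0x295d003545)) (.node (.leaf 0x200214f) (.leaf 0x200603e))) (.node (.node (.leaf 0x3001214) (.leaf 0x5214000023)) (.node (.leaf 0x2bff001f7b) (.leaf 0x0)))) (.node (.node (.node (.leaf 0xa14000003) (.leaf 0x4a1400442f)) (.node (.leaf 0x1f7b0029b7) (.leaf 0x10067bd))) (.node (.node (.leaf 0x1a14000001) (.leaf 0x4428004ced)) (.node (.leaf 0x30e000004f) (.leaf 0x0))))) (.node (.node (.node (.node (.leaf 0x614000003) (.leaf 0x4614000074)) (.node (.leaf 0x2500000003) (.leaf 0x20063e2))) (.node (.node (.leaf 0x2001614) (.leaf 0x43ce00467b)) (.node (.leaf 0x3614001f72) (.leaf 0x0)))) (.node (.node (.node (.leaf 0x1000e14) (.leaf 0x4e14004431)) (.node (.leaf 0x247d002c80) (.leaf 0x1006c6c))) (.node (.node (.leaf 0x1e14000001) (.leaf 0x2005d12)) (.node (.leaf 0x2221003448) (.leaf 0x0))))))) (.node (.node (.node (.node (.node (.node (.leaf 0x114000003) (.leaf 0x22530030ba)) (.node (.leaf 0x20a4000003) (.leaf 0x2005f72))) (.node (.node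 (.leaf 0x1001114) (.leaf 0x4409005114)) (.node (.leaf 0x1f71003114) (.leaf 0x10070ec)))) (.node (.node (.node (.leaf 0x914000001) (.leaf 0x44990043f8)) (.node (.leaf 0x288a000001) (.leaf 0x20066b4))) (.node (.node (.leaf 0x1914000003) (.leaf 0x429a005914)) (.node (.leaf 0x37dc00013d) (.leaf 0x0))))) (.node (.node (.node (.node (.leaf 0x514000002) (.leaf 0x42c0004514)) (.node (.leaf 0x23fc000003) (.leaf 0x20062fe))) (.node (.node (.leaf 0x2001514) (.leaf 0x5514004429)) (.node (.leaf 0x2c9d0021ff) (.leaf 0x0)))) (.node (.node (.node (.leaf 0x2000d14) (.leaf 0x43ab004d14)) (.node (.leaf 0x22f7002b06) (.leaf 0x2006b0c))) (.node (.node (.leaf 0x2001d14) (.leaf 0x1005c5e)) (.node (.leaf 0x2551002fd7) (.leaf 0x0)))))) (.node (.node (.node (.node (.node (.leaf 0x1000314) (.leaf 0x42e4000005)) (.node (.leaf 0x2240000001) (.leaf 0x2006114))) (.node (.node (.leaf 0x1001314) (.leaf 0x44300051a0)) (.node (.leaf 0x1f7b002de4) (.leaf 0x0)))) (.node (.node (.node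 (.leaf 0xb14000003) (.leaf 0x46ab004384)) (.node (.leaf 0x1f71002b14) (.leaf 0x20068b9))) (.node (.node (.leaf 0x1b14000003) (.leaf 0x209b000003)) (.node (.leaf 0x276a003245) (.leaf 0x0))))) (.node (.node (.node (.node (.leaf 0x714000001) (.leaf 0x43f70043ba)) (.node (.leaf 0x2630000001) (.leaf 0x10064c2))) (.node (.node (.leaf 0x1714000001) (.leaf 0x43e2005714)) (.node (.leaf 0x2e1b001f72) (.leaf 0x0)))) (.node (.node (.node (.leaf 0x1000f14) (.leaf 0x4d01004384)) (.node (.leaf 0x21002f14) (.leaf 0x1006de2))) (.node (.node (.leaf 0x1f14000003) (.leaf 0x10014bf)) (.node (.leaf 0x27e1003287) (.leaf 0x0)))))))) (.node (.node (.node (.node (.node (.node (.node (.leaf 0x2000094) (.leaf 0x21b3003136)) (.node (.leaf 0x203a000003) (.leaf 0x2005f08))) (.node (.node (.leaf 0x1094000003) (.leaf 0x509400428c)) (.node (.leaf 0x1f7b003094) (.leaf 0x2006fee)))) (.node (.node (.node (.leaf 0x894000001) (.leaf 0x43f40043ed)) (.node (.leaf 0x27e8000001) (.leaf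 0x6633000003))) (.node (.node (.leaf 0x1894000001) (.leaf 0x4358005894)) (.node (.leaf 0x384e001f72) (.leaf 0x0))))) (.node (.node (.node (.node (.leaf 0x494000003) (.leaf 0x44940042fd)) (.node (.leaf 0x237e000003) (.leaf 0x100628c))) (.node (.node (.leaf 0x10005bf) (.leaf 0x549400429d)) (.node (.leaf 0x1f7b003494) (.leaf 0x0)))) (.node (.node (.node (.leaf 0x2000c94) (.leaf 0x43a7004c94)) (.node (.leaf 0x1f7b002c40) (.leaf 0x1006a7e))) (.node (.node (.leaf 0x2001c94) (.leaf 0x1000f58)) (.node (.leaf 0x1fc4002dcc) (.leaf 0x0)))))) (.node (.node (.node (.node (.node (.leaf 0x2000294) (.leaf 0x428a00428e)) (.node (.leaf 0x20021c9) (.leaf 0x20060a4))) (.node (.node (.leaf 0x2001294) (.leaf 0x47f10042ac)) (.node (.leaf 0x1f7b003294) (.leaf 0x0)))) (.node (.node (.node (.leaf 0x522000003) (.leaf 0x4a940043ac)) (.node (.leaf 0x2a94001f7b) (.leaf 0x200683e))) (.node (.node (.leaf 0x1a94000001) (.leaf 0x4383004cf6)) (.node (.leaf 0x249b003397) (.leaf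 0x0))))) (.node (.node (.node (.node (.leaf 0x694000001) (.leaf 0x3b004694)) (.node (.leaf 0x2590000003) (.leaf 0x2006450))) (.node (.node (.leaf 0x1694000003) (.leaf 0x43bc004ac3)) (.node (.leaf 0x33f10024b2) (.leaf 0x0)))) (.node (.node (.node (.leaf 0x1000e94) (.leaf 0x4358004e94)) (.node (.leaf 0x2e94001f7b) (.leaf 0x1006d12))) (.node (.node (.leaf 0x1e94000003) (.leaf 0x5d79000003)) (.node (.leaf 0x20e3002e9f) (.leaf 0x0))))))) (.node (.node (.node (.node (.node (.node (.leaf 0x2000194) (.leaf 0x2613002abb)) (.node (.leaf 0x2102000003) (.leaf 0x1005fd6))) (.node (.node (.leaf 0x10007e9) (.leaf 0x51940043a8)) (.node (.leaf 0x2b31001fc0) (.leaf 0x0)))) (.node (.node (.node (.leaf 0x2000994) (.leaf 0x499400439e)) (.node (.leaf 0x295c000001) (.leaf 0x1006738))) (.node (.node (.leaf 0x1994000003) (.leaf 0x4383004d18)) (.node (.leaf 0x2bbd001f7b) (.leaf 0x0))))) (.node (.node (.node (.node (.leaf 0x594000001) (.leaf 0x439f004594)) (.node (.leaf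 0x247a000001) (.leaf 0x2006370))) (.node (.node (.leaf 0x1001594) (.leaf 0x4387005594)) (.node (.leaf 0x2ab70026da) (.leaf 0x0)))) (.node (.node (.node (.leaf 0x2000d94) (.leaf 0x43c000462b)) (.node (.leaf 0x1f7b002d94) (.leaf 0x1006bb8))) (.node (.node (.leaf 0x1d94000001) (.leaf 0x2005cc0)) (.node (.leaf 0x262d002b30) (.leaf 0x0)))))) (.node (.node (.node (.node (.node (.leaf 0x394000001) (.leaf 0x438c0042ad)) (.node (.leaf 0x22b0000001) (.leaf 0x200618a))) (.node (.node (.leaf 0x1001394) (.leaf 0x539400440a)) (.node (.leaf 0x31f0001f72) (.leaf 0x0)))) (.node (.node (.node (.leaf 0xb94000001) (.leaf 0x42ac004b94)) (.node (.leaf 0x2a90001f7b) (.leaf 0x2006954))) (.node (.node (.leaf 0x1b94000003) (.leaf 0x1005b46)) (.node (.leaf 0x231f00307e) (.leaf 0x0))))) (.node (.node (.node (.node (.leaf 0x794000003) (.leaf 0x47940042ff)) (.node (.leaf 0x26cc000003) (.leaf 0x6543000003))) (.node (.node (.leaf 0x1794000002) (.leaf 0x57940010e7)) (.node (.leaf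 0x53003332) (.leaf 0x0)))) (.node (.node (.node (.leaf 0x2000f94) (.leaf 0x3004f94)) (.node (.leaf 0x2f94002604) (.leaf 0x2006e7e))) (.node (.node (.leaf 0x1cd6000003) (.leaf 0x1005e45)) (.node (.leaf 0x2695002eb3) (.leaf 0x0)))))))))

/-- part -/
def slpT_53 : Tr Nat := (.node (.node (.node (.node (.node (.node (.node (.node (.leaf 0x54000003) (.leaf 0x266b0030df)) (.node (.leaf 0x2002000003) (.leaf 0x1005ed1))) (.node (.node (.leaf 0x1054000002) (.leaf 0x50540042ff)) (.node (.leaf 0x2691002a45) (.leaf 0x1006f94)))) (.node (.node (.node (.leaf 0x854000001) (.leaf 0x44210044fd)) (.node (.leaf 0x27a4000001) (.leaf 0x65ef000003))) (.node (.node (.leaf 0x1854000002) (.leaf 0x442a005854)) (.node (.leaf 0x29ff00252c) (.leaf 0x0))))) (.node (.node (.node (.node (.leaf 0x454000003) (.leaf 0x43bc0043ee)) (.node (.leaf 0x2354000001) (.leaf 0x100624e))) (.node (.node (.leaf 0x2001454) (.leaf 0x5454004353)) (.node (.leaf 0xfd5003454) (.leaf 0x0)))) (.node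 (.node (.node (.leaf 0x2000983) (.leaf 0x43e2004c54)) (.node (.leaf 0x1f71002c54) (.leaf 0x2006a26))) (.node (.node (.leaf 0x2001c54) (.leaf 0x2005bc8)) (.node (.leaf 0x19b003613) (.leaf 0x0)))))) (.node (.node (.node (.node (.node (.leaf 0x1000254) (.leaf 0x20cd0033d0)) (.node (.leaf 0x2184000003) (.leaf 0x2006076))) (.node (.node (.leaf 0x2001254) (.leaf 0x43da005254)) (.node (.leaf 0x3254001f72) (.leaf 0x0)))) (.node (.node (.node (.leaf 0xa54000001) (.leaf 0x447d004369)) (.node (.leaf 0x2a54001f7b) (.leaf 0x20067f7))) (.node (.node (.leaf 0x1a54000001) (.leaf 0x428c005a54)) (.node (.leaf 0x218900338d) (.leaf 0x0))))) (.node (.node (.node (.node (.leaf 0x48c000001) (.leaf 0x430e004654)) (.node (.leaf 0x2548000003) (.leaf 0x2006416))) (.node (.node (.leaf 0x1001654) (.leaf 0x56540042ef)) (.node (.leaf 0x34ca00004e) (.leaf 0x0)))) (.node (.node (.node (.leaf 0x2000e54) (.leaf 0x42fc004e54)) (.node (.leaf 0x2c4f001f7b) (.leaf 0x2006cba))) (.node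 (.node (.leaf 0x1001e54) (.leaf 0x1005d42)) (.node (.leaf 0x26710033da) (.leaf 0x0))))))) (.node (.node (.node (.node (.node (.node (.leaf 0x1000154) (.leaf 0x23b1002ad5)) (.node (.leaf 0x2069000003) (.leaf 0x1005fa0))) (.node (.node (.leaf 0x1001154) (.leaf 0x515400443b)) (.node (.leaf 0x2a3200254c) (.leaf 0x0)))) (.node (.node (.node (.leaf 0x954000002) (.leaf 0x495400429d)) (.node (.leaf 0x2900000003) (.leaf 0x10066f4))) (.node (.node (.leaf 0x1954000003) (.leaf 0x430e005954)) (.node (.leaf 0x312f002258) (.leaf 0x0))))) (.node (.node (.node (.node (.leaf 0x554000001) (.leaf 0x45540042fd)) (.node (.leaf 0x2436000003) (.leaf 0x100633a))) (.node (.node (.leaf 0x1001554) (.leaf 0x555400428f)) (.node (.leaf 0x34950029a0) (.leaf 0x0)))) (.node (.node (.node (.leaf 0x1000d54) (.leaf 0x42ee004d54)) (.node (.leaf 0x2ca10028d2) (.leaf 0x2006b5a))) (.node (.node (.leaf 0x2001d54) (.leaf 0x2005c92)) (.node (.leaf 0xf760034a6) (.leaf 0x0)))))) (.node (.node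 (.node (.node (.node (.leaf 0x354000003) (.leaf 0x42e4004354)) (.node (.leaf 0x160000003) (.leaf 0x100614e))) (.node (.node (.leaf 0x2001354) (.leaf 0x535400003e)) (.node (.leaf 0x2b68001f7b) (.leaf 0x0)))) (.node (.node (.node (.leaf 0xb54000003) (.leaf 0x4428004b54)) (.node (.leaf 0x2b54001f72) (.leaf 0x200690a))) (.node (.node (.leaf 0x1b54000001) (.leaf 0x202b000003)) (.node (.leaf 0x282300315b) (.leaf 0x0))))) (.node (.node (.node (.node (.leaf 0x754000001) (.leaf 0x43f100441b)) (.node (.leaf 0x1002673) (.leaf 0x20050be))) (.node (.node (.leaf 0x1754000003) (.leaf 0x57540042e7)) (.node (.leaf 0x1f47003754) (.leaf 0x0)))) (.node (.node (.node (.leaf 0x1000f54) (.leaf 0x48f20042ae)) (.node (.leaf 0x2f540027da) (.leaf 0x2006e2c))) (.node (.node (.leaf 0x1001f54) (.leaf 0x2005e14)) (.node (.leaf 0xfda00348c) (.leaf 0x0)))))))) (.node (.node (.node (.node (.node (.node (.node (.leaf 0xd4000003) (.leaf 0x186002b08)) (.node (.leaf 0x2062000003)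 (.leaf 0x2000c56))) (.node (.node (.leaf 0x10d4000003) (.leaf 0x50d4004303)) (.node (.leaf 0x30d4002120) (.leaf 0x2007056)))) (.node (.node (.node (.leaf 0x8d4000003) (.leaf 0x48d400429d)) (.node (.leaf 0x2836000003) (.leaf 0x6671000001))) (.node (.node (.leaf 0x18d4000003) (.leaf 0x58d400442b)) (.node (.leaf 0x2a64002262) (.leaf 0x0))))) (.node (.node (.node (.node (.leaf 0x4d4000001) (.leaf 0x442e00447d)) (.node (.leaf 0x23c2000001) (.leaf 0x10062c0))) (.node (.node (.leaf 0x30014d4) (.leaf 0x54d4004301)) (.node (.leaf 0x3020001f7b) (.leaf 0x0)))) (.node (.node (.node (.leaf 0x1000cd4) (.leaf 0x42a4004cd4)) (.node (.leaf 0x2971002ab1) (.leaf 0x100666f))) (.node (.node (.leaf 0x10013b3) (.leaf 0x20020f8)) (.node (.leaf 0x244b003029) (.leaf 0x0)))))) (.node (.node (.node (.node (.node (.leaf 0x20002d4) (.leaf 0x140000b5)) (.node (.leaf 0x2200000003) (.leaf 0x20060dc))) (.node (.node (.leaf 0x30012d4) (.leaf 0x43580052d4)) (.node (.leaf 0x1f710032d4)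 (.leaf 0x0)))) (.node (.node (.node (.leaf 0xad4000001) (.leaf 0x441900436d)) (.node (.leaf 0x2ad4001f72) (.leaf 0x2006883))) (.node (.node (.leaf 0x1ad4000002) (.leaf 0x1fc9000003)) (.node (.leaf 0x266900363b) (.leaf 0x0))))) (.node (.node (.node (.node (.leaf 0x6d4000001) (.leaf 0x4423004499)) (.node (.leaf 0x25d6000001) (.leaf 0x2006484))) (.node (.node (.leaf 0x16d4000003) (.leaf 0x43d60056d4)) (.node (.leaf 0x362e001f72) (.leaf 0x0)))) (.node (.node (.node (.leaf 0x3000ed4) (.leaf 0x4ed40042e7)) (.node (.leaf 0x1f71002b6f) (.leaf 0x1006d80))) (.node (.node (.leaf 0x1ed4000003) (.leaf 0x1005db2)) (.node (.leaf 0x25e3002bac) (.leaf 0x0))))))) (.node (.node (.node (.node (.node (.node (.leaf 0x1d4000003) (.leaf 0x19da00352b)) (.node (.leaf 0x1c29000003) (.leaf 0x100600a))) (.node (.node (.leaf 0x20011d4) (.leaf 0x44300051d4)) (.node (.leaf 0x31d400265e) (.leaf 0x0)))) (.node (.node (.node (.leaf 0x10009d4) (.leaf 0x42740049d4)) (.node (.leaf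 0x29d4001f72) (.leaf 0x100677a))) (.node (.node (.leaf 0x19d4000001) (.leaf 0x44280059d4)) (.node (.leaf 0x2f98002862) (.leaf 0x0))))) (.node (.node (.node (.node (.leaf 0x5d4000002) (.leaf 0x434c0045d4)) (.node (.leaf 0x24bc000003) (.leaf 0x20063a6))) (.node (.node (.leaf 0x10015d4) (.leaf 0x434c0055d4)) (.node (.leaf 0x2c6b001f72) (.leaf 0x0)))) (.node (.node (.node (.leaf 0x1000dd4) (.leaf 0x71004dd4)) (.node (.leaf 0x22f7002dd4) (.leaf 0x2006c08))) (.node (.node (.leaf 0x1dd4000003) (.leaf 0x1005ce6)) (.node (.leaf 0x21ba003a13) (.leaf 0x0)))))) (.node (.node (.node (.node (.node (.leaf 0x10003d4) (.leaf 0x43b30042af)) (.node (.leaf 0x22e4000001) (.leaf 0x10061ce))) (.node (.node (.leaf 0x20013d4) (.leaf 0x53d40010e7)) (.node (.leaf 0x1f71002f73) (.leaf 0x0)))) (.node (.node (.node (.leaf 0x2000bd4) (.leaf 0x42b3004bd4)) (.node (.leaf 0x1f71002bd4) (.leaf 0x100699c))) (.node (.node (.leaf 0x1bd4000001) (.leaf 0x2005b7a)) (.node (.leaf 0x27a90030a7)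 (.leaf 0x0))))) (.node (.node (.node (.node (.leaf 0x7d4000003) (.leaf 0x47d4004329)) (.node (.leaf 0x2710000003) (.leaf 0x6575000003))) (.node (.node (.leaf 0x17d4000001) (.leaf 0x4f65004400)) (.node (.leaf 0x3248002408) (.leaf 0x0)))) (.node (.node (.node (.leaf 0xfd4000003) (.leaf 0x42c0004fd4)) (.node (.leaf 0x2b54001f7b) (.leaf 0x2006ee8))) (.node (.node (.leaf 0x56000003) (.leaf 0x2000f7b)) (.node (.leaf 0xf6e003458) (.leaf 0x0)))))))))

/-- part -/
def slpT_54 : Tr Nat := (.node (.node (.node (.node (.node (.node (.node (.node (.leaf 0x1000034) (.leaf 0x266b002e35)) (.node (.leaf 0x1ff2000001) (.leaf 0x1005eb9))) (.node (.node (.leaf 0x1034000001) (.leaf 0x4409005034)) (.node (.leaf 0x2f4c001f7b) (.leaf 0x2006f62)))) (.node (.node (.node (.leaf 0x834000003) (.leaf 0x20004834)) (.node (.leaf 0x277b000001) (.leaf 0x10065d4))) (.node (.node (.leaf 0x1834000002) (.leaf 0x4401005834)) (.node (.leaf 0x34ab001f7b) (.leaf 0x0))))) (.node (.node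 (.node (.node (.leaf 0x434000001) (.leaf 0x441a000020)) (.node (.leaf 0x233c000001) (.leaf 0x100622e))) (.node (.node (.leaf 0x1001434) (.leaf 0x5434004433)) (.node (.leaf 0x201f002eb3) (.leaf 0x0)))) (.node (.node (.node (.leaf 0x1000c34) (.leaf 0x436c004756)) (.node (.leaf 0x1f7b002c34) (.leaf 0x2006a08))) (.node (.node (.leaf 0x2001c34) (.leaf 0x2005bb4)) (.node (.leaf 0x25a1003450) (.leaf 0x0)))))) (.node (.node (.node (.node (.node (.leaf 0x1000234) (.leaf 0x21f4002f3c)) (.node (.leaf 0x1ff000003) (.leaf 0x100605e))) (.node (.node (.leaf 0x1001234) (.leaf 0x5234000001)) (.node (.leaf 0x3234001f72) (.leaf 0x0)))) (.node (.node (.node (.leaf 0xa34000003) (.leaf 0x4a34004437)) (.node (.leaf 0x1f71002a34) (.leaf 0x20067d9))) (.node (.node (.leaf 0x1a34000001) (.leaf 0x42b1005a34)) (.node (.leaf 0x35e00001d2) (.leaf 0x0))))) (.node (.node (.node (.node (.leaf 0x634000003) (.leaf 0x4634004406)) (.node (.leaf 0x2520000003) (.leaf 0x20063fc))) (.node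 (.node (.leaf 0x3001634) (.leaf 0x10e8005634)) (.node (.leaf 0x3634001f72) (.leaf 0x0)))) (.node (.node (.node (.leaf 0x2000e34) (.leaf 0x4e34000002)) (.node (.leaf 0x2e34001f72) (.leaf 0x2006c94))) (.node (.node (.leaf 0x2001e34) (.leaf 0x12a1000001)) (.node (.leaf 0x2221003a3f) (.leaf 0x0))))))) (.node (.node (.node (.node (.node (.node (.leaf 0x134000003) (.leaf 0x26470029cd)) (.node (.leaf 0x20c0000001) (.leaf 0x2005f84))) (.node (.node (.leaf 0x1001134) (.leaf 0x51340042f9)) (.node (.leaf 0x1f71003134) (.leaf 0x0)))) (.node (.node (.node (.leaf 0x934000001) (.leaf 0x4934004431)) (.node (.leaf 0x28c8000001) (.leaf 0x10066d4))) (.node (.node (.leaf 0x1934000003) (.leaf 0x3b005934)) (.node (.leaf 0x39340027f0) (.leaf 0x0))))) (.node (.node (.node (.node (.leaf 0x534000003) (.leaf 0x45340042cd)) (.node (.leaf 0x241a000001) (.leaf 0x200631c))) (.node (.node (.leaf 0x1001534) (.leaf 0x441b004326)) (.node (.leaf 0x2ea80021ff) (.leaf 0x0)))) (.node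 (.node (.node (.leaf 0x2000d34) (.leaf 0x442e0048fb)) (.node (.leaf 0x1f71002d34) (.leaf 0x1006b34))) (.node (.node (.leaf 0x1001d34) (.leaf 0x1005c7c)) (.node (.leaf 0x1fe00034aa) (.leaf 0x0)))))) (.node (.node (.node (.node (.node (.leaf 0x334000003) (.leaf 0x42ac00432e)) (.node (.leaf 0x2258000003) (.leaf 0x1006132))) (.node (.node (.leaf 0x12c8001334) (.leaf 0x488b004427)) (.node (.leaf 0x237d002ab1) (.leaf 0x0)))) (.node (.node (.node (.leaf 0xb34000001) (.leaf 0x429c004b34)) (.node (.leaf 0x1f71002a14) (.leaf 0x10068e2))) (.node (.node (.leaf 0x1b34000003) (.leaf 0x2001d34)) (.node (.leaf 0x97f0031f7) (.leaf 0x0))))) (.node (.node (.node (.node (.leaf 0x734000001) (.leaf 0x42e4004734)) (.node (.leaf 0x264c000003) (.leaf 0x20064e0))) (.node (.node (.leaf 0x1734000003) (.leaf 0x57340043ac)) (.node (.leaf 0x21390033ca) (.leaf 0x0)))) (.node (.node (.node (.leaf 0x1000f34) (.leaf 0x4f3400439a)) (.node (.leaf 0x1f71002f34) (.leaf 0x1006e0a)))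 (.node (.node (.leaf 0x1f34000003) (.leaf 0x2005dfc)) (.node (.leaf 0x27e1003383) (.leaf 0x0)))))))) (.node (.node (.node (.node (.node (.node (.node (.leaf 0xb4000003) (.leaf 0x1653003503)) (.node (.leaf 0x204c000001) (.leaf 0x1005f28))) (.node (.node (.leaf 0x10b4000f69) (.leaf 0x50b400003e)) (.node (.leaf 0x1f71002d22) (.leaf 0x2007020)))) (.node (.node (.node (.leaf 0x8b4000002) (.leaf 0x48b40042f1)) (.node (.leaf 0x280e000001) (.leaf 0x6651000003))) (.node (.node (.leaf 0x18b4000001) (.leaf 0x58b40042ae)) (.node (.leaf 0x31620022c6) (.leaf 0x0))))) (.node (.node (.node (.node (.leaf 0x4b4000001) (.leaf 0x42fa0044b4)) (.node (.leaf 0x239e000003) (.leaf 0x20062a4))) (.node (.node (.leaf 0x20014b4) (.leaf 0x54b40042a5)) (.node (.leaf 0x2915002db0) (.leaf 0x0)))) (.node (.node (.node (.leaf 0x3000cb4) (.leaf 0x4385004cb4)) (.node (.leaf 0x1f71002cb4) (.leaf 0x1006a9e))) (.node (.node (.leaf 0x2001cb4) (.leaf 0x1005c10)) (.node (.leaf 0x244b00320f)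 (.leaf 0x0)))))) (.node (.node (.node (.node (.node (.leaf 0x10002b4) (.leaf 0x42b00042ad)) (.node (.leaf 0x21e2000003) (.leaf 0x10060c4))) (.node (.node (.leaf 0x20012b4) (.leaf 0x43ef00436d)) (.node (.leaf 0x967002c06) (.leaf 0x0)))) (.node (.node (.node (.leaf 0xab4000001) (.leaf 0x4ab40042e7)) (.node (.leaf 0x2ab4001f72) (.leaf 0x100685f))) (.node (.node (.leaf 0x1ab4000003) (.leaf 0x2002408)) (.node (.leaf 0x23ef0031f9) (.leaf 0x0))))) (.node (.node (.node (.node (.leaf 0x6b4000001) (.leaf 0x42f00046b4)) (.node (.leaf 0x25b2000003) (.leaf 0x100646c))) (.node (.node (.leaf 0x16b4000003) (.leaf 0x43240043b6)) (.node (.leaf 0x3640001f7b) (.leaf 0x0)))) (.node (.node (.node (.leaf 0x3000eb4) (.leaf 0x4eb40042e9)) (.node (.leaf 0x2eb4001f72) (.leaf 0x2006d3c))) (.node (.node (.leaf 0x1eb4000001) (.leaf 0x5d99000001)) (.node (.leaf 0x227d003277) (.leaf 0x0))))))) (.node (.node (.node (.node (.node (.node (.leaf 0x20001b4) (.leaf 0x25050029d1))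 (.node (.leaf 0x20a3000003) (.leaf 0x2005ff0))) (.node (.node (.leaf 0x2000c34) (.leaf 0x43990051b4)) (.node (.leaf 0x2e25001f7b) (.leaf 0x0)))) (.node (.node (.node (.leaf 0x20009b4) (.leaf 0x453d00436b)) (.node (.leaf 0x29b4001f72) (.leaf 0x200675a))) (.node (.node (.leaf 0x19b4000003) (.leaf 0x42e80059b4)) (.node (.leaf 0x3749001f7b) (.leaf 0x0))))) (.node (.node (.node (.node (.leaf 0x5b4000003) (.leaf 0x429c0045b4)) (.node (.leaf 0x24a0000001) (.leaf 0x100638e))) (.node (.node (.leaf 0x30015b4) (.leaf 0x44360055b4)) (.node (.leaf 0x2bfb001f7b) (.leaf 0x0)))) (.node (.node (.node (.leaf 0x1000db4) (.leaf 0x42f0004db4)) (.node (.leaf 0x236d002db4) (.leaf 0x1006bd8))) (.node (.node (.leaf 0xb86000001) (.leaf 0x2005cd8)) (.node (.leaf 0xfd4002ead) (.leaf 0x0)))))) (.node (.node (.node (.node (.node (.leaf 0x3b4000003) (.leaf 0x43670043b4)) (.node (.leaf 0x22ce000001) (.leaf 0x10061a8))) (.node (.node (.leaf 0x20007b1) (.leaf 0x42cc0053b4)) (.node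 (.leaf 0x2c17001f72) (.leaf 0x0)))) (.node (.node (.node (.leaf 0xbb4000003) (.leaf 0x439b004bb4)) (.node (.leaf 0x1f71002bb4) (.leaf 0x200697a))) (.node (.node (.leaf 0x1bb4000002) (.leaf 0x2005b5b)) (.node (.leaf 0x22e3003094) (.leaf 0x0))))) (.node (.node (.node (.node (.leaf 0x7b4000003) (.leaf 0x44e80043bf)) (.node (.leaf 0x26ec000001) (.leaf 0x6559000001))) (.node (.node (.leaf 0x17b4000002) (.leaf 0x57b40043db)) (.node (.leaf 0x1f71002eb9) (.leaf 0x0)))) (.node (.node (.node (.leaf 0x1000fb4) (.leaf 0x43d8004fb4)) (.node (.leaf 0x2fb40020cc) (.leaf 0x2006eb6))) (.node (.node (.leaf 0xa02000003) (.leaf 0x2001c64)) (.node (.leaf 0x21530029c5) (.leaf 0x0)))))))))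

/-- part -/
def slpT_55 : Tr Nat := (.node (.node (.node (.node (.node (.node (.node (.node (.leaf 0x74000003) (.leaf 0x266b003326)) (.node (.leaf 0x201e000001) (.leaf 0x1005eec))) (.node (.node (.leaf 0x1074000001) (.leaf 0x507400003c)) (.node (.leaf 0x1f71002ca8) (.leaf 0x2006fc2)))) (.node (.node (.node (.leaf 0x874000003) (.leaf 0x487400430f)) (.node (.leaf 0x27c4000001) (.leaf 0x660f000001))) (.node (.node (.leaf 0x1874000003) (.leaf 0x442c0051c2)) (.node (.leaf 0x37e4001f7b) (.leaf 0x0))))) (.node (.node (.node (.node (.leaf 0x474000001) (.leaf 0x4474004400)) (.node (.leaf 0x2366000001) (.leaf 0x1006272))) (.node (.node (.leaf 0x1001474) (.leaf 0x54740042f1)) (.node (.leaf 0x1f71003072) (.leaf 0x0)))) (.node (.node (.node (.leaf 0x2000c74) (.leaf 0x4c74000023)) (.node (.leaf 0x1f71002a63) (.leaf 0x2006a4a))) (.node (.node (.leaf 0x1001c74) (.leaf 0x2002528)) (.node (.leaf 0x22fb003031) (.leaf 0x0)))))) (.node (.node (.node (.node (.node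 (.leaf 0x2000274) (.leaf 0x200010e8)) (.node (.leaf 0x20021a9) (.leaf 0x2005d9d))) (.node (.node (.leaf 0x3001274) (.leaf 0x42ad005274)) (.node (.leaf 0x2dcb001f7b) (.leaf 0x0)))) (.node (.node (.node (.leaf 0xa74000001) (.leaf 0x4a740043e3)) (.node (.leaf 0x2a51001f72) (.leaf 0x200681e))) (.node (.node (.leaf 0xcc7000001) (.leaf 0x4387005a74)) (.node (.leaf 0x1f7100375a) (.leaf 0x0))))) (.node (.node (.node (.node (.leaf 0x674000001) (.leaf 0x42c0004674)) (.node (.leaf 0x256e000003) (.leaf 0x2006432))) (.node (.node (.leaf 0x1001674) (.leaf 0x428c005675)) (.node (.leaf 0x3674001f72) (.leaf 0x0)))) (.node (.node (.node (.leaf 0x2000e74) (.leaf 0x42cc004e74)) (.node (.leaf 0x2e7400219a) (.leaf 0x2006cec))) (.node (.node (.leaf 0x1e74000001) (.leaf 0x5d5d000003)) (.node (.leaf 0x27b9002d5d) (.leaf 0x0))))))) (.node (.node (.node (.node (.node (.node (.leaf 0x2000174) (.leaf 0x285b003070)) (.node (.leaf 0x20ee000003) (.leaf 0x1005fbc))) (.node (.node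 (.leaf 0x2001174) (.leaf 0x517400439e)) (.node (.leaf 0x2a17001fc0) (.leaf 0x0)))) (.node (.node (.node (.leaf 0x974000003) (.leaf 0x4974004359)) (.node (.leaf 0x2930000003) (.leaf 0x20019ed))) (.node (.node (.leaf 0x1974000001) (.leaf 0x42af005974)) (.node (.leaf 0x30340022ca) (.leaf 0x0))))) (.node (.node (.node (.node (.leaf 0x574000001) (.leaf 0x441f0044a5)) (.node (.leaf 0x245a000001) (.leaf 0x1006358))) (.node (.node (.leaf 0x2001574) (.leaf 0x4432005574)) (.node (.leaf 0x30220029a0) (.leaf 0x0)))) (.node (.node (.node (.leaf 0x1000d68) (.leaf 0x42a4004d74)) (.node (.leaf 0x2d74001f7b) (.leaf 0x2006b8c))) (.node (.node (.leaf 0x1d74000003) (.leaf 0x1005cac)) (.node (.leaf 0x216d002a24) (.leaf 0x0)))))) (.node (.node (.node (.node (.node (.leaf 0x374000002) (.leaf 0x436600436c)) (.node (.leaf 0x2293000003) (.leaf 0x200616c))) (.node (.node (.leaf 0x1001374) (.leaf 0x4daa00442d)) (.node (.leaf 0x2ea0001f72) (.leaf 0x0)))) (.node (.node (.node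 (.leaf 0xb74000002) (.leaf 0x4428004b74)) (.node (.leaf 0x2b74001f72) (.leaf 0x1005e11))) (.node (.node (.leaf 0x178c000003) (.leaf 0x1005b2f)) (.node (.leaf 0x20b50031c7) (.leaf 0x0))))) (.node (.node (.node (.node (.leaf 0x774000001) (.leaf 0x42ac004775)) (.node (.leaf 0x100269d) (.leaf 0x200651a))) (.node (.node (.leaf 0x1774000001) (.leaf 0x43b40042f1)) (.node (.leaf 0x1f7b00329c) (.leaf 0x0)))) (.node (.node (.node (.leaf 0x1000c47) (.leaf 0x4409004f74)) (.node (.leaf 0x2c3f001f7b) (.leaf 0x2006e4c))) (.node (.node (.leaf 0x1f74000003) (.leaf 0x2005e27)) (.node (.leaf 0xfda00365b) (.leaf 0x0)))))))) (.node (.node (.node (.node (.node (.node (.node (.leaf 0xf4000003) (.leaf 0x186003821)) (.node (.leaf 0x2080000001) (.leaf 0x2005f58))) (.node (.node (.leaf 0x10f4000001) (.leaf 0x10e80050f4)) (.node (.leaf 0x30f4001f7b) (.leaf 0x10070a4)))) (.node (.node (.node (.leaf 0x8f4000001) (.leaf 0x48f4004353)) (.node (.leaf 0x285c000003) (.leaf 0x100669a)))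 (.node (.node (.leaf 0x18f4000001) (.leaf 0x58f4000002)) (.node (.leaf 0x2d1f0021c8) (.leaf 0x0))))) (.node (.node (.node (.node (.leaf 0x4f4000001) (.leaf 0x44010044f4)) (.node (.leaf 0x23de000001) (.leaf 0x20062e0))) (.node (.node (.leaf 0x10014f4) (.leaf 0x10e80054f4)) (.node (.leaf 0x34f4001f72) (.leaf 0x0)))) (.node (.node (.node (.leaf 0x1000cf4) (.leaf 0x43be0043f5)) (.node (.leaf 0x18b002c3c) (.leaf 0x1006aea))) (.node (.node (.leaf 0x2001cf4) (.leaf 0x2005c42)) (.node (.leaf 0x233b002b2e) (.leaf 0x0)))))) (.node (.node (.node (.node (.node (.leaf 0x20002f4) (.leaf 0x42e40042ee)) (.node (.leaf 0x221f000001) (.leaf 0x10060f6))) (.node (.node (.leaf 0x10012f4) (.leaf 0x44010052f4)) (.node (.leaf 0x27fd003283) (.leaf 0x0)))) (.node (.node (.node (.leaf 0xaf4000003) (.leaf 0x4af40042e5)) (.node (.leaf 0x1f7b002af4) (.leaf 0x20068a1))) (.node (.node (.leaf 0x1af4000001) (.leaf 0x5adc000003)) (.node (.leaf 0x1fb5003027) (.leaf 0x0))))) (.node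 (.node (.node (.node (.leaf 0x6f4000001) (.leaf 0x43ce0046f4)) (.node (.leaf 0x2602000001) (.leaf 0x20064a0))) (.node (.node (.leaf 0x16f4000001) (.leaf 0x43890056f4)) (.node (.leaf 0x2b8800258c) (.leaf 0x0)))) (.node (.node (.node (.leaf 0x2000ef4) (.leaf 0x45a6004400)) (.node (.leaf 0x1f71002ef4) (.leaf 0x2006db8))) (.node (.node (.leaf 0x1ef4000003) (.leaf 0x1005dc8)) (.node (.leaf 0x27e1002c36) (.leaf 0x0))))))) (.node (.node (.node (.node (.node (.node (.leaf 0x1f4000001) (.leaf 0x215500349e)) (.node (.leaf 0xbc5000003) (.leaf 0x2006020))) (.node (.node (.leaf 0x30011f4) (.leaf 0x43bc00453e)) (.node (.leaf 0x31f4001f72) (.leaf 0x0)))) (.node (.node (.node (.leaf 0x20009f4) (.leaf 0x48570042ae)) (.node (.leaf 0x1f710029f4) (.leaf 0x200679d))) (.node (.node (.leaf 0x19f4000003) (.leaf 0x432e0059f4)) (.node (.leaf 0x31ba00218c) (.leaf 0x0))))) (.node (.node (.node (.node (.leaf 0x3b9000001) (.leaf 0x45f4004275)) (.node (.leaf 0x24da000003)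 (.leaf 0x20063c2))) (.node (.node (.leaf 0x10015f4) (.leaf 0x43a90055f4)) (.node (.leaf 0x2fc6002968) (.leaf 0x0)))) (.node (.node (.node (.leaf 0x1000df4) (.leaf 0x434c004df4)) (.node (.leaf 0x1f71002d4a) (.leaf 0x1006c3a))) (.node (.node (.leaf 0x1df4000003) (.leaf 0x20003c4)) (.node (.leaf 0x21ba003b7a) (.leaf 0x0)))))) (.node (.node (.node (.node (.node (.leaf 0x30003f4) (.leaf 0x43f20043b4)) (.node (.leaf 0x2300000001) (.leaf 0x10061ea))) (.node (.node (.leaf 0x30013f4) (.leaf 0x4d5200432f)) (.node (.leaf 0x26350033f4) (.leaf 0x0)))) (.node (.node (.node (.leaf 0x2000bf4) (.leaf 0x43a1004bf4)) (.node (.leaf 0x1f7b002bf4) (.leaf 0x10069c4))) (.node (.node (.leaf 0x1bf4000001) (.leaf 0x2002176)) (.node (.leaf 0x2829002f4f) (.leaf 0x0))))) (.node (.node (.node (.node (.leaf 0x7f4000001) (.leaf 0x47f400434d)) (.node (.leaf 0x273a000003) (.leaf 0x658f000003))) (.node (.node (.leaf 0x17f4000003) (.leaf 0x44010057f4)) (.node (.leaf 0x2d5900271a)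 (.leaf 0x0)))) (.node (.node (.node (.leaf 0xff4000003) (.leaf 0x460d004386)) (.node (.leaf 0x2ff4002048) (.leaf 0x1006f0c))) (.node (.node (.leaf 0x2001fcb) (.leaf 0x2000212)) (.node (.leaf 0x24a5002a00) (.leaf 0x0)))))))))

/-- part -/
def slpT_56 : Tr Nat := (.node (.node (.node (.node (.node (.node (.node (.node (.leaf 0x100000d) (.leaf 0x2059003967)) (.node (.leaf 0x1fdd000003) (.leaf 0x2005e9c))) (.node (.node (.leaf 0x100c000001) (.leaf 0x43c00043f5)) (.node (.leaf 0x2c2b001f72) (.leaf 0x1006f2c)))) (.node (.node (.node (.leaf 0x80c000002) (.leaf 0x44df004384)) (.node (.leaf 0x2753000003) (.leaf 0x65ab000003))) (.node (.node (.leaf 0x180c000001) (.leaf 0x42ac004c18)) (.node (.leaf 0x2a540021a2) (.leaf 0x0))))) (.node (.node (.node (.node (.leaf 0x40c000003) (.leaf 0x440c000003)) (.node (.leaf 0x2314000003) (.leaf 0x10061fe))) (.node (.node (.leaf 0x100140c) (.leaf 0x43ba00436d)) (.node (.leaf 0x1f7b002dd2) (.leaf 0x0)))) (.node (.node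 (.node (.leaf 0x2000c0c) (.leaf 0x42a4004c0c)) (.node (.leaf 0x1f71002b6b) (.leaf 0x20069de))) (.node (.node (.leaf 0x1c0c000001) (.leaf 0x1005ba0)) (.node (.leaf 0x20a9002be8) (.leaf 0x0)))))) (.node (.node (.node (.node (.node (.leaf 0x20c000003) (.leaf 0x295d002a4f)) (.node (.leaf 0x1001677) (.leaf 0x1005d19))) (.node (.node (.leaf 0x200120c) (.leaf 0x520c00439c)) (.node (.leaf 0x31f8001f72) (.leaf 0x0)))) (.node (.node (.node (.leaf 0xa0c000003) (.leaf 0x4a0c00434d)) (.node (.leaf 0x1f71002a0c) (.leaf 0x20067b7))) (.node (.node (.leaf 0x1a0c000003) (.leaf 0x42ac005573)) (.node (.leaf 0x32eb00218c) (.leaf 0x0))))) (.node (.node (.node (.node (.leaf 0x60c000003) (.leaf 0x44990043bf)) (.node (.leaf 0x24fa000001) (.leaf 0x20063d8))) (.node (.node (.leaf 0x200160c) (.leaf 0x4328004c2d)) (.node (.leaf 0x3411001f7b) (.leaf 0x0)))) (.node (.node (.node (.leaf 0x1000e0c) (.leaf 0x428d004e0c)) (.node (.leaf 0x1f71002e0c) (.leaf 0x1006c5a))) (.node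 (.node (.leaf 0x1e0c000003) (.leaf 0x2005d0c)) (.node (.leaf 0x2221002af4) (.leaf 0x0))))))) (.node (.node (.node (.node (.node (.node (.leaf 0x10c000003) (.leaf 0x251b003067)) (.node (.leaf 0x2098000003) (.leaf 0x2005f6c))) (.node (.node (.leaf 0x100110c) (.leaf 0x428c00510c)) (.node (.leaf 0x1f71002b20) (.leaf 0x20070dc)))) (.node (.node (.node (.leaf 0x90c000003) (.leaf 0x43b50043f8)) (.node (.leaf 0x2882000001) (.leaf 0x20066ae))) (.node (.node (.leaf 0x190c000002) (.leaf 0x429a00590c)) (.node (.leaf 0x3170001f7b) (.leaf 0x0))))) (.node (.node (.node (.node (.leaf 0x50c000003) (.leaf 0x450c00439a)) (.node (.leaf 0x23f4000003) (.leaf 0x20062f8))) (.node (.node (.leaf 0x200150c) (.leaf 0x550c004402)) (.node (.leaf 0x350c0021ff) (.leaf 0x0)))) (.node (.node (.node (.leaf 0x2000d0c) (.leaf 0x4407004d0c)) (.node (.leaf 0x236d002b2a) (.leaf 0x1006b04))) (.node (.node (.leaf 0x2001d0c) (.leaf 0x1005c58)) (.node (.leaf 0x2551002b74) (.leaf 0x0))))))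 (.node (.node (.node (.node (.node (.leaf 0x100030c) (.leaf 0x42e4000001)) (.node (.leaf 0x2234000003) (.leaf 0x200610a))) (.node (.node (.leaf 0x100130c) (.leaf 0x436800462c)) (.node (.leaf 0x1f71002b47) (.leaf 0x0)))) (.node (.node (.node (.leaf 0xb0c000002) (.leaf 0x467b004388)) (.node (.leaf 0x1f71002b0c) (.leaf 0x10019a3))) (.node (.node (.leaf 0x1b0c000003) (.leaf 0x208d000003)) (.node (.leaf 0x1f71003561) (.leaf 0x0))))) (.node (.node (.node (.node (.leaf 0x70c000001) (.leaf 0x43e200470c)) (.node (.leaf 0x1257000003) (.leaf 0x20064b6))) (.node (.node (.leaf 0x170c000001) (.leaf 0x43f70045a4)) (.node (.leaf 0x2b92001f72) (.leaf 0x0)))) (.node (.node (.node (.leaf 0x1000f0c) (.leaf 0x4ac3004384)) (.node (.leaf 0x1f71002f0c) (.leaf 0x1006dde))) (.node (.node (.leaf 0x1f0c000001) (.leaf 0x2005ddc)) (.node (.leaf 0x27e1002e47) (.leaf 0x0)))))))) (.node (.node (.node (.node (.node (.node (.node (.leaf 0x100008c) (.leaf 0x266b002f04)) (.node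 (.leaf 0x2032000003) (.leaf 0x1005f02))) (.node (.node (.leaf 0x108c000003) (.leaf 0x508c0042ff)) (.node (.leaf 0xa03002e2b) (.leaf 0x1006fde)))) (.node (.node (.node (.leaf 0x88c000003) (.leaf 0x488c0043d1)) (.node (.leaf 0x27de000003) (.leaf 0x6629000003))) (.node (.node (.leaf 0x188c000001) (.leaf 0x43e200588c)) (.node (.leaf 0x2c470023c4) (.leaf 0x0))))) (.node (.node (.node (.node (.leaf 0x2b9000001) (.leaf 0x427400448c)) (.node (.leaf 0x2189000003) (.leaf 0x2006284))) (.node (.node (.leaf 0x100148c) (.leaf 0x43b7004369)) (.node (.leaf 0x1f7b002b0a) (.leaf 0x0)))) (.node (.node (.node (.leaf 0x2000c8c) (.leaf 0x22004c8c)) (.node (.leaf 0x1f7b002c8c) (.leaf 0x1006a74))) (.node (.node (.leaf 0x3001c8c) (.leaf 0x1005bee)) (.node (.leaf 0x24ad0031af) (.leaf 0x0)))))) (.node (.node (.node (.node (.node (.leaf 0x200028c) (.leaf 0x428a000020)) (.node (.leaf 0x20021c1) (.leaf 0x200609e))) (.node (.node (.leaf 0x200128c) (.leaf 0x4c480042ae)) (.node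 (.leaf 0x2879002f08) (.leaf 0x0)))) (.node (.node (.node (.leaf 0xa8c000001) (.leaf 0x4a8c000072)) (.node (.leaf 0x2a8c001f72) (.leaf 0x1006838))) (.node (.node (.leaf 0x1a8c000001) (.leaf 0x42ae004aac)) (.node (.leaf 0xfd1002e37) (.leaf 0x0))))) (.node (.node (.node (.node (.leaf 0x68c000003) (.leaf 0x43240043f0)) (.node (.leaf 0x2586000003) (.leaf 0x2006448))) (.node (.node (.leaf 0x168c000003) (.leaf 0x43f70043ef)) (.node (.leaf 0x3485001f72) (.leaf 0x0)))) (.node (.node (.node (.leaf 0x2000e8c) (.leaf 0x42c0004e8c)) (.node (.leaf 0x2e8c00219a) (.leaf 0x1006d0a))) (.node (.node (.leaf 0x1e8c000001) (.leaf 0x5d71000003)) (.node (.leaf 0x20e3002f44) (.leaf 0x0))))))) (.node (.node (.node (.node (.node (.node (.leaf 0x200018c) (.leaf 0x261300333c)) (.node (.leaf 0xa0b000003) (.leaf 0x1005fce))) (.node (.node (.leaf 0x100118c) (.leaf 0x43f3004423)) (.node (.leaf 0x2b71001fc0) (.leaf 0x0)))) (.node (.node (.node (.leaf 0x100098c) (.leaf 0x498c000074))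 (.node (.leaf 0x2956000001) (.leaf 0x200672c))) (.node (.node (.leaf 0x1609000003) (.leaf 0x432e004b55)) (.node (.leaf 0x2fba001f72) (.leaf 0x0))))) (.node (.node (.node (.node (.leaf 0x58c000001) (.leaf 0x43e200458c)) (.node (.leaf 0x2470000003) (.leaf 0x100636a))) (.node (.node (.leaf 0x200158c) (.leaf 0x42b300558c)) (.node (.leaf 0x2ddf0026da) (.leaf 0x0)))) (.node (.node (.node (.leaf 0x2000d8c) (.leaf 0x43ec0045a5)) (.node (.leaf 0x236d002a51) (.leaf 0x2006bae))) (.node (.node (.leaf 0x1d8c000001) (.leaf 0x2005cba)) (.node (.leaf 0x1fc0030fc) (.leaf 0x0)))))) (.node (.node (.node (.node (.node (.leaf 0x38c000001) (.leaf 0x43880042ad)) (.node (.leaf 0x22ac000001) (.leaf 0x2006182))) (.node (.node (.leaf 0x200138c) (.leaf 0x538c0043aa)) (.node (.leaf 0x338c001f72) (.leaf 0x0)))) (.node (.node (.node (.leaf 0xb8c000001) (.leaf 0x4387004366)) (.node (.leaf 0x2b8c001f72) (.leaf 0x200694e))) (.node (.node (.leaf 0x1b8c000003) (.leaf 0x2001675))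 (.node (.leaf 0x231f003037) (.leaf 0x0))))) (.node (.node (.node (.node (.leaf 0x78c000003) (.leaf 0x42a400478c)) (.node (.leaf 0x26c4000001) (.leaf 0x653d000003))) (.node (.node (.leaf 0x911000003) (.leaf 0x578c0043a8)) (.node (.leaf 0x530030b8) (.leaf 0x0)))) (.node (.node (.node (.leaf 0x1000f8c) (.leaf 0x43da004f8c)) (.node (.leaf 0x2f8c001f7b) (.leaf 0x1006e74))) (.node (.node (.leaf 0x1f86000003) (.leaf 0x1005e3d)) (.node (.leaf 0x2754002b10) (.leaf 0x0)))))))))

/-- part -/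
def slpT_57 : Tr Nat := (.node (.node (.node (.node (.node (.node (.node (.node (.leaf 0x4c000003) (.leaf 0x266b002a16)) (.node (.leaf 0x1eb0000003) (.leaf 0x2005ecb))) (.node (.node (.leaf 0x104c000003) (.leaf 0x427400504c)) (.node (.leaf 0x2e66001f7b) (.leaf 0x2006f8c)))) (.node (.node (.node (.leaf 0x84c000001) (.leaf 0x438300484c)) (.node (.leaf 0x279c000001) (.leaf 0x20065e4))) (.node (.node (.leaf 0x184c000003) (.leaf 0x42b300584c)) (.node (.leaf 0x1f7b0035f7) (.leaf 0x0))))) (.node (.node (.node (.node (.leaf 0x44c000003) (.leaf 0x429c00444c)) (.node (.leaf 0x234a000003) (.leaf 0x2006244))) (.node (.node (.leaf 0x200144c) (.leaf 0x544c00428b)) (.node (.leaf 0x1f7100316e) (.leaf 0x0)))) (.node (.node (.node (.leaf 0x1000c4c) (.leaf 0x2004c4c)) (.node (.leaf 0x1f71002c04) (.leaf 0x2006a1e))) (.node (.node (.leaf 0x2001c4c) (.leaf 0x10003be)) (.node (.leaf 0x2499002aa5) (.leaf 0x0)))))) (.node (.node (.node (.node (.node (.leaf 0x100024c)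 (.leaf 0x19a0034c3)) (.node (.leaf 0x217e000003) (.leaf 0x200606e))) (.node (.node (.leaf 0x100124c) (.leaf 0x524c0042fb)) (.node (.leaf 0x324c001f72) (.leaf 0x0)))) (.node (.node (.node (.leaf 0xa4c000001) (.leaf 0x4a4c00442b)) (.node (.leaf 0x29e4001f72) (.leaf 0x10067f3))) (.node (.node (.leaf 0x1a4c000001) (.leaf 0x42e6005a4c)) (.node (.leaf 0x2189002e26) (.leaf 0x0))))) (.node (.node (.node (.node (.leaf 0x64c000003) (.leaf 0x3b00464c)) (.node (.leaf 0x2542000003) (.leaf 0x200199f))) (.node (.node (.leaf 0x200164c) (.leaf 0x564c0042b4)) (.node (.leaf 0x29cc00004e) (.leaf 0x0)))) (.node (.node (.node (.leaf 0x3000e4c) (.leaf 0x428e004e4c)) (.node (.leaf 0x2cbb001f72) (.leaf 0x2006cb0))) (.node (.node (.leaf 0x1001e4c) (.leaf 0x5d3d000003)) (.node (.leaf 0x187003070) (.leaf 0x0))))))) (.node (.node (.node (.node (.node (.node (.leaf 0x200014c) (.leaf 0x23b100347c)) (.node (.leaf 0x20d4000001) (.leaf 0x2005f98))) (.node (.node (.leaf 0x100114c)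 (.leaf 0x514c000023)) (.node (.leaf 0x314c001f7b) (.leaf 0x0)))) (.node (.node (.node (.leaf 0x94c000003) (.leaf 0x494c0010e7)) (.node (.leaf 0x28f0000003) (.leaf 0x20066ec))) (.node (.node (.leaf 0x194c000003) (.leaf 0x431200594c)) (.node (.leaf 0x38b8001f7b) (.leaf 0x0))))) (.node (.node (.node (.node (.leaf 0x54c000001) (.leaf 0x454c00429b)) (.node (.leaf 0x2430000001) (.leaf 0x2006332))) (.node (.node (.leaf 0x14c600154c) (.leaf 0x554c004301)) (.node (.leaf 0x2fe80029a0) (.leaf 0x0)))) (.node (.node (.node (.leaf 0x2000d4c) (.leaf 0x4399004d4c)) (.node (.leaf 0x18b002d4c) (.leaf 0x2006b52))) (.node (.node (.leaf 0x2001d4c) (.leaf 0x2005c88)) (.node (.leaf 0x24e1002ade) (.leaf 0x0)))))) (.node (.node (.node (.node (.node (.leaf 0x34c000003) (.leaf 0x4324004348)) (.node (.leaf 0x2277000001) (.leaf 0x1006148))) (.node (.node (.leaf 0x100134c) (.leaf 0x43b3004373)) (.node (.leaf 0x2ec0001f72) (.leaf 0x0)))) (.node (.node (.node (.leaf 0xb4c000001)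 (.leaf 0x42e4004b4c)) (.node (.leaf 0x2b4c001f7b) (.leaf 0x20068fe))) (.node (.node (.leaf 0x1b4c000001) (.leaf 0x201b000003)) (.node (.leaf 0x20cc002dea) (.leaf 0x0))))) (.node (.node (.node (.node (.leaf 0x74c000003) (.leaf 0x432e00474c)) (.node (.leaf 0x100266d) (.leaf 0x20064f4))) (.node (.node (.leaf 0x174c000003) (.leaf 0x574c0042e7)) (.node (.leaf 0x1f4700374c) (.leaf 0x0)))) (.node (.node (.node (.leaf 0x2000f4c) (.leaf 0x4f4c004388)) (.node (.leaf 0x2f4c0027da) (.leaf 0x1006e24))) (.node (.node (.leaf 0x2001f4c) (.leaf 0x2005e0e)) (.node (.leaf 0xfda00373c) (.leaf 0x0)))))))) (.node (.node (.node (.node (.node (.node (.node (.leaf 0xcc000003) (.leaf 0x1860034d1)) (.node (.leaf 0x205a000003) (.leaf 0x2005f3a))) (.node (.node (.leaf 0x10cc000001) (.leaf 0x50cc004439)) (.node (.leaf 0x1f71003051) (.leaf 0x2007044)))) (.node (.node (.node (.leaf 0x8cc000002) (.leaf 0x43f60043ed)) (.node (.leaf 0x282a000001) (.leaf 0x6667000001))) (.node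 (.node (.leaf 0x18cc000001) (.leaf 0x481e0042ac)) (.node (.leaf 0x3584001f72) (.leaf 0x0))))) (.node (.node (.node (.node (.leaf 0x4cc000003) (.leaf 0x442800449a)) (.node (.leaf 0x16d7000001) (.leaf 0x20062b6))) (.node (.node (.leaf 0x20014cc) (.leaf 0x54cc000003)) (.node (.leaf 0x308d002566) (.leaf 0x0)))) (.node (.node (.node (.leaf 0x1000ccc) (.leaf 0x4405004ccc)) (.node (.leaf 0x29ab002c5e) (.leaf 0x2006ab4))) (.node (.node (.leaf 0x1001ccc) (.leaf 0x1005c26)) (.node (.leaf 0x244b002dcc) (.leaf 0x0)))))) (.node (.node (.node (.node (.node (.leaf 0x10002cc) (.leaf 0x10042ca)) (.node (.leaf 0x21f4000003) (.leaf 0x2000c58))) (.node (.node (.leaf 0x20012cc) (.leaf 0x730052cc)) (.node (.leaf 0x1f710030ae) (.leaf 0x0)))) (.node (.node (.node (.leaf 0xacc000001) (.leaf 0x4acc0042ac)) (.node (.leaf 0x2acc001f7b) (.leaf 0x2006877))) (.node (.node (.leaf 0x1acc000003) (.leaf 0x19d2000001)) (.node (.leaf 0x23ef003450) (.leaf 0x0))))) (.node (.node (.node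 (.node (.leaf 0x6cc000001) (.leaf 0x43240043b7)) (.node (.leaf 0x25ce000003) (.leaf 0x200647c))) (.node (.node (.leaf 0x16cc000001) (.leaf 0x439700461a)) (.node (.leaf 0x36440005e8) (.leaf 0x0)))) (.node (.node (.node (.leaf 0x2000ecc) (.leaf 0x4ecc00434d)) (.node (.leaf 0x2ecc001f7b) (.leaf 0x1006d6a))) (.node (.node (.leaf 0x1ecc000003) (.leaf 0x5dad000003)) (.node (.leaf 0x2079002ddd) (.leaf 0x0))))))) (.node (.node (.node (.node (.node (.node (.leaf 0x1cc000001) (.leaf 0x19da002ad9)) (.node (.leaf 0x211e000003) (.leaf 0x200192a))) (.node (.node (.leaf 0x20011cc) (.leaf 0x42ee0051cc)) (.node (.leaf 0x31cc001f72) (.leaf 0x0)))) (.node (.node (.node (.leaf 0x20009cc) (.leaf 0x43000049cc)) (.node (.leaf 0x29cc001f72) (.leaf 0x1006770))) (.node (.node (.leaf 0x19cc000003) (.leaf 0x442e0059cc)) (.node (.leaf 0x32df001f7b) (.leaf 0x0))))) (.node (.node (.node (.node (.leaf 0x5cc000003) (.leaf 0x428e0045cc)) (.node (.leaf 0x24b6000001) (.leaf 0x10063a0)))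 (.node (.node (.leaf 0x10015cc) (.leaf 0x42b30055cc)) (.node (.leaf 0x35cc000024) (.leaf 0x0)))) (.node (.node (.node (.leaf 0x2000dcc) (.leaf 0x4316004dcc)) (.node (.leaf 0x1f7b002dcc) (.leaf 0x1006c04))) (.node (.node (.leaf 0x1dcc000001) (.leaf 0x2005c23)) (.node (.leaf 0x21ba002af6) (.leaf 0x0)))))) (.node (.node (.node (.node (.node (.leaf 0x3cc000003) (.leaf 0x43b30042ae)) (.node (.leaf 0x22e0000003) (.leaf 0x10061c6))) (.node (.node (.leaf 0x20013cc) (.leaf 0x53cc000072)) (.node (.leaf 0x1f710033cc) (.leaf 0x0)))) (.node (.node (.node (.leaf 0x2000bcc) (.leaf 0x4300004bcc)) (.node (.leaf 0x1f71002a67) (.leaf 0x2006994))) (.node (.node (.leaf 0x1bcc000001) (.leaf 0x2005b74)) (.node (.leaf 0x27a9002eb9) (.leaf 0x0))))) (.node (.node (.node (.node (.leaf 0x7cc000003) (.leaf 0x47cc0043d7)) (.node (.leaf 0x2706000003) (.leaf 0x6571000003))) (.node (.node (.leaf 0x17cc000001) (.leaf 0x57cc004427)) (.node (.leaf 0x2407003092) (.leaf 0x0)))) (.node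 (.node (.node (.leaf 0x7a000001) (.leaf 0x42ae0047d4)) (.node (.leaf 0x2e86001f72) (.leaf 0x2006ede))) (.node (.node (.leaf 0x1fac000001) (.leaf 0x2005e6d)) (.node (.leaf 0x20f700372d) (.leaf 0x0)))))))))

/-- part -/
def slpT_58 : Tr Nat := (.node (.node (.node (.node (.node (.node (.node (.node (.leaf 0x100002c) (.leaf 0x266b0029e2)) (.node (.leaf 0x1fef000001) (.leaf 0x20003c2))) (.node (.node (.leaf 0x102c000003) (.leaf 0x439f00502c)) (.node (.leaf 0x2ecc001f72) (.leaf 0x1006f52)))) (.node (.node (.node (.leaf 0x82c000002) (.leaf 0x482c004275)) (.node (.leaf 0x2773000001) (.leaf 0x10065cc))) (.node (.node (.leaf 0x182c000003) (.leaf 0x42af0044c4)) (.node (.leaf 0x2e7c00269c) (.leaf 0x0))))) (.node (.node (.node (.node (.leaf 0x42c000001) (.leaf 0x4324004426)) (.node (.leaf 0x2332000003) (.leaf 0x1006222))) (.node (.node (.leaf 0x100142c) (.leaf 0x542c00434d)) (.node (.leaf 0x201f002f04) (.leaf 0x0)))) (.node (.node (.node (.leaf 0x1000c2c)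 (.leaf 0x4389004c2c)) (.node (.leaf 0x1f71002c2c) (.leaf 0x2006a04))) (.node (.node (.leaf 0x1c2c000003) (.leaf 0x2001e1a)) (.node (.leaf 0x25a1003801) (.leaf 0x0)))))) (.node (.node (.node (.node (.node (.leaf 0x100022c) (.leaf 0x28d3003969)) (.node (.leaf 0x200215f) (.leaf 0x2006050))) (.node (.node (.leaf 0x100122c) (.leaf 0x522c004359)) (.node (.leaf 0x322c0024bc) (.leaf 0x0)))) (.node (.node (.node (.leaf 0xa2c000001) (.leaf 0x4a2c004317)) (.node (.leaf 0x1f71002a2c) (.leaf 0x20067d3))) (.node (.node (.leaf 0x1a2c000001) (.leaf 0x428d005a2c)) (.node (.leaf 0x2deb0001d2) (.leaf 0x0))))) (.node (.node (.node (.node (.leaf 0x62c000003) (.leaf 0x462c00436b)) (.node (.leaf 0x2516000001) (.leaf 0x200627b))) (.node (.node (.leaf 0x2001334) (.leaf 0x431200562c)) (.node (.leaf 0x362c001f72) (.leaf 0x0)))) (.node (.node (.node (.leaf 0x3000e2c) (.leaf 0x463f004433)) (.node (.leaf 0x1f7b002c76) (.leaf 0x1006c8c))) (.node (.node (.leaf 0x3001e2c) (.leaf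 0x5d25000001)) (.node (.leaf 0x2221002a30) (.leaf 0x0))))))) (.node (.node (.node (.node (.node (.node (.leaf 0x12c000003) (.leaf 0x21e70033da)) (.node (.leaf 0x20b8000001) (.leaf 0x2005f80))) (.node (.node (.leaf 0x100112c) (.leaf 0x512c0043ac)) (.node (.leaf 0x1f7100301b) (.leaf 0x0)))) (.node (.node (.node (.leaf 0x92c000001) (.leaf 0x42ad00492d)) (.node (.leaf 0x28bc000003) (.leaf 0x10066ce))) (.node (.node (.leaf 0x192c000003) (.leaf 0x42cc00592c)) (.node (.leaf 0x35380027f0) (.leaf 0x0))))) (.node (.node (.node (.node (.leaf 0x52c000002) (.leaf 0x43b90043c9)) (.node (.leaf 0x2410000003) (.leaf 0x1006314))) (.node (.node (.leaf 0x100152c) (.leaf 0x46d60042ae)) (.node (.leaf 0x352c001f72) (.leaf 0x0)))) (.node (.node (.node (.leaf 0x1000d2c) (.leaf 0x42ad004d2c)) (.node (.leaf 0xfcd002d2c) (.leaf 0x2006b2a))) (.node (.node (.leaf 0x1d0001d2c) (.leaf 0x2005c72)) (.node (.leaf 0x2551003383) (.leaf 0x0)))))) (.node (.node (.node (.node (.node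 (.leaf 0x200032c) (.leaf 0x4324004328)) (.node (.leaf 0x2256000001) (.leaf 0x200612a))) (.node (.node (.leaf 0x200132c) (.leaf 0x4621004388)) (.node (.leaf 0x1f71002cb6) (.leaf 0x0)))) (.node (.node (.node (.leaf 0xb2c000001) (.leaf 0x43240043ba)) (.node (.leaf 0x1f7b002adc) (.leaf 0x20068d1))) (.node (.node (.leaf 0x1b2c000003) (.leaf 0x19b0000003)) (.node (.leaf 0x97f003308) (.leaf 0x0))))) (.node (.node (.node (.node (.leaf 0x72c000001) (.leaf 0x439f00472c)) (.node (.leaf 0x2646000001) (.leaf 0x20064dc))) (.node (.node (.leaf 0x172c000002) (.leaf 0x43e000572c)) (.node (.leaf 0x31f4001f7b) (.leaf 0x0)))) (.node (.node (.node (.leaf 0x1000f2c) (.leaf 0x4f2c0042fd)) (.node (.leaf 0x1f71002ed6) (.leaf 0x1006dfc))) (.node (.node (.leaf 0x1f2c000001) (.leaf 0x1005df6)) (.node (.leaf 0x27e1002f34) (.leaf 0x0)))))))) (.node (.node (.node (.node (.node (.node (.node (.leaf 0x10000ac) (.leaf 0x257b00335f)) (.node (.leaf 0x2046000003) (.leaf 0x20003ca)))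 (.node (.node (.leaf 0x10ac000003) (.leaf 0x43ee004371)) (.node (.leaf 0x1f710030ac) (.leaf 0x1007014)))) (.node (.node (.node (.leaf 0x8ac000003) (.leaf 0x48ac0043a2)) (.node (.leaf 0x2806000003) (.leaf 0x6647000001))) (.node (.node (.leaf 0x18ac000001) (.leaf 0x43480058ac)) (.node (.leaf 0x3447001f7b) (.leaf 0x0))))) (.node (.node (.node (.node (.leaf 0x4ac000001) (.leaf 0x42a40044ac)) (.node (.leaf 0x2396000003) (.leaf 0x200629e))) (.node (.node (.leaf 0x10013b2) (.leaf 0x54ac00429d)) (.node (.leaf 0x1f71003211) (.leaf 0x0)))) (.node (.node (.node (.leaf 0x2000cac) (.leaf 0x4348004cac)) (.node (.leaf 0x1f71002cac) (.leaf 0x1006a96))) (.node (.node (.leaf 0x2001cac) (.leaf 0x20020d4)) (.node (.leaf 0x244b002a1e) (.leaf 0x0)))))) (.node (.node (.node (.node (.node (.leaf 0x100006f) (.leaf 0x42ac0042ac)) (.node (.leaf 0x21da000001) (.leaf 0x20060bc))) (.node (.node (.leaf 0x10012ac) (.leaf 0x4a3a0043d3)) (.node (.leaf 0x9670029d7) (.leaf 0x0))))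 (.node (.node (.node (.leaf 0xaac000003) (.leaf 0x43870042e7)) (.node (.leaf 0x2aac001f72) (.leaf 0x1006819))) (.node (.node (.leaf 0x1aac000066) (.leaf 0x4438005aac)) (.node (.leaf 0x249b0033bd) (.leaf 0x0))))) (.node (.node (.node (.node (.leaf 0x6ac000001) (.leaf 0x42e80046ac)) (.node (.leaf 0x247f000003) (.leaf 0x2006466))) (.node (.node (.leaf 0x16ac000001) (.leaf 0x441f0043b7)) (.node (.leaf 0x2bf70024b2) (.leaf 0x0)))) (.node (.node (.node (.leaf 0x2000eac) (.leaf 0x10e8004eac)) (.node (.leaf 0x2eac001f7b) (.leaf 0x2006d32))) (.node (.node (.leaf 0x10be000001) (.leaf 0x1617000003)) (.node (.leaf 0x227d002a10) (.leaf 0x0))))))) (.node (.node (.node (.node (.node (.node (.leaf 0x20001ac) (.leaf 0x1fa90034ff)) (.node (.leaf 0x206d000003) (.leaf 0x1005fea))) (.node (.node (.leaf 0x10011ac) (.leaf 0x10e80051ac)) (.node (.leaf 0x2b76001f72) (.leaf 0x0)))) (.node (.node (.node (.leaf 0x20009ac) (.leaf 0x49ac00442d)) (.node (.leaf 0x29a8000003)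 (.leaf 0x2006754))) (.node (.node (.leaf 0x19ac000001) (.leaf 0x43d80059ac)) (.node (.leaf 0x3876002628) (.leaf 0x0))))) (.node (.node (.node (.node (.leaf 0x5ac000001) (.leaf 0x429c0045ac)) (.node (.leaf 0x2494000003) (.leaf 0x1006384))) (.node (.node (.leaf 0x20015ac) (.leaf 0x44320055ac)) (.node (.leaf 0x2aaa000024) (.leaf 0x0)))) (.node (.node (.node (.leaf 0x1000dac) (.leaf 0x4352004dac)) (.node (.leaf 0x1f71002b32) (.leaf 0x2006bce))) (.node (.node (.leaf 0x1dac000003) (.leaf 0x1001679)) (.node (.leaf 0x28030034c5) (.leaf 0x0)))))) (.node (.node (.node (.node (.node (.leaf 0x3ac000003) (.leaf 0x42e30042f8)) (.node (.leaf 0x1c3a000001) (.leaf 0x20061a0))) (.node (.node (.leaf 0x10013ac) (.leaf 0x10053ac)) (.node (.leaf 0x33ac001f72) (.leaf 0x0)))) (.node (.node (.node (.leaf 0xbac000002) (.leaf 0x42fa004bac)) (.node (.leaf 0x1f71002bac) (.leaf 0x1006974))) (.node (.node (.leaf 0x1bac000003) (.leaf 0x2001b35)) (.node (.leaf 0x22e3002f59)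 (.leaf 0x0))))) (.node (.node (.node (.node (.leaf 0x7ac000003) (.leaf 0x47ac0043cf)) (.node (.leaf 0x26e4000003) (.leaf 0x6551000001))) (.node (.node (.leaf 0x17ac000003) (.leaf 0x57ac0042fd)) (.node (.leaf 0x1f710035af) (.leaf 0x0)))) (.node (.node (.node (.leaf 0x2000fac) (.leaf 0x4348004fac)) (.node (.leaf 0x2c2d0020cc) (.leaf 0x2006eaa))) (.node (.node (.leaf 0x1b27000003) (.leaf 0x1005e5a)) (.node (.leaf 0x2153002d57) (.leaf 0x0)))))))))

/-- part -/
def slpT_59 : Tr Nat := (.node (.node (.node (.node (.node (.node (.node (.node (.leaf 0x44000001) (.leaf 0x266b0034bf)) (.node (.leaf 0x2016000001) (.leaf 0x1005ee4))) (.node (.node (.leaf 0x106c000001) (.leaf 0x506c000001)) (.node (.leaf 0x1f7100306c) (.leaf 0x2006fc0)))) (.node (.node (.node (.leaf 0x86c000001) (.leaf 0x43c8004790)) (.node (.leaf 0x27bc000003) (.leaf 0x660b000003))) (.node (.node (.leaf 0x186c000002) (.leaf 0x43ff00436d)) (.node (.leaf 0x31dc00252c) (.leaf 0x0))))) (.node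 (.node (.node (.node (.leaf 0x46c000003) (.leaf 0x443400446c)) (.node (.leaf 0x21b9000003) (.leaf 0x1006268))) (.node (.node (.leaf 0x100146c) (.leaf 0x546c0042b4)) (.node (.leaf 0xfd500346c) (.leaf 0x0)))) (.node (.node (.node (.leaf 0x2000c6c) (.leaf 0x4c6c00439a)) (.node (.leaf 0x1f71002c6c) (.leaf 0x2006a3a))) (.node (.node (.leaf 0x1001c6c) (.leaf 0x2005bd8)) (.node (.leaf 0x22fb002cac) (.leaf 0x0)))))) (.node (.node (.node (.node (.node (.leaf 0x100026c) (.leaf 0x22dd002c6c)) (.node (.leaf 0x2000a3e) (.leaf 0x1006084))) (.node (.node (.leaf 0x200126c) (.leaf 0x42b300526c)) (.node (.leaf 0x326c0026f4) (.leaf 0x0)))) (.node (.node (.node (.leaf 0xa6c000003) (.leaf 0x4a6c000074)) (.node (.leaf 0x2a6c001f72) (.leaf 0x1006814))) (.node (.node (.leaf 0x1a6c000003) (.leaf 0x4401005a6c)) (.node (.leaf 0x1f7b0030ac) (.leaf 0x0))))) (.node (.node (.node (.node (.leaf 0x66c000003) (.leaf 0x443600466c)) (.node (.leaf 0x2568000003) (.leaf 0x200642c)))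 (.node (.node (.leaf 0x200166c) (.leaf 0x566c0042e5)) (.node (.leaf 0x2b0300004e) (.leaf 0x0)))) (.node (.node (.node (.leaf 0x1000e6c) (.leaf 0x434c004e6c)) (.node (.leaf 0x2e6c001f72) (.leaf 0x2006ce6))) (.node (.node (.leaf 0x1e6c000001) (.leaf 0x5d53000003)) (.node (.leaf 0x27b9003410) (.leaf 0x0))))))) (.node (.node (.node (.node (.node (.node (.leaf 0x100016c) (.leaf 0x285b003035)) (.node (.leaf 0x206b000003) (.leaf 0x2001c66))) (.node (.node (.leaf 0x200116c) (.leaf 0x516c0042f9)) (.node (.leaf 0x3066001f7b) (.leaf 0x0)))) (.node (.node (.node (.leaf 0x96c000001) (.leaf 0x496c00429b)) (.node (.leaf 0x28a9000003) (.leaf 0x2006708))) (.node (.node (.leaf 0x196c000003) (.leaf 0x42e600596c)) (.node (.leaf 0x396c001f7b) (.leaf 0x0))))) (.node (.node (.node (.node (.leaf 0x56c000001) (.leaf 0x432e00456c)) (.node (.leaf 0x2450000001) (.leaf 0x100634c))) (.node (.node (.leaf 0x200156c) (.leaf 0x443800556c)) (.node (.leaf 0x356c001f7b) (.leaf 0x0))))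 (.node (.node (.node (.leaf 0x1000013) (.leaf 0x43be00447d)) (.node (.leaf 0x29ff001f7b) (.leaf 0x1006b80))) (.node (.node (.leaf 0x1d6c000002) (.leaf 0x1005ca8)) (.node (.leaf 0x216d002dd2) (.leaf 0x0)))))) (.node (.node (.node (.node (.node (.leaf 0x36c000003) (.leaf 0x4366004368)) (.node (.leaf 0x1921000003) (.leaf 0x2006164))) (.node (.node (.leaf 0x200136c) (.leaf 0x44920042ae)) (.node (.leaf 0x336c001f72) (.leaf 0x0)))) (.node (.node (.node (.leaf 0xb6c000003) (.leaf 0x42f0004b6c)) (.node (.leaf 0x2b6c001f7b) (.leaf 0x2005569))) (.node (.node (.leaf 0x1b6c000003) (.leaf 0x10003b8)) (.node (.leaf 0x26c70034e9) (.leaf 0x0))))) (.node (.node (.node (.node (.leaf 0x76c000003) (.leaf 0x476c004386)) (.node (.leaf 0x1002691) (.leaf 0x2006512))) (.node (.node (.leaf 0x176c000001) (.leaf 0x4758004384)) (.node (.leaf 0x2784002e97) (.leaf 0x0)))) (.node (.node (.node (.leaf 0x2000f6c) (.leaf 0x43c2004419)) (.node (.leaf 0x2f6c001f7b) (.leaf 0x1006e46)))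 (.node (.node (.leaf 0x3001f6c) (.leaf 0x2002749)) (.node (.leaf 0xfda0032c2) (.leaf 0x0)))))))) (.node (.node (.node (.node (.node (.node (.node (.leaf 0xec000003) (.leaf 0x186003770)) (.node (.leaf 0x2076000003) (.leaf 0x1005f54))) (.node (.node (.leaf 0x10ec000001) (.leaf 0x50ec0042fb)) (.node (.leaf 0x30ec001f72) (.leaf 0x2007094)))) (.node (.node (.node (.leaf 0x8ec000001) (.leaf 0x48ec0042f9)) (.node (.leaf 0x2850000001) (.leaf 0x2006694))) (.node (.node (.leaf 0x18ec000001) (.leaf 0x58ec0043db)) (.node (.leaf 0x327e0021c8) (.leaf 0x0))))) (.node (.node (.node (.node (.leaf 0x4ec000003) (.leaf 0x44ec0042b4)) (.node (.leaf 0x23d4000003) (.leaf 0x20062d6))) (.node (.node (.leaf 0x10014ec) (.leaf 0x220054ec)) (.node (.leaf 0x2d78001f7b) (.leaf 0x0)))) (.node (.node (.node (.leaf 0x1000cec) (.leaf 0x4426004cec)) (.node (.leaf 0xfcd002cb2) (.leaf 0x2006ade))) (.node (.node (.leaf 0x2001cec) (.leaf 0x2002116)) (.node (.leaf 0x233b00375a) (.leaf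 0x0)))))) (.node (.node (.node (.node (.node (.leaf 0x30000c7) (.leaf 0x428a0042e6)) (.node (.leaf 0x2217000003) (.leaf 0x20060ee))) (.node (.node (.leaf 0x10012ec) (.leaf 0x428e0052ec)) (.node (.leaf 0x27fd002fa5) (.leaf 0x0)))) (.node (.node (.node (.leaf 0xaec000002) (.leaf 0x454f0042b2)) (.node (.leaf 0x1f71002aec) (.leaf 0x100689b))) (.node (.node (.leaf 0x1aec000001) (.leaf 0x1b0a000003)) (.node (.leaf 0x2669002f6d) (.leaf 0x0))))) (.node (.node (.node (.node (.leaf 0x6ec000001) (.leaf 0x42f00046ec)) (.node (.leaf 0x25f0000003) (.leaf 0x200624d))) (.node (.node (.leaf 0x16ec000001) (.leaf 0x434c0056ec)) (.node (.leaf 0x36ec001f72) (.leaf 0x0)))) (.node (.node (.node (.leaf 0x3000eec) (.leaf 0x4eec0042ad)) (.node (.leaf 0x1f71002b8f) (.leaf 0x1006dac))) (.node (.node (.leaf 0x1eec000003) (.leaf 0x1005dc0)) (.node (.leaf 0x27e1002bae) (.leaf 0x0))))))) (.node (.node (.node (.node (.node (.node (.leaf 0x1ec000003) (.leaf 0x2605002fcf)) (.node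 (.leaf 0x2136000003) (.leaf 0x100601c))) (.node (.node (.leaf 0x20011ec) (.leaf 0x43ff0049eb)) (.node (.leaf 0x2b25001f72) (.leaf 0x0)))) (.node (.node (.node (.leaf 0x20009ec) (.leaf 0x49ec00438a)) (.node (.leaf 0x1f710029ec) (.leaf 0x2006795))) (.node (.node (.leaf 0x19ec000003) (.leaf 0x43d80059ec)) (.node (.leaf 0x2fb4001f72) (.leaf 0x0))))) (.node (.node (.node (.node (.leaf 0x5ec000001) (.leaf 0x45ec0042a5)) (.node (.leaf 0x24d0000003) (.leaf 0x10063ba))) (.node (.node (.leaf 0x10015ec) (.leaf 0x43ec0043b3)) (.node (.leaf 0x2ee3002968) (.leaf 0x0)))) (.node (.node (.node (.leaf 0x1000dec) (.leaf 0x4432004dec)) (.node (.leaf 0x1f710029e2) (.leaf 0x2006c2a))) (.node (.node (.leaf 0x1c5d000003) (.leaf 0x1005cfc)) (.node (.leaf 0x21ba003324) (.leaf 0x0)))))) (.node (.node (.node (.node (.node (.leaf 0x20003ec) (.leaf 0x43760043ec)) (.node (.leaf 0x22f8000003) (.leaf 0x20061e2))) (.node (.node (.leaf 0x20013ec) (.leaf 0x449a004329)) (.node (.leaf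 0x1f7100310a) (.leaf 0x0)))) (.node (.node (.node (.leaf 0x3000bec) (.leaf 0x43d2004bec)) (.node (.leaf 0x1f71002b7d) (.leaf 0x20069b8))) (.node (.node (.leaf 0x1bec000001) (.leaf 0x20026c4)) (.node (.leaf 0x2478002c42) (.leaf 0x0))))) (.node (.node (.node (.node (.leaf 0x7ec000001) (.leaf 0x47ec00439c)) (.node (.leaf 0x2730000001) (.leaf 0x6589000003))) (.node (.node (.leaf 0x17ec000003) (.leaf 0x57ec004313)) (.node (.leaf 0x3447001f72) (.leaf 0x0)))) (.node (.node (.node (.leaf 0xfec000003) (.leaf 0x4fec0043d1)) (.node (.leaf 0x2def001f7b) (.leaf 0x1006f06))) (.node (.node (.leaf 0x2001fc3) (.leaf 0x20014c6)) (.node (.leaf 0x23e70035a5) (.leaf 0x0)))))))))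

/-- part -/
def slpT_60 : Tr Nat := (.node (.node (.node (.node (.node (.node (.node (.node (.leaf 0x200001c) (.leaf 0xf74002c40)) (.node (.leaf 0x1fe5000003) (.leaf 0x2005ea7))) (.node (.node (.leaf 0x101c000002) (.leaf 0x43e000501c)) (.node (.leaf 0x301c001f7b) (.leaf 0x2004c47)))) (.node (.node (.node (.leaf 0x81c000003) (.leaf 0x43f00043c9)) (.node (.leaf 0x2764000003) (.leaf 0x10065ba))) (.node (.node (.leaf 0x181c000001) (.leaf 0x428a00581c)) (.node (.leaf 0x2dba001f72) (.leaf 0x0))))) (.node (.node (.node (.node (.leaf 0x41c000003) (.leaf 0x441a0043b5)) (.node (.leaf 0x2324000003) (.leaf 0x2000bce))) (.node (.node (.leaf 0x100141c) (.leaf 0x541c0042e7)) (.node (.leaf 0x1f7b003290) (.leaf 0x0)))) (.node (.node (.node (.leaf 0x1000c1c) (.leaf 0x428e004c1c)) (.node (.leaf 0x1f71002c1c) (.leaf 0x20069ec))) (.node (.node (.leaf 0x1c1c000001) (.leaf 0x100427a)) (.node (.leaf 0x20a9002ad5) (.leaf 0x0)))))) (.node (.node (.node (.node (.node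 (.leaf 0x21c000003) (.leaf 0x297d002b1a)) (.node (.leaf 0x2002155) (.leaf 0x1006044))) (.node (.node (.leaf 0x200121c) (.leaf 0x521c00429d)) (.node (.leaf 0x3140001f72) (.leaf 0x0)))) (.node (.node (.node (.leaf 0xa1c000001) (.leaf 0x47fc004427)) (.node (.leaf 0x1f7b002a1c) (.leaf 0x20067c3))) (.node (.node (.leaf 0x6a000001) (.leaf 0x42e4005a1c)) (.node (.leaf 0x2a7800004f) (.leaf 0x0))))) (.node (.node (.node (.node (.leaf 0x61c000001) (.leaf 0x461c0043a2)) (.node (.leaf 0x2508000001) (.leaf 0x2006271))) (.node (.node (.leaf 0x200161c) (.leaf 0x4385004b42)) (.node (.leaf 0x2b52001f72) (.leaf 0x0)))) (.node (.node (.node (.leaf 0x1000e1c) (.leaf 0x44610042ac)) (.node (.leaf 0x1f7b002c0c) (.leaf 0x2006c76))) (.node (.node (.leaf 0x124c000003) (.leaf 0x5d1b000003)) (.node (.leaf 0x22210038df) (.leaf 0x0))))))) (.node (.node (.node (.node (.node (.node (.leaf 0x11c000003) (.leaf 0x21e7002fc7)) (.node (.leaf 0x20ac000003) (.leaf 0x1005f78))) (.node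 (.node (.leaf 0x100111c) (.leaf 0x43a700511c)) (.node (.leaf 0x1f7b00311c) (.leaf 0x1007102)))) (.node (.node (.node (.leaf 0x91c000001) (.leaf 0x491c0043a8)) (.node (.leaf 0x289e000003) (.leaf 0x10066bc))) (.node (.node (.leaf 0x191c000003) (.leaf 0x43ab00591c)) (.node (.leaf 0x383f00013d) (.leaf 0x0))))) (.node (.node (.node (.node (.leaf 0x51c000003) (.leaf 0x451c00442b)) (.node (.leaf 0x2404000003) (.leaf 0x1006306))) (.node (.node (.leaf 0x100151c) (.leaf 0x551c00428b)) (.node (.leaf 0x2beb0021ff) (.leaf 0x0)))) (.node (.node (.node (.leaf 0x1000d1c) (.leaf 0x42c0004d1c)) (.node (.leaf 0x1f7b0029e6) (.leaf 0x2006b16))) (.node (.node (.leaf 0x3001d1c) (.leaf 0x2005c64)) (.node (.leaf 0x25510037e1) (.leaf 0x0)))))) (.node (.node (.node (.node (.node (.leaf 0x200031c) (.leaf 0x429f00431c)) (.node (.leaf 0x2248000003) (.leaf 0x200611a))) (.node (.node (.leaf 0x200131c) (.leaf 0x43b40042ac)) (.node (.leaf 0x1f7b003114) (.leaf 0x0)))) (.node (.node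 (.node (.leaf 0xb1c000001) (.leaf 0x4934004329)) (.node (.leaf 0x1f71002b1c) (.leaf 0x20068c3))) (.node (.node (.leaf 0x1b1c000001) (.leaf 0x1b32000003)) (.node (.leaf 0x276a002bbe) (.leaf 0x0))))) (.node (.node (.node (.node (.leaf 0x71c000001) (.leaf 0x443a00471c)) (.node (.leaf 0x2638000001) (.leaf 0x20064ca))) (.node (.node (.leaf 0x171c000003) (.leaf 0x440500571c)) (.node (.leaf 0x371c002600) (.leaf 0x0)))) (.node (.node (.node (.leaf 0x1000eac) (.leaf 0x4588004400)) (.node (.leaf 0x1f71002f1c) (.leaf 0x2006dec))) (.node (.node (.leaf 0x1f1c000003) (.leaf 0x2005de6)) (.node (.leaf 0x27e1002c08) (.leaf 0x0)))))))) (.node (.node (.node (.node (.node (.node (.node (.leaf 0x100009c) (.leaf 0x21b30032a0)) (.node (.leaf 0x877000003) (.leaf 0x1005f14))) (.node (.node (.leaf 0x109c000003) (.leaf 0x509c0042e5)) (.node (.leaf 0xa03002c58) (.leaf 0x1006ffc)))) (.node (.node (.node (.leaf 0x89c000003) (.leaf 0x489c0042a5)) (.node (.leaf 0x27f0000001)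 (.leaf 0x6639000003))) (.node (.node (.leaf 0x189c000001) (.leaf 0x42fa00589c)) (.node (.leaf 0x36ec0027ce) (.leaf 0x0))))) (.node (.node (.node (.node (.leaf 0x49c000003) (.leaf 0x449c00438a)) (.node (.leaf 0x2382000003) (.leaf 0x1006294))) (.node (.node (.leaf 0x200149c) (.leaf 0x549c0043e3)) (.node (.leaf 0x1f7100349c) (.leaf 0x0)))) (.node (.node (.node (.leaf 0x3000c9c) (.leaf 0x4405004c9c)) (.node (.leaf 0x1f7b002c14) (.leaf 0x2006a86))) (.node (.node (.leaf 0x2001c9c) (.leaf 0x2005bfa)) (.node (.leaf 0x225b002faa) (.leaf 0x0)))))) (.node (.node (.node (.node (.node (.leaf 0x300029c) (.leaf 0x100429a)) (.node (.leaf 0x20021d1) (.leaf 0x20060ac))) (.node (.node (.leaf 0x100129c) (.leaf 0x4379004427)) (.node (.leaf 0x1f71003223) (.leaf 0x0)))) (.node (.node (.node (.leaf 0xa9c000002) (.leaf 0x4a9c000003)) (.node (.leaf 0x2a9c001f72) (.leaf 0x2006846))) (.node (.node (.leaf 0x1a9c000001) (.leaf 0x43c20043f0)) (.node (.leaf 0x249b003571) (.leaf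 0x0))))) (.node (.node (.node (.node (.leaf 0x5e6000001) (.leaf 0x500469c)) (.node (.leaf 0x2594000003) (.leaf 0x1006458))) (.node (.node (.leaf 0x169c000001) (.leaf 0x42ac004b2f)) (.node (.leaf 0x2c890024b2) (.leaf 0x0)))) (.node (.node (.node (.leaf 0x1000e9c) (.leaf 0x42cc004e9c)) (.node (.leaf 0x2b7c001f7b) (.leaf 0x2006d1a))) (.node (.node (.leaf 0x1e9c000002) (.leaf 0x10012c8)) (.node (.leaf 0x208a002ee8) (.leaf 0x0))))))) (.node (.node (.node (.node (.node (.node (.leaf 0x100019c) (.leaf 0x1fa9002aa9)) (.node (.leaf 0x2083000003) (.leaf 0x2005fde))) (.node (.node (.leaf 0x100119c) (.leaf 0x519c00440a)) (.node (.leaf 0x319c001f72) (.leaf 0x0)))) (.node (.node (.node (.leaf 0x100099c) (.leaf 0x499c0042ff)) (.node (.leaf 0x2972000001) (.leaf 0x2006740))) (.node (.node (.leaf 0x199c000001) (.leaf 0x42ac004f80)) (.node (.leaf 0x2dd5002628) (.leaf 0x0))))) (.node (.node (.node (.node (.leaf 0x59c000001) (.leaf 0x42ec00459c)) (.node (.leaf 0x2482000001)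 (.leaf 0x2006378))) (.node (.node (.leaf 0x100159c) (.leaf 0x43d2004591)) (.node (.leaf 0x359c0026da) (.leaf 0x0)))) (.node (.node (.node (.leaf 0x2000d9c) (.leaf 0x10e8004d9c)) (.node (.leaf 0x1f7b002d9c) (.leaf 0x2006bbc))) (.node (.node (.leaf 0x1d9c000003) (.leaf 0x2002484)) (.node (.leaf 0x26c5003062) (.leaf 0x0)))))) (.node (.node (.node (.node (.node (.leaf 0x39c000001) (.leaf 0x42f9004367)) (.node (.leaf 0x22b8000001) (.leaf 0x1006190))) (.node (.node (.leaf 0x100139c) (.leaf 0x539c004303)) (.node (.leaf 0x330d001f72) (.leaf 0x0)))) (.node (.node (.node (.leaf 0xb9c000001) (.leaf 0x43720043bb)) (.node (.leaf 0x29de001f72) (.leaf 0x200695e))) (.node (.node (.leaf 0x1b9c000002) (.leaf 0x2005b4d)) (.node (.leaf 0x22e3003088) (.leaf 0x0))))) (.node (.node (.node (.node (.leaf 0x79c000003) (.leaf 0x479c004402)) (.node (.leaf 0x26d2000001) (.leaf 0x6549000001))) (.node (.node (.leaf 0x179c000003) (.leaf 0x579c004303)) (.node (.leaf 0x5300379c)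 (.leaf 0x0)))) (.node (.node (.node (.leaf 0x3000f9c) (.leaf 0x2004f9c)) (.node (.leaf 0x2a98001f72) (.leaf 0x1006e86))) (.node (.node (.leaf 0x1f92000001) (.leaf 0x2005e49)) (.node (.leaf 0x21530029f8) (.leaf 0x0)))))))))

/-- part -/
def slpT_61 : Tr Nat := (.node (.node (.node (.node (.node (.node (.node (.node (.leaf 0x5c000003) (.leaf 0x266b003072)) (.node (.leaf 0x200c000001) (.leaf 0x2005ed5))) (.node (.node (.leaf 0x105c000003) (.leaf 0x505c004313)) (.node (.leaf 0x1f7b002bc6) (.leaf 0x1006fa0)))) (.node (.node (.node (.leaf 0x85c000001) (.leaf 0x42e400485c)) (.node (.leaf 0x27ac000001) (.leaf 0x65f9000001))) (.node (.node (.leaf 0x185c000003) (.leaf 0x4352004d02)) (.node (.leaf 0x2b8c00252c) (.leaf 0x0))))) (.node (.node (.node (.node (.leaf 0x45c000003) (.leaf 0x43e000445c)) (.node (.leaf 0x2358000001) (.leaf 0x200625a))) (.node (.node (.leaf 0x100145c) (.leaf 0x545c004353)) (.node (.leaf 0xfd500333d) (.leaf 0x0)))) (.node (.node (.node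 (.leaf 0x2000c5c) (.leaf 0x4c5c0042cd)) (.node (.leaf 0x1f71002c5c) (.leaf 0x20058f0))) (.node (.node (.leaf 0x1001c5c) (.leaf 0x2002554)) (.node (.leaf 0x2121002a77) (.leaf 0x0)))))) (.node (.node (.node (.node (.node (.leaf 0x100025c) (.leaf 0x26390038db)) (.node (.leaf 0x218e000003) (.leaf 0x100607a))) (.node (.node (.leaf 0x200125c) (.leaf 0x434c00525c)) (.node (.leaf 0x2d41001f72) (.leaf 0x0)))) (.node (.node (.node (.leaf 0xa5c000003) (.leaf 0x43b500436b)) (.node (.leaf 0x2a5c001f72) (.leaf 0x2006805))) (.node (.node (.leaf 0x1a5c000003) (.leaf 0x43d6005a5c)) (.node (.leaf 0x96e002b0e) (.leaf 0x0))))) (.node (.node (.node (.node (.leaf 0x65c000003) (.leaf 0x430200465c)) (.node (.leaf 0x2558000003) (.leaf 0x100614b))) (.node (.node (.leaf 0x200165c) (.leaf 0x564a0043cf)) (.node (.leaf 0x365c001f72) (.leaf 0x0)))) (.node (.node (.node (.leaf 0x1000e5c) (.leaf 0x42e6004e5c)) (.node (.leaf 0x2e5c001f72) (.leaf 0x2006cc6))) (.node (.node (.leaf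 0x1e5c000001) (.leaf 0x1005d4a)) (.node (.leaf 0x27b9003169) (.leaf 0x0))))))) (.node (.node (.node (.node (.node (.node (.leaf 0x200015c) (.leaf 0x23b1002b41)) (.node (.leaf 0x20de000003) (.leaf 0x2005fa8))) (.node (.node (.leaf 0x200115c) (.leaf 0x515c00439a)) (.node (.leaf 0x315c00254c) (.leaf 0x0)))) (.node (.node (.node (.leaf 0x95c000003) (.leaf 0x495c00440a)) (.node (.leaf 0x2910000003) (.leaf 0x10066fa))) (.node (.node (.leaf 0x195c000002) (.leaf 0x439900595c)) (.node (.leaf 0x2ab400274b) (.leaf 0x0))))) (.node (.node (.node (.node (.leaf 0x55c000001) (.leaf 0x2200455c)) (.node (.leaf 0x243c000003) (.leaf 0x1006340))) (.node (.node (.leaf 0x200155c) (.leaf 0x555c00428b)) (.node (.leaf 0x33760029a0) (.leaf 0x0)))) (.node (.node (.node (.leaf 0x2000d5c) (.leaf 0x42b3004d5c)) (.node (.leaf 0x2d5c001f7b) (.leaf 0x2006b68))) (.node (.node (.leaf 0x2001d5c) (.leaf 0x2005c98)) (.node (.leaf 0xf76002be0) (.leaf 0x0)))))) (.node (.node (.node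 (.node (.node (.leaf 0x35c000002) (.leaf 0x4324004358)) (.node (.leaf 0x14bc000001) (.leaf 0x2006154))) (.node (.node (.leaf 0x200135c) (.leaf 0x4525004384)) (.node (.leaf 0x2e50001f72) (.leaf 0x0)))) (.node (.node (.node (.leaf 0xb5c000002) (.leaf 0x432600449a)) (.node (.leaf 0x2b5c001f7b) (.leaf 0x1006914))) (.node (.node (.leaf 0x1b5c000003) (.leaf 0x2002020)) (.node (.leaf 0x2823002db5) (.leaf 0x0))))) (.node (.node (.node (.node (.leaf 0x75c000003) (.leaf 0x475c004301)) (.node (.leaf 0x267a000003) (.leaf 0x2006502))) (.node (.node (.leaf 0x175c000001) (.leaf 0x42ee00575d)) (.node (.leaf 0x1f71003605) (.leaf 0x0)))) (.node (.node (.node (.leaf 0x2000f5c) (.leaf 0x4397004f5c)) (.node (.leaf 0x2f5c001f72) (.leaf 0x2006e38))) (.node (.node (.leaf 0x2001f5c) (.leaf 0x2005e1a)) (.node (.leaf 0xfda002d1a) (.leaf 0x0)))))))) (.node (.node (.node (.node (.node (.node (.node (.leaf 0xdc000003) (.leaf 0x186002a3a)) (.node (.leaf 0x197000001) (.leaf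 0x2005f44))) (.node (.node (.leaf 0x10dc000001) (.leaf 0x50dc0043a2)) (.node (.leaf 0x30dc001f72) (.leaf 0x2007064)))) (.node (.node (.node (.leaf 0x8dc000003) (.leaf 0x48dc0043e1)) (.node (.leaf 0x283c000001) (.leaf 0x100667c))) (.node (.node (.leaf 0x18dc000002) (.leaf 0x43b3004369)) (.node (.leaf 0x3210001f72) (.leaf 0x0))))) (.node (.node (.node (.node (.leaf 0x4dc000003) (.leaf 0x43260043b7)) (.node (.leaf 0x23c8000001) (.leaf 0x20062c6))) (.node (.node (.leaf 0x20014dc) (.leaf 0x54dc004439)) (.node (.leaf 0x3264001f72) (.leaf 0x0)))) (.node (.node (.node (.leaf 0x1000cdc) (.leaf 0x4409004cdc)) (.node (.leaf 0x2971002c70) (.leaf 0x2006ac6))) (.node (.node (.leaf 0x2001cdc) (.leaf 0x1005c2e)) (.node (.leaf 0x233b002d28) (.leaf 0x0)))))) (.node (.node (.node (.node (.node (.leaf 0x10002dc) (.leaf 0x40042dc)) (.node (.leaf 0x2206000003) (.leaf 0x10060e4))) (.node (.node (.leaf 0x20012dc) (.leaf 0x44380052dc)) (.node (.leaf 0x1f710032dc) (.leaf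 0x0)))) (.node (.node (.node (.leaf 0xadc000001) (.leaf 0x4adc000074)) (.node (.leaf 0x1f71002adc) (.leaf 0x200688b))) (.node (.node (.leaf 0x1adc000003) (.leaf 0x1c28000003)) (.node (.leaf 0x2669002c80) (.leaf 0x0))))) (.node (.node (.node (.node (.leaf 0x6dc000001) (.leaf 0x710046dc)) (.node (.leaf 0x25dc000003) (.leaf 0x100648a))) (.node (.node (.leaf 0x16dc000003) (.leaf 0x44320056dc)) (.node (.leaf 0x2a920005e8) (.leaf 0x0)))) (.node (.node (.node (.leaf 0x2000edc) (.leaf 0x4edc004398)) (.node (.leaf 0x1f71002edc) (.leaf 0x1006d8c))) (.node (.node (.leaf 0x1edc000003) (.leaf 0x1005b83)) (.node (.leaf 0x272900380b) (.leaf 0x0))))))) (.node (.node (.node (.node (.node (.node (.leaf 0x1dc000002) (.leaf 0x229c0032a6)) (.node (.leaf 0x212c000001) (.leaf 0x200600c))) (.node (.node (.leaf 0x30011dc) (.leaf 0x43830051dc)) (.node (.leaf 0x31dc001f72) (.leaf 0x0)))) (.node (.node (.node (.leaf 0x10009dc) (.leaf 0x49dc004435)) (.node (.leaf 0x29dc001f72)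 (.leaf 0x2006780))) (.node (.node (.leaf 0x19dc000001) (.leaf 0x43480059dc)) (.node (.leaf 0x2c51002712) (.leaf 0x0))))) (.node (.node (.node (.node (.leaf 0x5dc000003) (.leaf 0x45dc004420)) (.node (.leaf 0x24c4000001) (.leaf 0x20063aa))) (.node (.node (.leaf 0x10015dc) (.leaf 0x442a0055dc)) (.node (.leaf 0x2c73001f7b) (.leaf 0x0)))) (.node (.node (.node (.leaf 0x1000ddc) (.leaf 0x42f8004ddc)) (.node (.leaf 0x1f71002ddc) (.leaf 0x2006c14))) (.node (.node (.leaf 0x1ddc000002) (.leaf 0x20024a0)) (.node (.leaf 0x21ba003118) (.leaf 0x0)))))) (.node (.node (.node (.node (.node (.leaf 0x10003dc) (.leaf 0x43660043da)) (.node (.leaf 0x22ec000003) (.leaf 0x1005c63))) (.node (.node (.leaf 0x30013dc) (.leaf 0x53dc0042f1)) (.node (.leaf 0x1f71003281) (.leaf 0x0)))) (.node (.node (.node (.leaf 0x1000bdc) (.leaf 0x42af004bdc)) (.node (.leaf 0x1f7b002bdc) (.leaf 0x10069a0))) (.node (.node (.leaf 0x1bdc000001) (.leaf 0x2005b82)) (.node (.leaf 0x27a9003049) (.leaf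 0x0))))) (.node (.node (.node (.node (.leaf 0x7dc000002) (.leaf 0x43bb004371)) (.node (.leaf 0x2718000001) (.leaf 0x657b000003))) (.node (.node (.leaf 0x1095000003) (.leaf 0x43b6004425)) (.node (.leaf 0x2a3600271a) (.leaf 0x0)))) (.node (.node (.node (.leaf 0xfdc000001) (.leaf 0x4399004fdc)) (.node (.leaf 0x2fdc001f7b) (.leaf 0x2006ef6))) (.node (.node (.leaf 0x2001242) (.leaf 0x1005e77)) (.node (.leaf 0x1fc80034a8) (.leaf 0x0)))))))))

/-- part -/
def slpT_62 : Tr Nat := (.node (.node (.node (.node (.node (.node (.node (.node (.leaf 0x3c000001) (.leaf 0x266b003537)) (.node (.leaf 0x1ff5000003) (.leaf 0x1005ec1))) (.node (.node (.leaf 0x103c000001) (.leaf 0x100503c)) (.node (.leaf 0x2be300211e) (.leaf 0x2006f74)))) (.node (.node (.node (.leaf 0x83c000001) (.leaf 0x427400483c)) (.node (.leaf 0x2783000003) (.leaf 0x20065dc))) (.node (.node (.leaf 0x183c000003) (.leaf 0x43d600583c)) (.node (.leaf 0x37af001fef) (.leaf 0x0))))) (.node (.node (.node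 (.node (.leaf 0x43c000003) (.leaf 0x436700441a)) (.node (.leaf 0x2342000003) (.leaf 0x2006236))) (.node (.node (.leaf 0x200143c) (.leaf 0x543c004435)) (.node (.leaf 0x201f00343c) (.leaf 0x0)))) (.node (.node (.node (.leaf 0x2000c3c) (.leaf 0x71004c3c)) (.node (.leaf 0x1f71002a3d) (.leaf 0x2006a0e))) (.node (.node (.leaf 0x1001c3c) (.leaf 0x1005334)) (.node (.leaf 0x25a100302d) (.leaf 0x0)))))) (.node (.node (.node (.node (.node (.leaf 0x100023c) (.leaf 0x25e7002c12)) (.node (.leaf 0x2170000003) (.leaf 0x1006064))) (.node (.node (.leaf 0xd9e00123c) (.leaf 0x523c0042a5)) (.node (.leaf 0x2d89001f72) (.leaf 0x0)))) (.node (.node (.node (.leaf 0x970000001) (.leaf 0x4a3c00428b)) (.node (.leaf 0x2a17001f72) (.leaf 0x20067e1))) (.node (.node (.leaf 0x1a3c000001) (.leaf 0x434c005a3c)) (.node (.leaf 0x2b0700133a) (.leaf 0x0))))) (.node (.node (.node (.node (.leaf 0x63c000001) (.leaf 0x43bc0043b6)) (.node (.leaf 0x2526000003) (.leaf 0x1006404))) (.node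 (.node (.leaf 0x200163c) (.leaf 0x10e800563c)) (.node (.leaf 0x2bd3001f72) (.leaf 0x0)))) (.node (.node (.node (.leaf 0x2000e3c) (.leaf 0x4316004e3c)) (.node (.leaf 0x2bdd001f72) (.leaf 0x1006c9e))) (.node (.node (.leaf 0x2001e3c) (.leaf 0x2819000003)) (.node (.leaf 0x2221002c40) (.leaf 0x0))))))) (.node (.node (.node (.node (.node (.node (.leaf 0x13c000001) (.leaf 0x23b1002d6d)) (.node (.leaf 0x20c4000003) (.leaf 0x2005f8a))) (.node (.node (.leaf 0x100113c) (.leaf 0x513c0042fb)) (.node (.leaf 0x30f9001f72) (.leaf 0x0)))) (.node (.node (.node (.leaf 0x93c000001) (.leaf 0x443e0043c9)) (.node (.leaf 0x28d6000001) (.leaf 0x20066d8))) (.node (.node (.leaf 0x193c000003) (.leaf 0x2200593c)) (.node (.leaf 0x2ba0001f7b) (.leaf 0x0))))) (.node (.node (.node (.node (.leaf 0x53c000003) (.leaf 0x441a0043b8)) (.node (.leaf 0x2422000003) (.leaf 0x2000142))) (.node (.node (.leaf 0x100153c) (.leaf 0x553c0043a8)) (.node (.leaf 0x2bff0021ff) (.leaf 0x0)))) (.node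 (.node (.node (.leaf 0x2000d3c) (.leaf 0x460e00432f)) (.node (.leaf 0xfcd002b06) (.leaf 0x2006b3a))) (.node (.node (.leaf 0x2001d3c) (.leaf 0x2005c80)) (.node (.leaf 0x24e1003583) (.leaf 0x0)))))) (.node (.node (.node (.node (.node (.leaf 0x33c000002) (.leaf 0x42ac004334)) (.node (.leaf 0x2264000001) (.leaf 0x1006138))) (.node (.node (.leaf 0x100133c) (.leaf 0x533c004427)) (.node (.leaf 0x2cb3001f7b) (.leaf 0x0)))) (.node (.node (.node (.leaf 0xb3c000001) (.leaf 0x42fa004b3c)) (.node (.leaf 0x2a0b001f7b) (.leaf 0x10068e8))) (.node (.node (.leaf 0x1ae6000001) (.leaf 0x2001b0d)) (.node (.leaf 0x97f002c12) (.leaf 0x0))))) (.node (.node (.node (.node (.leaf 0x73c000001) (.leaf 0x42af00473c)) (.node (.leaf 0x2000bcd) (.leaf 0x10064e8))) (.node (.node (.leaf 0x173c000003) (.leaf 0x4abc00428b)) (.node (.leaf 0x21390030a2) (.leaf 0x0)))) (.node (.node (.node (.leaf 0x100061c) (.leaf 0x4f3c0042ed)) (.node (.leaf 0x1f71002f3c) (.leaf 0x2006e16))) (.node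 (.node (.leaf 0x1f3c000001) (.leaf 0x2005e02)) (.node (.leaf 0xfda0033a9) (.leaf 0x0)))))))) (.node (.node (.node (.node (.node (.node (.node (.leaf 0xbc000003) (.leaf 0x23f3002fe1)) (.node (.leaf 0x2050000001) (.leaf 0x2005f2c))) (.node (.node (.leaf 0x10bc000003) (.leaf 0x50bc000074)) (.node (.leaf 0x211f002a39) (.leaf 0x2007026)))) (.node (.node (.node (.leaf 0x8bc000003) (.leaf 0x48bc00442d)) (.node (.leaf 0x2814000003) (.leaf 0x6657000001))) (.node (.node (.leaf 0x18bc000001) (.leaf 0x568f00438a)) (.node (.leaf 0x2edf001f7b) (.leaf 0x0))))) (.node (.node (.node (.node (.leaf 0x4bc000003) (.leaf 0x42e80044bc)) (.node (.leaf 0x23aa000001) (.leaf 0x20062aa))) (.node (.node (.leaf 0x20014bc) (.leaf 0x54bc004408)) (.node (.leaf 0x33c0002566) (.leaf 0x0)))) (.node (.node (.node (.leaf 0x2000cbc) (.leaf 0x432400449a)) (.node (.leaf 0x1f71002cbc) (.leaf 0x2006aa4))) (.node (.node (.leaf 0x1001cbc) (.leaf 0x2005c14)) (.node (.leaf 0x244b003287) (.leaf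 0x0)))))) (.node (.node (.node (.node (.node (.leaf 0x20002bc) (.leaf 0x428a0042b8)) (.node (.leaf 0xa46000003) (.leaf 0x20060c8))) (.node (.node (.leaf 0x10012bc) (.leaf 0x4423004756)) (.node (.leaf 0x9670032bc) (.leaf 0x0)))) (.node (.node (.node (.leaf 0xabc000001) (.leaf 0x4abc004433)) (.node (.leaf 0x2abc001f7b) (.leaf 0x200686b))) (.node (.node (.leaf 0x1abc000002) (.leaf 0x1005abc)) (.node (.leaf 0x23ef002b99) (.leaf 0x0))))) (.node (.node (.node (.node (.leaf 0x6bc000001) (.leaf 0x44260046bc)) (.node (.leaf 0x25ba000003) (.leaf 0x1006474))) (.node (.node (.leaf 0x16bc000003) (.leaf 0x43e20056bc)) (.node (.leaf 0x2eb8001f7b) (.leaf 0x0)))) (.node (.node (.node (.leaf 0x2000ebc) (.leaf 0x4ebc004435)) (.node (.leaf 0x2c67001f7b) (.leaf 0x1006d4a))) (.node (.node (.leaf 0x1ebc000003) (.leaf 0x5d9f000001)) (.node (.leaf 0x227d0029bf) (.leaf 0x0))))))) (.node (.node (.node (.node (.node (.node (.leaf 0x20001bc) (.leaf 0xa09003571)) (.node (.leaf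 0x2116000001) (.leaf 0x2005ff6))) (.node (.node (.leaf 0x10011bc) (.leaf 0x43da0051bc)) (.node (.leaf 0x31bc001f72) (.leaf 0x0)))) (.node (.node (.node (.leaf 0x10009bc) (.leaf 0x43ec0044a5)) (.node (.leaf 0x29bc001f72) (.leaf 0x2006760))) (.node (.node (.leaf 0x19bc000001) (.leaf 0x42e80059bc)) (.node (.leaf 0x2fc800213c) (.leaf 0x0))))) (.node (.node (.node (.node (.leaf 0x5bc000001) (.leaf 0x3b0045bc)) (.node (.leaf 0x24a2000003) (.leaf 0x100625d))) (.node (.node (.leaf 0x20015bc) (.leaf 0x43d80055bc)) (.node (.leaf 0x2f43000024) (.leaf 0x0)))) (.node (.node (.node (.leaf 0x2000dbc) (.leaf 0x442e004dbc)) (.node (.leaf 0x1f7b002dbc) (.leaf 0x2006be8))) (.node (.node (.leaf 0x1dbc000001) (.leaf 0x1005cdc)) (.node (.leaf 0x28f5002af2) (.leaf 0x0)))))) (.node (.node (.node (.node (.node (.leaf 0x3bc000003) (.leaf 0x43b3004326)) (.node (.leaf 0x22d0000003) (.leaf 0x10061b4))) (.node (.node (.leaf 0x30013bc) (.leaf 0x53bc00428f)) (.node (.leaf 0x32cd001f72)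 (.leaf 0x0)))) (.node (.node (.node (.leaf 0x61c000003) (.leaf 0x42fa004bbc)) (.node (.leaf 0x1f71002bbc) (.leaf 0x2006984))) (.node (.node (.leaf 0x1bbc000003) (.leaf 0x1005b64)) (.node (.leaf 0x22e3002fa1) (.leaf 0x0))))) (.node (.node (.node (.node (.leaf 0x7bc000002) (.leaf 0x47bc0042cd)) (.node (.leaf 0x26f6000003) (.leaf 0x655d000003))) (.node (.node (.leaf 0x17bc000003) (.leaf 0x57bc0042b4)) (.node (.leaf 0x2407003066) (.leaf 0x0)))) (.node (.node (.node (.leaf 0x1000fbc) (.leaf 0x428d004fbc)) (.node (.leaf 0x2b31001f7b) (.leaf 0x2006d25))) (.node (.node (.leaf 0x1fa4000003) (.leaf 0x1005e62)) (.node (.leaf 0x2153002be8) (.leaf 0x0)))))))))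

/-- part -/
def slpT_63 : Tr Nat := (.node (.node (.node (.node (.node (.node (.node (.node (.leaf 0x7c000001) (.leaf 0x266b0030e3)) (.node (.leaf 0x2022000003) (.leaf 0x2005ef4))) (.node (.node (.leaf 0x107c000003) (.leaf 0x507c004301)) (.node (.leaf 0x1f7b00307c) (.leaf 0x2006fc8)))) (.node (.node (.node (.leaf 0x87c000003) (.leaf 0x487c0043a0)) (.node (.leaf 0x27ca000003) (.leaf 0x6617000003))) (.node (.node (.leaf 0x187c000003) (.leaf 0x43d800587c)) (.node (.leaf 0x2ec60023c4) (.leaf 0x0))))) (.node (.node (.node (.node (.leaf 0x47c000001) (.leaf 0x432600447d)) (.node (.leaf 0x236e000001) (.leaf 0x2006278))) (.node (.node (.leaf 0x100147c) (.leaf 0x547c0043d9)) (.node (.leaf 0x1f7b002e30) (.leaf 0x0)))) (.node (.node (.node (.leaf 0x3000c7c) (.leaf 0x4c7c000003)) (.node (.leaf 0x1f71002aaf) (.leaf 0x2006a5a))) (.node (.node (.leaf 0x1001c7c) (.leaf 0x2005be0)) (.node (.leaf 0x2183002c16) (.leaf 0x0)))))) (.node (.node (.node (.node (.node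 (.leaf 0x300027c) (.leaf 0x2004278)) (.node (.leaf 0x20021b1) (.leaf 0x2006092))) (.node (.node (.leaf 0x200127c) (.leaf 0x43c00045dc)) (.node (.leaf 0x2bcb001f72) (.leaf 0x0)))) (.node (.node (.node (.leaf 0xa7c000003) (.leaf 0x4a7c00430f)) (.node (.leaf 0x2a7c001f72) (.leaf 0x2001f5e))) (.node (.node (.leaf 0x1a7c000001) (.leaf 0x43d00043c5)) (.node (.leaf 0x20b600345a) (.leaf 0x0))))) (.node (.node (.node (.node (.leaf 0x67c000003) (.leaf 0x43d600467c)) (.node (.leaf 0x247d000003) (.leaf 0x100643a))) (.node (.node (.leaf 0x167c000001) (.leaf 0x439700567c)) (.node (.leaf 0x367c00004e) (.leaf 0x0)))) (.node (.node (.node (.leaf 0x3000e7c) (.leaf 0x429a004e7c)) (.node (.leaf 0x2e7c001f72) (.leaf 0x2006cf6))) (.node (.node (.leaf 0x1e7c000001) (.leaf 0x2005d64)) (.node (.leaf 0x27b90031fb) (.leaf 0x0))))))) (.node (.node (.node (.node (.node (.node (.leaf 0x200017c) (.leaf 0x285b0033d2)) (.node (.leaf 0x20f2000001) (.leaf 0x2005fc0))) (.node (.node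 (.leaf 0x100117c) (.leaf 0x517c00428b)) (.node (.leaf 0x2c0d001f72) (.leaf 0x0)))) (.node (.node (.node (.leaf 0x100097c) (.leaf 0x47ca004388)) (.node (.leaf 0x293a000003) (.leaf 0x200671a))) (.node (.node (.leaf 0x197c000001) (.leaf 0x42e600597c)) (.node (.leaf 0x2da70022ca) (.leaf 0x0))))) (.node (.node (.node (.node (.leaf 0x57c000001) (.leaf 0x43e000457c)) (.node (.leaf 0x2462000003) (.leaf 0x100635e))) (.node (.node (.leaf 0x200157c) (.leaf 0x432800557c)) (.node (.leaf 0x2c530026da) (.leaf 0x0)))) (.node (.node (.node (.leaf 0x1000d7c) (.leaf 0x43ff0045fa)) (.node (.leaf 0x2ab8001f72) (.leaf 0x1006b9c))) (.node (.node (.leaf 0x1d7c001d60) (.leaf 0x2005cb0)) (.node (.leaf 0x268b002bae) (.leaf 0x0)))))) (.node (.node (.node (.node (.node (.leaf 0x37c000003) (.leaf 0x4376004367)) (.node (.leaf 0x1f73000003) (.leaf 0x1006174))) (.node (.node (.leaf 0x200137c) (.leaf 0x45dc004327)) (.node (.leaf 0x337c001f7b) (.leaf 0x0)))) (.node (.node (.node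 (.leaf 0xb7c000003) (.leaf 0x43c200441e)) (.node (.leaf 0x2b7c001f72) (.leaf 0x100693a))) (.node (.node (.leaf 0x1b7c000002) (.leaf 0x1005b34)) (.node (.leaf 0x18e002f34) (.leaf 0x0))))) (.node (.node (.node (.node (.leaf 0x77c000003) (.leaf 0x43c80045a4)) (.node (.leaf 0x20026ab) (.leaf 0x1006524))) (.node (.node (.leaf 0x177c000001) (.leaf 0x577c0042ad)) (.node (.leaf 0x1f71003199) (.leaf 0x0)))) (.node (.node (.node (.leaf 0x2000f7c) (.leaf 0x71004f7c)) (.node (.leaf 0x2c13002604) (.leaf 0x2006e58))) (.node (.node (.leaf 0xd84000001) (.leaf 0x1005e2f)) (.node (.leaf 0x286d002b99) (.leaf 0x0)))))))) (.node (.node (.node (.node (.node (.node (.node (.leaf 0xfc000001) (.leaf 0x186003965)) (.node (.leaf 0x2088000001) (.leaf 0x1005f60))) (.node (.node (.leaf 0x10fc000001) (.leaf 0x42f00050fc)) (.node (.leaf 0x1f7b0030fc) (.leaf 0x20070c0)))) (.node (.node (.node (.leaf 0x8fc000003) (.leaf 0x48fc00432f)) (.node (.leaf 0x286e000003) (.leaf 0x10066a0)))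 (.node (.node (.leaf 0x18fc000001) (.leaf 0x58fc0042ef)) (.node (.leaf 0x300e0021c8) (.leaf 0x0))))) (.node (.node (.node (.node (.leaf 0x4fc000001) (.leaf 0x43270044fc)) (.node (.leaf 0x23e4000001) (.leaf 0x20062e8))) (.node (.node (.leaf 0x2000964) (.leaf 0x54fc0043d7)) (.node (.leaf 0x29c4001f7b) (.leaf 0x0)))) (.node (.node (.node (.leaf 0x2000cfc) (.leaf 0x71004cfc)) (.node (.leaf 0x28d1002b8d) (.leaf 0x1006af4))) (.node (.node (.leaf 0x3001cfc) (.leaf 0x20019df)) (.node (.leaf 0x233b00335d) (.leaf 0x0)))))) (.node (.node (.node (.node (.node (.leaf 0x20002fc) (.leaf 0x200042f8)) (.node (.leaf 0x2225000003) (.leaf 0x20060fc))) (.node (.node (.leaf 0x10012fc) (.leaf 0x43ff0052fc)) (.node (.leaf 0x1f7b0032fc) (.leaf 0x0)))) (.node (.node (.node (.leaf 0xafc000003) (.leaf 0x4afc004400)) (.node (.leaf 0x1f7b002afc) (.leaf 0x10068a9))) (.node (.node (.leaf 0x1afc000001) (.leaf 0x2473000003)) (.node (.leaf 0x1f7b002df8) (.leaf 0x0))))) (.node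 (.node (.node (.node (.leaf 0x6fc000001) (.leaf 0x4372004419)) (.node (.leaf 0x260e000003) (.leaf 0x10064a8))) (.node (.node (.leaf 0x16fc0016e2) (.leaf 0x43d8004aa3)) (.node (.leaf 0x2c2100258c) (.leaf 0x0)))) (.node (.node (.node (.leaf 0x2000efc) (.leaf 0x43f5004425)) (.node (.leaf 0x1f71002aee) (.leaf 0x2006dc0))) (.node (.node (.leaf 0x1efc000003) (.leaf 0x2005dcc)) (.node (.leaf 0x27e1002c3c) (.leaf 0x0))))))) (.node (.node (.node (.node (.node (.node (.leaf 0x1fc000001) (.leaf 0x2772002a50)) (.node (.leaf 0x213e000003) (.leaf 0x200602c))) (.node (.node (.leaf 0x20011fc) (.leaf 0x51fc004313)) (.node (.leaf 0x31fc0020b0) (.leaf 0x0)))) (.node (.node (.node (.leaf 0x20009fc) (.leaf 0x49fc004349)) (.node (.leaf 0x1f710029fc) (.leaf 0x20067a3))) (.node (.node (.leaf 0x19fc000001) (.leaf 0x442800436f)) (.node (.leaf 0x360c00218c) (.leaf 0x0))))) (.node (.node (.node (.node (.leaf 0x5fc000001) (.leaf 0x45fc0042ed)) (.node (.leaf 0x24e8000001)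 (.leaf 0x10063ca))) (.node (.node (.leaf 0x10015fc) (.leaf 0x43d200476b)) (.node (.leaf 0x3421001f72) (.leaf 0x0)))) (.node (.node (.node (.leaf 0x1000dfc) (.leaf 0x43d8004dfc)) (.node (.leaf 0x247d002dfc) (.leaf 0x2006c4a))) (.node (.node (.leaf 0x1dfc000001) (.leaf 0x1005d02)) (.node (.leaf 0x21ba003181) (.leaf 0x0)))))) (.node (.node (.node (.node (.node (.leaf 0x20003fc) (.leaf 0x42ae0043ee)) (.node (.leaf 0x886000003) (.leaf 0x20061f4))) (.node (.node (.leaf 0x20013fc) (.leaf 0x44910042ad)) (.node (.leaf 0x26350029ee) (.leaf 0x0)))) (.node (.node (.node (.leaf 0x2000bfc) (.leaf 0x42ec004bfc)) (.node (.leaf 0x1f71002bfc) (.leaf 0x20069cc))) (.node (.node (.leaf 0x1bfc000001) (.leaf 0x2005b96)) (.node (.leaf 0x294f002bfa) (.leaf 0x0))))) (.node (.node (.node (.node (.leaf 0x7fc000001) (.leaf 0x47fc0043fe)) (.node (.leaf 0x2743000003) (.leaf 0x659d000001))) (.node (.node (.leaf 0x17fc000001) (.leaf 0x442c0057fc)) (.node (.leaf 0x2c8500271a)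 (.leaf 0x0)))) (.node (.node (.node (.leaf 0xffc000001) (.leaf 0x4428004ffd)) (.node (.leaf 0x2ffc002048) (.leaf 0x1006f1c))) (.node (.node (.leaf 0x1fd4000001) (.leaf 0x2005e8d)) (.node (.leaf 0x24a5003563) (.leaf 0x0)))))))))

/-- part -/
def slpT_64 : Tr Nat := (.node (.node (.node (.node (.node (.node (.node (.node (.leaf 0x0) (.leaf 0x3b550024a6)) (.node (.leaf 0x1001fd5) (.leaf 0x5e90000003))) (.node (.node (.leaf 0x1000fff) (.leaf 0x4fff0042e5)) (.node (.leaf 0x2047002a43) (.leaf 0x6f1d000003)))) (.node (.node (.node (.leaf 0x10007ff) (.leaf 0x42f80047ff)) (.node (.leaf 0x2002746) (.leaf 0x200659e))) (.node (.node (.leaf 0x10017ff) (.leaf 0x57ff004398)) (.node (.leaf 0x1f71003490) (.leaf 0x0))))) (.node (.node (.node (.node (.leaf 0x3ff000001) (.leaf 0x43ee00428a)) (.node (.leaf 0x2002309) (.leaf 0x61f7000001))) (.node (.node (.leaf 0x13ff000001) (.leaf 0x43000053ff)) (.node (.leaf 0x3097002636) (.leaf 0x0)))) (.node (.node (.node (.leaf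 0xbff000001) (.leaf 0x4bff004439)) (.node (.leaf 0x2bff001f72) (.leaf 0x69cf000003))) (.node (.node (.leaf 0x1001bff) (.leaf 0x5b99000001)) (.node (.leaf 0x34f6002950) (.leaf 0x0)))))) (.node (.node (.node (.node (.node (.leaf 0x10001ff) (.leaf 0x2c97001f88)) (.node (.leaf 0x2002141) (.leaf 0x602f000001))) (.node (.node (.leaf 0x11ff000001) (.leaf 0x44340051ff)) (.node (.leaf 0x1f710031ff) (.leaf 0x0)))) (.node (.node (.node (.leaf 0x76000003) (.leaf 0x44050049ff)) (.node (.leaf 0x29ff001f72) (.leaf 0x67a8000003))) (.node (.node (.leaf 0x20019ff) (.leaf 0x59ff004349)) (.node (.leaf 0x1f7b00327d) (.leaf 0x0))))) (.node (.node (.node (.node (.leaf 0x10005ff) (.leaf 0x3d0045ff)) (.node (.leaf 0x20024eb) (.leaf 0x63cb000003))) (.node (.node (.leaf 0x15ff0014c7) (.leaf 0x55ff004349)) (.node (.leaf 0xc33003290) (.leaf 0x0)))) (.node (.node (.node (.leaf 0xdff000003) (.leaf 0x4dff0043a0)) (.node (.leaf 0x2ae900247e) (.leaf 0x6c4d000003))) (.node (.node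 (.leaf 0x1001dff) (.leaf 0x5d03000003)) (.node (.leaf 0x2e440021b9) (.leaf 0x0))))))) (.node (.node (.node (.node (.node (.node (.leaf 0x10000ff) (.leaf 0x3a12000187)) (.node (.leaf 0x2002089) (.leaf 0x5f61000003))) (.node (.node (.leaf 0x10010ff) (.leaf 0x50ff00428f)) (.node (.leaf 0x2b8e001f7b) (.leaf 0x70c9000003)))) (.node (.node (.node (.leaf 0x30008ff) (.leaf 0x439b0048ff)) (.node (.leaf 0x1002873) (.leaf 0x66a1000003))) (.node (.node (.leaf 0x10018ff) (.leaf 0x442c0053da)) (.node (.leaf 0x21c7002dea) (.leaf 0x0))))) (.node (.node (.node (.node (.leaf 0x20004ff) (.leaf 0x44ff004431)) (.node (.leaf 0x20023e5) (.leaf 0x62eb000003))) (.node (.node (.leaf 0x14ff000001) (.leaf 0x44210043bb)) (.node (.leaf 0x1f7b002a2e) (.leaf 0x0)))) (.node (.node (.node (.leaf 0xcff000001) (.leaf 0x462c004371)) (.node (.leaf 0x2c3f0028d2) (.leaf 0x6af9000001))) (.node (.node (.leaf 0x1cff000001) (.leaf 0x5c4b000003)) (.node (.leaf 0x323c00233c) (.leaf 0x0))))))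 (.node (.node (.node (.node (.node (.leaf 0x2ff000003) (.leaf 0x42f90042ad)) (.node (.leaf 0x1002228) (.leaf 0x60ff000003))) (.node (.node (.leaf 0x12ff000003) (.leaf 0x52ff0042b0)) (.node (.leaf 0x32ff002130) (.leaf 0x0)))) (.node (.node (.node (.leaf 0x2000aff) (.leaf 0x439d004aff)) (.node (.leaf 0x2a4d001f72) (.leaf 0x98c000003))) (.node (.node (.leaf 0x6b001aff) (.leaf 0x2001654)) (.node (.leaf 0x2ee300266e) (.leaf 0x0))))) (.node (.node (.node (.node (.leaf 0x10006ff) (.leaf 0x46ff00438a)) (.node (.leaf 0x1002613) (.leaf 0x64ab000003))) (.node (.node (.leaf 0x10016ff) (.leaf 0x56ff0043db)) (.node (.leaf 0x258b0036ff) (.leaf 0x0)))) (.node (.node (.node (.leaf 0xeff000003) (.leaf 0x42b1004eff)) (.node (.leaf 0x2eff001f7b) (.leaf 0x6dc5000003))) (.node (.node (.leaf 0x2001eff) (.leaf 0x5dd3000003)) (.node (.leaf 0x35520027e2) (.leaf 0x0)))))))) (.node (.node (.node (.node (.node (.node (.node (.leaf 0x200007f) (.leaf 0x364400266c)) (.node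 (.leaf 0x1002027) (.leaf 0x272f000003))) (.node (.node (.leaf 0x200107f) (.leaf 0x442a0044f3)) (.node (.leaf 0x307f001f72) (.leaf 0x6fcb000001)))) (.node (.node (.node (.leaf 0x200087f) (.leaf 0x43700043f6)) (.node (.leaf 0x20027cf) (.leaf 0x2006618))) (.node (.node (.leaf 0x100187f) (.leaf 0x587f004275)) (.node (.leaf 0x23c3002d89) (.leaf 0x0))))) (.node (.node (.node (.node (.leaf 0x100047f) (.leaf 0x447f004400)) (.node (.leaf 0x200236f) (.leaf 0x627b000001))) (.node (.node (.leaf 0x147f000002) (.leaf 0x430e00547f)) (.node (.leaf 0x347f001f72) (.leaf 0x0)))) (.node (.node (.node (.leaf 0xc7f000001) (.leaf 0x44240043ba)) (.node (.leaf 0x2c7f001f7b) (.leaf 0x6a5f000001))) (.node (.node (.leaf 0x1c7f000003) (.leaf 0x5be3000001)) (.node (.leaf 0x2ac80027ca) (.leaf 0x0)))))) (.node (.node (.node (.node (.node (.leaf 0x27f000001) (.leaf 0x221a000003)) (.node (.leaf 0x21b4000001) (.leaf 0x5d68000001))) (.node (.node (.leaf 0x127f000001) (.leaf 0x43a100527f))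 (.node (.leaf 0x1f7b00327f) (.leaf 0x0)))) (.node (.node (.node (.leaf 0x1000a7f) (.leaf 0x43a1004a7f)) (.node (.leaf 0x1f7b002a7f) (.leaf 0x6827000001))) (.node (.node (.leaf 0x1001a7f) (.leaf 0x5a7f00428b)) (.node (.leaf 0x2f620020b5) (.leaf 0x0))))) (.node (.node (.node (.node (.leaf 0x100067f) (.leaf 0x467f0043a0)) (.node (.leaf 0x2002579) (.leaf 0x643b000003))) (.node (.node (.leaf 0x100167f) (.leaf 0x567f0043db)) (.node (.leaf 0x4d0034d7) (.leaf 0x0)))) (.node (.node (.node (.leaf 0xe7f000001) (.leaf 0x43f2004369)) (.node (.leaf 0x1f7b002a73) (.leaf 0x6cf9000001))) (.node (.node (.leaf 0x1001e7f) (.leaf 0x2843000003)) (.node (.leaf 0x33400020e4) (.leaf 0x0))))))) (.node (.node (.node (.node (.node (.node (.leaf 0x17f000001) (.leaf 0x396000285c)) (.node (.leaf 0x20020f5) (.leaf 0x5fc3000003))) (.node (.node (.leaf 0x117f000002) (.leaf 0x42cc00517f)) (.node (.leaf 0x1f7b00306c) (.leaf 0x0)))) (.node (.node (.node (.leaf 0x97f000003) (.leaf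 0x439d00497f)) (.node (.leaf 0x2002945) (.leaf 0x671f000001))) (.node (.node (.leaf 0x100197f) (.leaf 0x597f0043a2)) (.node (.leaf 0x22c9003088) (.leaf 0x0))))) (.node (.node (.node (.node (.leaf 0x100057f) (.leaf 0x456d004400)) (.node (.leaf 0x20020bc) (.leaf 0x635f000003))) (.node (.node (.leaf 0x157f000001) (.leaf 0x557f004349)) (.node (.leaf 0x1f7100334d) (.leaf 0x0)))) (.node (.node (.node (.leaf 0x21e000003) (.leaf 0x4d7f004398)) (.node (.leaf 0x21eb002d7f) (.leaf 0x6ba1000003))) (.node (.node (.leaf 0x1001d7f) (.leaf 0x5c06000001)) (.node (.leaf 0x2f3b00281a) (.leaf 0x0)))))) (.node (.node (.node (.node (.node (.leaf 0x200037f) (.leaf 0x432400437d)) (.node (.leaf 0x20022a2) (.leaf 0x6175000003))) (.node (.node (.leaf 0x137f000001) (.leaf 0x42ec00537f)) (.node (.leaf 0x1f7100337f) (.leaf 0x0)))) (.node (.node (.node (.leaf 0x2000b7f) (.leaf 0x4b7f004435)) (.node (.leaf 0x1f71002b7f) (.leaf 0x693f000003))) (.node (.node (.leaf 0x3001b7f)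 (.leaf 0x5b35000003)) (.node (.leaf 0x2d5800018f) (.leaf 0x0))))) (.node (.node (.node (.node (.leaf 0x200077f) (.leaf 0x477f00434d)) (.node (.leaf 0x26ae000001) (.leaf 0x6529000001))) (.node (.node (.leaf 0x100177f) (.leaf 0x42fa00577f)) (.node (.leaf 0x350a001f72) (.leaf 0x0)))) (.node (.node (.node (.leaf 0xf7f000003) (.leaf 0x43f30043f8)) (.node (.leaf 0x1f7b002f7f) (.leaf 0x6e5b000001))) (.node (.node (.leaf 0x1001f7f) (.leaf 0x1c49000001)) (.node (.leaf 0x2c8500286e) (.leaf 0x0)))))))))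

/-- part -/
def slpT_65 : Tr Nat := (.node (.node (.node (.node (.node (.node (.node (.node (.leaf 0x100003f) (.leaf 0x38b200266c)) (.node (.leaf 0x2001ffa) (.leaf 0x5ec2000003))) (.node (.node (.leaf 0x100103f) (.leaf 0x44740042ed)) (.node (.leaf 0x1f7b002be6) (.leaf 0x6f77000001)))) (.node (.node (.node (.leaf 0x100083f) (.leaf 0x483f0042cd)) (.node (.leaf 0x2002786) (.leaf 0x65df000001))) (.node (.node (.leaf 0x200183f) (.leaf 0x583f0043a2)) (.node (.leaf 0x33fb001f72) (.leaf 0x0))))) (.node (.node (.node (.node (.leaf 0x200043f) (.leaf 0x432800443f)) (.node (.leaf 0x2002343) (.leaf 0x6239000003))) (.node (.node (.leaf 0x143f000001) (.leaf 0x43ab00543f)) (.node (.leaf 0x2c03002020) (.leaf 0x0)))) (.node (.node (.node (.leaf 0xc3f000001) (.leaf 0x483a004329)) (.node (.leaf 0x2af9001f72) (.leaf 0x6a11000003))) (.node (.node (.leaf 0x912001c3f) (.leaf 0x5333000003)) (.node (.leaf 0x2bef0025a2) (.leaf 0x0)))))) (.node (.node (.node (.node (.node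 (.leaf 0x23f000003) (.leaf 0x380c0025e8)) (.node (.leaf 0x2002173) (.leaf 0x6065000003))) (.node (.node (.leaf 0x18d000001) (.leaf 0x438700523f)) (.node (.leaf 0x1f7100323f) (.leaf 0x0)))) (.node (.node (.node (.leaf 0x2000a3f) (.leaf 0x43e0004a3f)) (.node (.leaf 0x1f71002a3f) (.leaf 0x67e4000003))) (.node (.node (.leaf 0x1001a3f) (.leaf 0x5a3f0043ac)) (.node (.leaf 0x2c1f0021d4) (.leaf 0x0))))) (.node (.node (.node (.node (.leaf 0x100063f) (.leaf 0x463f004388)) (.node (.leaf 0x2002531) (.leaf 0x6407000003))) (.node (.node (.leaf 0x163f000001) (.leaf 0x563f00429d)) (.node (.leaf 0x1f710030e3) (.leaf 0x0)))) (.node (.node (.node (.leaf 0xe3f000001) (.leaf 0x44990043c1)) (.node (.leaf 0x1f7b002b85) (.leaf 0x6c9f000003))) (.node (.node (.leaf 0x1e3f000003) (.leaf 0x1005d32)) (.node (.leaf 0x3295002220) (.leaf 0x0))))))) (.node (.node (.node (.node (.node (.node (.leaf 0x200013f) (.leaf 0x2ab00023b2)) (.node (.leaf 0x10020c9) (.leaf 0x5f8d000001)))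 (.node (.node (.leaf 0x113f000003) (.leaf 0x44300047fc)) (.node (.leaf 0x1f7b002c4a) (.leaf 0x0)))) (.node (.node (.node (.leaf 0x100093f) (.leaf 0x435200493f)) (.node (.leaf 0x20028d9) (.leaf 0x66db000003))) (.node (.node (.leaf 0x300193f) (.leaf 0x593f000074)) (.node (.leaf 0x1f7b003801) (.leaf 0x0))))) (.node (.node (.node (.node (.leaf 0x100053f) (.leaf 0x428a00453f)) (.node (.leaf 0x1002425) (.leaf 0x6323000003))) (.node (.node (.leaf 0x153f000002) (.leaf 0x434c00553f)) (.node (.leaf 0x1f7100353f) (.leaf 0x0)))) (.node (.node (.node (.leaf 0xd3f000001) (.leaf 0x42a4004d3f)) (.node (.leaf 0x2c03001f7b) (.leaf 0x6b3d000001))) (.node (.node (.leaf 0x1d3f000001) (.leaf 0x5c83000003)) (.node (.leaf 0x32340024e2) (.leaf 0x0)))))) (.node (.node (.node (.node (.node (.leaf 0x300033f) (.leaf 0x4335004325)) (.node (.leaf 0x2002219) (.leaf 0x6139000003))) (.node (.node (.leaf 0x133f000003) (.leaf 0x427400533f)) (.node (.leaf 0x1f710031dd) (.leaf 0x0))))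 (.node (.node (.node (.leaf 0x1000b3f) (.leaf 0x4b3f0042cd)) (.node (.leaf 0x1f71002b3f) (.leaf 0x68e9000003))) (.node (.node (.leaf 0x1001b3f) (.leaf 0x2013000003)) (.node (.leaf 0x2ca10022b8) (.leaf 0x0))))) (.node (.node (.node (.node (.leaf 0x100073f) (.leaf 0x473f00439c)) (.node (.leaf 0x265e000001) (.leaf 0x5112000001))) (.node (.node (.leaf 0x200173f) (.leaf 0x435800573f)) (.node (.leaf 0x315c00213a) (.leaf 0x0)))) (.node (.node (.node (.leaf 0xf3f000003) (.leaf 0x429a004f3f)) (.node (.leaf 0x2cb1001f7b) (.leaf 0x6e19000003))) (.node (.node (.leaf 0x2001f3f) (.leaf 0x752000001)) (.node (.leaf 0x381e000fd9) (.leaf 0x0)))))))) (.node (.node (.node (.node (.node (.node (.node (.leaf 0x20000bf) (.leaf 0x328700005e)) (.node (.leaf 0x1002053) (.leaf 0x5f2f000003))) (.node (.node (.leaf 0x10010bf) (.leaf 0x43ff0050bf)) (.node (.leaf 0x2b6a002120) (.leaf 0x702d000001)))) (.node (.node (.node (.leaf 0x20008bf) (.leaf 0x43000048bf)) (.node (.leaf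 0x1002817) (.leaf 0x200665a))) (.node (.node (.leaf 0x10018bf) (.leaf 0x220058bf)) (.node (.leaf 0x22c5003730) (.leaf 0x0))))) (.node (.node (.node (.node (.leaf 0x20004bf) (.leaf 0x44bf000023)) (.node (.leaf 0x20023ab) (.leaf 0x4ff3000003))) (.node (.node (.leaf 0x14bf000003) (.leaf 0x442a0054bf)) (.node (.leaf 0x25650034bf) (.leaf 0x0)))) (.node (.node (.node (.leaf 0xcbf000001) (.leaf 0x4cbf0043d3)) (.node (.leaf 0x29f10029ac) (.leaf 0x6aa9000001))) (.node (.node (.leaf 0x1cbf000002) (.leaf 0x5c19000003)) (.node (.leaf 0x2b4600244c) (.leaf 0x0)))))) (.node (.node (.node (.node (.node (.leaf 0x2bf000003) (.leaf 0x30042ad)) (.node (.leaf 0x20021e9) (.leaf 0x988000003))) (.node (.node (.leaf 0x12bf000003) (.leaf 0x52bf004400)) (.node (.leaf 0x2ef7000968) (.leaf 0x0)))) (.node (.node (.node (.leaf 0x1000abf) (.leaf 0x43e2004abf)) (.node (.leaf 0x1f71002abf) (.leaf 0x686e000001))) (.node (.node (.leaf 0x2001abf) (.leaf 0x5abf000003)) (.node (.leaf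 0x30d00023f0) (.leaf 0x0))))) (.node (.node (.node (.node (.leaf 0x10006bf) (.leaf 0x46bf0043d7)) (.node (.leaf 0x20025c3) (.leaf 0x6475000003))) (.node (.node (.leaf 0x20016bf) (.leaf 0x52080043d1)) (.node (.leaf 0x24b1002fd5) (.leaf 0x0)))) (.node (.node (.node (.leaf 0xebf000001) (.leaf 0x42cc004ebf)) (.node (.leaf 0x2199002ebf) (.leaf 0x6d4d000001))) (.node (.node (.leaf 0x2001ebf) (.leaf 0x2005da2)) (.node (.leaf 0x2d4b002456) (.leaf 0x0))))))) (.node (.node (.node (.node (.node (.node (.leaf 0x1bf000001) (.leaf 0x2fba002026)) (.node (.leaf 0x2002064) (.leaf 0x2671000003))) (.node (.node (.leaf 0x11bf000003) (.leaf 0x51bf000072)) (.node (.leaf 0x1f7b002bbe) (.leaf 0x0)))) (.node (.node (.node (.leaf 0x9bf000003) (.leaf 0x49bf004329)) (.node (.leaf 0x1f710029bf) (.leaf 0x6763000001))) (.node (.node (.leaf 0x20019bf) (.leaf 0x59bf004439)) (.node (.leaf 0x213b003809) (.leaf 0x0))))) (.node (.node (.node (.node (.leaf 0x20005bf) (.leaf 0x43b60043bd))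 (.node (.leaf 0x20024a3) (.leaf 0x625c000003))) (.node (.node (.leaf 0x15bf000001) (.leaf 0x55bf0043a2)) (.node (.leaf 0x25003203) (.leaf 0x0)))) (.node (.node (.node (.leaf 0xdbf000001) (.leaf 0x4dbf004402)) (.node (.leaf 0x2dbf001f72) (.leaf 0x6bed000001))) (.node (.node (.leaf 0x1001dbf) (.leaf 0x5cdd000003)) (.node (.leaf 0x37490028f6) (.leaf 0x0)))))) (.node (.node (.node (.node (.node (.leaf 0x20003bf) (.leaf 0x43bd004325)) (.node (.leaf 0x20022d3) (.leaf 0x61b7000003))) (.node (.node (.leaf 0x13bf000001) (.leaf 0x442a0051d4)) (.node (.leaf 0x1f710031cd) (.leaf 0x0)))) (.node (.node (.node (.leaf 0x2000bbf) (.leaf 0x4bbf0043e3)) (.node (.leaf 0x2bbf001f72) (.leaf 0x6987000003))) (.node (.node (.leaf 0x2001bbf) (.leaf 0x5b67000001)) (.node (.leaf 0x2e2a0022e4) (.leaf 0x0))))) (.node (.node (.node (.node (.leaf 0x30007bf) (.leaf 0x442e0047bf)) (.node (.leaf 0x10026f9) (.leaf 0x1006562))) (.node (.node (.leaf 0x20017bf) (.leaf 0x3b0057bf))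 (.node (.leaf 0x304a002408) (.leaf 0x0)))) (.node (.node (.node (.leaf 0xfbf000003) (.leaf 0x4fbf004275)) (.node (.leaf 0x20cb002e35) (.leaf 0x6ec7000003))) (.node (.node (.leaf 0x2001fa5) (.leaf 0x5e64000003)) (.node (.leaf 0x3386002154) (.leaf 0x0)))))))))

/-- part -/
def slpT_66 : Tr Nat := (.node (.node (.node (.node (.node (.node (.node (.node (.leaf 0x1f000001) (.leaf 0x2b710020d8)) (.node (.leaf 0x2001fe8) (.leaf 0x5eaa000003))) (.node (.node (.leaf 0x300101f) (.leaf 0x459a0043d1)) (.node (.leaf 0x1f71002d36) (.leaf 0x6f3f000001)))) (.node (.node (.node (.leaf 0x200081f) (.leaf 0x42f000481f)) (.node (.leaf 0x2002768) (.leaf 0x65bd000001))) (.node (.node (.leaf 0x100181f) (.leaf 0x581f0043db)) (.node (.leaf 0x1f71003035) (.leaf 0x0))))) (.node (.node (.node (.node (.leaf 0x200041f) (.leaf 0x441a004326)) (.node (.leaf 0x1002329) (.leaf 0x1680000003))) (.node (.node (.leaf 0x141f000003) (.leaf 0x100541f)) (.node (.leaf 0x341f001f72) (.leaf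 0x0)))) (.node (.node (.node (.leaf 0xc1f000002) (.leaf 0x4c1f00003c)) (.node (.leaf 0x2c1f001f7b) (.leaf 0x69ef000001))) (.node (.node (.leaf 0x1000f3d) (.leaf 0x427b000003)) (.node (.leaf 0x322c0020aa) (.leaf 0x0)))))) (.node (.node (.node (.node (.node (.leaf 0x200021f) (.leaf 0x389600297e)) (.node (.leaf 0x2158000001) (.leaf 0x6045000003))) (.node (.node (.leaf 0x121f000001) (.leaf 0x443400521f)) (.node (.leaf 0x1f7b003021) (.leaf 0x0)))) (.node (.node (.node (.leaf 0x2000a1f) (.leaf 0x43a1004a1f)) (.node (.leaf 0x2a1f001f72) (.leaf 0x67c8000003))) (.node (.node (.leaf 0x1a1d001142) (.leaf 0x5a1f0042c1)) (.node (.leaf 0x50002b34) (.leaf 0x0))))) (.node (.node (.node (.node (.leaf 0x100061f) (.leaf 0x43720044fd)) (.node (.leaf 0x100250d) (.leaf 0x63eb000001))) (.node (.node (.leaf 0x161f000003) (.leaf 0x561f0043d7)) (.node (.leaf 0x1f71002f6b) (.leaf 0x0)))) (.node (.node (.node (.leaf 0xe1f000003) (.leaf 0x20004e1f)) (.node (.leaf 0x2e1f001f72)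 (.leaf 0x6c7b000003))) (.node (.node (.leaf 0x1001e1f) (.leaf 0x1005d1e)) (.node (.leaf 0x2ff4002220) (.leaf 0x0))))))) (.node (.node (.node (.node (.node (.node (.leaf 0x200011f) (.leaf 0x35a60021e8)) (.node (.leaf 0x2000d91) (.leaf 0x5f79000003))) (.node (.node (.leaf 0x111f000003) (.leaf 0x4385005120)) (.node (.leaf 0x2a84001f7b) (.leaf 0x4cbc000001)))) (.node (.node (.node (.leaf 0x100091f) (.leaf 0x30028f7)) (.node (.leaf 0x20028a3) (.leaf 0x66bf000003))) (.node (.node (.leaf 0x1000f72) (.leaf 0x4ca000438a)) (.node (.leaf 0x13e002a1e) (.leaf 0x0))))) (.node (.node (.node (.node (.leaf 0x200051f) (.leaf 0x2000451f)) (.node (.leaf 0x1002409) (.leaf 0x6309000001))) (.node (.node (.leaf 0x151f000002) (.leaf 0x431600551f)) (.node (.leaf 0x22000032d6) (.leaf 0x0)))) (.node (.node (.node (.leaf 0xd1f000002) (.leaf 0x4d1f0043e1)) (.node (.leaf 0x2d1f001f72) (.leaf 0x6b19000003))) (.node (.node (.leaf 0x1d1f000001) (.leaf 0x5c67000003)) (.node (.leaf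 0x2f01002552) (.leaf 0x0)))))) (.node (.node (.node (.node (.node (.leaf 0x31f000001) (.leaf 0x431f004308)) (.node (.leaf 0x200224b) (.leaf 0x611d000001))) (.node (.node (.leaf 0x131f000001) (.leaf 0x43a100531f)) (.node (.leaf 0x331f001f72) (.leaf 0x0)))) (.node (.node (.node (.leaf 0x1000b1f) (.leaf 0x439b004b1f)) (.node (.leaf 0x2b1f001f72) (.leaf 0x68c6000001))) (.node (.node (.leaf 0x1b1f000efe) (.leaf 0x1005ae0)) (.node (.leaf 0x395400276b) (.leaf 0x0))))) (.node (.node (.node (.node (.leaf 0x100071f) (.leaf 0x441d0043c1)) (.node (.leaf 0x200263b) (.leaf 0x64cd000003))) (.node (.node (.leaf 0x2000b33) (.leaf 0x4b4200442b)) (.node (.leaf 0x25ff0033cc) (.leaf 0x0)))) (.node (.node (.node (.leaf 0xf1f000003) (.leaf 0x2004f1f)) (.node (.leaf 0x2f1f001f7b) (.leaf 0x6ca2000001))) (.node (.node (.leaf 0x2001f1f) (.leaf 0x5de9000003)) (.node (.leaf 0x2c4f0027e2) (.leaf 0x0)))))))) (.node (.node (.node (.node (.node (.node (.node (.leaf 0x9f000003)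 (.leaf 0x2e1b0021b4)) (.node (.leaf 0x200203f) (.leaf 0x5f19000001))) (.node (.node (.leaf 0x300109f) (.leaf 0x431200509f)) (.node (.leaf 0x2b01001f7b) (.leaf 0x7005000003)))) (.node (.node (.node (.leaf 0x200089f) (.leaf 0x438500489f)) (.node (.leaf 0x10027f5) (.leaf 0x10003ce))) (.node (.node (.leaf 0x100189f) (.leaf 0x589f00443b)) (.node (.leaf 0x27cd002f8b) (.leaf 0x0))))) (.node (.node (.node (.node (.leaf 0x100049f) (.leaf 0x2200449f)) (.node (.leaf 0x20021c4) (.leaf 0x6297000001))) (.node (.node (.leaf 0x149f000001) (.leaf 0x42ec00549f)) (.node (.leaf 0x349f0002b1) (.leaf 0x0)))) (.node (.node (.node (.leaf 0xc9f000001) (.leaf 0x453e0043ed)) (.node (.leaf 0x2c9f001f72) (.leaf 0x6a89000001))) (.node (.node (.leaf 0x1c9f000001) (.leaf 0x5bfd000003)) (.node (.leaf 0x34c800225c) (.leaf 0x0)))))) (.node (.node (.node (.node (.node (.leaf 0x29f000001) (.leaf 0x400428b)) (.node (.leaf 0x87b000003) (.leaf 0x60af000001))) (.node (.node (.leaf 0x129f000003)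 (.leaf 0x42f800529f)) (.node (.leaf 0x329f001f72) (.leaf 0x0)))) (.node (.node (.node (.leaf 0x3000a9f) (.leaf 0x43f70044fc)) (.node (.leaf 0x1f7b0029f6) (.leaf 0x6849000001))) (.node (.node (.leaf 0x1001a9f) (.leaf 0x5a9f0043fe)) (.node (.leaf 0x348f00249c) (.leaf 0x0))))) (.node (.node (.node (.node (.leaf 0x100053d) (.leaf 0x44190043c1)) (.node (.leaf 0x100259b) (.leaf 0x5960000003))) (.node (.node (.leaf 0x20002bf) (.leaf 0x569f0042e7)) (.node (.leaf 0x24b1002b0c) (.leaf 0x0)))) (.node (.node (.node (.leaf 0xe9f000002) (.leaf 0x441b004327)) (.node (.leaf 0x1f7b002e9f) (.leaf 0x4696000003))) (.node (.node (.leaf 0x2001e9f) (.leaf 0x2005d80)) (.node (.leaf 0x3626002089) (.leaf 0x0))))))) (.node (.node (.node (.node (.node (.node (.leaf 0x19f000003) (.leaf 0x2a0d001faa)) (.node (.leaf 0x1002107) (.leaf 0x5fe1000003))) (.node (.node (.leaf 0x119f000002) (.leaf 0x438700519f)) (.node (.leaf 0x265d002d8a) (.leaf 0x0)))) (.node (.node (.node (.leaf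 0x3af000001) (.leaf 0x4424004460)) (.node (.leaf 0x200297f) (.leaf 0x6745000003))) (.node (.node (.leaf 0x100199f) (.leaf 0x599f00428f)) (.node (.leaf 0x2627002a7d) (.leaf 0x0))))) (.node (.node (.node (.node (.leaf 0x100059f) (.leaf 0x459f000023)) (.node (.leaf 0x1002489) (.leaf 0x637b000001))) (.node (.node (.leaf 0x159f000002) (.leaf 0x559f00434d)) (.node (.leaf 0x26d90033d2) (.leaf 0x0)))) (.node (.node (.node (.leaf 0xac8000003) (.leaf 0x4d9f0042a5)) (.node (.leaf 0x2d9f001f72) (.leaf 0x6bbf000001))) (.node (.node (.leaf 0x3001d9f) (.leaf 0x5cc7000001)) (.node (.leaf 0x2caf002749) (.leaf 0x0)))))) (.node (.node (.node (.node (.node (.leaf 0x6700039f) (.leaf 0x4366004399)) (.node (.leaf 0x10022b9) (.leaf 0x1a13000003))) (.node (.node (.leaf 0x139f000003) (.leaf 0x539f004429)) (.node (.leaf 0x1f8d002a67) (.leaf 0x0)))) (.node (.node (.node (.leaf 0x2000b9f) (.leaf 0x4b9f0043cf)) (.node (.leaf 0x1f71002b9f) (.leaf 0x6965000003))) (.node (.node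 (.leaf 0x2001b9f) (.leaf 0x5b50000003)) (.node (.leaf 0x2ece0022e4) (.leaf 0x0))))) (.node (.node (.node (.node (.leaf 0x300079f) (.leaf 0x429c00479f)) (.node (.leaf 0x20026d5) (.leaf 0x200654a))) (.node (.node (.leaf 0x200179f) (.leaf 0x43fd005626)) (.node (.leaf 0x31da000054) (.leaf 0x0)))) (.node (.node (.node (.leaf 0xf9f000001) (.leaf 0x4f9f00430f)) (.node (.leaf 0x1f71002f9f) (.leaf 0x6e93000003))) (.node (.node (.leaf 0x2001f93) (.leaf 0x5e4c000003)) (.node (.leaf 0x36ec002154) (.leaf 0x0)))))))))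

/-- part -/
def slpT_67 : Tr Nat := (.node (.node (.node (.node (.node (.node (.node (.node (.leaf 0x3800005f) (.leaf 0x29da00266c)) (.node (.leaf 0x10011bf) (.leaf 0x5ed7000003))) (.node (.node (.leaf 0x200105f) (.leaf 0x42f000505f)) (.node (.leaf 0x2ec6001f7b) (.leaf 0x6fa1000003)))) (.node (.node (.node (.leaf 0x100085f) (.leaf 0x485f004437)) (.node (.leaf 0x10027ad) (.leaf 0x20065fa))) (.node (.node (.leaf 0x200185f) (.leaf 0x585f0042f9)) (.node (.leaf 0x252b002d1a) (.leaf 0x0))))) (.node (.node (.node (.node (.leaf 0x300045f) (.leaf 0x43bc00445f)) (.node (.leaf 0x20001dc) (.leaf 0x625d000001))) (.node (.node (.leaf 0x145f000002) (.leaf 0x43e000545f)) (.node (.leaf 0x2c3d001f7b) (.leaf 0x0)))) (.node (.node (.node (.leaf 0xc5f000001) (.leaf 0x42e6004c5f)) (.node (.leaf 0x29e0001f7b) (.leaf 0x6a2d000003))) (.node (.node (.leaf 0x1c5f000003) (.leaf 0x5bd1000001)) (.node (.leaf 0x2f0a002122) (.leaf 0x0)))))) (.node (.node (.node (.node (.node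 (.leaf 0x25f000003) (.leaf 0x33d700263a)) (.node (.leaf 0x200218f) (.leaf 0x607b000003))) (.node (.node (.leaf 0x125f000001) (.leaf 0x525f000003)) (.node (.leaf 0x1f7100325f) (.leaf 0x0)))) (.node (.node (.node (.leaf 0x1000a5f) (.leaf 0x43d8004a5f)) (.node (.leaf 0x1f71002a5f) (.leaf 0x680a000003))) (.node (.node (.leaf 0x3001a5f) (.leaf 0x5a5f0042ff)) (.node (.leaf 0x2b0300096d) (.leaf 0x0))))) (.node (.node (.node (.node (.leaf 0x200065f) (.leaf 0x465f00003e)) (.node (.leaf 0x100255d) (.leaf 0x641f000001))) (.node (.node (.leaf 0x165f000001) (.leaf 0x42fc00565f)) (.node (.leaf 0x4d002d6d) (.leaf 0x0)))) (.node (.node (.node (.leaf 0xe5f000003) (.leaf 0x4e5f004437)) (.node (.leaf 0x1f7b002e5f) (.leaf 0x6cc9000001))) (.node (.node (.leaf 0x1001e5f) (.leaf 0x5d4d000003)) (.node (.leaf 0x32dd0027ba) (.leaf 0x0))))))) (.node (.node (.node (.node (.node (.node (.leaf 0x15f000001) (.leaf 0x2a400023b2)) (.node (.leaf 0x20020df) (.leaf 0x5fab000003)))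 (.node (.node (.leaf 0x115f000001) (.leaf 0x42ae00474d)) (.node (.leaf 0x1f71002b12) (.leaf 0x0)))) (.node (.node (.node (.leaf 0x200095f) (.leaf 0x438500495f)) (.node (.leaf 0x200291b) (.leaf 0x66fb000003))) (.node (.node (.leaf 0x300195f) (.leaf 0x595f0043e3)) (.node (.leaf 0x1f7b00395f) (.leaf 0x0))))) (.node (.node (.node (.node (.leaf 0x100055f) (.leaf 0x455f000074)) (.node (.leaf 0x200243f) (.leaf 0x6343000001))) (.node (.node (.leaf 0x155f000001) (.leaf 0x42cc00555f)) (.node (.leaf 0x1f7100355f) (.leaf 0x0)))) (.node (.node (.node (.leaf 0xd5f000003) (.leaf 0x4d5f0042fb)) (.node (.leaf 0x28d1002b63) (.leaf 0x6b6b000003))) (.node (.node (.leaf 0x2001332) (.leaf 0x5c9b000003)) (.node (.leaf 0x2e2f000f77) (.leaf 0x0)))))) (.node (.node (.node (.node (.node (.leaf 0x200035f) (.leaf 0x431d000001)) (.node (.leaf 0x2002288) (.leaf 0x6159000001))) (.node (.node (.leaf 0x135f000001) (.leaf 0x439f00535f)) (.node (.leaf 0x207f003343) (.leaf 0x0))))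 (.node (.node (.node (.leaf 0x2000b5f) (.leaf 0x4b5f0042ae)) (.node (.leaf 0x1f7b002b5f) (.leaf 0x6917000001))) (.node (.node (.leaf 0x3001b5f) (.leaf 0x158000003)) (.node (.leaf 0x2efb002824) (.leaf 0x0))))) (.node (.node (.node (.node (.leaf 0x100075f) (.leaf 0x43f700453e)) (.node (.leaf 0x200267f) (.leaf 0x6505000003))) (.node (.node (.leaf 0x100175f) (.leaf 0x575f0042f9)) (.node (.leaf 0x2a96001fb8) (.leaf 0x0)))) (.node (.node (.node (.leaf 0xa4b000003) (.leaf 0x4f5f0042c1)) (.node (.leaf 0x1f71002f5f) (.leaf 0x6e3b000001))) (.node (.node (.leaf 0xaae001f5f) (.leaf 0x273e000003)) (.node (.leaf 0x3146000fd9) (.leaf 0x0)))))))) (.node (.node (.node (.node (.node (.node (.node (.leaf 0x20000df) (.leaf 0x2b48000187)) (.node (.leaf 0x200087d) (.leaf 0x5f47000003))) (.node (.node (.leaf 0x10010df) (.leaf 0x43ff0043c6)) (.node (.leaf 0x1f710030a9) (.leaf 0x7067000001)))) (.node (.node (.node (.leaf 0x10008df) (.leaf 0x44280048df)) (.node (.leaf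 0x100283d) (.leaf 0x6681000001))) (.node (.node (.leaf 0x20018df) (.leaf 0x42ec0058df)) (.node (.leaf 0x1f710034d3) (.leaf 0x0))))) (.node (.node (.node (.node (.leaf 0x20004df) (.leaf 0x44df004400)) (.node (.leaf 0x20023c9) (.leaf 0x62c9000003))) (.node (.node (.leaf 0x14df000001) (.leaf 0x43f700451a)) (.node (.leaf 0x1f71002af0) (.leaf 0x0)))) (.node (.node (.node (.leaf 0xcdf000003) (.leaf 0x4ca10043cf)) (.node (.leaf 0x2cb1002972) (.leaf 0x6acd000003))) (.node (.node (.leaf 0x1cdf000001) (.leaf 0x5c31000003)) (.node (.leaf 0x323200233c) (.leaf 0x0)))))) (.node (.node (.node (.node (.node (.leaf 0x2df000003) (.leaf 0x42df00001b)) (.node (.leaf 0x2002207) (.leaf 0x60e7000001))) (.node (.node (.leaf 0x12df000001) (.leaf 0x52df004359)) (.node (.leaf 0x32b30027fe) (.leaf 0x0)))) (.node (.node (.node (.leaf 0x1000adf) (.leaf 0x428c004adf)) (.node (.leaf 0x2adf001f72) (.leaf 0x688e000001))) (.node (.node (.leaf 0x2001adf) (.leaf 0x2001fcc)) (.node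 (.leaf 0x352e00266a) (.leaf 0x0))))) (.node (.node (.node (.node (.leaf 0x10006df) (.leaf 0x445f0043c9)) (.node (.leaf 0x10025e1) (.leaf 0x648f000003))) (.node (.node (.leaf 0x10016df) (.leaf 0x56df0043a0)) (.node (.leaf 0x5e7002b45) (.leaf 0x0)))) (.node (.node (.node (.leaf 0xedf000001) (.leaf 0x429a004edf)) (.node (.leaf 0x2edf001f72) (.leaf 0x6d91000001))) (.node (.node (.leaf 0x2001edf) (.leaf 0x2367000003)) (.node (.leaf 0x2b5400272a) (.leaf 0x0))))))) (.node (.node (.node (.node (.node (.node (.leaf 0x30001df) (.leaf 0x324c00229d)) (.node (.leaf 0x200212d) (.leaf 0x6013000001))) (.node (.node (.leaf 0x11df000001) (.leaf 0x51df0042e7)) (.node (.leaf 0x1f7b002ca0) (.leaf 0x0)))) (.node (.node (.node (.leaf 0x9df000003) (.leaf 0x43a90049df)) (.node (.leaf 0x1f710029df) (.leaf 0x6783000003))) (.node (.node (.leaf 0x10019df) (.leaf 0x59df004275)) (.node (.leaf 0x2009002bec) (.leaf 0x0))))) (.node (.node (.node (.node (.leaf 0x20005df) (.leaf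 0x42f80045df)) (.node (.leaf 0x20024c7) (.leaf 0x1f5000003))) (.node (.node (.leaf 0x15df000003) (.leaf 0x55df0042ed)) (.node (.leaf 0x1f710035df) (.leaf 0x0)))) (.node (.node (.node (.leaf 0xddf000002) (.leaf 0x4ddf000001)) (.node (.leaf 0x2ddf0022f8) (.leaf 0x6c19000001))) (.node (.node (.leaf 0x2001ddf) (.leaf 0x24a7000003)) (.node (.leaf 0x30850021b9) (.leaf 0x0)))))) (.node (.node (.node (.node (.node (.leaf 0x3df000002) (.leaf 0x10043b4)) (.node (.leaf 0x10022f1) (.leaf 0x61d7000003))) (.node (.node (.leaf 0x13df000001) (.leaf 0x710053df)) (.node (.leaf 0x33df002636) (.leaf 0x0)))) (.node (.node (.node (.leaf 0xbdf000003) (.leaf 0x4bdf0042ff)) (.node (.leaf 0x2bdf001f72) (.leaf 0x69a5000001))) (.node (.node (.leaf 0x1001bdf) (.leaf 0x5b87000001)) (.node (.leaf 0x30d00027aa) (.leaf 0x0))))) (.node (.node (.node (.node (.leaf 0x20007df) (.leaf 0x43d60047df)) (.node (.leaf 0x100271f) (.leaf 0x200657e))) (.node (.node (.leaf 0x20017df) (.leaf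 0x428c0057df)) (.node (.leaf 0x1f710030c6) (.leaf 0x0)))) (.node (.node (.node (.leaf 0x1000fdf) (.leaf 0x4fdf00003c)) (.node (.leaf 0x1f71002fdf) (.leaf 0x6ef9000003))) (.node (.node (.leaf 0x1000f6e) (.leaf 0x5e79000001)) (.node (.leaf 0x304c002908) (.leaf 0x0)))))))))

/-- part -/
def slpT_68 : Tr Nat := (.node (.node (.node (.node (.node (.node (.node (.node (.leaf 0xf000003) (.leaf 0x2ab8002186)) (.node (.leaf 0x2000192) (.leaf 0x2230000003))) (.node (.node (.leaf 0x100100f) (.leaf 0x500f004384)) (.node (.leaf 0x244f0029e4) (.leaf 0x6f2f000003)))) (.node (.node (.node (.leaf 0x300080f) (.leaf 0x43a100480f)) (.node (.leaf 0x1002757) (.leaf 0x2005ac0))) (.node (.node (.leaf 0x100180f) (.leaf 0x580f00434d)) (.node (.leaf 0x21a100331e) (.leaf 0x0))))) (.node (.node (.node (.node (.leaf 0x300040f) (.leaf 0x3c00440f)) (.node (.leaf 0x1002317) (.leaf 0x61ff000003))) (.node (.node (.leaf 0x140f000002) (.leaf 0x43ab00540f)) (.node (.leaf 0x340f001f72)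 (.leaf 0x0)))) (.node (.node (.node (.leaf 0xc0f000001) (.leaf 0x477500438a)) (.node (.leaf 0x2c0f001f7b) (.leaf 0x69e1000001))) (.node (.node (.leaf 0x1001c0f) (.leaf 0x5ba1000003)) (.node (.leaf 0x2d490020aa) (.leaf 0x0)))))) (.node (.node (.node (.node (.node (.leaf 0x300020f) (.leaf 0x382200295e)) (.node (.leaf 0x1676000003) (.leaf 0x603b000001))) (.node (.node (.leaf 0x120f000001) (.leaf 0x438500452e)) (.node (.leaf 0x1f7b002bc8) (.leaf 0x0)))) (.node (.node (.node (.leaf 0x2000a0f) (.leaf 0x4316004a0f)) (.node (.leaf 0x2a0f001f72) (.leaf 0x67ba000001))) (.node (.node (.leaf 0x2001a0f) (.leaf 0x5a0f0042e7)) (.node (.leaf 0x1f7b0033e6) (.leaf 0x0))))) (.node (.node (.node (.node (.leaf 0x200060f) (.leaf 0x43d800460f)) (.node (.leaf 0x10024fb) (.leaf 0x63dd000003))) (.node (.node (.leaf 0x160f000001) (.leaf 0x560f00428d)) (.node (.leaf 0x1f7b00360f) (.leaf 0x0)))) (.node (.node (.node (.leaf 0xe0f000003) (.leaf 0x4e0f000021)) (.node (.leaf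 0x2e0f001f72) (.leaf 0x6c61000003))) (.node (.node (.leaf 0x1001e0f) (.leaf 0x5d0f000003)) (.node (.leaf 0x3447002220) (.leaf 0x0))))))) (.node (.node (.node (.node (.node (.node (.leaf 0x200010f) (.leaf 0x312d0002b3)) (.node (.leaf 0x200209f) (.leaf 0x5f6f000001))) (.node (.node (.leaf 0x110f000003) (.leaf 0x510f00439c)) (.node (.leaf 0x2a3c001f7b) (.leaf 0x70df000001)))) (.node (.node (.node (.leaf 0x200090f) (.leaf 0x300490f)) (.node (.leaf 0x2002885) (.leaf 0x66b1000003))) (.node (.node (.leaf 0x300190f) (.leaf 0x4a430042ac)) (.node (.leaf 0x13e003355) (.leaf 0x0))))) (.node (.node (.node (.node (.leaf 0x300050f) (.leaf 0x43270043ef)) (.node (.leaf 0x10023f9) (.leaf 0x62fb000001))) (.node (.node (.leaf 0x150f000001) (.leaf 0x429c00550f)) (.node (.leaf 0x2200002dd0) (.leaf 0x0)))) (.node (.node (.node (.leaf 0xd0f000001) (.leaf 0x43f30043c9)) (.node (.leaf 0x2c8100236e) (.leaf 0x6b07000003))) (.node (.node (.leaf 0x1d0f000001) (.leaf 0x5c59000003))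 (.node (.leaf 0x2b1f002552) (.leaf 0x0)))))) (.node (.node (.node (.node (.node (.leaf 0x30f000003) (.leaf 0x3c0042e5)) (.node (.leaf 0x2002235) (.leaf 0x610d000003))) (.node (.node (.leaf 0x130f000003) (.leaf 0x454700428d)) (.node (.leaf 0x330f001f7b) (.leaf 0x0)))) (.node (.node (.node (.leaf 0x2000b0f) (.leaf 0x4300004b0f)) (.node (.leaf 0x2b0f001f72) (.leaf 0x68b6000001))) (.node (.node (.leaf 0x1001b0f) (.leaf 0x2005aeb)) (.node (.leaf 0x29fd00276b) (.leaf 0x0))))) (.node (.node (.node (.node (.leaf 0x100070f) (.leaf 0x467b0042b4)) (.node (.leaf 0x2002629) (.leaf 0x64b9000003))) (.node (.node (.leaf 0x100170f) (.leaf 0x570f00432f)) (.node (.leaf 0x25ff0029f8) (.leaf 0x0)))) (.node (.node (.node (.leaf 0xf0f000003) (.leaf 0x42f8004f0f)) (.node (.leaf 0x2f0f000020) (.leaf 0x6ddf000003))) (.node (.node (.leaf 0x1001d54) (.leaf 0x5ddf000001)) (.node (.leaf 0x2dbb0027e2) (.leaf 0x0)))))))) (.node (.node (.node (.node (.node (.node (.node (.leaf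 0x8f000003) (.leaf 0x30de0021b4)) (.node (.leaf 0x2002035) (.leaf 0x5f05000003))) (.node (.node (.leaf 0x200108f) (.leaf 0x437000441e)) (.node (.leaf 0x2fa2000a02) (.leaf 0x6fe3000001)))) (.node (.node (.node (.leaf 0x200088f) (.leaf 0x300488f)) (.node (.leaf 0x20027e3) (.leaf 0x100662e))) (.node (.node (.leaf 0x100188f) (.leaf 0x43710043cf)) (.node (.leaf 0x23c300304d) (.leaf 0x0))))) (.node (.node (.node (.node (.leaf 0x200048f) (.leaf 0x43c20043b3)) (.node (.leaf 0x100237b) (.leaf 0x6287000003))) (.node (.node (.leaf 0x148f000871) (.leaf 0x443400548f)) (.node (.leaf 0x348f001f72) (.leaf 0x0)))) (.node (.node (.node (.leaf 0xc8f000001) (.leaf 0x4c8f0043e1)) (.node (.leaf 0x2c8f001f72) (.leaf 0x6a77000001))) (.node (.node (.leaf 0x1c8f000001) (.leaf 0x5bef000003)) (.node (.leaf 0x32420024ae) (.leaf 0x0)))))) (.node (.node (.node (.node (.node (.leaf 0x28f000001) (.leaf 0x200428b)) (.node (.leaf 0x21c4000003) (.leaf 0x5d74000001))) (.node (.node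 (.leaf 0x128f000001) (.leaf 0x300528f)) (.node (.leaf 0x2ae1001f72) (.leaf 0x0)))) (.node (.node (.node (.leaf 0x1000a8f) (.leaf 0x4348004a8f)) (.node (.leaf 0x1f71002a8f) (.leaf 0x683b000003))) (.node (.node (.leaf 0x1001a8f) (.leaf 0x5a8f0043d9)) (.node (.leaf 0x3419001f72) (.leaf 0x0))))) (.node (.node (.node (.node (.leaf 0x200068f) (.leaf 0x468f0043d1)) (.node (.leaf 0x2002589) (.leaf 0x644b000003))) (.node (.node (.leaf 0x200168f) (.leaf 0x568f0042ad)) (.node (.leaf 0x24b100324b) (.leaf 0x0)))) (.node (.node (.node (.leaf 0xe8f000d9f) (.leaf 0x4e8f00443b)) (.node (.leaf 0x1f71002e8f) (.leaf 0x6d0d000001))) (.node (.node (.leaf 0x2001e8f) (.leaf 0x1005d74)) (.node (.leaf 0x2b090020e4) (.leaf 0x0))))))) (.node (.node (.node (.node (.node (.node (.leaf 0x18f000001) (.leaf 0x3335002614)) (.node (.leaf 0x10020ff) (.leaf 0x5fd1000003))) (.node (.node (.leaf 0x118f000003) (.leaf 0x440100518f)) (.node (.leaf 0x1f7100305e) (.leaf 0x0)))) (.node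 (.node (.node (.leaf 0x98f000003) (.leaf 0x42ad00498f)) (.node (.leaf 0x1002959) (.leaf 0x672f000001))) (.node (.node (.leaf 0x20016a2) (.leaf 0x598f00428c)) (.node (.leaf 0x22c9002b0e) (.leaf 0x0))))) (.node (.node (.node (.node (.leaf 0x100058f) (.leaf 0x43f000436b)) (.node (.leaf 0x2002475) (.leaf 0x636d000003))) (.node (.node (.leaf 0x158f000001) (.leaf 0x558f0042f9)) (.node (.leaf 0x1f7b002f2e) (.leaf 0x0)))) (.node (.node (.node (.leaf 0xd8f000001) (.leaf 0x4d8f0042f1)) (.node (.leaf 0x2d68001f72) (.leaf 0x6bb3000003))) (.node (.node (.leaf 0x1001d8f) (.leaf 0x5cbd000001)) (.node (.leaf 0x36280001fb) (.leaf 0x0)))))) (.node (.node (.node (.node (.node (.leaf 0x100038f) (.leaf 0x4324004389)) (.node (.leaf 0x2001245) (.leaf 0x6185000003))) (.node (.node (.leaf 0x138f000003) (.leaf 0x439700538f)) (.node (.leaf 0x1f71003161) (.leaf 0x0)))) (.node (.node (.node (.leaf 0x1000b8f) (.leaf 0x4b8f0043db)) (.node (.leaf 0x1f7b002b8f) (.leaf 0x6951000003)))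 (.node (.node (.leaf 0x2001b8f) (.leaf 0x5b3d000003)) (.node (.leaf 0x3378002320) (.leaf 0x0))))) (.node (.node (.node (.node (.leaf 0x200078f) (.leaf 0x4326004790)) (.node (.leaf 0x10026c9) (.leaf 0x1006540))) (.node (.node (.leaf 0x200178f) (.leaf 0x42ad00578f)) (.node (.leaf 0x363e000054) (.leaf 0x0)))) (.node (.node (.node (.leaf 0xf8f000003) (.leaf 0x4f8f000074)) (.node (.leaf 0x1f7b002f8f) (.leaf 0x6e77000003))) (.node (.node (.leaf 0x2001f88) (.leaf 0x5e3e000003)) (.node (.leaf 0x3346002755) (.leaf 0x0)))))))))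

/-- part -/
def slpT_69 : Tr Nat := (.node (.node (.node (.node (.node (.node (.node (.node (.leaf 0x200004f) (.leaf 0x384e00266c)) (.node (.leaf 0x2000a09) (.leaf 0x1d5e000001))) (.node (.node (.leaf 0x300104f) (.leaf 0x504f0043e3)) (.node (.leaf 0x304f001f72) (.leaf 0x6f8f000003)))) (.node (.node (.node (.leaf 0x100084f) (.leaf 0x484f00434d)) (.node (.leaf 0x100279f) (.leaf 0x20065ea))) (.node (.node (.leaf 0x300184f) (.leaf 0x584f0042ff)) (.node (.leaf 0x1f71002e61) (.leaf 0x0))))) (.node (.node (.node (.node (.leaf 0x200044f) (.leaf 0x42e400444f)) (.node (.leaf 0x1002351) (.leaf 0x6247000003))) (.node (.node (.leaf 0x144f000001) (.leaf 0x429c00544f)) (.node (.leaf 0x32d7001f7b) (.leaf 0x0)))) (.node (.node (.node (.leaf 0xc4f000003) (.leaf 0x4c4f0043ac)) (.node (.leaf 0x2c4f001f72) (.leaf 0x6a21000003))) (.node (.node (.leaf 0x1c4f000001) (.leaf 0x3bd000003)) (.node (.leaf 0x38e800249a) (.leaf 0x0)))))) (.node (.node (.node (.node (.node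 (.leaf 0x24f000003) (.leaf 0x2b5c00019b)) (.node (.leaf 0x1002181) (.leaf 0x6071000003))) (.node (.node (.leaf 0x124f000003) (.leaf 0x441f0043f2)) (.node (.leaf 0x24bb002c20) (.leaf 0x0)))) (.node (.node (.node (.leaf 0x1000a4f) (.leaf 0x43da004a4f)) (.node (.leaf 0x1f71002a4f) (.leaf 0x67f6000001))) (.node (.node (.leaf 0x1001a4f) (.leaf 0x5a4f000021)) (.node (.leaf 0x2add00218a) (.leaf 0x0))))) (.node (.node (.node (.node (.leaf 0x100064f) (.leaf 0x43bc0042ae)) (.node (.leaf 0x1002545) (.leaf 0x6415000001))) (.node (.node (.leaf 0x164f000003) (.leaf 0x430e00564f)) (.node (.leaf 0x4d002d77) (.leaf 0x0)))) (.node (.node (.node (.leaf 0xe4f000001) (.leaf 0x4e4f000001)) (.node (.leaf 0x1f7b002e4f) (.leaf 0x6cb7000003))) (.node (.node (.leaf 0x1e4f000003) (.leaf 0x5d41000001)) (.node (.leaf 0x2ea8002448) (.leaf 0x0))))))) (.node (.node (.node (.node (.node (.node (.leaf 0x14f000003) (.leaf 0x2f580023b2)) (.node (.leaf 0x20020d7) (.leaf 0x5f9b000001)))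 (.node (.node (.leaf 0x114f000002) (.leaf 0x442e0045dd)) (.node (.leaf 0x1f7100314f) (.leaf 0x0)))) (.node (.node (.node (.leaf 0x300094f) (.leaf 0x42b10045e6)) (.node (.leaf 0x20028f7) (.leaf 0x66ef000001))) (.node (.node (.leaf 0x200194f) (.leaf 0x4450004400)) (.node (.leaf 0x225700335f) (.leaf 0x0))))) (.node (.node (.node (.node (.leaf 0x100054f) (.leaf 0x43ce00454f)) (.node (.leaf 0x2002431) (.leaf 0x1c4f000003))) (.node (.node (.leaf 0x1297000001) (.leaf 0x43d0004423)) (.node (.leaf 0x1f7b00321d) (.leaf 0x0)))) (.node (.node (.node (.leaf 0xd4f000003) (.leaf 0x4d4f00003e)) (.node (.leaf 0x29f5001f7b) (.leaf 0x6b55000001))) (.node (.node (.leaf 0x16fc001d4f) (.leaf 0x5c8f000003)) (.node (.leaf 0x2b010024e2) (.leaf 0x0)))))) (.node (.node (.node (.node (.node (.leaf 0x200034f) (.leaf 0x42e9004325)) (.node (.leaf 0x2002246) (.leaf 0x614b000001))) (.node (.node (.leaf 0x134f000003) (.leaf 0x42e600534f)) (.node (.leaf 0x1f7b003227) (.leaf 0x0))))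 (.node (.node (.node (.leaf 0x2000b4f) (.leaf 0x4b4f000003)) (.node (.leaf 0x1f71002a9d) (.leaf 0x6905000001))) (.node (.node (.leaf 0x1001b4f) (.leaf 0x2002364)) (.node (.leaf 0x323a001f7b) (.leaf 0x0))))) (.node (.node (.node (.node (.leaf 0x200074f) (.leaf 0x474f004435)) (.node (.leaf 0x1a0f000003) (.leaf 0x64f7000003))) (.node (.node (.leaf 0x200174f) (.leaf 0x430e00574f)) (.node (.leaf 0x35b4001f46) (.leaf 0x0)))) (.node (.node (.node (.leaf 0xf4f000001) (.leaf 0x3004f4f)) (.node (.leaf 0x27d9002f4f) (.leaf 0x6e27000001))) (.node (.node (.leaf 0x1f4f000001) (.leaf 0x5e11000001)) (.node (.leaf 0x302e000fd9) (.leaf 0x0)))))))) (.node (.node (.node (.node (.node (.node (.node (.leaf 0x20000cf) (.leaf 0x377d000187)) (.node (.leaf 0x200205d) (.leaf 0x5f3d000003))) (.node (.node (.leaf 0x20010cf) (.leaf 0x4430004948)) (.node (.leaf 0x1f7b0030cf) (.leaf 0x7047000003)))) (.node (.node (.node (.leaf 0x30008cf) (.leaf 0x42e60048cf)) (.node (.leaf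 0x200282d) (.leaf 0x100666c))) (.node (.node (.leaf 0x20018cf) (.leaf 0x3b0058cf)) (.node (.leaf 0x2261002edc) (.leaf 0x0))))) (.node (.node (.node (.node (.leaf 0x20004cf) (.leaf 0x44cf0042b4)) (.node (.leaf 0x10023bd) (.leaf 0x62b9000003))) (.node (.node (.leaf 0x14cf000001) (.leaf 0x43d2004acc)) (.node (.leaf 0x1f7100327d) (.leaf 0x0)))) (.node (.node (.node (.leaf 0xccf000002) (.leaf 0x43c2004429)) (.node (.leaf 0x2ca90029ac) (.leaf 0x2975000003))) (.node (.node (.leaf 0x1ccf000003) (.leaf 0x5c29000003)) (.node (.leaf 0x38d400244c) (.leaf 0x0)))))) (.node (.node (.node (.node (.node (.leaf 0x2cf000003) (.leaf 0x42cb0042ad)) (.node (.leaf 0x20021fb) (.leaf 0x60d9000003))) (.node (.node (.leaf 0x12cf000001) (.leaf 0x51790043fe)) (.node (.leaf 0x32cf0027fe) (.leaf 0x0)))) (.node (.node (.node (.leaf 0x1000acf) (.leaf 0x428e004acf)) (.node (.leaf 0x1f71002acf) (.leaf 0x687c000003))) (.node (.node (.leaf 0x2001acf) (.leaf 0x1005ac9)) (.node (.leaf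 0x33170023f0) (.leaf 0x0))))) (.node (.node (.node (.node (.leaf 0x10006cf) (.leaf 0x46cf004384)) (.node (.leaf 0x20025d1) (.leaf 0x647f000003))) (.node (.node (.leaf 0x10016cf) (.leaf 0x56cf0043db)) (.node (.leaf 0x5e70033c8) (.leaf 0x0)))) (.node (.node (.node (.leaf 0xecf000001) (.leaf 0x1004ecf)) (.node (.leaf 0x2ecf001f7b) (.leaf 0x6d6d000001))) (.node (.node (.leaf 0x2001ecf) (.leaf 0x2005dae)) (.node (.leaf 0x2cb90025e4) (.leaf 0x0))))))) (.node (.node (.node (.node (.node (.node (.leaf 0x10001cf) (.leaf 0x2c350019d9)) (.node (.leaf 0x20020a8) (.leaf 0x6005000003))) (.node (.node (.leaf 0x11cf000003) (.leaf 0x51cf0042ff)) (.node (.leaf 0x265d0031cf) (.leaf 0x0)))) (.node (.node (.node (.leaf 0x9cf000003) (.leaf 0x49cf0042a5)) (.node (.leaf 0x1f7b0029cf) (.leaf 0x6771000003))) (.node (.node (.leaf 0x20019cf) (.leaf 0x59cf0042ed)) (.node (.leaf 0x2861003039) (.leaf 0x0))))) (.node (.node (.node (.node (.leaf 0x20005cf) (.leaf 0x45cf00443b))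 (.node (.leaf 0x20024b7) (.leaf 0x63a1000003))) (.node (.node (.leaf 0x15cf000002) (.leaf 0x55cf0042ff)) (.node (.leaf 0x1f71002ad1) (.leaf 0x0)))) (.node (.node (.node (.leaf 0xdcf000001) (.leaf 0x4368004388)) (.node (.leaf 0x2dcf001f72) (.leaf 0x3fa000003))) (.node (.node (.leaf 0x2001dcf) (.leaf 0x20d000003)) (.node (.leaf 0x37d00021b9) (.leaf 0x0)))))) (.node (.node (.node (.node (.node (.leaf 0x20003cf) (.leaf 0x42ac0043b4)) (.node (.leaf 0x2001d5d) (.leaf 0x61c9000003))) (.node (.node (.leaf 0x13cf000001) (.leaf 0x44300053cf)) (.node (.leaf 0x33cf001f7b) (.leaf 0x0)))) (.node (.node (.node (.leaf 0xbcf000001) (.leaf 0x4bcf000074)) (.node (.leaf 0x2bcf001f7b) (.leaf 0x6997000003))) (.node (.node (.leaf 0x1001bcf) (.leaf 0x5b77000003)) (.node (.leaf 0x31d00027aa) (.leaf 0x0))))) (.node (.node (.node (.node (.leaf 0x20007cf) (.leaf 0x429c0047cf)) (.node (.leaf 0x2002709) (.leaf 0x2006572))) (.node (.node (.leaf 0x10017cf) (.leaf 0x43990057cf))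 (.node (.leaf 0x24070037d0) (.leaf 0x0)))) (.node (.node (.node (.leaf 0x2000fcf) (.leaf 0x4fcf0042ef)) (.node (.leaf 0x1f71002fcf) (.leaf 0x6ee3000003))) (.node (.node (.leaf 0x2001f94) (.leaf 0x5e70000001)) (.node (.leaf 0x35a40020f8) (.leaf 0x0)))))))))

/-- part -/
def slpT_70 : Tr Nat := (.node (.node (.node (.node (.node (.node (.node (.node (.leaf 0x2f000003) (.leaf 0x2e0f00266c)) (.node (.leaf 0x2001fe2) (.leaf 0x5eb6000003))) (.node (.node (.leaf 0x100102f) (.leaf 0x4cec00442f)) (.node (.leaf 0x1f7b002b63) (.leaf 0x6f55000001)))) (.node (.node (.node (.leaf 0x200082f) (.leaf 0x43720043b9)) (.node (.leaf 0x2002776) (.leaf 0x65cd000003))) (.node (.node (.leaf 0x200182f) (.leaf 0x582f000002)) (.node (.leaf 0x1f7b002f36) (.leaf 0x0))))) (.node (.node (.node (.node (.leaf 0x100042f) (.leaf 0x440000441b)) (.node (.leaf 0x1002335) (.leaf 0x6225000003))) (.node (.node (.leaf 0x142f000002) (.leaf 0x500542f)) (.node (.leaf 0x332f002020) (.leaf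 0x0)))) (.node (.node (.node (.leaf 0xc2f000003) (.leaf 0x4c2f004433)) (.node (.leaf 0x2a0f001f7b) (.leaf 0x6a07000001))) (.node (.node (.leaf 0x2001937) (.leaf 0x5bb1000001)) (.node (.leaf 0x29de0025a2) (.leaf 0x0)))))) (.node (.node (.node (.node (.node (.leaf 0x22f000002) (.leaf 0x2fba0021f3)) (.node (.leaf 0x882000003) (.leaf 0x1d60000001))) (.node (.node (.leaf 0x122f000002) (.leaf 0x42ee00522f)) (.node (.leaf 0x1f7100322f) (.leaf 0x0)))) (.node (.node (.node (.leaf 0x1000a2f) (.leaf 0x4387004a2f)) (.node (.leaf 0x2a2f001f72) (.leaf 0x67d6000001))) (.node (.node (.leaf 0x1001a2f) (.leaf 0x5a2f0043a0)) (.node (.leaf 0x1d1002b99) (.leaf 0x0))))) (.node (.node (.node (.node (.leaf 0x100062f) (.leaf 0x428c00462f)) (.node (.leaf 0x2000889) (.leaf 0x63f7000003))) (.node (.node (.leaf 0x162f000001) (.leaf 0x43b80043f8)) (.node (.leaf 0x2705003037) (.leaf 0x0)))) (.node (.node (.node (.leaf 0xe2f000001) (.leaf 0x4312004e2f)) (.node (.leaf 0x1f71002e30)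 (.leaf 0x6c8d000003))) (.node (.node (.leaf 0x1e2f000001) (.leaf 0x20022b6)) (.node (.leaf 0x2b80002220) (.leaf 0x0))))))) (.node (.node (.node (.node (.node (.node (.leaf 0x100012f) (.leaf 0x31480000eb)) (.node (.leaf 0x20020b9) (.leaf 0x155d000001))) (.node (.node (.leaf 0x112f000002) (.leaf 0x42ae00512f)) (.node (.leaf 0x312f001f72) (.leaf 0x0)))) (.node (.node (.node (.leaf 0x100092f) (.leaf 0x492f0043db)) (.node (.leaf 0x10028c3) (.leaf 0x66d1000001))) (.node (.node (.leaf 0x10003aa) (.leaf 0x43ee004422)) (.node (.leaf 0x27ef003263) (.leaf 0x0))))) (.node (.node (.node (.node (.leaf 0x300052f) (.leaf 0x42e600452f)) (.node (.leaf 0x1002413) (.leaf 0x6315000003))) (.node (.node (.leaf 0x152f000003) (.leaf 0x300552f)) (.node (.leaf 0x2200002c12) (.leaf 0x0)))) (.node (.node (.node (.leaf 0xd2f000003) (.leaf 0x4d2f004402)) (.node (.leaf 0x2ac4001f7b) (.leaf 0x6b2f000003))) (.node (.node (.leaf 0x1704000003) (.leaf 0x5c77000003)) (.node (.leaf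 0x34fe0020ae) (.leaf 0x0)))))) (.node (.node (.node (.node (.node (.leaf 0x32f000001) (.leaf 0x432b0042ad)) (.node (.leaf 0x20021f4) (.leaf 0x612d000003))) (.node (.node (.leaf 0x132f000001) (.leaf 0x42c000532f)) (.node (.leaf 0x3109001f72) (.leaf 0x0)))) (.node (.node (.node (.leaf 0x1000b2f) (.leaf 0x4b2f004329)) (.node (.leaf 0x2b2f001f72) (.leaf 0x68d8000003))) (.node (.node (.leaf 0x2001b2f) (.leaf 0x2005b03)) (.node (.leaf 0x34ca00097e) (.leaf 0x0))))) (.node (.node (.node (.node (.leaf 0x100072f) (.leaf 0x472f004359)) (.node (.leaf 0x1002649) (.leaf 0x64df000001))) (.node (.node (.leaf 0x200172f) (.leaf 0x42ae005730)) (.node (.leaf 0x34fc001f72) (.leaf 0x0)))) (.node (.node (.node (.leaf 0xf2f000003) (.leaf 0x442a004ad6)) (.node (.leaf 0x2f2f001f72) (.leaf 0x6e03000003))) (.node (.node (.leaf 0x1001f2f) (.leaf 0x5df9000003)) (.node (.leaf 0x30ce0027e2) (.leaf 0x0)))))))) (.node (.node (.node (.node (.node (.node (.node (.leaf 0xaf000003)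 (.leaf 0x2f2f00257c)) (.node (.leaf 0x2001fce) (.leaf 0x5f25000001))) (.node (.node (.leaf 0x20010af) (.leaf 0x434c0050af)) (.node (.leaf 0x30af001f7b) (.leaf 0x7017000001)))) (.node (.node (.node (.leaf 0x30008af) (.leaf 0x436800441e)) (.node (.leaf 0x2002807) (.leaf 0x200664a))) (.node (.node (.leaf 0x10018af) (.leaf 0x58af0042f9)) (.node (.leaf 0x1f7b0037ae) (.leaf 0x0))))) (.node (.node (.node (.node (.leaf 0x10004af) (.leaf 0x43b6004373)) (.node (.leaf 0x100239b) (.leaf 0x62a1000003))) (.node (.node (.leaf 0x14af000003) (.leaf 0x428c0054af)) (.node (.leaf 0x3178001f72) (.leaf 0x0)))) (.node (.node (.node (.leaf 0xcaf000001) (.leaf 0x4caf0042c1)) (.node (.leaf 0x2caf001f72) (.leaf 0x6a99000001))) (.node (.node (.leaf 0x1caf000001) (.leaf 0x20ff000003)) (.node (.leaf 0x2b0f00244c) (.leaf 0x0)))))) (.node (.node (.node (.node (.node (.leaf 0x2af000003) (.leaf 0x42ac00428c)) (.node (.leaf 0x20021dd) (.leaf 0x60bf000001))) (.node (.node (.leaf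 0x12af000003) (.leaf 0x30052af)) (.node (.leaf 0x3228000968) (.leaf 0x0)))) (.node (.node (.node (.leaf 0x1000aaf) (.leaf 0x43c800453e)) (.node (.leaf 0x1f7b002aaf) (.leaf 0x685a000001))) (.node (.node (.leaf 0x2001aaf) (.leaf 0x5aaf0042cd)) (.node (.leaf 0x2b5e00249c) (.leaf 0x0))))) (.node (.node (.node (.node (.leaf 0x10006af) (.leaf 0x46af0043db)) (.node (.leaf 0x10025af) (.leaf 0x612a000001))) (.node (.node (.leaf 0x20016af) (.leaf 0x56af0043cf)) (.node (.leaf 0x24b1002d4b) (.leaf 0x0)))) (.node (.node (.node (.leaf 0xeaf000001) (.leaf 0x4eaf004359)) (.node (.leaf 0x2199002eaf) (.leaf 0x6d37000003))) (.node (.node (.leaf 0x1001eaf) (.leaf 0x1005d8e)) (.node (.leaf 0x2c8100227d) (.leaf 0x0))))))) (.node (.node (.node (.node (.node (.node (.leaf 0x1af000003) (.leaf 0x3876002506)) (.node (.leaf 0x2002076) (.leaf 0x5fed000001))) (.node (.node (.leaf 0x11af000003) (.leaf 0x51af00429d)) (.node (.leaf 0x1f7b003145) (.leaf 0x0)))) (.node (.node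 (.node (.leaf 0x9af000001) (.leaf 0x42740049af)) (.node (.leaf 0x1f7b001f71) (.leaf 0x6757000001))) (.node (.node (.leaf 0x10019af) (.leaf 0x59af0042f9)) (.node (.leaf 0x2627002b95) (.leaf 0x0))))) (.node (.node (.node (.node (.leaf 0x20005af) (.leaf 0x4419004400)) (.node (.leaf 0x1002499) (.leaf 0x6387000003))) (.node (.node (.leaf 0x15af000001) (.leaf 0x55af0042f9)) (.node (.leaf 0x1f7b0035af) (.leaf 0x0)))) (.node (.node (.node (.leaf 0xdaf000003) (.leaf 0x4daf000021)) (.node (.leaf 0x2daf001f72) (.leaf 0x6bd5000001))) (.node (.node (.leaf 0x2001daf) (.leaf 0x1678000003)) (.node (.leaf 0x324800227f) (.leaf 0x0)))))) (.node (.node (.node (.node (.node (.leaf 0x200015f) (.leaf 0x43960043af)) (.node (.leaf 0x10022c9) (.leaf 0x61a3000003))) (.node (.node (.leaf 0x12b9000001) (.leaf 0x45620042ae)) (.node (.leaf 0x1f7b002f30) (.leaf 0x0)))) (.node (.node (.node (.leaf 0x2000baf) (.leaf 0x4baf004408)) (.node (.leaf 0x2baf001f7b) (.leaf 0x6977000001)))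 (.node (.node (.leaf 0x2001baf) (.leaf 0x2288000003)) (.node (.leaf 0x2f330022e4) (.leaf 0x0))))) (.node (.node (.node (.node (.leaf 0x20007af) (.leaf 0x43990047af)) (.node (.leaf 0x10026e9) (.leaf 0x2006554))) (.node (.node (.leaf 0x30017af) (.leaf 0x43ff0048b2)) (.node (.leaf 0x3458001f7b) (.leaf 0x0)))) (.node (.node (.node (.leaf 0xfaf000003) (.leaf 0x4faf0042fb)) (.node (.leaf 0x1f71002faf) (.leaf 0x6eaf000001))) (.node (.node (.leaf 0x10003ac) (.leaf 0x5e5b000003)) (.node (.leaf 0x2b96002154) (.leaf 0x0)))))))))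

/-- part -/
def slpT_71 : Tr Nat := (.node (.node (.node (.node (.node (.node (.node (.node (.leaf 0x200006f) (.leaf 0x29e200266c)) (.node (.leaf 0x2002017) (.leaf 0x5ee7000001))) (.node (.node (.leaf 0x100106f) (.leaf 0x443000506f)) (.node (.leaf 0x306f001f7b) (.leaf 0x5044000001)))) (.node (.node (.node (.leaf 0x2000188) (.leaf 0x434800486f)) (.node (.leaf 0x20027bd) (.leaf 0x10047e6))) (.node (.node (.leaf 0x300186f) (.leaf 0x586f0042e7)) (.node (.leaf 0x252b003486) (.leaf 0x0))))) (.node (.node (.node (.node (.leaf 0x200046f) (.leaf 0x446f004439)) (.node (.leaf 0x1002363) (.leaf 0x626b000003))) (.node (.node (.leaf 0x146f000003) (.leaf 0x440500546f)) (.node (.leaf 0x32cd000fd6) (.leaf 0x0)))) (.node (.node (.node (.leaf 0xc6f000001) (.leaf 0x436c0043f2)) (.node (.leaf 0x2c6f001f72) (.leaf 0x6a3f000001))) (.node (.node (.leaf 0x1c6f000002) (.leaf 0x2507000003)) (.node (.leaf 0x31e00022fc) (.leaf 0x0)))))) (.node (.node (.node (.node (.node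 (.leaf 0x26f000003) (.leaf 0x2ec8001ffb)) (.node (.leaf 0x21a0000003) (.leaf 0x6085000003))) (.node (.node (.leaf 0x126f000001) (.leaf 0x526f00439a)) (.node (.leaf 0x1f7100326b) (.leaf 0x0)))) (.node (.node (.node (.leaf 0x2000a6f) (.leaf 0x428d004a6f)) (.node (.leaf 0x1f7b002a6f) (.leaf 0x6819000001))) (.node (.node (.leaf 0x2001a6f) (.leaf 0x5a6f0042f9)) (.node (.leaf 0x2a01001f7b) (.leaf 0x0))))) (.node (.node (.node (.node (.leaf 0x200066f) (.leaf 0x466f0043e1)) (.node (.leaf 0x200256b) (.leaf 0x642f000003))) (.node (.node (.leaf 0x166f000001) (.leaf 0x43a700566f)) (.node (.leaf 0x4d003070) (.leaf 0x0)))) (.node (.node (.node (.leaf 0xe6f000003) (.leaf 0x4e6f0042fb)) (.node (.leaf 0x1f7b002e6f) (.leaf 0x6ce9000001))) (.node (.node (.leaf 0x1001e6f) (.leaf 0x1005d56)) (.node (.leaf 0x2a9a0027ba) (.leaf 0x0))))))) (.node (.node (.node (.node (.node (.node (.leaf 0x16f000003) (.leaf 0x2a7600285c)) (.node (.leaf 0x10020eb) (.leaf 0x5fb9000001)))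 (.node (.node (.leaf 0x116f000001) (.leaf 0x43d2004916)) (.node (.leaf 0x1f71003062) (.leaf 0x0)))) (.node (.node (.node (.leaf 0x200096f) (.leaf 0x42e600496f)) (.node (.leaf 0x200292d) (.leaf 0x670b000003))) (.node (.node (.leaf 0x100196f) (.leaf 0x596f000021)) (.node (.leaf 0x22c90029e6) (.leaf 0x0))))) (.node (.node (.node (.node (.leaf 0x100056f) (.leaf 0x456f004349)) (.node (.leaf 0x2002451) (.leaf 0x171c000001))) (.node (.node (.leaf 0x156f000001) (.leaf 0x556f0043a8)) (.node (.leaf 0x1f7b002e6d) (.leaf 0x0)))) (.node (.node (.node (.leaf 0xbe1000001) (.leaf 0x4d6f004400)) (.node (.leaf 0x1f7b002d6f) (.leaf 0x6b83000003))) (.node (.node (.leaf 0x2001d6f) (.leaf 0x5cab000001)) (.node (.leaf 0x318200216e) (.leaf 0x0)))))) (.node (.node (.node (.node (.node (.leaf 0x200036f) (.leaf 0x4326004367)) (.node (.leaf 0x1002290) (.leaf 0x6167000003))) (.node (.node (.leaf 0xbfd00136f) (.leaf 0x439d00536f)) (.node (.leaf 0x1f71002f0e) (.leaf 0x0))))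 (.node (.node (.node (.leaf 0x2000b6f) (.leaf 0x4b6f0042c1)) (.node (.leaf 0x1f7b002b6f) (.leaf 0x692b000001))) (.node (.node (.leaf 0x2001b6f) (.leaf 0x3b7000003)) (.node (.leaf 0x2a620026c8) (.leaf 0x0))))) (.node (.node (.node (.node (.leaf 0x100076f) (.leaf 0x430200476f)) (.node (.leaf 0x2315000003) (.leaf 0x6515000003))) (.node (.node (.leaf 0x171f00176f) (.leaf 0x2200576f)) (.node (.leaf 0x3272001f7b) (.leaf 0x0)))) (.node (.node (.node (.leaf 0x15c000001) (.leaf 0x4f6f00432f)) (.node (.leaf 0x1f7b002b06) (.leaf 0x6e47000003))) (.node (.node (.leaf 0x2001f70) (.leaf 0x5e24000001)) (.node (.leaf 0x3148000fd9) (.leaf 0x0)))))))) (.node (.node (.node (.node (.node (.node (.node (.leaf 0x20000ef) (.leaf 0x31d0000187)) (.node (.leaf 0x200207b) (.leaf 0x5f55000003))) (.node (.node (.leaf 0xf6800055a) (.leaf 0x432600441e)) (.node (.leaf 0x1f7b002a1a) (.leaf 0x7099000003)))) (.node (.node (.node (.leaf 0x10008ef) (.leaf 0x43270044a5)) (.node (.leaf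 0x1002853) (.leaf 0x6697000001))) (.node (.node (.leaf 0x10018ef) (.leaf 0x442c004934)) (.node (.leaf 0x21c70036c5) (.leaf 0x0))))) (.node (.node (.node (.node (.leaf 0x10004ef) (.leaf 0x43a70044ef)) (.node (.leaf 0x20023d7) (.leaf 0x62db000001))) (.node (.node (.leaf 0x14ef000002) (.leaf 0x462b0043c3)) (.node (.leaf 0x2660002eb7) (.leaf 0x0)))) (.node (.node (.node (.leaf 0xcef000002) (.leaf 0x4cef00428c)) (.node (.leaf 0x2ac200018a) (.leaf 0x6ae1000003))) (.node (.node (.leaf 0x1cef000001) (.leaf 0x5c3f000003)) (.node (.leaf 0x38de00233c) (.leaf 0x0)))))) (.node (.node (.node (.node (.node (.leaf 0x2ef000001) (.leaf 0x42e70042e5)) (.node (.leaf 0x2002218) (.leaf 0x60f1000001))) (.node (.node (.leaf 0x12ef000002) (.leaf 0x52ef000074)) (.node (.leaf 0x2f6e001f72) (.leaf 0x0)))) (.node (.node (.node (.leaf 0x3000aef) (.leaf 0x42a4004aef)) (.node (.leaf 0x2aef001f7b) (.leaf 0x689e000001))) (.node (.node (.leaf 0x1001aef) (.leaf 0x2005ad3)) (.node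 (.leaf 0x2fb2001fb6) (.leaf 0x0))))) (.node (.node (.node (.node (.leaf 0x10006ef) (.leaf 0x46ef0043db)) (.node (.leaf 0x10025f5) (.leaf 0x649d000001))) (.node (.node (.leaf 0x10016ef) (.leaf 0x56ef000021)) (.node (.leaf 0x258b002f61) (.leaf 0x0)))) (.node (.node (.node (.leaf 0xeef000001) (.leaf 0x4436004eef)) (.node (.leaf 0x2eef0028e2) (.leaf 0x6daf000001))) (.node (.node (.leaf 0x10005be) (.leaf 0x5dc3000001)) (.node (.leaf 0x32060027e2) (.leaf 0x0))))))) (.node (.node (.node (.node (.node (.node (.leaf 0x10001ef) (.leaf 0x2b0d002334)) (.node (.leaf 0x1002139) (.leaf 0x601f000001))) (.node (.node (.leaf 0x11ef000001) (.leaf 0x51ef0042e7)) (.node (.leaf 0x1f7b002ddc) (.leaf 0x0)))) (.node (.node (.node (.leaf 0x9ef000001) (.leaf 0x44380049ef)) (.node (.leaf 0x29ef001f7b) (.leaf 0x6798000001))) (.node (.node (.leaf 0x20019ef) (.leaf 0x59ef0042ff)) (.node (.leaf 0x1f7b0038c7) (.leaf 0x0))))) (.node (.node (.node (.node (.leaf 0x20005ef) (.leaf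 0x442e0045ef)) (.node (.leaf 0x20024d3) (.leaf 0x63bd000003))) (.node (.node (.leaf 0x15ef000002) (.leaf 0x55ef004400)) (.node (.leaf 0x2967002f81) (.leaf 0x0)))) (.node (.node (.node (.leaf 0xdef000003) (.leaf 0x4def0042f9)) (.node (.leaf 0x2def0022f8) (.leaf 0x6c31000003))) (.node (.node (.leaf 0x2001def) (.leaf 0x5cfd000003)) (.node (.leaf 0x325c0021b9) (.leaf 0x0)))))) (.node (.node (.node (.node (.node (.leaf 0x3ef000001) (.leaf 0x43b30043ee)) (.node (.leaf 0x20022fb) (.leaf 0x61e7000001))) (.node (.node (.leaf 0x13ef000001) (.leaf 0x42f80053ef)) (.node (.leaf 0x33ef001f72) (.leaf 0x0)))) (.node (.node (.node (.leaf 0xbef000001) (.leaf 0x4bef004435)) (.node (.leaf 0x29cf001f72) (.leaf 0x69bf000001))) (.node (.node (.leaf 0x1001bef) (.leaf 0x5b91000001)) (.node (.leaf 0x3783002477) (.leaf 0x0))))) (.node (.node (.node (.node (.leaf 0x10007ef) (.leaf 0x436a0043f3)) (.node (.leaf 0x1002735) (.leaf 0x100658c))) (.node (.node (.leaf 0x20017ef)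 (.leaf 0x43480057ef)) (.node (.leaf 0x2719002db8) (.leaf 0x0)))) (.node (.node (.node (.leaf 0x2000fef) (.leaf 0x22004fef)) (.node (.leaf 0x1f71002fef) (.leaf 0x6f07000003))) (.node (.node (.leaf 0x2001fc7) (.leaf 0x1f54000001)) (.node (.leaf 0x1f7b0023e8) (.leaf 0x0)))))))))

/-- part -/
def slpT_72 : Tr Nat := (.node (.node (.node (.node (.node (.node (.node (.node (.leaf 0x2000007) (.leaf 0x2fee0023fe)) (.node (.leaf 0x2001fd9) (.leaf 0x5e98000003))) (.node (.node (.leaf 0x1001007) (.leaf 0x500700428d)) (.node (.leaf 0x1f7b002cbe) (.leaf 0x6f25000001)))) (.node (.node (.node (.leaf 0x2000807) (.leaf 0x4274004807)) (.node (.leaf 0x1002750) (.leaf 0x10065a6))) (.node (.node (.leaf 0x1001807) (.leaf 0x580700428d)) (.node (.leaf 0x1f7b00350b) (.leaf 0x0))))) (.node (.node (.node (.node (.leaf 0x2000408) (.leaf 0x2004405)) (.node (.leaf 0x200230f) (.leaf 0x28f9000003))) (.node (.node (.leaf 0x1407000003) (.leaf 0x43a1005407)) (.node (.leaf 0x3407002636)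 (.leaf 0x0)))) (.node (.node (.node (.leaf 0xc07000001) (.leaf 0x4c07004408)) (.node (.leaf 0x2c07001f72) (.leaf 0x69d9000003))) (.node (.node (.leaf 0x1001c07) (.leaf 0x5b9d000003)) (.node (.leaf 0x321e0021d8) (.leaf 0x0)))))) (.node (.node (.node (.node (.node (.leaf 0x2000207) (.leaf 0x318200295e)) (.node (.leaf 0x1001c35) (.leaf 0x6033000003))) (.node (.node (.leaf 0x1207000001) (.leaf 0x4383005207)) (.node (.leaf 0x1f7b002b45) (.leaf 0x0)))) (.node (.node (.node (.leaf 0x2000a08) (.leaf 0x4358004a07)) (.node (.leaf 0x2a07001f72) (.leaf 0x67b2000001))) (.node (.node (.leaf 0x20013a0) (.leaf 0x5a070042b0)) (.node (.leaf 0x218b003371) (.leaf 0x0))))) (.node (.node (.node (.node (.leaf 0x1000607) (.leaf 0x42fe004607)) (.node (.leaf 0x10024f3) (.leaf 0x63d1000003))) (.node (.node (.leaf 0x1607000003) (.leaf 0x560700428d)) (.node (.leaf 0x1f7b003277) (.leaf 0x0)))) (.node (.node (.node (.leaf 0xe07000003) (.leaf 0x4e0700439a)) (.node (.leaf 0x2e07001f72)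 (.leaf 0x6c57000001))) (.node (.node (.leaf 0x2001e07) (.leaf 0x5d09000003)) (.node (.leaf 0x29c60021b9) (.leaf 0x0))))))) (.node (.node (.node (.node (.node (.node (.leaf 0x2000107) (.leaf 0x31b000251c)) (.node (.leaf 0x2001eec) (.leaf 0x5f69000003))) (.node (.node (.leaf 0x1001107) (.leaf 0x51070042c1)) (.node (.leaf 0x3107001f7b) (.leaf 0x70d7000003)))) (.node (.node (.node (.leaf 0x2000907) (.leaf 0x42f8004907)) (.node (.leaf 0x2002877) (.leaf 0x66ab000003))) (.node (.node (.leaf 0x2001907) (.leaf 0x562600442b)) (.node (.leaf 0x21c7003776) (.leaf 0x0))))) (.node (.node (.node (.node (.leaf 0x2000208) (.leaf 0x44990043bd)) (.node (.leaf 0x10023f1) (.leaf 0x62f3000001))) (.node (.node (.leaf 0x1507000001) (.leaf 0x1005507)) (.node (.leaf 0x1f71003507) (.leaf 0x0)))) (.node (.node (.node (.leaf 0xd07000001) (.leaf 0x44620043d3)) (.node (.leaf 0x2c470021ec) (.leaf 0x6b01000001))) (.node (.node (.leaf 0x1d07000001) (.leaf 0x5c53000001)) (.node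 (.leaf 0x394000233c) (.leaf 0x0)))))) (.node (.node (.node (.node (.node (.leaf 0x307000002) (.leaf 0x43010042e5)) (.node (.leaf 0x1002232) (.leaf 0x6107000003))) (.node (.node (.leaf 0x1307000002) (.leaf 0x53070043d3)) (.node (.leaf 0x30d4001f7b) (.leaf 0x0)))) (.node (.node (.node (.leaf 0x3000b07) (.leaf 0x4436004b07)) (.node (.leaf 0x2b07001f72) (.leaf 0x68b2000001))) (.node (.node (.leaf 0x2001b07) (.leaf 0x2005ae9)) (.node (.leaf 0x2e6200266e) (.leaf 0x0))))) (.node (.node (.node (.node (.leaf 0x1000707) (.leaf 0x43cd0043d3)) (.node (.leaf 0x2002625) (.leaf 0x64b3000003))) (.node (.node (.leaf 0x1001707) (.leaf 0x570700428c)) (.node (.leaf 0x258b00330e) (.leaf 0x0)))) (.node (.node (.node (.leaf 0xf07000002) (.leaf 0x4432004f07)) (.node (.leaf 0x2f07001f7b) (.leaf 0x6dd9000003))) (.node (.node (.leaf 0x1001f07) (.leaf 0xd9d000001)) (.node (.leaf 0x2efb0027e2) (.leaf 0x0)))))))) (.node (.node (.node (.node (.node (.node (.node (.leaf 0x1000087)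 (.leaf 0x361600266c)) (.node (.leaf 0x100202f) (.leaf 0x5eff000001))) (.node (.node (.leaf 0x3001087) (.leaf 0x4328004456)) (.node (.leaf 0x2afc001f72) (.leaf 0x6fd9000003)))) (.node (.node (.node (.leaf 0x2000887) (.leaf 0x429c004887)) (.node (.leaf 0x20027d7) (.leaf 0x2006626))) (.node (.node (.leaf 0x1001887) (.leaf 0x484c0043d3)) (.node (.leaf 0x23c300327d) (.leaf 0x0))))) (.node (.node (.node (.node (.leaf 0x1000487) (.leaf 0x4366004371)) (.node (.leaf 0x2002375) (.leaf 0x6281000003))) (.node (.node (.leaf 0x1487000003) (.leaf 0x42fc005487)) (.node (.leaf 0x2d660002b1) (.leaf 0x0)))) (.node (.node (.node (.leaf 0xc87000001) (.leaf 0x4c870043ac)) (.node (.leaf 0x2c87001f7b) (.leaf 0x6a6b000003))) (.node (.node (.leaf 0x1c87000001) (.leaf 0x1c37000001)) (.node (.leaf 0x38ec0022e2) (.leaf 0x0)))))) (.node (.node (.node (.node (.node (.leaf 0x287000001) (.leaf 0x4285000021)) (.node (.leaf 0x2025000003) (.leaf 0xf78000003))) (.node (.node (.leaf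 0xd6d000001) (.leaf 0x42f8005287)) (.node (.leaf 0x2aa800287a) (.leaf 0x0)))) (.node (.node (.node (.leaf 0x1000a87) (.leaf 0x4348004a87)) (.node (.leaf 0x1f7b002a87) (.leaf 0x682d000003))) (.node (.node (.leaf 0x1001a87) (.leaf 0x5a870043d9)) (.node (.leaf 0x2f60002105) (.leaf 0x0))))) (.node (.node (.node (.node (.leaf 0x2000687) (.leaf 0x4687004402)) (.node (.leaf 0x2002581) (.leaf 0x6445000003))) (.node (.node (.leaf 0x2001687) (.leaf 0x5687004353)) (.node (.leaf 0x4d002da8) (.leaf 0x0)))) (.node (.node (.node (.leaf 0xe87000001) (.leaf 0x4e870043ac)) (.node (.leaf 0x1f71002e87) (.leaf 0x6d01000003))) (.node (.node (.leaf 0x1001e87) (.leaf 0x2005d6c)) (.node (.leaf 0x38ba0020e4) (.leaf 0x0))))))) (.node (.node (.node (.node (.node (.node (.leaf 0x187000003) (.leaf 0x33a800285c)) (.node (.leaf 0x10020fb) (.leaf 0x5fc9000001))) (.node (.node (.leaf 0x1187000003) (.leaf 0x4399005187)) (.node (.leaf 0x1fbf002d65) (.leaf 0x0)))) (.node (.node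 (.node (.leaf 0x987000003) (.leaf 0x42ee004987)) (.node (.leaf 0x200294b) (.leaf 0x6729000001))) (.node (.node (.leaf 0x1001987) (.leaf 0x59870042e9)) (.node (.leaf 0x22c90031af) (.leaf 0x0))))) (.node (.node (.node (.node (.leaf 0x1000587) (.leaf 0x453d004425)) (.node (.leaf 0x100246d) (.leaf 0x6365000003))) (.node (.node (.leaf 0x1587000001) (.leaf 0x558700439c)) (.node (.leaf 0x26d9003509) (.leaf 0x0)))) (.node (.node (.node (.leaf 0x10003a7) (.leaf 0x4d8700442f)) (.node (.leaf 0x1f71002d87) (.leaf 0x6ba9000003))) (.node (.node (.leaf 0x1001d87) (.leaf 0x5cb5000003)) (.node (.leaf 0x37000001fb) (.leaf 0x0)))))) (.node (.node (.node (.node (.node (.leaf 0x1000387) (.leaf 0x4366004383)) (.node (.leaf 0x20022a7) (.leaf 0x617d000003))) (.node (.node (.leaf 0x1387000001) (.leaf 0x43d6005387)) (.node (.leaf 0x1f71003273) (.leaf 0x0)))) (.node (.node (.node (.leaf 0x1000b87) (.leaf 0x4b870042b4)) (.node (.leaf 0x1f71002b87) (.leaf 0x694b000001)))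 (.node (.node (.leaf 0x2001b87) (.leaf 0x5b37000001)) (.node (.leaf 0x362800018f) (.leaf 0x0))))) (.node (.node (.node (.node (.leaf 0x3000787) (.leaf 0x478700442b)) (.node (.leaf 0x200236a) (.leaf 0x1006536))) (.node (.node (.leaf 0x1001787) (.leaf 0x42f0005787)) (.node (.leaf 0x2d95000054) (.leaf 0x0)))) (.node (.node (.node (.leaf 0xf87000003) (.leaf 0x43ee0043c1)) (.node (.leaf 0x2603002b3a) (.leaf 0x6e6b000001))) (.node (.node (.leaf 0x2001b24) (.leaf 0x5e38000003)) (.node (.leaf 0x2f3700286e) (.leaf 0x0)))))))))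

/-- part -/
def slpT_73 : Tr Nat := (.node (.node (.node (.node (.node (.node (.node (.node (.leaf 0x2000047) (.leaf 0x304c00266c)) (.node (.leaf 0x10002be) (.leaf 0x5ec8000001))) (.node (.node (.leaf 0x2000b00) (.leaf 0x5047000003)) (.node (.leaf 0x1f7b002bb6) (.leaf 0x6f87000001)))) (.node (.node (.node (.leaf 0x1000847) (.leaf 0x48470042fd)) (.node (.leaf 0x2002791) (.leaf 0x65e1000003))) (.node (.node (.leaf 0x2001847) (.leaf 0x5847000021)) (.node (.leaf 0x3378001f7b) (.leaf 0x0))))) (.node (.node (.node (.node (.leaf 0x3000447) (.leaf 0x437a004386)) (.node (.leaf 0x1002347) (.leaf 0x623f000003))) (.node (.node (.leaf 0x1447000001) (.leaf 0x1005447)) (.node (.leaf 0x2e52001f72) (.leaf 0x0)))) (.node (.node (.node (.leaf 0xc47000003) (.leaf 0x43b8004371)) (.node (.leaf 0x2a8c001f7b) (.leaf 0x6a19000003))) (.node (.node (.leaf 0x1c47000003) (.leaf 0x5471000001)) (.node (.leaf 0x2f41000fda) (.leaf 0x0)))))) (.node (.node (.node (.node (.node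 (.leaf 0x247000002) (.leaf 0x3264002034)) (.node (.leaf 0x200217b) (.leaf 0x5da6000003))) (.node (.node (.leaf 0x1247000003) (.leaf 0x4387005247)) (.node (.leaf 0x1f71003247) (.leaf 0x0)))) (.node (.node (.node (.leaf 0x2000a47) (.leaf 0x4407004a47)) (.node (.leaf 0x1f71002a47) (.leaf 0x67ee000001))) (.node (.node (.leaf 0x1001a47) (.leaf 0x5a47004439)) (.node (.leaf 0x364a00218a) (.leaf 0x0))))) (.node (.node (.node (.node (.leaf 0x2000647) (.leaf 0x455900442f)) (.node (.leaf 0x200253d) (.leaf 0x6411000001))) (.node (.node (.leaf 0x16470014c7) (.leaf 0x56470042a5)) (.node (.leaf 0x1f7b003541) (.leaf 0x0)))) (.node (.node (.node (.leaf 0xe47000001) (.leaf 0x4e47000074)) (.node (.leaf 0x24f1002e47) (.leaf 0x6cad000001))) (.node (.node (.leaf 0x1e47000002) (.leaf 0x2005d38)) (.node (.leaf 0x376b0001d0) (.leaf 0x0))))))) (.node (.node (.node (.node (.node (.node (.leaf 0x147000001) (.leaf 0x2a760023b2)) (.node (.leaf 0x10020d1) (.leaf 0x5f93000003)))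 (.node (.node (.leaf 0x1147000003) (.leaf 0x432e004afc)) (.node (.leaf 0x1f71003147) (.leaf 0x0)))) (.node (.node (.node (.leaf 0x2000947) (.leaf 0x4383004947)) (.node (.leaf 0x20028ed) (.leaf 0x66e3000003))) (.node (.node (.leaf 0x2001947) (.leaf 0x441800438a)) (.node (.leaf 0xf7a0030ba) (.leaf 0x0))))) (.node (.node (.node (.node (.leaf 0x1000547) (.leaf 0x4432004547)) (.node (.leaf 0x200242b) (.leaf 0x632b000003))) (.node (.node (.leaf 0x1547000003) (.leaf 0x42ac005547)) (.node (.leaf 0x1f7b00326f) (.leaf 0x0)))) (.node (.node (.node (.leaf 0xd47000001) (.leaf 0x443e004371)) (.node (.leaf 0x2a7e001f7b) (.leaf 0x6b4b000003))) (.node (.node (.leaf 0x1d47000003) (.leaf 0x5c85000003)) (.node (.leaf 0x34fa0024e2) (.leaf 0x0)))))) (.node (.node (.node (.node (.node (.leaf 0x2000347) (.leaf 0x428b004325)) (.node (.leaf 0x2002274) (.leaf 0x6143000001))) (.node (.node (.leaf 0x1347000003) (.leaf 0x4438005347)) (.node (.leaf 0x1f71002d8a) (.leaf 0x0))))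 (.node (.node (.node (.leaf 0x1000b47) (.leaf 0x4b47004437)) (.node (.leaf 0x1f7b002b1e) (.leaf 0x5eaf000001))) (.node (.node (.leaf 0x1001b47) (.leaf 0x202f000003)) (.node (.leaf 0x33cb001f7b) (.leaf 0x0))))) (.node (.node (.node (.node (.leaf 0x10004d7) (.leaf 0x47470043a0)) (.node (.leaf 0x2666000003) (.leaf 0x64ed000003))) (.node (.node (.leaf 0x3001747) (.leaf 0x432400462c)) (.node (.leaf 0x359a001f72) (.leaf 0x0)))) (.node (.node (.node (.leaf 0xf47000003) (.leaf 0x42cc004f47)) (.node (.leaf 0x2f470027da) (.leaf 0x6e21000001))) (.node (.node (.leaf 0x1f47000003) (.leaf 0x5e0b000003)) (.node (.leaf 0x35aa000fd9) (.leaf 0x0)))))))) (.node (.node (.node (.node (.node (.node (.node (.leaf 0x20000c7) (.leaf 0x35720027dc)) (.node (.leaf 0x2002057) (.leaf 0x5f35000003))) (.node (.node (.leaf 0x20010c7) (.leaf 0x4389004a5e)) (.node (.leaf 0x2a05001f72) (.leaf 0x703d000001)))) (.node (.node (.node (.leaf 0x20008c7) (.leaf 0x43020048c7)) (.node (.leaf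 0x2002821) (.leaf 0x1000c57))) (.node (.node (.leaf 0x10018c7) (.leaf 0x439d0058c7)) (.node (.leaf 0x1f71002ef2) (.leaf 0x0))))) (.node (.node (.node (.node (.leaf 0x10004c7) (.leaf 0x44c7004402)) (.node (.leaf 0x20023b3) (.leaf 0x62b1000003))) (.node (.node (.leaf 0xfaf000001) (.leaf 0x442c004617)) (.node (.leaf 0x1f71002a6d) (.leaf 0x0)))) (.node (.node (.node (.leaf 0xcc7000003) (.leaf 0x481d00442f)) (.node (.leaf 0x2aff0029ac) (.leaf 0x6ab1000003))) (.node (.node (.leaf 0x1cc7000003) (.leaf 0x5c1f000003)) (.node (.leaf 0x34fe00244c) (.leaf 0x0)))))) (.node (.node (.node (.node (.node (.leaf 0x2c7000003) (.leaf 0x230042ad)) (.node (.leaf 0x2000a11) (.leaf 0x60d1000001))) (.node (.node (.leaf 0x12c7000003) (.leaf 0x475700442b)) (.node (.leaf 0x2c59000968) (.leaf 0x0)))) (.node (.node (.node (.leaf 0x1000ac7) (.leaf 0x4ac70042fb)) (.node (.leaf 0x1f7b002ac7) (.leaf 0x6874000001))) (.node (.node (.leaf 0x2001ac7) (.leaf 0x200128e)) (.node (.leaf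 0x2e960023f0) (.leaf 0x0))))) (.node (.node (.node (.node (.leaf 0x10006c7) (.leaf 0x46c7004402)) (.node (.leaf 0x20025c9) (.leaf 0x622e000003))) (.node (.node (.leaf 0x10016c7) (.leaf 0x56c70042ef)) (.node (.leaf 0x5e7002b0a) (.leaf 0x0)))) (.node (.node (.node (.leaf 0xec7000001) (.leaf 0x43a9004ec7)) (.node (.leaf 0x1f71002ec7) (.leaf 0x6d63000001))) (.node (.node (.leaf 0x2001ec7) (.leaf 0x2001f19)) (.node (.leaf 0x35b8002456) (.leaf 0x0))))))) (.node (.node (.node (.node (.node (.node (.leaf 0x64000003) (.leaf 0x2c950019d9)) (.node (.leaf 0x100211b) (.leaf 0x5fff000001))) (.node (.node (.leaf 0x11c7000003) (.leaf 0x51c7004303)) (.node (.leaf 0x1f710031c7) (.leaf 0x0)))) (.node (.node (.node (.leaf 0x9c7000003) (.leaf 0x43f30043c1)) (.node (.leaf 0x1f710029c7) (.leaf 0x676b000001))) (.node (.node (.leaf 0x10019c7) (.leaf 0x59c700439e)) (.node (.leaf 0x213b002c9c) (.leaf 0x0))))) (.node (.node (.node (.node (.leaf 0x20005c7) (.leaf 0x45c700429d))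 (.node (.leaf 0x10024ad) (.leaf 0x639d000001))) (.node (.node (.leaf 0x15c7000003) (.leaf 0x55c7000002)) (.node (.leaf 0x250030fb) (.leaf 0x0)))) (.node (.node (.node (.leaf 0xdc7000001) (.leaf 0x4dc700438a)) (.node (.leaf 0x2c63001f7b) (.leaf 0x6bfb000003))) (.node (.node (.leaf 0x1001dc7) (.leaf 0x13a0000003)) (.node (.leaf 0x35980021b9) (.leaf 0x0)))))) (.node (.node (.node (.node (.node (.leaf 0x20003c7) (.leaf 0x43c1004325)) (.node (.leaf 0x20022d9) (.leaf 0x61c3000003))) (.node (.node (.leaf 0x13c7000001) (.leaf 0x43480053c7)) (.node (.leaf 0x29e9001f7b) (.leaf 0x0)))) (.node (.node (.node (.leaf 0x2000bc7) (.leaf 0x4bc7004406)) (.node (.leaf 0x2bc7001f72) (.leaf 0x698b000003))) (.node (.node (.leaf 0x65001bc7) (.leaf 0x5b6f000003)) (.node (.leaf 0x32e70022e4) (.leaf 0x0))))) (.node (.node (.node (.node (.leaf 0x20007c7) (.leaf 0x43ec004790)) (.node (.leaf 0x2002701) (.leaf 0x200656a))) (.node (.node (.leaf 0x10017c7) (.leaf 0x43a90057c7))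 (.node (.leaf 0x3356002408) (.leaf 0x0)))) (.node (.node (.node (.leaf 0xfc7000003) (.leaf 0x4fc70042e7)) (.node (.leaf 0x1f71002fc7) (.leaf 0x6ed7000003))) (.node (.node (.leaf 0x2001fa9) (.leaf 0x5e6a000003)) (.node (.leaf 0x301e0020f8) (.leaf 0x0)))))))))

/-- part -/
def slpT_74 : Tr Nat := (.node (.node (.node (.node (.node (.node (.node (.node (.leaf 0x27000001) (.leaf 0x2c2100266c)) (.node (.leaf 0x2001fec) (.leaf 0x5eb2000003))) (.node (.node (.leaf 0x2001027) (.leaf 0x43b9004371)) (.node (.leaf 0x1f71003027) (.leaf 0x6f4b000001)))) (.node (.node (.node (.leaf 0x3000827) (.leaf 0x43ff004827)) (.node (.leaf 0x2002770) (.leaf 0x65c5000003))) (.node (.node (.leaf 0x1001827) (.leaf 0x5827004349)) (.node (.leaf 0x269b002faf) (.leaf 0x0))))) (.node (.node (.node (.node (.leaf 0x1000427) (.leaf 0x432900441b)) (.node (.leaf 0x100232f) (.leaf 0x6219000003))) (.node (.node (.leaf 0x1427000003) (.leaf 0x5005427)) (.node (.leaf 0x2d37002020) (.leaf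 0x0)))) (.node (.node (.node (.leaf 0xc27000003) (.leaf 0x4c27000003)) (.node (.leaf 0x2bef001f7b) (.leaf 0x69f9000003))) (.node (.node (.leaf 0x1001c27) (.leaf 0x1d34000001)) (.node (.leaf 0x2c070020aa) (.leaf 0x0)))))) (.node (.node (.node (.node (.node (.leaf 0x227000003) (.leaf 0x2eff00297e)) (.node (.leaf 0x124d000003) (.leaf 0x604f000001))) (.node (.node (.leaf 0x1227000003) (.leaf 0x43d8005227)) (.node (.leaf 0x24bb003227) (.leaf 0x0)))) (.node (.node (.node (.leaf 0x2000a27) (.leaf 0x42ec004a27)) (.node (.leaf 0x29be001f7b) (.leaf 0x67ce000003))) (.node (.node (.leaf 0x1001a27) (.leaf 0x5a27004301)) (.node (.leaf 0x1d1003768) (.leaf 0x0))))) (.node (.node (.node (.node (.leaf 0x2000627) (.leaf 0x43e2004627)) (.node (.leaf 0x2002511) (.leaf 0x63f1000003))) (.node (.node (.leaf 0x1627000001) (.leaf 0x562700432f)) (.node (.leaf 0x1f71002f77) (.leaf 0x0)))) (.node (.node (.node (.leaf 0xe27000001) (.leaf 0x42e4004e27)) (.node (.leaf 0x2e27001f72)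 (.leaf 0x6c87000001))) (.node (.node (.leaf 0x1e27000001) (.leaf 0x1005d22)) (.node (.leaf 0x3135002220) (.leaf 0x0))))))) (.node (.node (.node (.node (.node (.node (.leaf 0x2000127) (.leaf 0x2d290021e8)) (.node (.leaf 0x20020b3) (.leaf 0x5f7f000003))) (.node (.node (.leaf 0x1127000003) (.leaf 0x42af005127)) (.node (.leaf 0x30950021aa) (.leaf 0x0)))) (.node (.node (.node (.leaf 0x1000927) (.leaf 0x43a1004927)) (.node (.leaf 0x10028b3) (.leaf 0x66c5000003))) (.node (.node (.leaf 0x2001927) (.leaf 0x44e8004388)) (.node (.leaf 0x27ef002ac3) (.leaf 0x0))))) (.node (.node (.node (.node (.leaf 0x2000527) (.leaf 0x434c004527)) (.node (.leaf 0x200240d) (.leaf 0x630f000003))) (.node (.node (.leaf 0x1527000003) (.leaf 0x4302005527)) (.node (.leaf 0x2200003029) (.leaf 0x0)))) (.node (.node (.node (.leaf 0xd27000003) (.leaf 0x4d270042f9)) (.node (.leaf 0x2b88001f7b) (.leaf 0x6568000001))) (.node (.node (.leaf 0x1d27000001) (.leaf 0x5c6b000001)) (.node (.leaf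 0x3a73002552) (.leaf 0x0)))))) (.node (.node (.node (.node (.node (.leaf 0x327000001) (.leaf 0x42ae004325)) (.node (.leaf 0x2002251) (.leaf 0x6127000001))) (.node (.node (.leaf 0x1327000001) (.leaf 0x439f005327)) (.node (.leaf 0x3327002130) (.leaf 0x0)))) (.node (.node (.node (.leaf 0x1000b27) (.leaf 0x4b270043d9)) (.node (.leaf 0x29ca001f72) (.leaf 0x68cc000003))) (.node (.node (.leaf 0x2001b27) (.leaf 0x1005afd)) (.node (.leaf 0x2b4a00276b) (.leaf 0x0))))) (.node (.node (.node (.node (.leaf 0x1000727) (.leaf 0x43f4004423)) (.node (.leaf 0x1002641) (.leaf 0x64d5000003))) (.node (.node (.leaf 0x3001727) (.leaf 0x509200442f)) (.node (.leaf 0x1f7b002b51) (.leaf 0x0)))) (.node (.node (.node (.leaf 0xf27000002) (.leaf 0x43d20043f4)) (.node (.leaf 0x2df9000020) (.leaf 0x6df3000003))) (.node (.node (.leaf 0x1001f27) (.leaf 0x19e4000003)) (.node (.leaf 0x3adb0027e2) (.leaf 0x0)))))))) (.node (.node (.node (.node (.node (.node (.node (.leaf 0xa7000003)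 (.leaf 0x2b840021b4)) (.node (.leaf 0x20001d2) (.leaf 0x5f23000001))) (.node (.node (.leaf 0x20010a7) (.leaf 0x43020050a7)) (.node (.leaf 0x2e28001f7b) (.leaf 0x700f000003)))) (.node (.node (.node (.leaf 0x2000406) (.leaf 0x42ae0048a7)) (.node (.leaf 0x1002801) (.leaf 0x2006640))) (.node (.node (.leaf 0x10018a7) (.leaf 0x58a7004317)) (.node (.leaf 0x1f7b00374c) (.leaf 0x0))))) (.node (.node (.node (.node (.leaf 0x10004a7) (.leaf 0x44a700438a)) (.node (.leaf 0x1002393) (.leaf 0x629b000003))) (.node (.node (.leaf 0x14a7000001) (.leaf 0x42e80054a7)) (.node (.leaf 0x34a7001f72) (.leaf 0x0)))) (.node (.node (.node (.leaf 0xca7000001) (.leaf 0x4ca700003c)) (.node (.leaf 0x2ca7001f72) (.leaf 0x6a8f000003))) (.node (.node (.leaf 0x1ca7000001) (.leaf 0x5c03000003)) (.node (.leaf 0x2b8400244c) (.leaf 0x0)))))) (.node (.node (.node (.node (.node (.leaf 0x2a7000001) (.leaf 0x42a5000001)) (.node (.leaf 0x200201a) (.leaf 0x60b5000003))) (.node (.node (.leaf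 0x12a7000001) (.leaf 0x428e0052a7)) (.node (.leaf 0x29f4000968) (.leaf 0x0)))) (.node (.node (.node (.leaf 0x2000aa7) (.leaf 0x4312004aa7)) (.node (.leaf 0x1f71002aa7) (.leaf 0x6850000003))) (.node (.node (.leaf 0x1001aa7) (.leaf 0x43f600439a)) (.node (.leaf 0x35b200249c) (.leaf 0x0))))) (.node (.node (.node (.node (.leaf 0x10006a7) (.leaf 0x46a700430f)) (.node (.leaf 0x20025a1) (.leaf 0x645f000003))) (.node (.node (.leaf 0x20016a7) (.leaf 0x56a7004402)) (.node (.leaf 0x1f71003267) (.leaf 0x0)))) (.node (.node (.node (.leaf 0xea7000003) (.leaf 0x4ea700430f)) (.node (.leaf 0x2199002ea7) (.leaf 0x6d25000003))) (.node (.node (.leaf 0x2001ea7) (.leaf 0x1005d8a)) (.node (.leaf 0x2d88002089) (.leaf 0x0))))))) (.node (.node (.node (.node (.node (.node (.leaf 0x1a7000003) (.leaf 0x30b7001faa)) (.node (.leaf 0x100210d) (.leaf 0x5fe7000003))) (.node (.node (.leaf 0x11a7000003) (.leaf 0x43c8004419)) (.node (.leaf 0x265d0031a7) (.leaf 0x0)))) (.node (.node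 (.node (.leaf 0x9a7000003) (.leaf 0x44070049a7)) (.node (.leaf 0x100299b) (.leaf 0x674d000003))) (.node (.node (.leaf 0x100164e) (.leaf 0x59a7000023)) (.node (.leaf 0x26270038bd) (.leaf 0x0))))) (.node (.node (.node (.node (.leaf 0x10005a7) (.leaf 0x45a70043cf)) (.node (.leaf 0x200248f) (.leaf 0x6381000001))) (.node (.node (.leaf 0x15a7000003) (.leaf 0x55a7004303)) (.node (.leaf 0x1f71003231) (.leaf 0x0)))) (.node (.node (.node (.leaf 0xda7000002) (.leaf 0x4da70042cd)) (.node (.leaf 0x2da7001f72) (.leaf 0x6bc7000003))) (.node (.node (.leaf 0x2001da7) (.leaf 0x5ccb000001)) (.node (.leaf 0x317e002749) (.leaf 0x0)))))) (.node (.node (.node (.node (.node (.leaf 0x20003a8) (.leaf 0x436600429a)) (.node (.leaf 0x20022c1) (.leaf 0x619b000003))) (.node (.node (.leaf 0x13a7000001) (.leaf 0x46580043d1)) (.node (.leaf 0x1f7b0033a7) (.leaf 0x0)))) (.node (.node (.node (.leaf 0x3000ba7) (.leaf 0x45dc0043c3)) (.node (.leaf 0x2ba7001f72) (.leaf 0x696f000001)))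 (.node (.node (.leaf 0x2001ba7) (.leaf 0x5b54000003)) (.node (.leaf 0x2d910022e4) (.leaf 0x0))))) (.node (.node (.node (.node (.leaf 0x20007a7) (.leaf 0x710047a7)) (.node (.leaf 0x20026df) (.leaf 0x200654e))) (.node (.node (.leaf 0x20017a7) (.leaf 0x42ad004488)) (.node (.leaf 0x3212000054) (.leaf 0x0)))) (.node (.node (.node (.leaf 0xfa7000001) (.leaf 0x4fa7004359)) (.node (.leaf 0x1f71002d7d) (.leaf 0x6e9f000001))) (.node (.node (.leaf 0x2001f9b) (.leaf 0x5e4f000001)) (.node (.leaf 0x2b73002154) (.leaf 0x0)))))))))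

/-- part -/
def slpT_75 : Tr Nat := (.node (.node (.node (.node (.node (.node (.node (.node (.leaf 0x2000067) (.leaf 0x2d6600266c)) (.node (.leaf 0x1002011) (.leaf 0x5edd000003))) (.node (.node (.leaf 0x1001067) (.leaf 0x434c005067)) (.node (.leaf 0x2ca1000a02) (.leaf 0x6fb3000003)))) (.node (.node (.node (.leaf 0x1000867) (.leaf 0x48670042e5)) (.node (.leaf 0x10027b9) (.leaf 0x2006604))) (.node (.node (.leaf 0x2001867) (.leaf 0x5867004349)) (.node (.leaf 0x252b002fef) (.leaf 0x0))))) (.node (.node (.node (.node (.leaf 0x2000467) (.leaf 0x42a4004467)) (.node (.leaf 0x200235b) (.leaf 0x6265000001))) (.node (.node (.leaf 0x1467000003) (.leaf 0x429c005467)) (.node (.leaf 0x322c000fd6) (.leaf 0x0)))) (.node (.node (.node (.leaf 0xc67000001) (.leaf 0x442e004c67)) (.node (.leaf 0x2c67001f72) (.leaf 0x6a37000001))) (.node (.node (.leaf 0x1aca000003) (.leaf 0x5bd7000001)) (.node (.leaf 0x2e5a002122) (.leaf 0x0)))))) (.node (.node (.node (.node (.node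 (.leaf 0x267000002) (.leaf 0x2e62000876)) (.node (.leaf 0x219c000003) (.leaf 0x6081000003))) (.node (.node (.leaf 0x1267000003) (.leaf 0x52670043db)) (.node (.leaf 0x26f3003267) (.leaf 0x0)))) (.node (.node (.node (.leaf 0x100005f) (.leaf 0x42f0004a67)) (.node (.leaf 0x1f7b002a67) (.leaf 0x6810000003))) (.node (.node (.leaf 0x2001a67) (.leaf 0x5a67000002)) (.node (.leaf 0x2ad200096d) (.leaf 0x0))))) (.node (.node (.node (.node (.leaf 0x1000667) (.leaf 0x466700003e)) (.node (.leaf 0x2002561) (.leaf 0x6429000003))) (.node (.node (.leaf 0x1667000003) (.leaf 0x4302005667)) (.node (.leaf 0x4d0035e5) (.leaf 0x0)))) (.node (.node (.node (.leaf 0xe67000002) (.leaf 0x4e670043db)) (.node (.leaf 0x1f71002e67) (.leaf 0x6cd3000003))) (.node (.node (.leaf 0x1001e67) (.leaf 0x1005b71)) (.node (.leaf 0x34f80027ba) (.leaf 0x0))))))) (.node (.node (.node (.node (.node (.node (.leaf 0x167000003) (.leaf 0x2a090023b2)) (.node (.leaf 0x20020e5) (.leaf 0x5fad000003)))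 (.node (.node (.leaf 0x1167000001) (.leaf 0x4328004bfb)) (.node (.leaf 0x1f71003167) (.leaf 0x0)))) (.node (.node (.node (.leaf 0x2000967) (.leaf 0x4434004967)) (.node (.leaf 0x2002927) (.leaf 0x6703000003))) (.node (.node (.leaf 0x2001967) (.leaf 0x5967004317)) (.node (.leaf 0x1f7b0034bc) (.leaf 0x0))))) (.node (.node (.node (.node (.leaf 0x1000567) (.leaf 0x45670042fb)) (.node (.leaf 0x2002447) (.leaf 0x6347000003))) (.node (.node (.leaf 0x1567000003) (.leaf 0x430e005567)) (.node (.leaf 0x299f002cb8) (.leaf 0x0)))) (.node (.node (.node (.leaf 0xd67000003) (.leaf 0x4d67004402)) (.node (.leaf 0x28d1002d67) (.leaf 0x6b77000003))) (.node (.node (.leaf 0x3001d67) (.leaf 0x2441000003)) (.node (.leaf 0x339a00216e) (.leaf 0x0)))))) (.node (.node (.node (.node (.node (.leaf 0x2000367) (.leaf 0x4325004367)) (.node (.leaf 0x100228c) (.leaf 0x6161000001))) (.node (.node (.leaf 0x1367000003) (.leaf 0x43a1005367)) (.node (.leaf 0x1f7b002cba) (.leaf 0x0))))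 (.node (.node (.node (.leaf 0x2000b67) (.leaf 0x42b60010e7)) (.node (.leaf 0x1f7b002a59) (.leaf 0x6923000003))) (.node (.node (.leaf 0x2001b67) (.leaf 0x5b28000001)) (.node (.leaf 0x2b19002824) (.leaf 0x0))))) (.node (.node (.node (.node (.leaf 0x2000767) (.leaf 0x4316004767)) (.node (.leaf 0x268a000001) (.leaf 0x650f000001))) (.node (.node (.leaf 0x1001767) (.leaf 0x4302005767)) (.node (.leaf 0x301a001f72) (.leaf 0x0)))) (.node (.node (.node (.leaf 0xf67000003) (.leaf 0x4f67004349)) (.node (.leaf 0x27d9002b43) (.leaf 0x6e41000001))) (.node (.node (.leaf 0x10f0000001) (.leaf 0x5e20000001)) (.node (.leaf 0x2a52000fd9) (.leaf 0x0)))))))) (.node (.node (.node (.node (.node (.node (.node (.leaf 0xe7000001) (.leaf 0x3095000187)) (.node (.leaf 0x1002073) (.leaf 0x5f4d000003))) (.node (.node (.leaf 0x100061a) (.leaf 0x442e004948)) (.node (.leaf 0x288f002c76) (.leaf 0x7079000001)))) (.node (.node (.node (.leaf 0x10008e7) (.leaf 0x43c20043b6)) (.node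 (.leaf 0x2002849) (.leaf 0x668d000003))) (.node (.node (.leaf 0x10018e7) (.leaf 0x432e0058e7)) (.node (.leaf 0x1f7b002d2a) (.leaf 0x0))))) (.node (.node (.node (.node (.leaf 0x20004e7) (.leaf 0x43bc0044e8)) (.node (.leaf 0x20023cf) (.leaf 0x62d1000003))) (.node (.node (.leaf 0x14e7000003) (.leaf 0x54e700429d)) (.node (.leaf 0x1f710033d2) (.leaf 0x0)))) (.node (.node (.node (.leaf 0xce7000003) (.leaf 0x4ce7000023)) (.node (.leaf 0x2c03000fce) (.leaf 0x6ad9000003))) (.node (.node (.leaf 0x1ce7000001) (.leaf 0x5c39000003)) (.node (.leaf 0x330300233c) (.leaf 0x0)))))) (.node (.node (.node (.node (.node (.leaf 0x2e7000001) (.leaf 0x42e500428b)) (.node (.leaf 0x1002212) (.leaf 0x60eb000003))) (.node (.node (.leaf 0x12e7000003) (.leaf 0x52e70043e3)) (.node (.leaf 0x32e7001f72) (.leaf 0x0)))) (.node (.node (.node (.leaf 0x2000ae7) (.leaf 0x4352004ae7)) (.node (.leaf 0x2ae7001f72) (.leaf 0x6896000001))) (.node (.node (.leaf 0x1001ae7) (.leaf 0x2005ad1))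 (.node (.leaf 0x314600266a) (.leaf 0x0))))) (.node (.node (.node (.node (.leaf 0x10006e7) (.leaf 0x46e70043aa)) (.node (.leaf 0x20025e9) (.leaf 0x649b000001))) (.node (.node (.leaf 0x10016e7) (.leaf 0x56e70043e3)) (.node (.leaf 0x1f7b002fc9) (.leaf 0x0)))) (.node (.node (.node (.leaf 0xee7000001) (.leaf 0x429a004ee7)) (.node (.leaf 0x2d80001f72) (.leaf 0x6d9f000001))) (.node (.node (.leaf 0x2001ee7) (.leaf 0x5dbb000003)) (.node (.leaf 0x3495001ff0) (.leaf 0x0))))))) (.node (.node (.node (.node (.node (.node (.leaf 0x20001e7) (.leaf 0x363e000084)) (.node (.leaf 0x1002133) (.leaf 0x6019000001))) (.node (.node (.leaf 0x11e7000001) (.leaf 0x51e700434d)) (.node (.leaf 0x20af002c3e) (.leaf 0x0)))) (.node (.node (.node (.leaf 0x9e7000003) (.leaf 0x43ab0049e7)) (.node (.leaf 0x29e7001f72) (.leaf 0x6790000001))) (.node (.node (.leaf 0x20019e7) (.leaf 0x59e700428f)) (.node (.leaf 0x1f7b0033fa) (.leaf 0x0))))) (.node (.node (.node (.node (.leaf 0x10005e7)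 (.leaf 0x42e40045e7)) (.node (.leaf 0x10004dc) (.leaf 0x63b7000003))) (.node (.node (.leaf 0x15e7000003) (.leaf 0x55e7004398)) (.node (.leaf 0x2967002a95) (.leaf 0x0)))) (.node (.node (.node (.leaf 0xde7000003) (.leaf 0x4de7004439)) (.node (.leaf 0x2c5f001f72) (.leaf 0x5177000003))) (.node (.node (.leaf 0x2001de7) (.leaf 0x5cf5000003)) (.node (.leaf 0x2d4c0021b9) (.leaf 0x0)))))) (.node (.node (.node (.node (.node (.leaf 0x3e7000003) (.leaf 0x43e70042fa)) (.node (.leaf 0x20022f5) (.leaf 0x61df000001))) (.node (.node (.leaf 0x13e7000001) (.leaf 0x42fc0053e7)) (.node (.leaf 0x33e7002636) (.leaf 0x0)))) (.node (.node (.node (.leaf 0xbe7000001) (.leaf 0x4be70043a2)) (.node (.leaf 0x2be7001f72) (.leaf 0x69b5000001))) (.node (.node (.leaf 0x1001be7) (.leaf 0x5b8d000001)) (.node (.leaf 0x2f33002477) (.leaf 0x0))))) (.node (.node (.node (.node (.leaf 0x20007e7) (.leaf 0x42ac0047e7)) (.node (.leaf 0x100272b) (.leaf 0x1006586))) (.node (.node (.leaf 0x30017e7)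 (.leaf 0x428c0057e7)) (.node (.leaf 0x2719002a95) (.leaf 0x0)))) (.node (.node (.node (.leaf 0x2000fe7) (.leaf 0x73004fe7)) (.node (.leaf 0x1f71002fe7) (.leaf 0x6f03000001))) (.node (.node (.leaf 0x1fbe000001) (.leaf 0x5e81000001)) (.node (.leaf 0x30a70023e8) (.leaf 0x0)))))))))

/-- part -/
def slpT_76 : Tr Nat := (.node (.node (.node (.node (.node (.node (.node (.node (.leaf 0x17000003) (.leaf 0x3278002430)) (.node (.leaf 0x1001fe3) (.leaf 0x2212000003))) (.node (.node (.leaf 0x2001017) (.leaf 0x4ad600442f)) (.node (.leaf 0x1f7b003017) (.leaf 0x6f39000003)))) (.node (.node (.node (.leaf 0x2000817) (.leaf 0x22004817)) (.node (.leaf 0x2000c4b) (.leaf 0x1e24000003))) (.node (.node (.leaf 0x1001817) (.leaf 0x58170042e5)) (.node (.leaf 0x21a1003138) (.leaf 0x0))))) (.node (.node (.node (.node (.leaf 0x2000417) (.leaf 0x4325004417)) (.node (.leaf 0x2002164) (.leaf 0x6207000003))) (.node (.node (.leaf 0x1417000003) (.leaf 0x4409005417)) (.node (.leaf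 0x2df7001f7b) (.leaf 0x0)))) (.node (.node (.node (.leaf 0xc17000003) (.leaf 0x43f3004327)) (.node (.leaf 0x2c17001f7b) (.leaf 0x69e7000003))) (.node (.node (.leaf 0x1001c17) (.leaf 0x16d4000001)) (.node (.leaf 0x334e001f7b) (.leaf 0x0)))))) (.node (.node (.node (.node (.node (.leaf 0x2000217) (.leaf 0x2f3f00295e)) (.node (.leaf 0x2152000001) (.leaf 0x6041000001))) (.node (.node (.leaf 0x1217000001) (.leaf 0x4387004ffd)) (.node (.leaf 0x1f7b003217) (.leaf 0x0)))) (.node (.node (.node (.leaf 0x2000a17) (.leaf 0x4302004a17)) (.node (.leaf 0x29ce001f7b) (.leaf 0x67c0000001))) (.node (.node (.leaf 0x2001a17) (.leaf 0x5a1700428d)) (.node (.leaf 0x50003215) (.leaf 0x0))))) (.node (.node (.node (.node (.leaf 0x1000617) (.leaf 0x4428004617)) (.node (.leaf 0x2002503) (.leaf 0x63e5000003))) (.node (.node (.leaf 0x1617000001) (.leaf 0x56170042ef)) (.node (.leaf 0x217f003084) (.leaf 0x0)))) (.node (.node (.node (.leaf 0xe17000002) (.leaf 0x10e8004e17)) (.node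 (.leaf 0x2a98001f7b) (.leaf 0x6c6f000001))) (.node (.node (.leaf 0x2001e17) (.leaf 0x5d15000001)) (.node (.leaf 0x2baf002220) (.leaf 0x0))))))) (.node (.node (.node (.node (.node (.node (.leaf 0x1000117) (.leaf 0x396a0021e8)) (.node (.leaf 0x10020a9) (.leaf 0x5f75000001))) (.node (.node (.leaf 0x1117000002) (.leaf 0x4588004384)) (.node (.leaf 0x2ab6001f7b) (.leaf 0x70ff000001)))) (.node (.node (.node (.leaf 0x1000917) (.leaf 0x42e4004917)) (.node (.leaf 0x200288f) (.leaf 0x66b7000003))) (.node (.node (.leaf 0x2001917) (.leaf 0x43b9004400)) (.node (.leaf 0x13e0031df) (.leaf 0x0))))) (.node (.node (.node (.node (.leaf 0x2000517) (.leaf 0x4517000004)) (.node (.leaf 0x1002401) (.leaf 0x6301000003))) (.node (.node (.leaf 0x1517000003) (.leaf 0x4436005517)) (.node (.leaf 0x2200002c4c) (.leaf 0x0)))) (.node (.node (.node (.leaf 0xd17000003) (.leaf 0x45a5004369)) (.node (.leaf 0x2a3400247e) (.leaf 0x6b0f000003))) (.node (.node (.leaf 0x1d17000001) (.leaf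 0x97c000003)) (.node (.leaf 0x2c89002552) (.leaf 0x0)))))) (.node (.node (.node (.node (.node (.leaf 0x317000003) (.leaf 0x43150042e5)) (.node (.leaf 0x1002241) (.leaf 0x6117000001))) (.node (.node (.leaf 0x1317000003) (.leaf 0x53170042f1)) (.node (.leaf 0x2da9001f7b) (.leaf 0x0)))) (.node (.node (.node (.leaf 0x2000b17) (.leaf 0x4274004b17)) (.node (.leaf 0x2b17001f72) (.leaf 0x68bc000001))) (.node (.node (.leaf 0x2001b17) (.leaf 0x1001c2b)) (.node (.leaf 0x2b4800276b) (.leaf 0x0))))) (.node (.node (.node (.node (.leaf 0x1000717) (.leaf 0x471700432f)) (.node (.leaf 0x1002633) (.leaf 0x64c3000003))) (.node (.node (.leaf 0x1001717) (.leaf 0x485d004388)) (.node (.leaf 0x25ff002f1e) (.leaf 0x0)))) (.node (.node (.node (.leaf 0xf17000003) (.leaf 0x43da004f17)) (.node (.leaf 0x2ba5001f72) (.leaf 0x6de9000001))) (.node (.node (.leaf 0x2001f17) (.leaf 0x5bb0000003)) (.node (.leaf 0x2e0b0027e2) (.leaf 0x0)))))))) (.node (.node (.node (.node (.node (.node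 (.node (.leaf 0x97000001) (.leaf 0x38320021b4)) (.node (.leaf 0x200203b) (.leaf 0x5f0b000003))) (.node (.node (.leaf 0x2001097) (.leaf 0x73005097)) (.node (.leaf 0x3067001f72) (.leaf 0x6ff3000001)))) (.node (.node (.node (.leaf 0x1000897) (.leaf 0x42e8004897)) (.node (.leaf 0x10027eb) (.leaf 0x1006636))) (.node (.node (.leaf 0x67001897) (.leaf 0x43b4004425)) (.node (.leaf 0x27cd002eb9) (.leaf 0x0))))) (.node (.node (.node (.node (.leaf 0x2000497) (.leaf 0x43bb00441a)) (.node (.leaf 0x200237f) (.leaf 0x628f000003))) (.node (.node (.leaf 0x1497000003) (.leaf 0x42ec005497)) (.node (.leaf 0x3497001f72) (.leaf 0x0)))) (.node (.node (.node (.leaf 0xc97000001) (.leaf 0x43c20043cf)) (.node (.leaf 0x2b4c001f72) (.leaf 0x6a81000003))) (.node (.node (.leaf 0x1c97000001) (.leaf 0x5bf5000001)) (.node (.leaf 0x2a82001fc3) (.leaf 0x0)))))) (.node (.node (.node (.node (.node (.leaf 0x297000001) (.leaf 0x429300428b)) (.node (.leaf 0x21cc000003) (.leaf 0x60a7000003)))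 (.node (.node (.leaf 0x1297000003) (.leaf 0x42f8005297)) (.node (.leaf 0x2ffa001f7b) (.leaf 0x0)))) (.node (.node (.node (.leaf 0x2000a97) (.leaf 0x4385004a97)) (.node (.leaf 0x1f7b002a8d) (.leaf 0x6841000003))) (.node (.node (.leaf 0x1001a97) (.leaf 0x5a970042b4)) (.node (.leaf 0x2a3900249c) (.leaf 0x0))))) (.node (.node (.node (.node (.leaf 0x2000697) (.leaf 0x43be004431)) (.node (.leaf 0x1002591) (.leaf 0x5bc2000001))) (.node (.node (.leaf 0x1001697) (.leaf 0x569700432f)) (.node (.leaf 0x1f71003617) (.leaf 0x0)))) (.node (.node (.node (.leaf 0xe97000003) (.leaf 0x43be004384)) (.node (.leaf 0x1f71002e97) (.leaf 0x6d13000003))) (.node (.node (.leaf 0x3001e97) (.leaf 0x1005d7c)) (.node (.leaf 0x2f090020e4) (.leaf 0x0))))))) (.node (.node (.node (.node (.node (.node (.leaf 0x197000003) (.leaf 0x30fb002614)) (.node (.leaf 0x2002103) (.leaf 0x5fd7000003))) (.node (.node (.leaf 0x1197000003) (.leaf 0x4397005197)) (.node (.leaf 0x1f71002f1e) (.leaf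 0x0)))) (.node (.node (.node (.leaf 0x997000001) (.leaf 0x43ff0048bc)) (.node (.leaf 0x2002969) (.leaf 0x6739000003))) (.node (.node (.leaf 0x2001997) (.leaf 0x59970042e7)) (.node (.leaf 0x2627002a2c) (.leaf 0x0))))) (.node (.node (.node (.node (.leaf 0x1000597) (.leaf 0x4597004406)) (.node (.leaf 0x200247d) (.leaf 0x6375000003))) (.node (.node (.leaf 0x1597000003) (.leaf 0x559700434d)) (.node (.leaf 0x1f710031eb) (.leaf 0x0)))) (.node (.node (.node (.leaf 0xd97000003) (.leaf 0x4348004d97)) (.node (.leaf 0x2d9700236e) (.leaf 0x6bb9000003))) (.node (.node (.leaf 0x2001d97) (.leaf 0x5cc3000003)) (.node (.leaf 0x2c5900262e) (.leaf 0x0)))))) (.node (.node (.node (.node (.node (.leaf 0x1000397) (.leaf 0x4366000002)) (.node (.leaf 0x20022b1) (.leaf 0x618d000001))) (.node (.node (.leaf 0x1397000003) (.leaf 0x42ac005397)) (.node (.leaf 0x1f7b002b0e) (.leaf 0x0)))) (.node (.node (.node (.leaf 0x1000b97) (.leaf 0x4b970042e9)) (.node (.leaf 0x1f71002b97)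 (.leaf 0x6957000003))) (.node (.node (.leaf 0x3001b97) (.leaf 0x5b47000003)) (.node (.leaf 0x2fde000070) (.leaf 0x0))))) (.node (.node (.node (.node (.leaf 0x2000797) (.leaf 0x43720043f0)) (.node (.leaf 0x20026cd) (.leaf 0x1006546))) (.node (.node (.leaf 0x3001797) (.leaf 0x438500441e)) (.node (.leaf 0x3095000054) (.leaf 0x0)))) (.node (.node (.node (.leaf 0xf97000001) (.leaf 0x4f97004317)) (.node (.leaf 0x1f71002f97) (.leaf 0x6e81000003))) (.node (.node (.leaf 0x1001f8f) (.leaf 0x5e48000001)) (.node (.leaf 0x2b0f002154) (.leaf 0x0)))))))))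

/-- part -/
def slpT_77 : Tr Nat := (.node (.node (.node (.node (.node (.node (.node (.node (.leaf 0x2000057) (.leaf 0x35d800266c)) (.node (.leaf 0x2002007) (.leaf 0x5ed2000003))) (.node (.node (.leaf 0x2001057) (.leaf 0x4426004c72)) (.node (.leaf 0x2af5002692) (.leaf 0x6f99000001)))) (.node (.node (.node (.leaf 0x1000857) (.leaf 0x4857004386)) (.node (.leaf 0x20027a5) (.leaf 0x20065f4))) (.node (.node (.leaf 0x2001857) (.leaf 0x58570042f1)) (.node (.leaf 0x252b003675) (.leaf 0x0))))) (.node (.node (.node (.node (.leaf 0x2000457) (.leaf 0x44570043d3)) (.node (.leaf 0x2002148) (.leaf 0x6251000003))) (.node (.node (.leaf 0x1457000003) (.leaf 0x43ec00453e)) (.node (.leaf 0x2d88001f7b) (.leaf 0x0)))) (.node (.node (.node (.leaf 0xc57000001) (.leaf 0x43d0004c58)) (.node (.leaf 0x2c57001f72) (.leaf 0x6a29000001))) (.node (.node (.leaf 0x1c57000003) (.leaf 0x5bcb000003)) (.node (.leaf 0x2f7600019a) (.leaf 0x0)))))) (.node (.node (.node (.node (.node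 (.leaf 0x257000003) (.leaf 0x383f00263a)) (.node (.leaf 0x2002189) (.leaf 0x6079000001))) (.node (.node (.leaf 0x1257000001) (.leaf 0x5257000074)) (.node (.leaf 0x1f7b002c6e) (.leaf 0x0)))) (.node (.node (.node (.leaf 0x2000a57) (.leaf 0x4397004a57)) (.node (.leaf 0x1f71002a57) (.leaf 0x6802000001))) (.node (.node (.leaf 0x2001a57) (.leaf 0x5a57000023)) (.node (.leaf 0x32a1001f72) (.leaf 0x0))))) (.node (.node (.node (.node (.leaf 0x2000022) (.leaf 0x45a50043bf)) (.node (.leaf 0x1002555) (.leaf 0x6102000001))) (.node (.node (.leaf 0x1657000003) (.leaf 0x4312005657)) (.node (.leaf 0x4d002e34) (.leaf 0x0)))) (.node (.node (.node (.leaf 0xe57000001) (.leaf 0x4e57004406)) (.node (.leaf 0x1f71002acb) (.leaf 0x6cc1000003))) (.node (.node (.leaf 0x1e57000003) (.leaf 0x5d43000003)) (.node (.leaf 0x3771001d52) (.leaf 0x0))))))) (.node (.node (.node (.node (.node (.node (.leaf 0x157000003) (.leaf 0x31c80023b2)) (.node (.leaf 0x10020db) (.leaf 0x5fa1000003)))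 (.node (.node (.leaf 0x1157000003) (.leaf 0x432e005157)) (.node (.leaf 0x1f71002ffb) (.leaf 0x0)))) (.node (.node (.node (.leaf 0x2000957) (.leaf 0x428c004957)) (.node (.leaf 0x2002907) (.leaf 0x66f7000001))) (.node (.node (.leaf 0x2001957) (.leaf 0x4756004373)) (.node (.leaf 0x2257003957) (.leaf 0x0))))) (.node (.node (.node (.node (.leaf 0x1000557) (.leaf 0x442400453d)) (.node (.leaf 0x1002439) (.leaf 0x633b000003))) (.node (.node (.leaf 0x1557000003) (.leaf 0x436a0043b5)) (.node (.leaf 0x299f002d32) (.leaf 0x0)))) (.node (.node (.node (.leaf 0xd57000003) (.leaf 0x4d57004301)) (.node (.leaf 0x1f71002d57) (.leaf 0x651c000001))) (.node (.node (.leaf 0x1d57000001) (.leaf 0x5c95000003)) (.node (.leaf 0x31a0000f77) (.leaf 0x0)))))) (.node (.node (.node (.node (.node (.leaf 0x3000357) (.leaf 0x74004325)) (.node (.leaf 0x2002280) (.leaf 0x6151000003))) (.node (.node (.leaf 0x1357000003) (.leaf 0x42fa005357)) (.node (.leaf 0x1f71002ec3) (.leaf 0x0))))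 (.node (.node (.node (.leaf 0x3000b57) (.leaf 0x4b57004353)) (.node (.leaf 0x1f7b002b57) (.leaf 0x690d000003))) (.node (.node (.leaf 0x2001b57) (.leaf 0x2002018)) (.node (.leaf 0x34c8002824) (.leaf 0x0))))) (.node (.node (.node (.node (.leaf 0x2000757) (.leaf 0x4389004757)) (.node (.leaf 0x1002675) (.leaf 0x64fb000003))) (.node (.node (.leaf 0x1001757) (.leaf 0x43a9005757)) (.node (.leaf 0x31f6001f7b) (.leaf 0x0)))) (.node (.node (.node (.leaf 0xf57000003) (.leaf 0x42c0004f57)) (.node (.leaf 0x1f71002f57) (.leaf 0x6e2f000003))) (.node (.node (.leaf 0x1f57000003) (.leaf 0x5e17000001)) (.node (.leaf 0x379d000fd9) (.leaf 0x0)))))))) (.node (.node (.node (.node (.node (.node (.node (.leaf 0x20000d7) (.leaf 0x319c000187)) (.node (.leaf 0x2002063) (.leaf 0x5f43000001))) (.node (.node (.leaf 0x20010d7) (.leaf 0x442a00484d)) (.node (.leaf 0x1f7b002e7b) (.leaf 0x7059000003)))) (.node (.node (.node (.leaf 0x20008d7) (.leaf 0x43520048d7)) (.node (.leaf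 0x1002839) (.leaf 0x1006676))) (.node (.node (.leaf 0x30018d7) (.leaf 0x10e80058d7)) (.node (.leaf 0x1f7b002fa7) (.leaf 0x0))))) (.node (.node (.node (.node (.leaf 0x20004d7) (.leaf 0x44d700428b)) (.node (.leaf 0x20023c3) (.leaf 0x62c1000003))) (.node (.node (.leaf 0x14d7000001) (.leaf 0x432700453e)) (.node (.leaf 0xa13002ea7) (.leaf 0x0)))) (.node (.node (.node (.leaf 0xcd7000003) (.leaf 0x4378004431)) (.node (.leaf 0x2b0b002972) (.leaf 0x6ac3000001))) (.node (.node (.leaf 0x1cd7000003) (.leaf 0x1b3a000001)) (.node (.leaf 0x30a600244c) (.leaf 0x0)))))) (.node (.node (.node (.node (.node (.leaf 0x2d7000001) (.leaf 0x42d7000004)) (.node (.leaf 0x1002203) (.leaf 0x60e1000001))) (.node (.node (.leaf 0x12d7000001) (.leaf 0x43f2004325)) (.node (.leaf 0x32d70027fe) (.leaf 0x0)))) (.node (.node (.node (.leaf 0x1000ad7) (.leaf 0x428d004ad7)) (.node (.leaf 0x2ad7001f72) (.leaf 0x6886000001))) (.node (.node (.leaf 0x3001ad7) (.leaf 0x1000158)) (.node (.leaf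 0x31ce00266a) (.leaf 0x0))))) (.node (.node (.node (.node (.leaf 0x10006d7) (.leaf 0x46d7004431)) (.node (.leaf 0x20025d7) (.leaf 0x6487000001))) (.node (.node (.leaf 0x20016d7) (.leaf 0x56d700428f)) (.node (.leaf 0x5e7002f12) (.leaf 0x0)))) (.node (.node (.node (.leaf 0xed7000001) (.leaf 0x4316004ed7)) (.node (.leaf 0x2ed7001f7b) (.leaf 0x6d87000003))) (.node (.node (.leaf 0x1001ed7) (.leaf 0x5db3000003)) (.node (.leaf 0x2f1f0025e4) (.leaf 0x0))))))) (.node (.node (.node (.node (.node (.node (.leaf 0x20001d7) (.leaf 0x2a4c0019d9)) (.node (.leaf 0x2002127) (.leaf 0x600b000003))) (.node (.node (.leaf 0x11d7000001) (.leaf 0x51d7004433)) (.node (.leaf 0x1f710031d7) (.leaf 0x0)))) (.node (.node (.node (.leaf 0x9d7000003) (.leaf 0x49d70042cd)) (.node (.leaf 0x1f710029d7) (.leaf 0x677d000001))) (.node (.node (.leaf 0x10019d7) (.leaf 0x59d70042b0)) (.node (.leaf 0x2711002dce) (.leaf 0x0))))) (.node (.node (.node (.node (.leaf 0x30005d7) (.leaf 0x45d70042f9))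 (.node (.leaf 0x20024bf) (.leaf 0x28db000003))) (.node (.node (.leaf 0x15d7000003) (.leaf 0x55d700439c)) (.node (.leaf 0x29670035d7) (.leaf 0x0)))) (.node (.node (.node (.leaf 0xdd7000003) (.leaf 0x43f2004326)) (.node (.leaf 0x2ca9001f7b) (.leaf 0x6c0f000001))) (.node (.node (.leaf 0x3001dd7) (.leaf 0x5ce7000003)) (.node (.leaf 0x30970021b9) (.leaf 0x0)))))) (.node (.node (.node (.node (.node (.leaf 0x3d7000003) (.leaf 0x43490043b4)) (.node (.leaf 0x10022e7) (.leaf 0x61d1000001))) (.node (.node (.leaf 0x13d7000001) (.leaf 0x44240043bb)) (.node (.leaf 0x2ad2002636) (.leaf 0x0)))) (.node (.node (.node (.leaf 0xbd7000001) (.leaf 0x4bd700439c)) (.node (.leaf 0x2a62001f7b) (.leaf 0x699d000003))) (.node (.node (.leaf 0x1001bd7) (.leaf 0x2693000003)) (.node (.leaf 0x2a4a0027aa) (.leaf 0x0))))) (.node (.node (.node (.node (.leaf 0x30007d7) (.leaf 0x439d0047d7)) (.node (.leaf 0x1002713) (.leaf 0x1006578))) (.node (.node (.leaf 0x10017d7) (.leaf 0x439d0057d7))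 (.node (.leaf 0x1f7100368d) (.leaf 0x0)))) (.node (.node (.node (.leaf 0x1000fd7) (.leaf 0x4fd70043ac)) (.node (.leaf 0x1f71002fd7) (.leaf 0x6eeb000003))) (.node (.node (.leaf 0x2001fb1) (.leaf 0xf5d000001)) (.node (.leaf 0x31d8000f6f) (.leaf 0x0)))))))))

/-- part -/
def slpT_78 : Tr Nat := (.node (.node (.node (.node (.node (.node (.node (.node (.leaf 0x37000003) (.leaf 0x2d8900266c)) (.node (.leaf 0x2001fe7) (.leaf 0x167c000003))) (.node (.node (.leaf 0x1001037) (.leaf 0x441800432f)) (.node (.leaf 0x1f71003037) (.leaf 0x6f65000001)))) (.node (.node (.node (.leaf 0x2000837) (.leaf 0x483700443b)) (.node (.leaf 0x200277c) (.leaf 0x65d7000003))) (.node (.node (.leaf 0x3001837) (.leaf 0x5837004301)) (.node (.leaf 0x1fee002adc) (.leaf 0x0))))) (.node (.node (.node (.node (.leaf 0x1000437) (.leaf 0x42f900441b)) (.node (.leaf 0x200233d) (.leaf 0x622f000003))) (.node (.node (.leaf 0x1437000003) (.leaf 0x4405005437)) (.node (.leaf 0x304e002020) (.leaf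 0x0)))) (.node (.node (.node (.leaf 0xc37000003) (.leaf 0x4c3700432f)) (.node (.leaf 0x2c13001f7b) (.leaf 0x6a0d000001))) (.node (.node (.leaf 0x1c37000003) (.leaf 0x1eed000003)) (.node (.leaf 0x317a0025a2) (.leaf 0x0)))))) (.node (.node (.node (.node (.node (.leaf 0x237000003) (.leaf 0x2a19001f84)) (.node (.leaf 0x200216d) (.leaf 0x6061000001))) (.node (.node (.leaf 0x1237000003) (.leaf 0x42f0005237)) (.node (.leaf 0x1f71002e55) (.leaf 0x0)))) (.node (.node (.node (.leaf 0x1000747) (.leaf 0x43c0004366)) (.node (.leaf 0x2a37001f72) (.leaf 0x67dc000003))) (.node (.node (.leaf 0x1001a37) (.leaf 0x5a3700443b)) (.node (.leaf 0x133b002c6a) (.leaf 0x0))))) (.node (.node (.node (.node (.leaf 0x2000637) (.leaf 0x4637004384)) (.node (.leaf 0x1002523) (.leaf 0x63ff000001))) (.node (.node (.leaf 0x1637000001) (.leaf 0x56370043ac)) (.node (.leaf 0x1f71003637) (.leaf 0x0)))) (.node (.node (.node (.leaf 0xe37000001) (.leaf 0x474400442d)) (.node (.leaf 0x24f1002e37)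 (.leaf 0x6c9b000001))) (.node (.node (.leaf 0x1e37000001) (.leaf 0x1005d2c)) (.node (.leaf 0x2b13002220) (.leaf 0x0))))))) (.node (.node (.node (.node (.node (.node (.leaf 0x2000137) (.leaf 0x2f5e0023b0)) (.node (.leaf 0x2000a0d) (.leaf 0x5f87000003))) (.node (.node (.leaf 0x1137000003) (.leaf 0x42ac004878)) (.node (.leaf 0x3137001f72) (.leaf 0x0)))) (.node (.node (.node (.leaf 0x1000937) (.leaf 0x43a1004937)) (.node (.leaf 0x20028cf) (.leaf 0x66d5000003))) (.node (.node (.leaf 0x200180f) (.leaf 0x451a004373)) (.node (.leaf 0x27ef002fa9) (.leaf 0x0))))) (.node (.node (.node (.node (.leaf 0x2000537) (.leaf 0x42c0004537)) (.node (.leaf 0x100241d) (.leaf 0x631f000001))) (.node (.node (.leaf 0x1537000003) (.leaf 0x42ee005537)) (.node (.leaf 0x2200003537) (.leaf 0x0)))) (.node (.node (.node (.leaf 0xd37000003) (.leaf 0x3004d37)) (.node (.leaf 0x2d37001f7b) (.leaf 0x6b37000003))) (.node (.node (.leaf 0x1d37000003) (.leaf 0x5c7f000001)) (.node (.leaf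 0x356c0028cc) (.leaf 0x0)))))) (.node (.node (.node (.node (.node (.leaf 0x2000337) (.leaf 0x432f004325)) (.node (.leaf 0x100225d) (.leaf 0x6133000003))) (.node (.node (.leaf 0xfc000003) (.leaf 0x43a7005337)) (.node (.leaf 0x2f0a00237e) (.leaf 0x0)))) (.node (.node (.node (.leaf 0x1000b37) (.leaf 0x43f5004327)) (.node (.leaf 0x2b37001f72) (.leaf 0x68e3000003))) (.node (.node (.leaf 0x2001b37) (.leaf 0x2385000003)) (.node (.leaf 0x305000097e) (.leaf 0x0))))) (.node (.node (.node (.node (.leaf 0x1000737) (.leaf 0x4737004439)) (.node (.leaf 0x2002651) (.leaf 0x64e3000003))) (.node (.node (.leaf 0x2001737) (.leaf 0x42fc005737)) (.node (.leaf 0x29d400213a) (.leaf 0x0)))) (.node (.node (.node (.leaf 0xf37000003) (.leaf 0x43260043f3)) (.node (.leaf 0x2f37001f72) (.leaf 0x6e0d000001))) (.node (.node (.leaf 0x2001f37) (.leaf 0x5dff000003)) (.node (.leaf 0x32cf0027e2) (.leaf 0x0)))))))) (.node (.node (.node (.node (.node (.node (.node (.leaf 0x20000b7)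 (.leaf 0x2c7f001652)) (.node (.leaf 0x1000a3f) (.leaf 0x5f2b000001))) (.node (.node (.leaf 0x20010b7) (.leaf 0x42e80050b7)) (.node (.leaf 0x30b7001f72) (.leaf 0x7023000001)))) (.node (.node (.node (.leaf 0x20008b7) (.leaf 0x43a70048b7)) (.node (.leaf 0x2002811) (.leaf 0x1006654))) (.node (.node (.leaf 0x10018b7) (.leaf 0x42f80058b7)) (.node (.leaf 0x1f710038b7) (.leaf 0x0))))) (.node (.node (.node (.node (.leaf 0x20004b7) (.leaf 0x44b700429d)) (.node (.leaf 0x20023a5) (.leaf 0x62a7000003))) (.node (.node (.leaf 0x14b7000001) (.leaf 0x428c0054b7)) (.node (.leaf 0x308d002916) (.leaf 0x0)))) (.node (.node (.node (.leaf 0xcb7000001) (.leaf 0x4cb700428d)) (.node (.leaf 0x2cb7001f7b) (.leaf 0x6a9f000003))) (.node (.node (.leaf 0x1cb7000003) (.leaf 0x1613000003)) (.node (.leaf 0x30a700244c) (.leaf 0x0)))))) (.node (.node (.node (.node (.node (.leaf 0x2b7000003) (.leaf 0x42b20042ad)) (.node (.leaf 0x20021e5) (.leaf 0x60c7000001))) (.node (.node (.leaf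 0x45000003) (.leaf 0x52b7004398)) (.node (.leaf 0x2db3000968) (.leaf 0x0)))) (.node (.node (.node (.leaf 0x1000ab7) (.leaf 0x4407004ab7)) (.node (.leaf 0x1f7b0029d9) (.leaf 0x6862000003))) (.node (.node (.leaf 0x3001ab7) (.leaf 0x5ab7000001)) (.node (.leaf 0x321a0023f0) (.leaf 0x0))))) (.node (.node (.node (.node (.leaf 0x10006b7) (.leaf 0x46b7004439)) (.node (.leaf 0x10025b7) (.leaf 0x6471000001))) (.node (.node (.leaf 0x20016b7) (.leaf 0x56b70043d3)) (.node (.leaf 0x24b100338f) (.leaf 0x0)))) (.node (.node (.node (.leaf 0xeb7000001) (.leaf 0x43f7004366)) (.node (.leaf 0x1f71002eb7) (.leaf 0x6d41000003))) (.node (.node (.leaf 0x1001eb7) (.leaf 0x2005d9a)) (.node (.leaf 0x38ae00227d) (.leaf 0x0))))))) (.node (.node (.node (.node (.node (.node (.leaf 0x1b7000001) (.leaf 0x362e000a0a)) (.node (.leaf 0x1000f43) (.leaf 0x5ff3000001))) (.node (.node (.leaf 0x11b7000001) (.leaf 0x51b700429d)) (.node (.leaf 0x1f710031b7) (.leaf 0x0)))) (.node (.node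 (.node (.leaf 0x9b7000003) (.leaf 0x49b7004398)) (.node (.leaf 0x1f710029b7) (.leaf 0x675f000001))) (.node (.node (.leaf 0x20019b7) (.leaf 0x59b7000021)) (.node (.leaf 0x1f7b003341) (.leaf 0x0))))) (.node (.node (.node (.node (.leaf 0x20005b7) (.leaf 0x43c7004384)) (.node (.leaf 0x20020cc) (.leaf 0x6391000003))) (.node (.node (.leaf 0x15b7000001) (.leaf 0x55b70043aa)) (.node (.leaf 0x250035b7) (.leaf 0x0)))) (.node (.node (.node (.leaf 0xdb7000003) (.leaf 0x4db7004439)) (.node (.leaf 0x29d8001f7b) (.leaf 0x6bdb000001))) (.node (.node (.leaf 0x1001db7) (.leaf 0x5cdb000001)) (.node (.leaf 0x2bbd002644) (.leaf 0x0)))))) (.node (.node (.node (.node (.node (.leaf 0x10003b7) (.leaf 0x43b3004367)) (.node (.leaf 0x1000a6b) (.leaf 0x61ad000003))) (.node (.node (.leaf 0x13b7000001) (.leaf 0x4460004423)) (.node (.leaf 0x221d0033b7) (.leaf 0x0)))) (.node (.node (.node (.leaf 0x2000bb7) (.leaf 0x4bb70042cd)) (.node (.leaf 0x2b60001f72) (.leaf 0x697d000003)))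 (.node (.node (.leaf 0x3001bb7) (.leaf 0x5b5d000003)) (.node (.leaf 0x39ec0022e4) (.leaf 0x0))))) (.node (.node (.node (.node (.leaf 0x20007b7) (.leaf 0x42e60047b7)) (.node (.leaf 0x20026f1) (.leaf 0x200655a))) (.node (.node (.leaf 0x20017b7) (.leaf 0x44230043b3)) (.node (.leaf 0x37b7002408) (.leaf 0x0)))) (.node (.node (.node (.leaf 0xfb7000002) (.leaf 0x4fb70043a2)) (.node (.leaf 0x1f7b002fb7) (.leaf 0x6ebf000003))) (.node (.node (.leaf 0x1001fa1) (.leaf 0x5e5f000003)) (.node (.leaf 0x3ad3002154) (.leaf 0x0)))))))))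

/-- part -/
def slpT_79 : Tr Nat := (.node (.node (.node (.node (.node (.node (.node (.node (.leaf 0x2000077) (.leaf 0x2ab200266c)) (.node (.leaf 0x2001fb0) (.leaf 0x5eed000003))) (.node (.node (.leaf 0x1001077) (.leaf 0x43d2005077)) (.node (.leaf 0x3077001f7b) (.leaf 0x6fc5000003)))) (.node (.node (.node (.leaf 0x2000877) (.leaf 0x43d0004877)) (.node (.leaf 0x10027c7) (.leaf 0x1006614))) (.node (.node (.leaf 0x2001877) (.leaf 0x5877004303)) (.node (.leaf 0x23c3003395) (.leaf 0x0))))) (.node (.node (.node (.node (.leaf 0x1000477) (.leaf 0x4274004477)) (.node (.leaf 0x2002369) (.leaf 0x6273000003))) (.node (.node (.leaf 0x1477000003) (.leaf 0x43e2005477)) (.node (.leaf 0x3477000fd6) (.leaf 0x0)))) (.node (.node (.node (.leaf 0xc77000001) (.leaf 0x43fd004ab1)) (.node (.leaf 0x2ab8001f7b) (.leaf 0x6a4d000001))) (.node (.node (.leaf 0x1c77000003) (.leaf 0x5bdd000003)) (.node (.leaf 0x33cb0022fc) (.leaf 0x0)))))) (.node (.node (.node (.node (.node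 (.leaf 0x277000001) (.leaf 0x4275000003)) (.node (.leaf 0x20021ad) (.leaf 0x608b000001))) (.node (.node (.leaf 0x1277000001) (.leaf 0x52770042b0)) (.node (.leaf 0x26f3002fa5) (.leaf 0x0)))) (.node (.node (.node (.leaf 0x2000a77) (.leaf 0x4432004a77)) (.node (.leaf 0x1f71002a77) (.leaf 0x6821000003))) (.node (.node (.leaf 0x1001a77) (.leaf 0x5a770042b2)) (.node (.leaf 0x32ff0020b5) (.leaf 0x0))))) (.node (.node (.node (.node (.leaf 0x2000677) (.leaf 0x4677000001)) (.node (.leaf 0x1002571) (.leaf 0x6435000003))) (.node (.node (.leaf 0x1677000003) (.leaf 0x5677004439)) (.node (.leaf 0x4d002a9d) (.leaf 0x0)))) (.node (.node (.node (.leaf 0xe77000001) (.leaf 0x43b4004325)) (.node (.leaf 0x1f71002e3d) (.leaf 0x6cf1000001))) (.node (.node (.leaf 0x1001e77) (.leaf 0x1dd000003)) (.node (.leaf 0x2d760027ba) (.leaf 0x0))))))) (.node (.node (.node (.node (.node (.node (.leaf 0x177000001) (.leaf 0x2b2d00285c)) (.node (.leaf 0x20000fa) (.leaf 0x5abb000001)))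 (.node (.node (.leaf 0x1177000003) (.leaf 0x442400462c)) (.node (.leaf 0x1f7b003177) (.leaf 0x0)))) (.node (.node (.node (.leaf 0x1000977) (.leaf 0x20004977)) (.node (.leaf 0x2002935) (.leaf 0x6715000003))) (.node (.node (.leaf 0x1001977) (.leaf 0x59770043db)) (.node (.leaf 0x22c9002ef4) (.leaf 0x0))))) (.node (.node (.node (.node (.leaf 0x1000577) (.leaf 0x4577004400)) (.node (.leaf 0x200245d) (.leaf 0x6359000003))) (.node (.node (.leaf 0x1577000003) (.leaf 0x5577004439)) (.node (.leaf 0x299f002b2c) (.leaf 0x0)))) (.node (.node (.node (.leaf 0x876000003) (.leaf 0x48e00043d3)) (.node (.leaf 0x21eb002d77) (.leaf 0x6b8f000001))) (.node (.node (.leaf 0x2001d77) (.leaf 0x5caf000001)) (.node (.leaf 0x2faa00216e) (.leaf 0x0)))))) (.node (.node (.node (.node (.node (.leaf 0x3000377) (.leaf 0x4324004370)) (.node (.leaf 0x1002298) (.leaf 0x616f000001))) (.node (.node (.leaf 0x1377000003) (.leaf 0x439b005377)) (.node (.leaf 0x1f71003377) (.leaf 0x0))))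 (.node (.node (.node (.leaf 0x3000b77) (.leaf 0x4b7700428c)) (.node (.leaf 0x1f71002b77) (.leaf 0x5235000001))) (.node (.node (.leaf 0x2001b77) (.leaf 0x5b30000003)) (.node (.leaf 0x329b000048) (.leaf 0x0))))) (.node (.node (.node (.node (.leaf 0x2000777) (.leaf 0x4777004398)) (.node (.leaf 0x26a0000001) (.leaf 0x651d000001))) (.node (.node (.leaf 0x1001777) (.leaf 0x43ab005777)) (.node (.leaf 0x3321001f7b) (.leaf 0x0)))) (.node (.node (.node (.leaf 0xf77000003) (.leaf 0x43bc0042ac)) (.node (.leaf 0x2603002a3b) (.leaf 0x6e4f000003))) (.node (.node (.leaf 0x3001f77) (.leaf 0x5e2a000003)) (.node (.leaf 0x3272000fd9) (.leaf 0x0)))))))) (.node (.node (.node (.node (.node (.node (.node (.leaf 0x10000f7) (.leaf 0x3260000187)) (.node (.leaf 0x2000f71) (.leaf 0x5f5b000003))) (.node (.node (.leaf 0x10010f7) (.leaf 0x50f700003e)) (.node (.leaf 0x1f7b0030f7) (.leaf 0x70a7000001)))) (.node (.node (.node (.leaf 0x20008f7) (.leaf 0x43160048f7)) (.node (.leaf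 0x2002863) (.leaf 0x669d000001))) (.node (.node (.leaf 0x10018f7) (.leaf 0x43260043ba)) (.node (.leaf 0x21c7002a3d) (.leaf 0x0))))) (.node (.node (.node (.node (.leaf 0x10004f7) (.leaf 0x44f70043a2)) (.node (.leaf 0x20023df) (.leaf 0x62e3000001))) (.node (.node (.leaf 0x14f7000003) (.leaf 0x54f70043e1)) (.node (.leaf 0x1f710034f7) (.leaf 0x0)))) (.node (.node (.node (.leaf 0xcf7000003) (.leaf 0x4cf70042ad)) (.node (.leaf 0x2c7700018a) (.leaf 0x6aed000003))) (.node (.node (.leaf 0x1cf7000001) (.leaf 0x5c45000001)) (.node (.leaf 0x2c6000233c) (.leaf 0x0)))))) (.node (.node (.node (.node (.node (.leaf 0x2f7000001) (.leaf 0x30042e5)) (.node (.leaf 0x1002222) (.leaf 0x60f9000001))) (.node (.node (.leaf 0x12f7000003) (.leaf 0x52f700439e)) (.node (.leaf 0x2bed001f7b) (.leaf 0x0)))) (.node (.node (.node (.leaf 0x2000af7) (.leaf 0x1004af7)) (.node (.leaf 0x2af7001f72) (.leaf 0x68a4000003))) (.node (.node (.leaf 0x1001af7) (.leaf 0x1005ae3)) (.node (.leaf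 0x3262001fb6) (.leaf 0x0))))) (.node (.node (.node (.node (.leaf 0x10006f7) (.leaf 0x46f70042ef)) (.node (.leaf 0x2002603) (.leaf 0x64a3000001))) (.node (.node (.leaf 0x10016f7) (.leaf 0x56f70042ed)) (.node (.leaf 0x258b0036f7) (.leaf 0x0)))) (.node (.node (.node (.leaf 0xef7000001) (.leaf 0x43da004ef7)) (.node (.leaf 0x2ef7001f72) (.leaf 0x6dbd000001))) (.node (.node (.leaf 0x2001ef7) (.leaf 0x5dc9000003)) (.node (.leaf 0x2e560027e2) (.leaf 0x0))))))) (.node (.node (.node (.node (.node (.node (.leaf 0x10001f7) (.leaf 0x29ed002156)) (.node (.leaf 0x200213b) (.leaf 0x6025000003))) (.node (.node (.leaf 0x11f7000001) (.leaf 0x43d80051f7)) (.node (.leaf 0x1f7b0031f7) (.leaf 0x0)))) (.node (.node (.node (.leaf 0x9f7000001) (.leaf 0x439b0049f7)) (.node (.leaf 0x29f7001f72) (.leaf 0x67a2000001))) (.node (.node (.leaf 0x10019f7) (.leaf 0x59f7004349)) (.node (.leaf 0x218b00333d) (.leaf 0x0))))) (.node (.node (.node (.node (.leaf 0x10005f7) (.leaf 0x436c0044fc))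 (.node (.leaf 0x10024e1) (.leaf 0x63c5000003))) (.node (.node (.leaf 0x15f7000003) (.leaf 0x436f0042ae)) (.node (.leaf 0x1f7b003112) (.leaf 0x0)))) (.node (.node (.node (.leaf 0xdf7000002) (.leaf 0x4df70043db)) (.node (.leaf 0x2df7001f72) (.leaf 0x6c47000003))) (.node (.node (.leaf 0x1001df7) (.leaf 0x5d01000001)) (.node (.leaf 0x2fe80021b9) (.leaf 0x0)))))) (.node (.node (.node (.node (.node (.leaf 0x3f7000001) (.leaf 0x43ee004368)) (.node (.leaf 0x2002301) (.leaf 0x61ef000003))) (.node (.node (.leaf 0x13f7000001) (.leaf 0x20053f7)) (.node (.leaf 0x30c9001f72) (.leaf 0x0)))) (.node (.node (.node (.leaf 0xbf7000001) (.leaf 0x4bf700429b)) (.node (.leaf 0x2bf7001f72) (.leaf 0x69c5000003))) (.node (.node (.leaf 0x1001bf7) (.leaf 0x5b95000003)) (.node (.leaf 0x34d600282a) (.leaf 0x0))))) (.node (.node (.node (.node (.leaf 0x10007f7) (.leaf 0x3d0047f7)) (.node (.leaf 0x2002740) (.leaf 0x1006596))) (.node (.node (.leaf 0x10017f7) (.leaf 0x57f700439c))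 (.node (.leaf 0x27190031eb) (.leaf 0x0)))) (.node (.node (.node (.leaf 0x10008f7) (.leaf 0x3004ff7)) (.node (.leaf 0x1f71002e08) (.leaf 0x6f11000001))) (.node (.node (.leaf 0x1fce000003) (.leaf 0x5e8a000003)) (.node (.leaf 0x2a270024a6) (.leaf 0x0)))))))))

/-- part -/
def slpT_80 : Tr Nat := (.node (.node (.node (.node (.node (.node (.node (.node (.leaf 0x3000001) (.leaf 0x376d0024a6)) (.node (.leaf 0x2001fd7) (.leaf 0x5e96000001))) (.node (.node (.leaf 0x1001003) (.leaf 0x5003000074)) (.node (.leaf 0x1f7b003003) (.leaf 0x6f21000003)))) (.node (.node (.node (.leaf 0x2000803) (.leaf 0x43ff0047fc)) (.node (.leaf 0x100274a) (.leaf 0x20065a2))) (.node (.node (.leaf 0x1001803) (.leaf 0x5803000004)) (.node (.leaf 0x21a10030b6) (.leaf 0x0))))) (.node (.node (.node (.node (.leaf 0x403000001) (.leaf 0x43ee000001)) (.node (.leaf 0x100230d) (.leaf 0x3c7000003))) (.node (.node (.leaf 0x1403000001) (.leaf 0x43ce00437e)) (.node (.leaf 0x3117001f7b) (.leaf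 0x0)))) (.node (.node (.node (.leaf 0xc03000001) (.leaf 0x46a0004349)) (.node (.leaf 0x2af5001f72) (.leaf 0x69d3000003))) (.node (.node (.leaf 0x1001c03) (.leaf 0x5b9b000001)) (.node (.leaf 0x2dd3002016) (.leaf 0x0)))))) (.node (.node (.node (.node (.node (.leaf 0x1000203) (.leaf 0x2c2100295e)) (.node (.leaf 0x2002145) (.leaf 0x980000003))) (.node (.node (.leaf 0x1203000001) (.leaf 0x43e0005203)) (.node (.leaf 0x1f7b003203) (.leaf 0x0)))) (.node (.node (.node (.leaf 0xa03000003) (.leaf 0x43d6004a03)) (.node (.leaf 0x2a03001f7b) (.leaf 0x67ae000003))) (.node (.node (.leaf 0x2001a03) (.leaf 0x5a03000004)) (.node (.leaf 0x218b003050) (.leaf 0x0))))) (.node (.node (.node (.node (.leaf 0x1000603) (.leaf 0x43d2004603)) (.node (.leaf 0x10024ef) (.leaf 0x63cf000003))) (.node (.node (.leaf 0x1603000003) (.leaf 0x56030043aa)) (.node (.leaf 0x1f7b0030b6) (.leaf 0x0)))) (.node (.node (.node (.leaf 0xe03000003) (.leaf 0x4d1800438a)) (.node (.leaf 0x2b7c00247e)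 (.leaf 0x6c53000003))) (.node (.node (.leaf 0x1001e03) (.leaf 0x19ba000001)) (.node (.leaf 0x31b80021b9) (.leaf 0x0))))))) (.node (.node (.node (.node (.node (.node (.leaf 0x1000103) (.leaf 0x38ea00251c)) (.node (.leaf 0x1002091) (.leaf 0x5f65000003))) (.node (.node (.leaf 0x1001103) (.leaf 0x48f20042ad)) (.node (.leaf 0x3103001f72) (.leaf 0x70cd000001)))) (.node (.node (.node (.leaf 0x3000903) (.leaf 0x43d20048e9)) (.node (.leaf 0x2002875) (.leaf 0x49e9000003))) (.node (.node (.leaf 0x2001903) (.leaf 0x59030042ff)) (.node (.leaf 0x21c7002e0e) (.leaf 0x0))))) (.node (.node (.node (.node (.leaf 0x2000503) (.leaf 0x45030010e7)) (.node (.leaf 0x20023e9) (.leaf 0x62ef000001))) (.node (.node (.leaf 0x1503000001) (.leaf 0x4352005503)) (.node (.leaf 0x2200003503) (.leaf 0x0)))) (.node (.node (.node (.leaf 0xd03000001) (.leaf 0x4d030042b4)) (.node (.leaf 0x2a090028d2) (.leaf 0x6afd000001))) (.node (.node (.leaf 0x1d03000001) (.leaf 0x5c51000001)) (.node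 (.leaf 0x2d9300233c) (.leaf 0x0)))))) (.node (.node (.node (.node (.node (.leaf 0x303000003) (.leaf 0x42fb000003)) (.node (.leaf 0x200019c) (.leaf 0x6103000001))) (.node (.node (.leaf 0x1303000003) (.leaf 0x530300429b)) (.node (.leaf 0x3303002130) (.leaf 0x0)))) (.node (.node (.node (.leaf 0x2000b03) (.leaf 0x4428004371)) (.node (.leaf 0x2b03001f7b) (.leaf 0x68ae000003))) (.node (.node (.leaf 0x2001b03) (.leaf 0x1005ae7)) (.node (.leaf 0x36b600266e) (.leaf 0x0))))) (.node (.node (.node (.node (.leaf 0x1000703) (.leaf 0x47030042f9)) (.node (.leaf 0x200261d) (.leaf 0x64af000001))) (.node (.node (.leaf 0x1001703) (.leaf 0x43f5004326)) (.node (.leaf 0x258b002be8) (.leaf 0x0)))) (.node (.node (.node (.leaf 0xf03000003) (.leaf 0x42cc004f03)) (.node (.leaf 0x2b17001f7b) (.leaf 0x6dd1000003))) (.node (.node (.leaf 0x1001f03) (.leaf 0x1d38000001)) (.node (.leaf 0x370e0027e2) (.leaf 0x0)))))))) (.node (.node (.node (.node (.node (.node (.node (.leaf 0x2000083)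 (.leaf 0x2a0d00266c)) (.node (.leaf 0x200202b) (.leaf 0x5efb000003))) (.node (.node (.leaf 0x3001083) (.leaf 0x43a1005083)) (.node (.leaf 0x3083001f72) (.leaf 0x6fd7000003)))) (.node (.node (.node (.leaf 0x2000883) (.leaf 0x4352004883)) (.node (.leaf 0x10027d5) (.leaf 0x200661c))) (.node (.node (.leaf 0x1001883) (.leaf 0x48950043fe)) (.node (.leaf 0x1f710033bd) (.leaf 0x0))))) (.node (.node (.node (.node (.leaf 0x1000483) (.leaf 0x4483000003)) (.node (.leaf 0x1002373) (.leaf 0x1340000003))) (.node (.node (.leaf 0x1483000003) (.leaf 0x4430005483)) (.node (.leaf 0x31e2001f72) (.leaf 0x0)))) (.node (.node (.node (.leaf 0xc83000001) (.leaf 0x4c830042b4)) (.node (.leaf 0x2c83001f7b) (.leaf 0x6a67000001))) (.node (.node (.leaf 0x1c83000001) (.leaf 0x5be9000003)) (.node (.leaf 0x31500022e2) (.leaf 0x0)))))) (.node (.node (.node (.node (.node (.leaf 0x283000001) (.leaf 0x76000021)) (.node (.leaf 0x2003000003) (.leaf 0x6097000001))) (.node (.node (.leaf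 0x1283000001) (.leaf 0x42ad0049ac)) (.node (.leaf 0x1f71003283) (.leaf 0x0)))) (.node (.node (.node (.leaf 0x1000a83) (.leaf 0x43240044e8)) (.node (.leaf 0x1f71002a83) (.leaf 0x6829000003))) (.node (.node (.leaf 0x1001a83) (.leaf 0x5a8300429b)) (.node (.leaf 0x3614002105) (.leaf 0x0))))) (.node (.node (.node (.node (.leaf 0x2000683) (.leaf 0x44a500436d)) (.node (.leaf 0x200257f) (.leaf 0x6441000003))) (.node (.node (.leaf 0x1001683) (.leaf 0x441d0043c9)) (.node (.leaf 0x4d0031db) (.leaf 0x0)))) (.node (.node (.node (.leaf 0xe83000001) (.leaf 0x4e830042e9)) (.node (.leaf 0x1f71002e83) (.leaf 0x6cfd000003))) (.node (.node (.leaf 0x1001e83) (.leaf 0x5d69000001)) (.node (.leaf 0x367c0020e4) (.leaf 0x0))))))) (.node (.node (.node (.node (.node (.node (.leaf 0x183000001) (.leaf 0x2db900285c)) (.node (.leaf 0x20020f7) (.leaf 0x5fc7000001))) (.node (.node (.leaf 0x1183000002) (.leaf 0x442c005183)) (.node (.leaf 0x1fbf003183) (.leaf 0x0)))) (.node (.node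 (.node (.leaf 0x983000001) (.leaf 0x43bc0044fd)) (.node (.leaf 0x2002947) (.leaf 0x6725000003))) (.node (.node (.leaf 0x1001983) (.leaf 0x44fd00436b)) (.node (.leaf 0x22c9002fb3) (.leaf 0x0))))) (.node (.node (.node (.node (.leaf 0x1000583) (.leaf 0x45830042ff)) (.node (.leaf 0x1002469) (.leaf 0x6363000001))) (.node (.node (.leaf 0x1583000001) (.leaf 0x5583004406)) (.node (.leaf 0x26d9003583) (.leaf 0x0)))) (.node (.node (.node (.leaf 0x146000001) (.leaf 0x4d8300443b)) (.node (.leaf 0x21eb002ae2) (.leaf 0x6ba5000003))) (.node (.node (.leaf 0x1001d83) (.leaf 0x5cb3000003)) (.node (.leaf 0x2d290001fb) (.leaf 0x0)))))) (.node (.node (.node (.node (.node (.leaf 0x2000383) (.leaf 0x43660042ae)) (.node (.leaf 0x20005b8) (.leaf 0x6179000003))) (.node (.node (.leaf 0x1383000001) (.leaf 0x429c005383)) (.node (.leaf 0x1f71003383) (.leaf 0x0)))) (.node (.node (.node (.leaf 0x2000b83) (.leaf 0x4b83004359)) (.node (.leaf 0x1f71002a1c) (.leaf 0x6945000003)))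 (.node (.node (.leaf 0x2001b83) (.leaf 0x170c000003)) (.node (.leaf 0x2ab800018f) (.leaf 0x0))))) (.node (.node (.node (.node (.leaf 0x3000783) (.leaf 0x4783004359)) (.node (.leaf 0x26b2000003) (.leaf 0x200652e))) (.node (.node (.leaf 0x1001783) (.leaf 0x43c00044a5)) (.node (.leaf 0x2c79000054) (.leaf 0x0)))) (.node (.node (.node (.leaf 0xf83000003) (.leaf 0x4f830043a0)) (.node (.leaf 0x1f7b002f83) (.leaf 0x6e69000001))) (.node (.node (.leaf 0x2001f81) (.leaf 0x5e36000003)) (.node (.leaf 0x2f6e00286e) (.leaf 0x0)))))))))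

/-- part -/
def slpT_81 : Tr Nat := (.node (.node (.node (.node (.node (.node (.node (.node (.leaf 0x2000043) (.leaf 0x3aff00266c)) (.node (.leaf 0x2001ffc) (.leaf 0x5ec4000003))) (.node (.node (.leaf 0x1001043) (.leaf 0x504300003c)) (.node (.leaf 0x211d002c5c) (.leaf 0x6f83000003)))) (.node (.node (.node (.leaf 0x1000843) (.leaf 0x48430042ac)) (.node (.leaf 0x100278b) (.leaf 0x1b20000003))) (.node (.node (.leaf 0x2001843) (.leaf 0x438200442d)) (.node (.leaf 0x3018001f72) (.leaf 0x0))))) (.node (.node (.node (.node (.leaf 0x3000443) (.leaf 0x3004443)) (.node (.leaf 0x2002184) (.leaf 0x623d000001))) (.node (.node (.leaf 0x1443000001) (.leaf 0x434c005443)) (.node (.leaf 0x2a25001f7b) (.leaf 0x0)))) (.node (.node (.node (.leaf 0xc43000003) (.leaf 0x4c4300439c)) (.node (.leaf 0x2c43001f72) (.leaf 0x6a15000001))) (.node (.node (.leaf 0x1c43000003) (.leaf 0x5bc1000003)) (.node (.leaf 0x377f000fda) (.leaf 0x0)))))) (.node (.node (.node (.node (.node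 (.leaf 0x243000003) (.leaf 0x3a590025e8)) (.node (.leaf 0x1002179) (.leaf 0x4c2a000003))) (.node (.node (.leaf 0x1243000001) (.leaf 0x4312005243)) (.node (.leaf 0x1f7b002f0c) (.leaf 0x0)))) (.node (.node (.node (.leaf 0x2000a43) (.leaf 0x42e4004a43)) (.node (.leaf 0x1f71002a43) (.leaf 0x67e8000001))) (.node (.node (.leaf 0x1001a43) (.leaf 0x5a4300442d)) (.node (.leaf 0x313700218a) (.leaf 0x0))))) (.node (.node (.node (.node (.leaf 0x1000643) (.leaf 0x464300439e)) (.node (.leaf 0x2002533) (.leaf 0x640b000003))) (.node (.node (.leaf 0x1643000001) (.leaf 0x5643004427)) (.node (.leaf 0x1f7b003643) (.leaf 0x0)))) (.node (.node (.node (.leaf 0xe43000001) (.leaf 0x4e430042b2)) (.node (.leaf 0x1f71002e43) (.leaf 0x6ca5000003))) (.node (.node (.leaf 0x1e43000003) (.leaf 0x2001713)) (.node (.leaf 0x29dc0001d0) (.leaf 0x0))))))) (.node (.node (.node (.node (.node (.node (.leaf 0x143000001) (.leaf 0x2f5c0023b2)) (.node (.leaf 0x10020cd) (.leaf 0x5f8f000003)))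 (.node (.node (.leaf 0x1143000003) (.leaf 0x4274005143)) (.node (.leaf 0x1f71003143) (.leaf 0x0)))) (.node (.node (.node (.leaf 0x1000943) (.leaf 0x430e004943)) (.node (.leaf 0x20028dd) (.leaf 0x66df000003))) (.node (.node (.leaf 0x3001943) (.leaf 0x59430043db)) (.node (.leaf 0xf7a002f2e) (.leaf 0x0))))) (.node (.node (.node (.node (.leaf 0x1000543) (.leaf 0x429c004543)) (.node (.leaf 0x2002427) (.leaf 0x6327000001))) (.node (.node (.leaf 0x1543000003) (.leaf 0x43e0005543)) (.node (.leaf 0x1f7b002daa) (.leaf 0x0)))) (.node (.node (.node (.leaf 0xd43000001) (.leaf 0x4d430042fd)) (.node (.leaf 0x2c7b001f7b) (.leaf 0x6b3f000003))) (.node (.node (.leaf 0x1d43000003) (.leaf 0x53a6000001)) (.node (.leaf 0x2a620024e2) (.leaf 0x0)))))) (.node (.node (.node (.node (.node (.leaf 0x2000343) (.leaf 0x433b0042ad)) (.node (.leaf 0x1002272) (.leaf 0x613d000003))) (.node (.node (.leaf 0x1343000003) (.leaf 0x4383004d86)) (.node (.leaf 0x1f71003343) (.leaf 0x0))))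 (.node (.node (.node (.leaf 0x1000b43) (.leaf 0x4b43004400)) (.node (.leaf 0x1f71002b43) (.leaf 0x68ed000003))) (.node (.node (.leaf 0x1001b43) (.leaf 0x14bb000003)) (.node (.leaf 0x2dd10022b8) (.leaf 0x0))))) (.node (.node (.node (.node (.leaf 0x1000743) (.leaf 0x441b004373)) (.node (.leaf 0x2662000003) (.leaf 0x64eb000001))) (.node (.node (.leaf 0x3001743) (.leaf 0x42fe005743)) (.node (.leaf 0x33d100213a) (.leaf 0x0)))) (.node (.node (.node (.leaf 0xf43000003) (.leaf 0x42b1004f43)) (.node (.leaf 0x2f43001f72) (.leaf 0x6c12000001))) (.node (.node (.leaf 0x20003aa) (.leaf 0x5e07000003)) (.node (.leaf 0x31f4000fd9) (.leaf 0x0)))))))) (.node (.node (.node (.node (.node (.node (.node (.leaf 0x20000c3) (.leaf 0x2f1b001fce)) (.node (.leaf 0x2002055) (.leaf 0x5f31000003))) (.node (.node (.leaf 0x20010c3) (.leaf 0x10e80050c3)) (.node (.leaf 0x30c3002120) (.leaf 0x7033000003)))) (.node (.node (.node (.leaf 0x20008c3) (.leaf 0x44300043c5)) (.node (.leaf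 0x100281b) (.leaf 0x200665e))) (.node (.node (.leaf 0x10018c3) (.leaf 0x4426004916)) (.node (.leaf 0x22c500374c) (.leaf 0x0))))) (.node (.node (.node (.node (.leaf 0x10001c8) (.leaf 0x4499004369)) (.node (.leaf 0x2000a15) (.leaf 0x62af000001))) (.node (.node (.leaf 0x14c3000003) (.leaf 0x200054c3)) (.node (.leaf 0x1f71002f93) (.leaf 0x0)))) (.node (.node (.node (.leaf 0xcc3000001) (.leaf 0x4cc30042ff)) (.node (.leaf 0x2a270029ac) (.leaf 0x6aad000003))) (.node (.node (.leaf 0x1cc3000002) (.leaf 0x1679000001)) (.node (.leaf 0x38ce00244c) (.leaf 0x0)))))) (.node (.node (.node (.node (.node (.leaf 0x2c3000003) (.leaf 0x42c1000003)) (.node (.leaf 0x10021ed) (.leaf 0x60cd000001))) (.node (.node (.leaf 0x12c3000003) (.leaf 0x52c30043db)) (.node (.leaf 0x2def000968) (.leaf 0x0)))) (.node (.node (.node (.leaf 0x1000ac3) (.leaf 0x462d0043d1)) (.node (.leaf 0x1f71002ac3) (.leaf 0x6870000003))) (.node (.node (.leaf 0x2001ac3) (.leaf 0x20014b0)) (.node (.leaf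 0x29d80023f0) (.leaf 0x0))))) (.node (.node (.node (.node (.leaf 0x10006c3) (.leaf 0x46c3000072)) (.node (.leaf 0x10025c7) (.leaf 0x6479000001))) (.node (.node (.leaf 0x20016c3) (.leaf 0x56c300439a)) (.node (.leaf 0x1f710036c3) (.leaf 0x0)))) (.node (.node (.node (.leaf 0xec3000001) (.leaf 0x4434004ec3)) (.node (.leaf 0x1f71002b10) (.leaf 0x6d55000001))) (.node (.node (.leaf 0x2001ec3) (.leaf 0x2005da6)) (.node (.leaf 0x2b5c002456) (.leaf 0x0))))))) (.node (.node (.node (.node (.node (.node (.leaf 0x1c3000003) (.leaf 0x29e90028a2)) (.node (.leaf 0x2002117) (.leaf 0x5ff9000001))) (.node (.node (.leaf 0x11c3000003) (.leaf 0x51c300442f)) (.node (.leaf 0x265d003132) (.leaf 0x0)))) (.node (.node (.node (.leaf 0x9c3000001) (.leaf 0x49c30010e7)) (.node (.leaf 0x1f710029c3) (.leaf 0x6765000003))) (.node (.node (.leaf 0x20019c3) (.leaf 0x555a0043d1)) (.node (.leaf 0x1f7b003385) (.leaf 0x0))))) (.node (.node (.node (.node (.leaf 0x20005c3) (.leaf 0x45c300428b))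 (.node (.leaf 0x2002106) (.leaf 0x6397000001))) (.node (.node (.leaf 0x15c3000001) (.leaf 0x4bd3004388)) (.node (.leaf 0x1f710035c3) (.leaf 0x0)))) (.node (.node (.node (.leaf 0xdc3000001) (.leaf 0x4dc300003c)) (.node (.leaf 0x2dc300236e) (.leaf 0x6bf7000003))) (.node (.node (.leaf 0x1001dc3) (.leaf 0x5ce1000001)) (.node (.leaf 0x32e90029aa) (.leaf 0x0)))))) (.node (.node (.node (.node (.node (.leaf 0x10003c3) (.leaf 0x43260043b4)) (.node (.leaf 0x20022d5) (.leaf 0x61c1000001))) (.node (.node (.leaf 0x13c3000001) (.leaf 0x430e0053c3)) (.node (.leaf 0x1f7b002c46) (.leaf 0x0)))) (.node (.node (.node (.leaf 0x1000bc3) (.leaf 0x4bc3004398)) (.node (.leaf 0x2ab4001f7b) (.leaf 0x6989000003))) (.node (.node (.leaf 0x2001bc3) (.leaf 0x19b4000001)) (.node (.leaf 0x2a190022e4) (.leaf 0x0))))) (.node (.node (.node (.node (.leaf 0x20007c3) (.leaf 0x42fe0047c3)) (.node (.leaf 0x10026fd) (.leaf 0x1006568))) (.node (.node (.leaf 0x10017c3) (.leaf 0x42b10057c3))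 (.node (.leaf 0x2aa6002408) (.leaf 0x0)))) (.node (.node (.node (.leaf 0xfc3000003) (.leaf 0x43b40043f8)) (.node (.leaf 0x1f7b002a26) (.leaf 0x6ed3000001))) (.node (.node (.leaf 0x20001ce) (.leaf 0x1c3d000003)) (.node (.leaf 0x2fa80020f8) (.leaf 0x0)))))))))

/-- part -/
def slpT_82 : Tr Nat := (.node (.node (.node (.node (.node (.node (.node (.node (.leaf 0x23000001) (.leaf 0x2bd500266c)) (.node (.leaf 0x1000f3f) (.leaf 0x5eb0000001))) (.node (.node (.leaf 0x2001023) (.leaf 0x50230010e7)) (.node (.leaf 0x1f71003023) (.leaf 0x6f43000003)))) (.node (.node (.node (.leaf 0x2000823) (.leaf 0x4407004823)) (.node (.leaf 0x200276e) (.leaf 0x65c3000001))) (.node (.node (.leaf 0x1001823) (.leaf 0x449a004371)) (.node (.leaf 0x1f7b003821) (.leaf 0x0))))) (.node (.node (.node (.node (.leaf 0x1000423) (.leaf 0x43bd00441b)) (.node (.leaf 0x200232b) (.leaf 0x6213000001))) (.node (.node (.leaf 0x1423000003) (.leaf 0x43d6005423)) (.node (.leaf 0x2ea2002020) (.leaf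 0x0)))) (.node (.node (.node (.leaf 0xc23000002) (.leaf 0x4c23004427)) (.node (.leaf 0x2bf5001f72) (.leaf 0x69f5000003))) (.node (.node (.leaf 0x1001c23) (.leaf 0x5bab000003)) (.node (.leaf 0x36c40020aa) (.leaf 0x0)))))) (.node (.node (.node (.node (.node (.leaf 0x223000003) (.leaf 0x35c600297e)) (.node (.leaf 0x215a000003) (.leaf 0x604b000001))) (.node (.node (.leaf 0x1223000003) (.leaf 0x429c005223)) (.node (.leaf 0x1f7b003223) (.leaf 0x0)))) (.node (.node (.node (.leaf 0x2000a23) (.leaf 0x43ec00451a)) (.node (.leaf 0x2a23001f72) (.leaf 0x67cc000001))) (.node (.node (.leaf 0x1001a23) (.leaf 0x49be00442f)) (.node (.leaf 0x500034e5) (.leaf 0x0))))) (.node (.node (.node (.node (.leaf 0x1000623) (.leaf 0x42b1004623)) (.node (.leaf 0x100250f) (.leaf 0x63ed000003))) (.node (.node (.leaf 0x1623000003) (.leaf 0x562300429b)) (.node (.leaf 0x1f71003623) (.leaf 0x0)))) (.node (.node (.node (.leaf 0xe23000003) (.leaf 0x43c800462b)) (.node (.leaf 0x2bb3001f72)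 (.leaf 0x6c7d000003))) (.node (.node (.leaf 0x100043b) (.leaf 0x20058d0)) (.node (.leaf 0x316e002220) (.leaf 0x0))))))) (.node (.node (.node (.node (.node (.node (.leaf 0x1000123) (.leaf 0x2ab00021e8)) (.node (.leaf 0x2001241) (.leaf 0x5f7d000001))) (.node (.node (.leaf 0x1123000003) (.leaf 0x4316005123)) (.node (.leaf 0x3123001f7b) (.leaf 0x7123000001)))) (.node (.node (.node (.leaf 0x1000923) (.leaf 0x432e004923)) (.node (.leaf 0x20028a7) (.leaf 0x66c3000001))) (.node (.node (.leaf 0x1001923) (.leaf 0x5923004275)) (.node (.leaf 0x13e002b08) (.leaf 0x0))))) (.node (.node (.node (.node (.leaf 0x2000523) (.leaf 0x43680043f3)) (.node (.leaf 0x200240b) (.leaf 0x630b000003))) (.node (.node (.leaf 0x1523000002) (.leaf 0x442a005523)) (.node (.leaf 0x220000344c) (.leaf 0x0)))) (.node (.node (.node (.leaf 0xd23000002) (.leaf 0x4d23004386)) (.node (.leaf 0x2d23002972) (.leaf 0x4e02000003))) (.node (.node (.leaf 0x1d23000001) (.leaf 0x242d000003)) (.node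 (.leaf 0x30c9002552) (.leaf 0x0)))))) (.node (.node (.node (.node (.node (.leaf 0x323000001) (.leaf 0x43230042ad)) (.node (.leaf 0x200224d) (.leaf 0x6123000003))) (.node (.node (.leaf 0x1323000001) (.leaf 0x42ae004dab)) (.node (.leaf 0x329b001f7b) (.leaf 0x0)))) (.node (.node (.node (.leaf 0x1000b23) (.leaf 0x436a004499)) (.node (.leaf 0x2b23001f72) (.leaf 0x68ca000003))) (.node (.node (.leaf 0x2001b23) (.leaf 0x1005afb)) (.node (.leaf 0x2b6a00276b) (.leaf 0x0))))) (.node (.node (.node (.node (.leaf 0x1000723) (.leaf 0x4436004723)) (.node (.leaf 0x1000f78) (.leaf 0x64d1000001))) (.node (.node (.leaf 0x2001723) (.leaf 0x57230042fb)) (.node (.leaf 0x1f7100361f) (.leaf 0x0)))) (.node (.node (.node (.leaf 0xf23000003) (.leaf 0x442e004799)) (.node (.leaf 0x2f23001f72) (.leaf 0x6def000003))) (.node (.node (.leaf 0x2001f23) (.leaf 0x5def000003)) (.node (.leaf 0x2a170027e2) (.leaf 0x0)))))))) (.node (.node (.node (.node (.node (.node (.node (.leaf 0xa3000003)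 (.leaf 0x33090021b4)) (.node (.leaf 0x2002041) (.leaf 0x5f1f000001))) (.node (.node (.leaf 0x30010a3) (.leaf 0x43280050a3)) (.node (.leaf 0x30a3001f7b) (.leaf 0x7009000003)))) (.node (.node (.node (.leaf 0x20008a3) (.leaf 0x3b0048a3)) (.node (.leaf 0x10027fd) (.leaf 0x200663c))) (.node (.node (.leaf 0x10018a3) (.leaf 0x58a300428b)) (.node (.leaf 0x27cd00306c) (.leaf 0x0))))) (.node (.node (.node (.node (.leaf 0x10004a3) (.leaf 0x436600441b)) (.node (.leaf 0x2002389) (.leaf 0x6299000001))) (.node (.node (.leaf 0x14a3000001) (.leaf 0x43e00054a3)) (.node (.leaf 0x2dbb002916) (.leaf 0x0)))) (.node (.node (.node (.leaf 0xca3000001) (.leaf 0x4ca3004398)) (.node (.leaf 0x2ca3001f7b) (.leaf 0x6a8b000001))) (.node (.node (.leaf 0x1ca3000001) (.leaf 0x5bff000003)) (.node (.leaf 0x33270021f8) (.leaf 0x0)))))) (.node (.node (.node (.node (.node (.leaf 0x2a3000001) (.leaf 0x429d000003)) (.node (.leaf 0x200202e) (.leaf 0x60b3000001))) (.node (.node (.leaf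 0x12a3000001) (.leaf 0x442e004474)) (.node (.leaf 0x30f0001f72) (.leaf 0x0)))) (.node (.node (.node (.leaf 0x2000aa3) (.leaf 0x4348004aa3)) (.node (.leaf 0x1f71002aa3) (.leaf 0x26d1000003))) (.node (.node (.leaf 0x1001aa3) (.leaf 0x5aa3004303)) (.node (.leaf 0x2b1500249c) (.leaf 0x0))))) (.node (.node (.node (.node (.leaf 0x10006a3) (.leaf 0x46a30042f1)) (.node (.leaf 0x200259d) (.leaf 0x645d000003))) (.node (.node (.leaf 0x20016a3) (.leaf 0x56a30042a5)) (.node (.leaf 0x24b1002f20) (.leaf 0x0)))) (.node (.node (.node (.leaf 0xea3000003) (.leaf 0x4ea3004353)) (.node (.leaf 0x1f71002ea3) (.leaf 0x6d23000001))) (.node (.node (.leaf 0x2001ea3) (.leaf 0x2005d86)) (.node (.leaf 0x2f31002089) (.leaf 0x0))))))) (.node (.node (.node (.node (.node (.node (.leaf 0x1a3000003) (.leaf 0x2ac6001faa)) (.node (.leaf 0x200210b) (.leaf 0x5fe5000003))) (.node (.node (.leaf 0x11a3000002) (.leaf 0x439f0051a3)) (.node (.leaf 0x1f7b003134) (.leaf 0x0)))) (.node (.node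 (.node (.leaf 0x9a3000001) (.leaf 0x43d60049a3)) (.node (.leaf 0x2002991) (.leaf 0x6749000003))) (.node (.node (.leaf 0x1000d16) (.leaf 0x4418004329)) (.node (.leaf 0x26270035b3) (.leaf 0x0))))) (.node (.node (.node (.node (.leaf 0x10005a3) (.leaf 0x441a0043bb)) (.node (.leaf 0x20020ba) (.leaf 0x637d000003))) (.node (.node (.leaf 0x15a3000003) (.leaf 0x55a3000074)) (.node (.leaf 0x1f710035a3) (.leaf 0x0)))) (.node (.node (.node (.leaf 0xda3000003) (.leaf 0x4da300428b)) (.node (.leaf 0x2da300236e) (.leaf 0x6bc5000001))) (.node (.node (.leaf 0x3001da3) (.leaf 0x5cc9000003)) (.node (.leaf 0x33a8002749) (.leaf 0x0)))))) (.node (.node (.node (.node (.node (.leaf 0x3a3000001) (.leaf 0x42e400439d)) (.node (.leaf 0x10022bd) (.leaf 0x6197000003))) (.node (.node (.leaf 0x13a3000003) (.leaf 0x53a30010e7)) (.node (.leaf 0x1f7b002bea) (.leaf 0x0)))) (.node (.node (.node (.leaf 0x2000ba3) (.leaf 0x4ba3004301)) (.node (.leaf 0x2a70001f72) (.leaf 0x696b000001)))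 (.node (.node (.leaf 0x2001ba3) (.leaf 0x5b52000003)) (.node (.leaf 0x38e00022e4) (.leaf 0x0))))) (.node (.node (.node (.node (.leaf 0x30007a3) (.leaf 0x42e40047a3)) (.node (.leaf 0x20026db) (.leaf 0x1005f37))) (.node (.node (.leaf 0x20017a3) (.leaf 0x439f0057a3)) (.node (.leaf 0x2b01000054) (.leaf 0x0)))) (.node (.node (.node (.leaf 0xfa3000001) (.leaf 0x4fa300434d)) (.node (.leaf 0x1f71002fa3) (.leaf 0x6e99000001))) (.node (.node (.leaf 0x2001ee6) (.leaf 0x5e4e000003)) (.node (.leaf 0x2e19002154) (.leaf 0x0)))))))))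

/-- part -/
def slpT_83 : Tr Nat := (.node (.node (.node (.node (.node (.node (.node (.node (.leaf 0x3000063) (.leaf 0x2bc700266c)) (.node (.leaf 0x200200d) (.leaf 0x5edb000003))) (.node (.node (.leaf 0x1001063) (.leaf 0x4405005063)) (.node (.leaf 0x2f98001f7b) (.leaf 0x6fa9000003)))) (.node (.node (.node (.leaf 0x1000863) (.leaf 0x43f6004327)) (.node (.leaf 0x20027b5) (.leaf 0x1006600))) (.node (.node (.leaf 0x2001863) (.leaf 0x43f50043f8)) (.node (.leaf 0x252b002d90) (.leaf 0x0))))) (.node (.node (.node (.node (.leaf 0x3000463) (.leaf 0x4352004463)) (.node (.leaf 0x2002359) (.leaf 0x6261000001))) (.node (.node (.leaf 0x1463000002) (.leaf 0x4401005463)) (.node (.leaf 0x2a92001f7b) (.leaf 0x0)))) (.node (.node (.node (.leaf 0xc63000001) (.leaf 0x43a7004c63)) (.node (.leaf 0x2c63001f72) (.leaf 0x6a2f000003))) (.node (.node (.leaf 0x1c63000003) (.leaf 0x5bd3000003)) (.node (.leaf 0x3103002122) (.leaf 0x0)))))) (.node (.node (.node (.node (.node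 (.leaf 0x263000002) (.leaf 0x30200000b3)) (.node (.leaf 0x1002199) (.leaf 0x607d000003))) (.node (.node (.leaf 0x1263000003) (.leaf 0x459000442f)) (.node (.leaf 0x26f3002db4) (.leaf 0x0)))) (.node (.node (.node (.leaf 0x1000a63) (.leaf 0x443a004a63)) (.node (.leaf 0x1f7b002a63) (.leaf 0x680c000003))) (.node (.node (.leaf 0x3001a63) (.leaf 0x55130043fe)) (.node (.leaf 0x2c4b00096d) (.leaf 0x0))))) (.node (.node (.node (.node (.leaf 0x1000663) (.leaf 0x46630042e9)) (.node (.leaf 0x200255f) (.leaf 0x6421000001))) (.node (.node (.leaf 0x1663000003) (.leaf 0x43d0004e41)) (.node (.leaf 0x4d0030d3) (.leaf 0x0)))) (.node (.node (.node (.leaf 0xe63000002) (.leaf 0x446a0042ac)) (.node (.leaf 0x1f71002d3a) (.leaf 0x6ccd000003))) (.node (.node (.leaf 0x1001e63) (.leaf 0x2005d4e)) (.node (.leaf 0x2abe0027ba) (.leaf 0x0))))))) (.node (.node (.node (.node (.node (.node (.leaf 0x163000001) (.leaf 0x30f80023b2)) (.node (.leaf 0x10020e3) (.leaf 0x5d14000001)))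 (.node (.node (.leaf 0x1163000001) (.leaf 0x10e8005163)) (.node (.leaf 0x1f71003163) (.leaf 0x0)))) (.node (.node (.node (.leaf 0x20002b0) (.leaf 0x4302004963)) (.node (.leaf 0x1002921) (.leaf 0x6701000001))) (.node (.node (.leaf 0x2001963) (.leaf 0x59630042ed)) (.node (.leaf 0x1f7b003136) (.leaf 0x0))))) (.node (.node (.node (.node (.leaf 0x1000563) (.leaf 0x456300442f)) (.node (.leaf 0x2002445) (.leaf 0x6345000001))) (.node (.node (.leaf 0x1563000001) (.leaf 0x42b1005563)) (.node (.leaf 0x299f003563) (.leaf 0x0)))) (.node (.node (.node (.leaf 0xd63000003) (.leaf 0x45dc0043f8)) (.node (.leaf 0x1f7b002d63) (.leaf 0x6b71000003))) (.node (.node (.leaf 0x2001d63) (.leaf 0x23ed000003)) (.node (.leaf 0x2adf000f77) (.leaf 0x0)))))) (.node (.node (.node (.node (.node (.leaf 0x2000363) (.leaf 0x4363004340)) (.node (.leaf 0x200228a) (.leaf 0x615d000001))) (.node (.node (.leaf 0x1363000003) (.leaf 0x43ce005363)) (.node (.leaf 0x207f003363) (.leaf 0x0))))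 (.node (.node (.node (.leaf 0x2000b63) (.leaf 0x4b6300428f)) (.node (.leaf 0x1f71002b63) (.leaf 0x691d000003))) (.node (.node (.leaf 0x3001b63) (.leaf 0x5b24000003)) (.node (.leaf 0x3773002824) (.leaf 0x0))))) (.node (.node (.node (.node (.leaf 0x2000763) (.leaf 0x4401004763)) (.node (.leaf 0x1002685) (.leaf 0x650b000001))) (.node (.node (.leaf 0x1001763) (.leaf 0x4383005764)) (.node (.leaf 0x324e001f72) (.leaf 0x0)))) (.node (.node (.node (.leaf 0xf63000003) (.leaf 0x45dc00436d)) (.node (.leaf 0x1f71002f63) (.leaf 0x6e3d000003))) (.node (.node (.leaf 0x1dd0000001) (.leaf 0x5e1e000001)) (.node (.leaf 0x3105000fd9) (.leaf 0x0)))))))) (.node (.node (.node (.node (.node (.node (.node (.leaf 0x1000008) (.leaf 0x29c2000187)) (.node (.leaf 0x200206d) (.leaf 0x5f49000003))) (.node (.node (.leaf 0x10010e3) (.leaf 0x10e80050e3)) (.node (.leaf 0x288f002bbe) (.leaf 0x706d000001)))) (.node (.node (.node (.leaf 0x10008e3) (.leaf 0x220048e3)) (.node (.leaf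 0x2002841) (.leaf 0x6685000001))) (.node (.node (.leaf 0x20018e3) (.leaf 0x50058e3)) (.node (.leaf 0x209d002eaf) (.leaf 0x0))))) (.node (.node (.node (.node (.leaf 0x20004e3) (.leaf 0x44e30043a2)) (.node (.leaf 0x10023cd) (.leaf 0x62cf000003))) (.node (.node (.leaf 0x14e3000003) (.leaf 0x54e300428d)) (.node (.leaf 0x1f71002d9c) (.leaf 0x0)))) (.node (.node (.node (.leaf 0xce3000003) (.leaf 0x4ce30043e1)) (.node (.leaf 0x2ab8000fce) (.leaf 0x6ad1000003))) (.node (.node (.leaf 0x1ce3000001) (.leaf 0x5c35000003)) (.node (.leaf 0x2e8400233c) (.leaf 0x0)))))) (.node (.node (.node (.node (.node (.leaf 0x2e3000001) (.leaf 0x42e30042c2)) (.node (.leaf 0x200220c) (.leaf 0x60e9000001))) (.node (.node (.leaf 0x12e3000003) (.leaf 0x52e30042f1)) (.node (.leaf 0x320e0027fe) (.leaf 0x0)))) (.node (.node (.node (.leaf 0x2000ae3) (.leaf 0x43c0004460)) (.node (.leaf 0x2ae3001f72) (.leaf 0x6890000003))) (.node (.node (.leaf 0x2001ae3) (.leaf 0x20019ab)) (.node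 (.leaf 0x2a0800266a) (.leaf 0x0))))) (.node (.node (.node (.node (.leaf 0x10006e3) (.leaf 0x46e30043d7)) (.node (.leaf 0x10025e7) (.leaf 0x6495000001))) (.node (.node (.leaf 0x10016e3) (.leaf 0x545a0043d3)) (.node (.leaf 0x5e700325d) (.leaf 0x0)))) (.node (.node (.node (.leaf 0xee3000001) (.leaf 0x428c004ee3)) (.node (.leaf 0x2ee30028e2) (.leaf 0x6d99000001))) (.node (.node (.leaf 0x1000153) (.leaf 0x5db7000003)) (.node (.leaf 0x2ed70027b0) (.leaf 0x0))))))) (.node (.node (.node (.node (.node (.node (.leaf 0x20001e3) (.leaf 0x3115000084)) (.node (.leaf 0x1002131) (.leaf 0x6017000001))) (.node (.node (.leaf 0x11e3000001) (.leaf 0x51e300003e)) (.node (.leaf 0x1f7b002c5c) (.leaf 0x0)))) (.node (.node (.node (.leaf 0x9e3000003) (.leaf 0x42b10049e3)) (.node (.leaf 0x1f7b0029e3) (.leaf 0x678c000003))) (.node (.node (.leaf 0x10019e3) (.leaf 0x48ea00442f)) (.node (.leaf 0x20090029b5) (.leaf 0x0))))) (.node (.node (.node (.node (.leaf 0x20005e3) (.leaf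 0x43be00445f)) (.node (.leaf 0x20024cb) (.leaf 0x63b3000003))) (.node (.node (.leaf 0x15e3000003) (.leaf 0x55e30042a5)) (.node (.leaf 0x1f710035e3) (.leaf 0x0)))) (.node (.node (.node (.leaf 0xde3000003) (.leaf 0x4de3004427)) (.node (.leaf 0x2d5c001f72) (.leaf 0x6c1f000003))) (.node (.node (.leaf 0x2001de3) (.leaf 0x5cf1000003)) (.node (.leaf 0x2d330021b9) (.leaf 0x0)))))) (.node (.node (.node (.node (.node (.leaf 0x3e3000003) (.leaf 0x42e100000b)) (.node (.leaf 0x2000fda) (.leaf 0x61db000001))) (.node (.node (.leaf 0x13e3000001) (.leaf 0x43ff0053e3)) (.node (.leaf 0x2eb8002636) (.leaf 0x0)))) (.node (.node (.node (.leaf 0xbe3000001) (.leaf 0x4421004431)) (.node (.leaf 0x2be3001f72) (.leaf 0x69af000001))) (.node (.node (.leaf 0x1001be3) (.leaf 0x5b89000003)) (.node (.leaf 0x32a10027aa) (.leaf 0x0))))) (.node (.node (.node (.node (.leaf 0x20007e3) (.leaf 0x43a70047e3)) (.node (.leaf 0x2002721) (.leaf 0x2006582))) (.node (.node (.leaf 0x30017e3)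 (.leaf 0x443a0057e3)) (.node (.leaf 0x2719002b1c) (.leaf 0x0)))) (.node (.node (.node (.leaf 0x2000fe3) (.leaf 0x42e8004fe3)) (.node (.leaf 0x1f7b002fd7) (.leaf 0x6efd000001))) (.node (.node (.leaf 0x1001fbb) (.leaf 0x5e7b000001)) (.node (.leaf 0x31600005af) (.leaf 0x0)))))))))

/-- part -/
def slpT_84 : Tr Nat := (.node (.node (.node (.node (.node (.node (.node (.node (.leaf 0x5000003) (.leaf 0x306b002686)) (.node (.leaf 0x2001fe0) (.leaf 0x5ea2000001))) (.node (.node (.leaf 0x2001013) (.leaf 0x501300439e)) (.node (.leaf 0x244f002bb2) (.leaf 0x6f31000003)))) (.node (.node (.node (.leaf 0x2000813) (.leaf 0x4430004813)) (.node (.leaf 0x200275b) (.leaf 0x65b1000003))) (.node (.node (.leaf 0x1001813) (.leaf 0x58130043a8)) (.node (.leaf 0x21a100344e) (.leaf 0x0))))) (.node (.node (.node (.node (.leaf 0x3000413) (.leaf 0x4349004413)) (.node (.leaf 0x100231b) (.leaf 0x6203000003))) (.node (.node (.leaf 0x1413000002) (.leaf 0x4401005413)) (.node (.leaf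 0x3216002636) (.leaf 0x0)))) (.node (.node (.node (.leaf 0xc13000001) (.leaf 0x4c13004439)) (.node (.leaf 0x2c13001f72) (.leaf 0x69e3000001))) (.node (.node (.leaf 0x1001c13) (.leaf 0x5ba3000003)) (.node (.leaf 0x30da0020aa) (.leaf 0x0)))))) (.node (.node (.node (.node (.node (.leaf 0x3000213) (.leaf 0x29bc00295e)) (.node (.leaf 0x214e000003) (.leaf 0x5d34000001))) (.node (.node (.leaf 0x1213000001) (.leaf 0x22005213)) (.node (.leaf 0x1f7b002bfe) (.leaf 0x0)))) (.node (.node (.node (.leaf 0x2000a13) (.leaf 0x442e004a13)) (.node (.leaf 0x2a13001f7b) (.leaf 0x67bc000003))) (.node (.node (.leaf 0x1001a13) (.leaf 0x5a130043ac)) (.node (.leaf 0x500030df) (.leaf 0x0))))) (.node (.node (.node (.node (.leaf 0x2000613) (.leaf 0x73004613)) (.node (.leaf 0x20024ff) (.leaf 0x63e1000003))) (.node (.node (.leaf 0x1613000001) (.leaf 0x5613004408)) (.node (.leaf 0x1f71003613) (.leaf 0x0)))) (.node (.node (.node (.leaf 0xe13000002) (.leaf 0x4430004e14)) (.node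 (.leaf 0x2e1300247e) (.leaf 0x6c6b000001))) (.node (.node (.leaf 0x1001e13) (.leaf 0x5d13000001)) (.node (.leaf 0x30a7002220) (.leaf 0x0))))))) (.node (.node (.node (.node (.node (.node (.leaf 0x2000113) (.leaf 0x375500242e)) (.node (.leaf 0x20020a3) (.leaf 0x5f71000003))) (.node (.node (.leaf 0x1113000002) (.leaf 0x49be004353)) (.node (.leaf 0x3113001f72) (.leaf 0x70e7000003)))) (.node (.node (.node (.leaf 0x1000913) (.leaf 0x43f700449a)) (.node (.leaf 0x1002889) (.leaf 0x66b3000003))) (.node (.node (.leaf 0x2001913) (.leaf 0x591300439a)) (.node (.leaf 0x13e0037db) (.leaf 0x0))))) (.node (.node (.node (.node (.leaf 0x3000513) (.leaf 0x45130042e5)) (.node (.leaf 0x20023fb) (.leaf 0x62fd000001))) (.node (.node (.leaf 0x1513000001) (.leaf 0x4428005513)) (.node (.leaf 0x2200002c9c) (.leaf 0x0)))) (.node (.node (.node (.leaf 0xd13000001) (.leaf 0x4d130042c1)) (.node (.leaf 0x2ad80022f8) (.leaf 0x6b0d000001))) (.node (.node (.leaf 0x1d13000001) (.leaf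 0x165f000003)) (.node (.leaf 0x2c6d002552) (.leaf 0x0)))))) (.node (.node (.node (.node (.node (.leaf 0x313000003) (.leaf 0x430f000001)) (.node (.leaf 0x100223f) (.leaf 0x6111000003))) (.node (.node (.leaf 0x1313000003) (.leaf 0x5313000072)) (.node (.leaf 0x2c5b002130) (.leaf 0x0)))) (.node (.node (.node (.leaf 0x2000b13) (.leaf 0x43830046aa)) (.node (.leaf 0x29b6001f7b) (.leaf 0x68b8000003))) (.node (.node (.leaf 0x2001b13) (.leaf 0x200209c)) (.node (.leaf 0x346b00276b) (.leaf 0x0))))) (.node (.node (.node (.node (.leaf 0x1000713) (.leaf 0x471300003c)) (.node (.leaf 0x100262f) (.leaf 0x64bf000001))) (.node (.node (.leaf 0x1001713) (.leaf 0x5713000021)) (.node (.leaf 0x1f71002e1a) (.leaf 0x0)))) (.node (.node (.node (.leaf 0xf13000003) (.leaf 0x4383004d00)) (.node (.leaf 0x2f13001f72) (.leaf 0x6c0c000001))) (.node (.node (.leaf 0x2001f13) (.leaf 0x5de3000003)) (.node (.leaf 0x2ba70027e2) (.leaf 0x0)))))))) (.node (.node (.node (.node (.node (.node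 (.node (.leaf 0x93000003) (.leaf 0x2a4d0021b4)) (.node (.leaf 0x2002039) (.leaf 0x222e000003))) (.node (.node (.leaf 0x2001093) (.leaf 0x428d005093)) (.node (.leaf 0x3093001f72) (.leaf 0x6feb000001)))) (.node (.node (.node (.leaf 0x1000893) (.leaf 0x43ec0043f3)) (.node (.leaf 0x10027e7) (.leaf 0x2006632))) (.node (.node (.leaf 0x1001893) (.leaf 0x58930010e7)) (.node (.leaf 0x1f7100384e) (.leaf 0x0))))) (.node (.node (.node (.node (.leaf 0x2000493) (.leaf 0x42fc004493)) (.node (.leaf 0x200237d) (.leaf 0x628b000003))) (.node (.node (.leaf 0x748000871) (.leaf 0x429c005493)) (.node (.leaf 0x2ca3001f72) (.leaf 0x0)))) (.node (.node (.node (.leaf 0xc93000001) (.leaf 0x4c93004303)) (.node (.leaf 0x2c93001f72) (.leaf 0x6a7d000003))) (.node (.node (.leaf 0x1c93000001) (.leaf 0x2587000003)) (.node (.leaf 0x332f001fc3) (.leaf 0x0)))))) (.node (.node (.node (.node (.node (.leaf 0x293000001) (.leaf 0x427500428b)) (.node (.leaf 0x21c8000003) (.leaf 0x60a3000003)))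 (.node (.node (.leaf 0x1293000001) (.leaf 0x42ad0047f2)) (.node (.leaf 0x2f5e001f72) (.leaf 0x0)))) (.node (.node (.node (.leaf 0x2000521) (.leaf 0x43ab004a93)) (.node (.leaf 0x1f7b002a93) (.leaf 0x683f000001))) (.node (.node (.leaf 0x1001a93) (.leaf 0x5a93000001)) (.node (.leaf 0x33cf00249c) (.leaf 0x0))))) (.node (.node (.node (.node (.leaf 0x1000693) (.leaf 0x46930042fd)) (.node (.leaf 0x200258f) (.leaf 0x6451000001))) (.node (.node (.leaf 0x2001693) (.leaf 0x5693000002)) (.node (.leaf 0x24b10033f0) (.leaf 0x0)))) (.node (.node (.node (.leaf 0xe93000003) (.leaf 0x4e930042fd)) (.node (.leaf 0x1f7b002e93) (.leaf 0x6d11000003))) (.node (.node (.leaf 0x2001e93) (.leaf 0x2005d78)) (.node (.leaf 0x35100020e4) (.leaf 0x0))))))) (.node (.node (.node (.node (.node (.node (.leaf 0x193000001) (.leaf 0x2e30002614)) (.node (.leaf 0x2002101) (.leaf 0x5fd5000003))) (.node (.node (.leaf 0x1193000f69) (.leaf 0x43a7005193)) (.node (.leaf 0x1fbf002b30) (.leaf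 0x0)))) (.node (.node (.node (.leaf 0x993000003) (.leaf 0x439d004993)) (.node (.leaf 0x100295b) (.leaf 0x6733000001))) (.node (.node (.leaf 0x2001993) (.leaf 0x59930043e3)) (.node (.leaf 0x1f7b002bbc) (.leaf 0x0))))) (.node (.node (.node (.node (.leaf 0x1000593) (.leaf 0x45930042f1)) (.node (.leaf 0x1002479) (.leaf 0x6371000001))) (.node (.node (.leaf 0x1097000003) (.leaf 0x43bb004326)) (.node (.leaf 0x26d9002ab8) (.leaf 0x0)))) (.node (.node (.node (.leaf 0xd93000001) (.leaf 0x4d93004406)) (.node (.leaf 0x2d93001f72) (.leaf 0x6bb7000001))) (.node (.node (.leaf 0x1001d93) (.leaf 0x5cc1000001)) (.node (.leaf 0x319c00262e) (.leaf 0x0)))))) (.node (.node (.node (.node (.node (.leaf 0x1000393) (.leaf 0x42ac00438b)) (.node (.leaf 0x10022af) (.leaf 0x618b000001))) (.node (.node (.leaf 0x1393000003) (.leaf 0x4409005393)) (.node (.leaf 0x1f710031ef) (.leaf 0x0)))) (.node (.node (.node (.leaf 0x1000b93) (.leaf 0x462b0043ed)) (.node (.leaf 0x1f7b002a8f)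 (.leaf 0x6953000003))) (.node (.node (.leaf 0x2001b93) (.leaf 0x5b43000003)) (.node (.leaf 0x33c2002320) (.leaf 0x0))))) (.node (.node (.node (.node (.leaf 0x2000793) (.leaf 0x42fe004793)) (.node (.leaf 0x20026cb) (.leaf 0x2006542))) (.node (.node (.leaf 0x3001793) (.leaf 0x10e8005793)) (.node (.leaf 0x2ab8000054) (.leaf 0x0)))) (.node (.node (.node (.leaf 0x8de000001) (.leaf 0x4f930042ed)) (.node (.leaf 0x2603002f93) (.leaf 0x6e7d000003))) (.node (.node (.leaf 0x2001cd7) (.leaf 0x5e2b000001)) (.node (.leaf 0x2ab2002696) (.leaf 0x0)))))))))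

/-- part -/
def slpT_85 : Tr Nat := (.node (.node (.node (.node (.node (.node (.node (.node (.leaf 0x2000053) (.leaf 0x2bd900266c)) (.node (.leaf 0x2002001) (.leaf 0x5ed0000001))) (.node (.node (.leaf 0x3001053) (.leaf 0x42fe005053)) (.node (.leaf 0x2c2d002692) (.leaf 0x6f93000003)))) (.node (.node (.node (.leaf 0x1000853) (.leaf 0x485300429d)) (.node (.leaf 0x10027a3) (.leaf 0x20065ee))) (.node (.node (.leaf 0x3001853) (.leaf 0x43b7004326)) (.node (.leaf 0x252b0029fe) (.leaf 0x0))))) (.node (.node (.node (.node (.leaf 0x2000453) (.leaf 0x443a004453)) (.node (.leaf 0x1002353) (.leaf 0x624d000003))) (.node (.node (.leaf 0x1453000001) (.leaf 0x4352005453)) (.node (.leaf 0x31f0001f7b) (.leaf 0x0)))) (.node (.node (.node (.leaf 0x4de000003) (.leaf 0x4c5300439a)) (.node (.leaf 0x2c37001f72) (.leaf 0x6a25000003))) (.node (.node (.leaf 0x1934000001) (.leaf 0x5bc9000001)) (.node (.leaf 0x2bad000a05) (.leaf 0x0)))))) (.node (.node (.node (.node (.node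 (.leaf 0x253000003) (.leaf 0x2b5a002928)) (.node (.leaf 0x2002183) (.leaf 0x6075000003))) (.node (.node (.leaf 0x1253000001) (.leaf 0x52530043d9)) (.node (.leaf 0x1f71003253) (.leaf 0x0)))) (.node (.node (.node (.leaf 0x1000a53) (.leaf 0x436800447d)) (.node (.leaf 0x1f7b002a53) (.leaf 0x67f8000001))) (.node (.node (.leaf 0x1001a53) (.leaf 0x4ea10043d1)) (.node (.leaf 0x2c2500218a) (.leaf 0x0))))) (.node (.node (.node (.node (.leaf 0x100048b) (.leaf 0x4653000002)) (.node (.leaf 0x2002547) (.leaf 0x16e2000003))) (.node (.node (.leaf 0x1653000003) (.leaf 0x42ee005653)) (.node (.leaf 0x4d0034c9) (.leaf 0x0)))) (.node (.node (.node (.leaf 0xe53000001) (.leaf 0x4e530042ed)) (.node (.leaf 0x1f7b002c4e) (.leaf 0x6cbb000001))) (.node (.node (.leaf 0x1e53000003) (.leaf 0x22bd000003)) (.node (.leaf 0x32cd002448) (.leaf 0x0))))))) (.node (.node (.node (.node (.node (.node (.leaf 0x153000003) (.leaf 0x2c390023b2)) (.node (.leaf 0x200206a) (.leaf 0x5f9f000001)))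 (.node (.node (.leaf 0x1153000003) (.leaf 0x443a005153)) (.node (.leaf 0x254b002a33) (.leaf 0x0)))) (.node (.node (.node (.leaf 0x3000953) (.leaf 0x429c004953)) (.node (.leaf 0x20028ff) (.leaf 0x66f3000001))) (.node (.node (.leaf 0x2001953) (.leaf 0x59530042ff)) (.node (.leaf 0x225700312e) (.leaf 0x0))))) (.node (.node (.node (.node (.leaf 0x1000553) (.leaf 0x42fc004553)) (.node (.leaf 0x2002435) (.leaf 0x6337000003))) (.node (.node (.leaf 0x1553000003) (.leaf 0x428e005553)) (.node (.leaf 0x299f003494) (.leaf 0x0)))) (.node (.node (.node (.leaf 0xd53000003) (.leaf 0x4d5300442b)) (.node (.leaf 0x28d1002ca0) (.leaf 0x6b59000003))) (.node (.node (.leaf 0x1d53000003) (.leaf 0x5c93000001)) (.node (.leaf 0x34de0024e2) (.leaf 0x0)))))) (.node (.node (.node (.node (.node (.leaf 0x2000353) (.leaf 0x23004325)) (.node (.leaf 0x2000161) (.leaf 0x614d000001))) (.node (.node (.leaf 0x1353000001) (.leaf 0x3d005353)) (.node (.leaf 0x1f7b002b67) (.leaf 0x0))))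 (.node (.node (.node (.leaf 0x2000b53) (.leaf 0x441c004373)) (.node (.leaf 0x1f71002b53) (.leaf 0x6909000003))) (.node (.node (.leaf 0x1001b53) (.leaf 0x200202c)) (.node (.leaf 0x35a4001f7b) (.leaf 0x0))))) (.node (.node (.node (.node (.leaf 0x1000753) (.leaf 0x47530043aa)) (.node (.leaf 0x2672000001) (.leaf 0x50bd000001))) (.node (.node (.leaf 0x2001753) (.leaf 0x42e6005753)) (.node (.leaf 0x2dc3001f72) (.leaf 0x0)))) (.node (.node (.node (.leaf 0xf53000003) (.leaf 0x42ae0048f1)) (.node (.leaf 0x27d9002f53) (.leaf 0x6e2b000003))) (.node (.node (.leaf 0x1f53000003) (.leaf 0x5e13000003)) (.node (.leaf 0x3278000fd9) (.leaf 0x0)))))))) (.node (.node (.node (.node (.node (.node (.node (.leaf 0x20000d3) (.leaf 0x3344000187)) (.node (.leaf 0x2002061) (.leaf 0x5f41000003))) (.node (.node (.leaf 0x20010d3) (.leaf 0x43020050d3)) (.node (.leaf 0x211f0030d3) (.leaf 0x7055000001)))) (.node (.node (.node (.leaf 0x20008d3) (.leaf 0x429c0048d3)) (.node (.leaf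 0x2002835) (.leaf 0x1006670))) (.node (.node (.leaf 0x20018d3) (.leaf 0x442a0058d3)) (.node (.leaf 0x2261002a63) (.leaf 0x0))))) (.node (.node (.node (.node (.leaf 0x10004d3) (.leaf 0x44d30043aa)) (.node (.leaf 0x10023c1) (.leaf 0x62bf000001))) (.node (.node (.leaf 0x14d3000001) (.leaf 0x43000054d3)) (.node (.leaf 0x1f7b00301f) (.leaf 0x0)))) (.node (.node (.node (.leaf 0xcd3000002) (.leaf 0x4cd3004439)) (.node (.leaf 0x2a31002972) (.leaf 0x6abb000001))) (.node (.node (.leaf 0x1cd3001c67) (.leaf 0x20df000003)) (.node (.leaf 0x331f00244c) (.leaf 0x0)))))) (.node (.node (.node (.node (.node (.leaf 0x2d3000003) (.leaf 0x42cf000021)) (.node (.leaf 0x20021ff) (.leaf 0x19c0000001))) (.node (.node (.leaf 0x12d3000001) (.leaf 0x52d30043a2)) (.node (.leaf 0x2db1001f72) (.leaf 0x0)))) (.node (.node (.node (.leaf 0x1000ad3) (.leaf 0x436c004419)) (.node (.leaf 0x1f71002ad3) (.leaf 0x6884000001))) (.node (.node (.leaf 0x3001ad3) (.leaf 0x2001fca)) (.node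 (.leaf 0x2c4d00266a) (.leaf 0x0))))) (.node (.node (.node (.node (.leaf 0x10006d3) (.leaf 0x46d3004317)) (.node (.leaf 0x10025d5) (.leaf 0x6483000003))) (.node (.node (.leaf 0x20016d3) (.leaf 0x48fc0042ae)) (.node (.leaf 0x1f7100362d) (.leaf 0x0)))) (.node (.node (.node (.leaf 0xed3000001) (.leaf 0x42e6004ed3)) (.node (.leaf 0x2aac0028e2) (.leaf 0xdf000001))) (.node (.node (.leaf 0x2001ed3) (.leaf 0x2004b6b)) (.node (.leaf 0x2e070025e4) (.leaf 0x0))))))) (.node (.node (.node (.node (.node (.node (.leaf 0x20001d3) (.leaf 0x2fca0019d9)) (.node (.leaf 0x2001c2a) (.leaf 0x6009000001))) (.node (.node (.leaf 0x11d3000001) (.leaf 0x47560043bf)) (.node (.leaf 0x265d0031d3) (.leaf 0x0)))) (.node (.node (.node (.leaf 0x9d3000003) (.leaf 0x49d3004398)) (.node (.leaf 0x1f710029d3) (.leaf 0x6779000003))) (.node (.node (.leaf 0x10019d3) (.leaf 0x43f30043c3)) (.node (.leaf 0x2861002f97) (.leaf 0x0))))) (.node (.node (.node (.node (.leaf 0x30005d3) (.leaf 0x45d3004400))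 (.node (.leaf 0x20024bb) (.leaf 0x63a5000003))) (.node (.node (.leaf 0x15d3000002) (.leaf 0x4cbf0042ae)) (.node (.leaf 0x1f71002c6a) (.leaf 0x0)))) (.node (.node (.node (.leaf 0xdd3000003) (.leaf 0x4dd30042fb)) (.node (.leaf 0x2dd3001f72) (.leaf 0x6c09000001))) (.node (.node (.leaf 0x2001dd3) (.leaf 0x4bf0000003)) (.node (.leaf 0x2dbc0021b9) (.leaf 0x0)))))) (.node (.node (.node (.node (.node (.leaf 0x3d3000003) (.leaf 0x43d3004325)) (.node (.leaf 0x10022e3) (.leaf 0x61cd000001))) (.node (.node (.leaf 0x13d3000001) (.leaf 0x10e80053d3)) (.node (.leaf 0x33d3001f7b) (.leaf 0x0)))) (.node (.node (.node (.leaf 0xbd3000001) (.leaf 0x4bd30042ad)) (.node (.leaf 0x2bd3001f7b) (.leaf 0x699b000003))) (.node (.node (.leaf 0x1001bd3) (.leaf 0x1369000001)) (.node (.leaf 0x2bcd0027aa) (.leaf 0x0))))) (.node (.node (.node (.node (.leaf 0x20007d3) (.leaf 0x43280047d3)) (.node (.leaf 0x200270f) (.leaf 0x2006574))) (.node (.node (.leaf 0x10017d3) (.leaf 0x43ff004f64))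 (.node (.leaf 0x2407003247) (.leaf 0x0)))) (.node (.node (.node (.leaf 0x2000fd3) (.leaf 0x44910042f1)) (.node (.leaf 0x1f7b002b53) (.leaf 0x6ee7000001))) (.node (.node (.leaf 0x2000055) (.leaf 0x5e72000003)) (.node (.leaf 0x2fb000228d) (.leaf 0x0)))))))))

/-- part -/
def slpT_86 : Tr Nat := (.node (.node (.node (.node (.node (.node (.node (.node (.leaf 0x33000003) (.leaf 0x311500266c)) (.node (.leaf 0x1001ff1) (.leaf 0x5eb8000003))) (.node (.node (.leaf 0x1001033) (.leaf 0x503300439e)) (.node (.leaf 0x1f7b002f4c) (.leaf 0x6f5f000003)))) (.node (.node (.node (.leaf 0x2000833) (.leaf 0x48330042ef)) (.node (.leaf 0x100277a) (.leaf 0x65d3000001))) (.node (.node (.leaf 0x3001833) (.leaf 0x51c20042ac)) (.node (.leaf 0x1f7b0034aa) (.leaf 0x0))))) (.node (.node (.node (.node (.leaf 0x1000433) (.leaf 0x42e700441b)) (.node (.leaf 0x100233b) (.leaf 0x622d000001))) (.node (.node (.leaf 0x1433000003) (.leaf 0x4432005433)) (.node (.leaf 0x2b6e002020) (.leaf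 0x0)))) (.node (.node (.node (.leaf 0xc33000003) (.leaf 0x4c330043e1)) (.node (.leaf 0x2c33001f72) (.leaf 0x1567000001))) (.node (.node (.leaf 0x1c33000001) (.leaf 0x5bb3000003)) (.node (.leaf 0x31350025a2) (.leaf 0x0)))))) (.node (.node (.node (.node (.node (.leaf 0x233000003) (.leaf 0x2a380021f3)) (.node (.leaf 0x2000200) (.leaf 0x605d000003))) (.node (.node (.leaf 0x1233000003) (.leaf 0x1005233)) (.node (.leaf 0x1f71003233) (.leaf 0x0)))) (.node (.node (.node (.leaf 0x2000a33) (.leaf 0x4436004a33)) (.node (.leaf 0x2a33001f72) (.leaf 0x67d8000003))) (.node (.node (.leaf 0x1001a33) (.leaf 0x4dd90042ac)) (.node (.leaf 0x1d10035df) (.leaf 0x0))))) (.node (.node (.node (.node (.leaf 0x2000633) (.leaf 0x4405004633)) (.node (.leaf 0x200251f) (.leaf 0x63fb000003))) (.node (.node (.leaf 0x1633000001) (.leaf 0x56330042f1)) (.node (.leaf 0x1f71003633) (.leaf 0x0)))) (.node (.node (.node (.leaf 0xe33000001) (.leaf 0x3004e33)) (.node (.leaf 0x1f71002e33)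 (.leaf 0x6c95000001))) (.node (.node (.leaf 0x1e33000001) (.leaf 0x10012a0)) (.node (.leaf 0x2b76002220) (.leaf 0x0))))))) (.node (.node (.node (.node (.node (.node (.leaf 0x2000133) (.leaf 0x3230002648)) (.node (.leaf 0x10020bf) (.leaf 0x5f85000001))) (.node (.node (.leaf 0x1133000002) (.leaf 0x42f8005133)) (.node (.leaf 0x2bcf001f72) (.leaf 0x0)))) (.node (.node (.node (.leaf 0x1000933) (.leaf 0x4430004934)) (.node (.leaf 0x10028c7) (.leaf 0x66d3000003))) (.node (.node (.leaf 0x2001933) (.leaf 0x59330042b4)) (.node (.leaf 0x27ef003933) (.leaf 0x0))))) (.node (.node (.node (.node (.leaf 0x2000533) (.leaf 0x42cc004533)) (.node (.leaf 0x1002419) (.leaf 0x631b000001))) (.node (.node (.leaf 0x1533000003) (.leaf 0x432700441a)) (.node (.leaf 0x2200002ea7) (.leaf 0x0)))) (.node (.node (.node (.leaf 0x5e000001) (.leaf 0x4d3300003c)) (.node (.leaf 0x2d33001f72) (.leaf 0x6b33000003))) (.node (.node (.leaf 0x1d33000003) (.leaf 0x5c7b000003)) (.node (.leaf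 0x317e0020ae) (.leaf 0x0)))))) (.node (.node (.node (.node (.node (.leaf 0x2000333) (.leaf 0x432d0042ad)) (.node (.leaf 0x2002257) (.leaf 0x6131000003))) (.node (.node (.leaf 0x1333000001) (.leaf 0x442600488c)) (.node (.leaf 0x3333001f72) (.leaf 0x0)))) (.node (.node (.node (.leaf 0x1000b33) (.leaf 0x4b330043a0)) (.node (.leaf 0x2b33001f7b) (.leaf 0x68dd000003))) (.node (.node (.leaf 0x2001b33) (.leaf 0x5b08000003)) (.node (.leaf 0x34a700097e) (.leaf 0x0))))) (.node (.node (.node (.node (.leaf 0x1000733) (.leaf 0x4733004400)) (.node (.leaf 0x200264b) (.leaf 0x64e1000001))) (.node (.node (.leaf 0x2001733) (.leaf 0x43ab005733)) (.node (.leaf 0x2e2800213a) (.leaf 0x0)))) (.node (.node (.node (.leaf 0xf33000003) (.leaf 0x4399004f33)) (.node (.leaf 0x2f33001f72) (.leaf 0x6e09000003))) (.node (.node (.leaf 0x2001f33) (.leaf 0x5dfd000001)) (.node (.leaf 0x30a60027e2) (.leaf 0x0)))))))) (.node (.node (.node (.node (.node (.node (.node (.leaf 0x20000b3)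 (.leaf 0x2a44001652)) (.node (.leaf 0x100204b) (.leaf 0x5f27000003))) (.node (.node (.leaf 0xf680010b3) (.leaf 0x3d0050b3)) (.node (.leaf 0x30b3002120) (.leaf 0x7019000001)))) (.node (.node (.node (.leaf 0x30008b3) (.leaf 0x42f00048b3)) (.node (.leaf 0x100280d) (.leaf 0x2006650))) (.node (.node (.leaf 0x10018b3) (.leaf 0x42ae0058b4)) (.node (.leaf 0x22c5003161) (.leaf 0x0))))) (.node (.node (.node (.node (.leaf 0x10004b3) (.leaf 0x44b30042b4)) (.node (.leaf 0x200239d) (.leaf 0x62a3000003))) (.node (.node (.leaf 0x14b3000003) (.leaf 0x42a40054b3)) (.node (.leaf 0x2e8c002916) (.leaf 0x0)))) (.node (.node (.node (.leaf 0xcb3000001) (.leaf 0x462c0043ed)) (.node (.leaf 0x2c65001f7b) (.leaf 0x6a9b000003))) (.node (.node (.leaf 0x1cb3000001) (.leaf 0x5c0f000003)) (.node (.leaf 0x2fa900244c) (.leaf 0x0)))))) (.node (.node (.node (.node (.node (.leaf 0x2b3000003) (.leaf 0x42ac0042af)) (.node (.leaf 0x20021e1) (.leaf 0x60c3000003))) (.node (.node (.leaf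 0x12b3000001) (.leaf 0x436c0043f0)) (.node (.leaf 0x2e42000968) (.leaf 0x0)))) (.node (.node (.node (.leaf 0x1000ab3) (.leaf 0x42e6004ab3)) (.node (.leaf 0x1f71002ab3) (.leaf 0x685e000003))) (.node (.node (.leaf 0x2001ab3) (.leaf 0x5ab3000003)) (.node (.leaf 0x362200249c) (.leaf 0x0))))) (.node (.node (.node (.node (.leaf 0x10006b3) (.leaf 0x43ef004420)) (.node (.leaf 0x20025b1) (.leaf 0x646b000001))) (.node (.node (.leaf 0x20016b3) (.leaf 0x56b300439c)) (.node (.leaf 0x1f7b00363f) (.leaf 0x0)))) (.node (.node (.node (.leaf 0xeb3000001) (.leaf 0x42e8004eb4)) (.node (.leaf 0x1f71002eb3) (.leaf 0x6d3b000003))) (.node (.node (.leaf 0x1001eb3) (.leaf 0x1005d98)) (.node (.leaf 0x35e800227d) (.leaf 0x0))))))) (.node (.node (.node (.node (.node (.node (.leaf 0x1b3000003) (.leaf 0x2c19002506)) (.node (.leaf 0x20020a4) (.leaf 0x5fef000003))) (.node (.node (.leaf 0x11b3000f69) (.leaf 0x51b30043d9)) (.node (.leaf 0x1f7b002e24) (.leaf 0x0)))) (.node (.node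 (.node (.leaf 0x679000001) (.leaf 0x436a00453e)) (.node (.leaf 0x1f710029b3) (.leaf 0x6759000003))) (.node (.node (.leaf 0x20019b3) (.leaf 0x55240043d3)) (.node (.leaf 0x1f7b003748) (.leaf 0x0))))) (.node (.node (.node (.node (.leaf 0x20005b3) (.leaf 0x45b30010e7)) (.node (.leaf 0x100249f) (.leaf 0x6389000003))) (.node (.node (.leaf 0x15b3000001) (.leaf 0x55950042ae)) (.node (.leaf 0x1f7b002bfa) (.leaf 0x0)))) (.node (.node (.node (.leaf 0xdb3000003) (.leaf 0x453d00438a)) (.node (.leaf 0x2db3001f72) (.leaf 0x6bd7000003))) (.node (.node (.leaf 0x1000b85) (.leaf 0x5cd3000003)) (.node (.leaf 0x2bf3000fd3) (.leaf 0x0)))))) (.node (.node (.node (.node (.node (.leaf 0x20003b3) (.leaf 0x43b3004366)) (.node (.leaf 0x10022cd) (.leaf 0x61a5000003))) (.node (.node (.leaf 0x13b3000003) (.leaf 0x53b300439a)) (.node (.leaf 0x1f71002c16) (.leaf 0x0)))) (.node (.node (.node (.leaf 0x2000bb3) (.leaf 0x4bb3004433)) (.node (.leaf 0x2bb3001f7b) (.leaf 0x6979000003)))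 (.node (.node (.leaf 0x3001bb3) (.leaf 0x5b5b000001)) (.node (.leaf 0x2f860022e4) (.leaf 0x0))))) (.node (.node (.node (.node (.leaf 0x20007b3) (.leaf 0x43be0044e8)) (.node (.leaf 0x10026eb) (.leaf 0x1006558))) (.node (.node (.leaf 0x30017b3) (.leaf 0x43da0057b3)) (.node (.leaf 0x2c8b002408) (.leaf 0x0)))) (.node (.node (.node (.leaf 0xfb3000003) (.leaf 0x437700442f)) (.node (.leaf 0x20cb002fb3) (.leaf 0x6eb7000001))) (.node (.node (.leaf 0x2000a03) (.leaf 0x5e5d000003)) (.node (.leaf 0x36c8002154) (.leaf 0x0)))))))))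

/-- part -/
def slpT_87 : Tr Nat := (.node (.node (.node (.node (.node (.node (.node (.node (.leaf 0x2000073) (.leaf 0x2aa800266c)) (.node (.leaf 0x100201d) (.leaf 0x5eeb000003))) (.node (.node (.leaf 0x1001073) (.leaf 0x3b005073)) (.node (.leaf 0x3073000a02) (.leaf 0x6fc3000001)))) (.node (.node (.node (.leaf 0x2000873) (.leaf 0x430e004873)) (.node (.leaf 0x10027c3) (.leaf 0x100660e))) (.node (.node (.leaf 0x2001873) (.leaf 0x58730042a5)) (.node (.leaf 0x1f7b0037e3) (.leaf 0x0))))) (.node (.node (.node (.node (.leaf 0x1000473) (.leaf 0x43ff004473)) (.node (.leaf 0x1002365) (.leaf 0x626f000003))) (.node (.node (.leaf 0x1473000003) (.leaf 0x42f0005473)) (.node (.leaf 0x2e7a000fd6) (.leaf 0x0)))) (.node (.node (.node (.leaf 0xc73000001) (.leaf 0x22004c73)) (.node (.leaf 0x2c73001f72) (.leaf 0x6a47000001))) (.node (.node (.leaf 0x1c73000002) (.leaf 0x5bdb000003)) (.node (.leaf 0x2c070022fc) (.leaf 0x0)))))) (.node (.node (.node (.node (.node (.leaf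 0x273000003) (.leaf 0x21000021)) (.node (.leaf 0x21a8000001) (.leaf 0x5d9c000001))) (.node (.node (.leaf 0x1273000001) (.leaf 0x43f60043c3)) (.node (.leaf 0x1f7b002dca) (.leaf 0x0)))) (.node (.node (.node (.leaf 0x1000a73) (.leaf 0x43e2004a73)) (.node (.leaf 0x1f71002a52) (.leaf 0x681b000003))) (.node (.node (.leaf 0x1000cc6) (.leaf 0x43b60043f8)) (.node (.leaf 0x2aa60020b5) (.leaf 0x0))))) (.node (.node (.node (.node (.leaf 0x1000673) (.leaf 0x46730042e7)) (.node (.leaf 0x200256d) (.leaf 0x6431000003))) (.node (.node (.leaf 0x15f000003) (.leaf 0x432e005673)) (.node (.leaf 0x1f71003673) (.leaf 0x0)))) (.node (.node (.node (.leaf 0xe73000003) (.leaf 0x48fb004388)) (.node (.leaf 0x2199002e73) (.leaf 0x6ceb000003))) (.node (.node (.leaf 0x1001e73) (.leaf 0x2005d5c)) (.node (.leaf 0x310f0027ba) (.leaf 0x0))))))) (.node (.node (.node (.node (.node (.node (.leaf 0x173000001) (.leaf 0x2da300285c)) (.node (.leaf 0x20020ed) (.leaf 0x5fbb000003))) (.node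 (.node (.leaf 0x1173000001) (.leaf 0x439d005173)) (.node (.leaf 0x1fbf002a16) (.leaf 0x0)))) (.node (.node (.node (.leaf 0x2000973) (.leaf 0x4358004973)) (.node (.leaf 0x200292f) (.leaf 0x6713000003))) (.node (.node (.leaf 0x1001973) (.leaf 0x498f0043cf)) (.node (.leaf 0x22c9003033) (.leaf 0x0))))) (.node (.node (.node (.node (.leaf 0x1000573) (.leaf 0x457300429d)) (.node (.leaf 0x1002459) (.leaf 0x6357000003))) (.node (.node (.leaf 0x1573000001) (.leaf 0x5573004429)) (.node (.leaf 0x299f003021) (.leaf 0x0)))) (.node (.node (.node (.leaf 0xd31000c57) (.leaf 0x4d730042ff)) (.node (.leaf 0x1f7b002d73) (.leaf 0x6b89000003))) (.node (.node (.leaf 0x2001d73) (.leaf 0x2469000003)) (.node (.leaf 0x2ad700216e) (.leaf 0x0)))))) (.node (.node (.node (.node (.node (.leaf 0x3000373) (.leaf 0x436b004367)) (.node (.leaf 0x2002292) (.leaf 0x616b000001))) (.node (.node (.leaf 0x2f7000003) (.leaf 0x442c004dab)) (.node (.leaf 0x1f71002e9f) (.leaf 0x0)))) (.node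 (.node (.node (.leaf 0x3000b73) (.leaf 0x441b004425)) (.node (.leaf 0x1f71002b73) (.leaf 0x692d000003))) (.node (.node (.leaf 0x200178b) (.leaf 0x21f5000003)) (.node (.leaf 0x2fd20020b6) (.leaf 0x0))))) (.node (.node (.node (.node (.leaf 0x1000773) (.leaf 0x44230043ef)) (.node (.leaf 0x269c000003) (.leaf 0x651b000001))) (.node (.node (.leaf 0x1001773) (.leaf 0x42f00043b3)) (.node (.leaf 0x2f9a001f7b) (.leaf 0x0)))) (.node (.node (.node (.leaf 0xf73000003) (.leaf 0x4f73004303)) (.node (.leaf 0x1f7b002c3e) (.leaf 0x6e4d000001))) (.node (.node (.leaf 0x2001f73) (.leaf 0x5e26000003)) (.node (.leaf 0x317e000fd9) (.leaf 0x0)))))))) (.node (.node (.node (.node (.node (.node (.node (.leaf 0x20000f3) (.leaf 0x39ea000187)) (.node (.leaf 0x100207f) (.leaf 0x5f57000003))) (.node (.node (.leaf 0x10010f3) (.leaf 0x50f30042e9)) (.node (.leaf 0x1f7b0030f3) (.leaf 0x70a3000001)))) (.node (.node (.node (.leaf 0x10008f3) (.leaf 0x43520048f3)) (.node (.leaf 0x200285b)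 (.leaf 0x60a2000003))) (.node (.node (.leaf 0x10018f3) (.leaf 0x30058f3)) (.node (.leaf 0x21c7002d1e) (.leaf 0x0))))) (.node (.node (.node (.node (.leaf 0x10004f3) (.leaf 0x44f300438a)) (.node (.leaf 0x10023dd) (.leaf 0x62df000003))) (.node (.node (.leaf 0x14f3000003) (.leaf 0x54f300434d)) (.node (.leaf 0x1f710034f3) (.leaf 0x0)))) (.node (.node (.node (.leaf 0xcf3000003) (.leaf 0x4cf30042cd)) (.node (.leaf 0x2c0d00018a) (.leaf 0x6ae9000003))) (.node (.node (.leaf 0x1cf3000001) (.leaf 0x5c43000001)) (.node (.leaf 0x2f1300233c) (.leaf 0x0)))))) (.node (.node (.node (.node (.node (.leaf 0x2f3000001) (.leaf 0x42ed0042e5)) (.node (.leaf 0x100221e) (.leaf 0x60f5000001))) (.node (.node (.leaf 0x12f3000003) (.leaf 0x52f30042ad)) (.node (.leaf 0x32f30027fe) (.leaf 0x0)))) (.node (.node (.node (.leaf 0x2000af3) (.leaf 0x42e4004af3)) (.node (.leaf 0x2af3001f72) (.leaf 0x68a0000003))) (.node (.node (.leaf 0x1001af3) (.leaf 0x2005adb)) (.node (.leaf 0x2e6e001fb6)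 (.leaf 0x0))))) (.node (.node (.node (.node (.leaf 0x10006f3) (.leaf 0x43b70043c1)) (.node (.leaf 0x1002601) (.leaf 0x649f000003))) (.node (.node (.leaf 0x10016f3) (.leaf 0x451a004420)) (.node (.leaf 0x258b002b87) (.leaf 0x0)))) (.node (.node (.node (.leaf 0xef3000001) (.leaf 0x43ff0045a7)) (.node (.leaf 0x2c01001f7b) (.leaf 0x6db7000003))) (.node (.node (.leaf 0x2001ef3) (.leaf 0x5dc5000003)) (.node (.leaf 0x2a440027e2) (.leaf 0x0))))))) (.node (.node (.node (.node (.node (.node (.leaf 0x10001f3) (.leaf 0x2ba9002156)) (.node (.leaf 0x2000bc6) (.leaf 0x6021000001))) (.node (.node (.leaf 0x11f3000001) (.leaf 0x51f3004408)) (.node (.leaf 0x1f710031f3) (.leaf 0x0)))) (.node (.node (.node (.leaf 0x9f3000001) (.leaf 0x42ae004856)) (.node (.leaf 0x29f3001f72) (.leaf 0x679c000001))) (.node (.node (.leaf 0x20019f3) (.leaf 0x43f00043bd)) (.node (.leaf 0x218b0031b9) (.leaf 0x0))))) (.node (.node (.node (.node (.leaf 0x10003ba) (.leaf 0x42740045f3)) (.node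 (.leaf 0x20024d9) (.leaf 0x620a000001))) (.node (.node (.leaf 0x15f3000003) (.leaf 0x55f30010e7)) (.node (.leaf 0x2967002fc5) (.leaf 0x0)))) (.node (.node (.node (.leaf 0xdf3000003) (.leaf 0x498f0042ad)) (.node (.leaf 0x2a0b00247e) (.leaf 0x6c37000001))) (.node (.node (.leaf 0x2001df3) (.leaf 0x3c3000001)) (.node (.leaf 0x2bb10021b9) (.leaf 0x0)))))) (.node (.node (.node (.node (.node (.leaf 0x3f3000001) (.leaf 0x43b30043f1)) (.node (.leaf 0x10022ff) (.leaf 0x2523000003))) (.node (.node (.leaf 0x13f3000001) (.leaf 0x432e004d53)) (.node (.leaf 0x31e6001f72) (.leaf 0x0)))) (.node (.node (.node (.leaf 0xbf3000001) (.leaf 0x4bf30042b2)) (.node (.leaf 0x2bf3001f72) (.leaf 0x69c3000001))) (.node (.node (.leaf 0x1001bf3) (.leaf 0x1b10000003)) (.node (.leaf 0x3b0b00282a) (.leaf 0x0))))) (.node (.node (.node (.node (.leaf 0x10007f3) (.leaf 0x434c0047f3)) (.node (.leaf 0x2002739) (.leaf 0x200658e))) (.node (.node (.leaf 0x20017f3) (.leaf 0x4f89004400))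 (.node (.leaf 0x2719002d5a) (.leaf 0x0)))) (.node (.node (.node (.leaf 0x2000ff3) (.leaf 0x438500460e)) (.node (.leaf 0x2047002ff3) (.leaf 0x6f0b000003))) (.node (.node (.leaf 0x1fcc000001) (.leaf 0x5e87000001)) (.node (.leaf 0x34f80023e8) (.leaf 0x0)))))))))

/-- part -/
def slpT_88 : Tr Nat := (.node (.node (.node (.node (.node (.node (.node (.node (.leaf 0x300000b) (.leaf 0x373100205a)) (.node (.leaf 0x2001fdc) (.leaf 0x5e9d000001))) (.node (.node (.leaf 0x100100b) (.leaf 0x500b0043ac)) (.node (.leaf 0x1f71002c2a) (.leaf 0x6f2b000003)))) (.node (.node (.node (.leaf 0x300080b) (.leaf 0x43830044de)) (.node (.leaf 0x2002752) (.leaf 0x20065aa))) (.node (.node (.leaf 0x100180b) (.leaf 0x580b00429b)) (.node (.leaf 0x21a1002a53) (.leaf 0x0))))) (.node (.node (.node (.node (.leaf 0x200040b) (.leaf 0x200440b)) (.node (.leaf 0x2002313) (.leaf 0x61fd000003))) (.node (.node (.leaf 0x140b000003) (.leaf 0x436c0043ba)) (.node (.leaf 0x2c11002636) (.leaf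 0x0)))) (.node (.node (.node (.leaf 0xc0b000001) (.leaf 0x4c0b0010e7)) (.node (.leaf 0x2c0b001f72) (.leaf 0x69dd000003))) (.node (.node (.leaf 0x1001c0b) (.leaf 0x1c2d000003)) (.node (.leaf 0x2a080021d8) (.leaf 0x0)))))) (.node (.node (.node (.node (.node (.leaf 0x200020b) (.leaf 0x32cf00295e)) (.node (.leaf 0x214c000001) (.leaf 0x6037000003))) (.node (.node (.leaf 0x120b000001) (.leaf 0x439b00520b)) (.node (.leaf 0x1f710031f7) (.leaf 0x0)))) (.node (.node (.node (.leaf 0x2000a0b) (.leaf 0x434c004a0b)) (.node (.leaf 0x2a0b001f72) (.leaf 0x67b6000003))) (.node (.node (.leaf 0x2001a0b) (.leaf 0x5a0b004359)) (.node (.leaf 0x218b0032ea) (.leaf 0x0))))) (.node (.node (.node (.node (.leaf 0x200060b) (.leaf 0x43be00449a)) (.node (.leaf 0x10024f9) (.leaf 0x63d5000003))) (.node (.node (.leaf 0x160b000003) (.leaf 0x560b004313)) (.node (.leaf 0x1f7b003410) (.leaf 0x0)))) (.node (.node (.node (.leaf 0xe0b000003) (.leaf 0x443e0043cf)) (.node (.leaf 0x2e0b001f72)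 (.leaf 0x6c59000003))) (.node (.node (.leaf 0x2001e0b) (.leaf 0x5d0b000003)) (.node (.leaf 0x2f450021b9) (.leaf 0x0))))))) (.node (.node (.node (.node (.node (.node (.leaf 0x200010b) (.leaf 0x2c7900251c)) (.node (.leaf 0x2002097) (.leaf 0x5f6d000001))) (.node (.node (.leaf 0x110b000003) (.leaf 0x43b1004386)) (.node (.leaf 0x2e44002890) (.leaf 0x70db000001)))) (.node (.node (.node (.leaf 0x200090b) (.leaf 0x43f70043b6)) (.node (.leaf 0x1002881) (.leaf 0x66af000001))) (.node (.node (.leaf 0x300190b) (.leaf 0x590b004303)) (.node (.leaf 0x1f7b00316f) (.leaf 0x0))))) (.node (.node (.node (.node (.leaf 0x200050b) (.leaf 0x439900450b)) (.node (.leaf 0x20023f3) (.leaf 0x62f5000003))) (.node (.node (.leaf 0x150b000001) (.leaf 0x440100550b)) (.node (.leaf 0x220000350b) (.leaf 0x0)))) (.node (.node (.node (.leaf 0xd0b000001) (.leaf 0x4d0b0042f9)) (.node (.leaf 0x2cbb0021ec) (.leaf 0x6b03000003))) (.node (.node (.leaf 0x1d0b000001) (.leaf 0x5c57000001))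 (.node (.leaf 0x2a1f002552) (.leaf 0x0)))))) (.node (.node (.node (.node (.node (.leaf 0x30b000002) (.leaf 0x43050042e5)) (.node (.leaf 0x2002234) (.leaf 0x6109000003))) (.node (.node (.leaf 0x130b000002) (.leaf 0x530b00443b)) (.node (.leaf 0x3270001f72) (.leaf 0x0)))) (.node (.node (.node (.leaf 0x3000b0b) (.leaf 0x438700467a)) (.node (.leaf 0x2a23001f7b) (.leaf 0x68b4000003))) (.node (.node (.leaf 0x2001b0b) (.leaf 0x200208e)) (.node (.leaf 0x311f001f72) (.leaf 0x0))))) (.node (.node (.node (.node (.leaf 0x100070b) (.leaf 0x470b00428f)) (.node (.leaf 0x2001256) (.leaf 0x64b7000001))) (.node (.node (.leaf 0x100170b) (.leaf 0x570b004317)) (.node (.leaf 0x1f71002b91) (.leaf 0x0)))) (.node (.node (.node (.leaf 0xf0b000002) (.leaf 0x4383004ac3)) (.node (.leaf 0x2f0b001f72) (.leaf 0x6ddb000003))) (.node (.node (.leaf 0x1001f0b) (.leaf 0x5ddb000003)) (.node (.leaf 0x39ba0027e2) (.leaf 0x0)))))))) (.node (.node (.node (.node (.node (.node (.node (.leaf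 0x8b000003) (.leaf 0x2dc300266c)) (.node (.leaf 0x2002031) (.leaf 0x5f01000003))) (.node (.node (.leaf 0x200108b) (.leaf 0x42fe00508b)) (.node (.leaf 0x2e92001f7b) (.leaf 0x6fdb000003)))) (.node (.node (.node (.leaf 0x200088b) (.leaf 0x43d000488b)) (.node (.leaf 0x20027dd) (.leaf 0x2006628))) (.node (.node (.leaf 0x100188b) (.leaf 0x588b0043a0)) (.node (.leaf 0x23c3002c46) (.leaf 0x0))))) (.node (.node (.node (.node (.leaf 0x10002b8) (.leaf 0x448b00428d)) (.node (.leaf 0x200218a) (.leaf 0x5c78000001))) (.node (.node (.leaf 0x148b000003) (.leaf 0x43680043b8)) (.node (.leaf 0x2a94001f72) (.leaf 0x0)))) (.node (.node (.node (.leaf 0xc8b000001) (.leaf 0x4c8b0043d9)) (.node (.leaf 0x2c8b001f72) (.leaf 0x6a71000003))) (.node (.node (.leaf 0x1c8b000001) (.leaf 0x5bed000003)) (.node (.leaf 0x2f980024ae) (.leaf 0x0)))))) (.node (.node (.node (.node (.node (.leaf 0x28b000001) (.leaf 0x428b00428b)) (.node (.leaf 0x21be000003) (.leaf 0x609b000003))) (.node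 (.node (.leaf 0x128b000001) (.leaf 0x42ae004c49)) (.node (.leaf 0x29e700287a) (.leaf 0x0)))) (.node (.node (.node (.leaf 0x1000a8b) (.leaf 0x71004a8b)) (.node (.leaf 0x1f71002a8b) (.leaf 0x6837000003))) (.node (.node (.leaf 0x1001a8b) (.leaf 0x5a8b0043ac)) (.node (.leaf 0x3a6f001f72) (.leaf 0x0))))) (.node (.node (.node (.node (.leaf 0x200068b) (.leaf 0x468b0042a5)) (.node (.leaf 0x2002585) (.leaf 0x6449000001))) (.node (.node (.leaf 0x200168b) (.leaf 0x568b0043a8)) (.node (.leaf 0x1f71003484) (.leaf 0x0)))) (.node (.node (.node (.leaf 0xe8b000001) (.leaf 0x4e8b004433)) (.node (.leaf 0x2199002e8b) (.leaf 0x6d09000003))) (.node (.node (.leaf 0x1001e8b) (.leaf 0x2005d70)) (.node (.leaf 0x2d510020e4) (.leaf 0x0))))))) (.node (.node (.node (.node (.node (.node (.leaf 0x18b000003) (.leaf 0x33ac00285c)) (.node (.leaf 0x2000a0c) (.leaf 0x5fcd000003))) (.node (.node (.leaf 0x118b000003) (.leaf 0x44230043f4)) (.node (.leaf 0x1fbf002b72) (.leaf 0x0))))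 (.node (.node (.node (.leaf 0x98b000003) (.leaf 0x7300498b)) (.node (.leaf 0x1002955) (.leaf 0x672d000001))) (.node (.node (.leaf 0x2001608) (.leaf 0x598b00430f)) (.node (.leaf 0x1f71002fb9) (.leaf 0x0))))) (.node (.node (.node (.node (.leaf 0x100058b) (.leaf 0x458b0042ed)) (.node (.leaf 0x200246f) (.leaf 0x6369000003))) (.node (.node (.leaf 0x158b000001) (.leaf 0x451c0042ad)) (.node (.leaf 0x26d9002dde) (.leaf 0x0)))) (.node (.node (.node (.leaf 0xd8b000001) (.leaf 0x4d8b00440a)) (.node (.leaf 0x2d8b0021ec) (.leaf 0x6bad000003))) (.node (.node (.leaf 0x1001d8b) (.leaf 0x5cb9000001)) (.node (.leaf 0x2ab70001fb) (.leaf 0x0)))))) (.node (.node (.node (.node (.node (.leaf 0x100038b) (.leaf 0x42ac004387)) (.node (.leaf 0x10022ab) (.leaf 0x1e20000003))) (.node (.node (.leaf 0x138b000001) (.leaf 0x43a900538b)) (.node (.leaf 0x1f7100338b) (.leaf 0x0)))) (.node (.node (.node (.leaf 0x1000b8b) (.leaf 0x4b8b00430f)) (.node (.leaf 0x1f71002b8b) (.leaf 0x694d000003)))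 (.node (.node (.leaf 0x2001b8b) (.leaf 0x5b39000003)) (.node (.leaf 0x303a002320) (.leaf 0x0))))) (.node (.node (.node (.node (.leaf 0x200078b) (.leaf 0x478b0042fb)) (.node (.leaf 0x10026c3) (.leaf 0x200653c))) (.node (.node (.leaf 0x2000912) (.leaf 0x43a700578b)) (.node (.leaf 0x2a08000054) (.leaf 0x0)))) (.node (.node (.node (.leaf 0xf8b000003) (.leaf 0x4f8b0042e7)) (.node (.leaf 0x1f7b002f8b) (.leaf 0x6e6f000001))) (.node (.node (.leaf 0x2001f85) (.leaf 0x5e3c000003)) (.node (.leaf 0x3636002755) (.leaf 0x0)))))))))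

/-- part -/
def slpT_89 : Tr Nat := (.node (.node (.node (.node (.node (.node (.node (.node (.leaf 0x200004b) (.leaf 0x361800266c)) (.node (.leaf 0x2001eaf) (.leaf 0x5eca000001))) (.node (.node (.leaf 0x200104b) (.leaf 0x504b00428b)) (.node (.leaf 0x1f7b002e65) (.leaf 0x6f8b000001)))) (.node (.node (.node (.leaf 0x100084b) (.leaf 0x44e800436b)) (.node (.leaf 0x100279b) (.leaf 0x65e5000001))) (.node (.node (.leaf 0x200184b) (.leaf 0x476c004427)) (.node (.leaf 0x319e001f7b) (.leaf 0x0))))) (.node (.node (.node (.node (.leaf 0x200044b) (.leaf 0x444b000003)) (.node (.leaf 0x2002349) (.leaf 0x6243000001))) (.node (.node (.leaf 0x144b000001) (.leaf 0x428a00544b)) (.node (.leaf 0x2d21001f7b) (.leaf 0x0)))) (.node (.node (.node (.leaf 0xc4b000003) (.leaf 0x4c4b0042b0)) (.node (.leaf 0x2b98001f7b) (.leaf 0x6a1d000001))) (.node (.node (.leaf 0x1c4b000001) (.leaf 0x5bc3000003)) (.node (.leaf 0x2e9100249a) (.leaf 0x0)))))) (.node (.node (.node (.node (.node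 (.leaf 0x24b000002) (.leaf 0x37f400019b)) (.node (.leaf 0x200217d) (.leaf 0x606d000001))) (.node (.node (.leaf 0x124b000003) (.leaf 0x42fa00524b)) (.node (.leaf 0x1f7100324b) (.leaf 0x0)))) (.node (.node (.node (.leaf 0x1000a4b) (.leaf 0x442a004a4b)) (.node (.leaf 0x1f710029e3) (.leaf 0x67f2000003))) (.node (.node (.leaf 0x1001a4b) (.leaf 0x5a3a0042ac)) (.node (.leaf 0x2c6d00218a) (.leaf 0x0))))) (.node (.node (.node (.node (.leaf 0x200064b) (.leaf 0x464b000021)) (.node (.leaf 0x2002541) (.leaf 0x6413000003))) (.node (.node (.leaf 0x164b000001) (.leaf 0x42b300564b)) (.node (.leaf 0x4d0029cb) (.leaf 0x0)))) (.node (.node (.node (.leaf 0xe4b000001) (.leaf 0x4e4b00434d)) (.node (.leaf 0x1f71002cba) (.leaf 0x6caf000003))) (.node (.node (.leaf 0x1e4b000002) (.leaf 0x2005d3c)) (.node (.leaf 0x3346000186) (.leaf 0x0))))))) (.node (.node (.node (.node (.node (.node (.leaf 0x14b000001) (.leaf 0x2fde0023b2)) (.node (.leaf 0x10020d3) (.leaf 0x1718000003)))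 (.node (.node (.leaf 0x114b000002) (.leaf 0x2200514b)) (.node (.leaf 0x1f7b00314b) (.leaf 0x0)))) (.node (.node (.node (.leaf 0x200094b) (.leaf 0x10e800494b)) (.node (.leaf 0x20028ef) (.leaf 0x66eb000001))) (.node (.node (.leaf 0x200194b) (.leaf 0x594b004275)) (.node (.leaf 0x1f7b0038b7) (.leaf 0x0))))) (.node (.node (.node (.node (.leaf 0x100054b) (.leaf 0x429a00454b)) (.node (.leaf 0x100242f) (.leaf 0x6331000001))) (.node (.node (.leaf 0x154b000003) (.leaf 0x430000554b)) (.node (.leaf 0x299f002fe7) (.leaf 0x0)))) (.node (.node (.node (.leaf 0xd4b000001) (.leaf 0x4d4b0042e9)) (.node (.leaf 0x2d4b001f7b) (.leaf 0x6b4f000003))) (.node (.node (.leaf 0x1d4b000001) (.leaf 0x5c87000001)) (.node (.leaf 0x347d0024e2) (.leaf 0x0)))))) (.node (.node (.node (.node (.node (.leaf 0x200034b) (.leaf 0x43490042ad)) (.node (.leaf 0x1002276) (.leaf 0x6147000003))) (.node (.node (.leaf 0x134b000003) (.leaf 0x43720043b4)) (.node (.leaf 0x1f71002ebf) (.leaf 0x0))))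 (.node (.node (.node (.leaf 0x1000b4b) (.leaf 0x47e8004429)) (.node (.leaf 0x1f7b002b4b) (.leaf 0x68f9000003))) (.node (.node (.leaf 0x1001b4b) (.leaf 0x200201c)) (.node (.leaf 0x30d20020cb) (.leaf 0x0))))) (.node (.node (.node (.node (.leaf 0x200074b) (.leaf 0x441d0043f8)) (.node (.leaf 0x266c000001) (.leaf 0x64f5000001))) (.node (.node (.leaf 0x200174b) (.leaf 0x42e600574b)) (.node (.leaf 0x33b6001f72) (.leaf 0x0)))) (.node (.node (.node (.leaf 0xf4b000003) (.leaf 0x4387004f4b)) (.node (.leaf 0x27d9002f4c) (.leaf 0x6e23000003))) (.node (.node (.leaf 0x1674000001) (.leaf 0x5e0f000001)) (.node (.leaf 0x3775000fd9) (.leaf 0x0)))))))) (.node (.node (.node (.node (.node (.node (.node (.leaf 0x20000cb) (.leaf 0x3099000187)) (.node (.leaf 0x2002059) (.leaf 0x5f39000003))) (.node (.node (.leaf 0x10010cb) (.leaf 0x44380050cb)) (.node (.leaf 0x2a90002120) (.leaf 0x7043000003)))) (.node (.node (.node (.leaf 0x30008cb) (.leaf 0x43ec0043f5)) (.node (.leaf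 0x1002829) (.leaf 0x1006666))) (.node (.node (.leaf 0x10018cb) (.leaf 0x42ad00481d)) (.node (.leaf 0x1f71003583) (.leaf 0x0))))) (.node (.node (.node (.node (.leaf 0x20004cb) (.leaf 0x44cb000001)) (.node (.leaf 0x10016d8) (.leaf 0x62b5000001))) (.node (.node (.leaf 0x14cb000001) (.leaf 0x20054cb)) (.node (.leaf 0x256500308c) (.leaf 0x0)))) (.node (.node (.node (.leaf 0xccb000003) (.leaf 0x4ccb0043a2)) (.node (.leaf 0x2c2f0029ac) (.leaf 0x6ab5000001))) (.node (.node (.leaf 0x1ccb000003) (.leaf 0x5c23000003)) (.node (.leaf 0x33b600244c) (.leaf 0x0)))))) (.node (.node (.node (.node (.node (.leaf 0x2cb000003) (.leaf 0x740042ad)) (.node (.leaf 0x20021f3) (.leaf 0x60d5000003))) (.node (.node (.leaf 0x12cb000001) (.leaf 0x52cb000003)) (.node (.leaf 0x30fd001f72) (.leaf 0x0)))) (.node (.node (.node (.leaf 0x1000acb) (.leaf 0x42ad004acc)) (.node (.leaf 0x1f7b002acb) (.leaf 0x6878000001))) (.node (.node (.leaf 0x2001acb) (.leaf 0x10019d1)) (.node (.leaf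 0x2c970023f0) (.leaf 0x0))))) (.node (.node (.node (.node (.leaf 0x10006cb) (.leaf 0x46cb004408)) (.node (.leaf 0x20025cd) (.leaf 0x647b000003))) (.node (.node (.leaf 0x10016cb) (.leaf 0x56cb00443b)) (.node (.leaf 0x5e7003643) (.leaf 0x0)))) (.node (.node (.node (.leaf 0xecb000001) (.leaf 0x434c004ecb)) (.node (.leaf 0x1f7b002ecb) (.leaf 0x6d69000001))) (.node (.node (.leaf 0x2001ecb) (.leaf 0x2005dac)) (.node (.leaf 0x2b92002044) (.leaf 0x0))))))) (.node (.node (.node (.node (.node (.node (.leaf 0x10001cb) (.leaf 0x30a10019d9)) (.node (.leaf 0x200211d) (.leaf 0x6001000003))) (.node (.node (.leaf 0x11cb000001) (.leaf 0x46e1004429)) (.node (.leaf 0x1f710031cb) (.leaf 0x0)))) (.node (.node (.node (.leaf 0x5f0000001) (.leaf 0x49cb0042e5)) (.node (.leaf 0x1f710029cb) (.leaf 0x676f000001))) (.node (.node (.leaf 0x20019cb) (.leaf 0x441a0043c3)) (.node (.leaf 0x1f7b0032de) (.leaf 0x0))))) (.node (.node (.node (.node (.leaf 0x20005cb) (.leaf 0x45cb0042b4))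 (.node (.leaf 0x10024b5) (.leaf 0x639f000003))) (.node (.node (.leaf 0x15cb000003) (.leaf 0x43fa004388)) (.node (.leaf 0x250035cb) (.leaf 0x0)))) (.node (.node (.node (.leaf 0xdcb000001) (.leaf 0x4dcb0010e7)) (.node (.leaf 0x2dcb001f72) (.leaf 0x6c01000003))) (.node (.node (.leaf 0x1001dcb) (.leaf 0x5ce5000001)) (.node (.leaf 0x2fa80021b9) (.leaf 0x0)))))) (.node (.node (.node (.node (.node (.leaf 0x20003cb) (.leaf 0x43c50043b4)) (.node (.leaf 0x20022df) (.leaf 0x552b000003))) (.node (.node (.leaf 0x13cb000001) (.leaf 0x710053cb)) (.node (.leaf 0x3192001f7b) (.leaf 0x0)))) (.node (.node (.node (.leaf 0xbcb000001) (.leaf 0x4bcb0042e5)) (.node (.leaf 0x2bcb001f7b) (.leaf 0x6991000003))) (.node (.node (.leaf 0x1001bcb) (.leaf 0x5b73000003)) (.node (.leaf 0x2a520027aa) (.leaf 0x0))))) (.node (.node (.node (.node (.leaf 0x20007cb) (.leaf 0x43d60047cb)) (.node (.leaf 0x2002705) (.leaf 0x2006570))) (.node (.node (.leaf 0x10017cb) (.leaf 0x44260057cb))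 (.node (.leaf 0x34c0002408) (.leaf 0x0)))) (.node (.node (.node (.leaf 0x1000079) (.leaf 0x4fcb0042cd)) (.node (.leaf 0x1f71002e85) (.leaf 0x6edb000003))) (.node (.node (.leaf 0x1001fab) (.leaf 0x5e6e000001)) (.node (.leaf 0x2eb00020f8) (.leaf 0x0)))))))))

/-- part -/
def slpT_90 : Tr Nat := (.node (.node (.node (.node (.node (.node (.node (.node (.leaf 0x2b000003) (.leaf 0x329500266c)) (.node (.leaf 0x1001fee) (.leaf 0x3c1000001))) (.node (.node (.leaf 0x200102b) (.leaf 0x502b004435)) (.node (.leaf 0x1f71002ecb) (.leaf 0x6f4f000003)))) (.node (.node (.node (.leaf 0x300082b) (.leaf 0x427400482b)) (.node (.leaf 0x1002772) (.leaf 0x65cb000001))) (.node (.node (.leaf 0x200182b) (.leaf 0x582b0043e3)) (.node (.leaf 0x269b002e7b) (.leaf 0x0))))) (.node (.node (.node (.node (.leaf 0x100042b) (.leaf 0x44270042ad)) (.node (.leaf 0x2002331) (.leaf 0x621f000003))) (.node (.node (.leaf 0x142b000002) (.leaf 0x434c00542b)) (.node (.leaf 0x2ba2002020) (.leaf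 0x0)))) (.node (.node (.node (.leaf 0xc2b000003) (.leaf 0x445f0043bd)) (.node (.leaf 0x2c2b001f7b) (.leaf 0x6a05000001))) (.node (.node (.leaf 0x2001c2b) (.leaf 0x5baf000001)) (.node (.leaf 0x322c0025a2) (.leaf 0x0)))))) (.node (.node (.node (.node (.node (.leaf 0x22b000002) (.leaf 0x306b001937)) (.node (.leaf 0x215e000003) (.leaf 0x2635000003))) (.node (.node (.leaf 0x122b000002) (.leaf 0x435800522b)) (.node (.leaf 0x24bb00322b) (.leaf 0x0)))) (.node (.node (.node (.leaf 0x1000a2b) (.leaf 0x4316004a2b)) (.node (.leaf 0x2a2b001f72) (.leaf 0x67d2000001))) (.node (.node (.leaf 0x1001a2b) (.leaf 0x4b7f0043cf)) (.node (.leaf 0x1d1002dea) (.leaf 0x0))))) (.node (.node (.node (.node (.leaf 0x200062b) (.leaf 0x436a00462b)) (.node (.leaf 0x1002515) (.leaf 0x627a000001))) (.node (.node (.leaf 0x162b000001) (.leaf 0x562b0043a2)) (.node (.leaf 0x1f7100362b) (.leaf 0x0)))) (.node (.node (.node (.leaf 0xe2b000001) (.leaf 0x443200463e)) (.node (.leaf 0x2e2b0024f2)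 (.leaf 0x6c8b000001))) (.node (.node (.leaf 0x1e2b000001) (.leaf 0x1005d24)) (.node (.leaf 0x30d4002220) (.leaf 0x0))))))) (.node (.node (.node (.node (.node (.node (.leaf 0x200012b) (.leaf 0x33b20021e8)) (.node (.leaf 0x10020b7) (.leaf 0xc54000001))) (.node (.node (.leaf 0x112b000003) (.leaf 0x43ab00512b)) (.node (.leaf 0x2c77001f72) (.leaf 0x0)))) (.node (.node (.node (.leaf 0x100092b) (.leaf 0x442400462b)) (.node (.leaf 0x20028bb) (.leaf 0x66cd000001))) (.node (.node (.leaf 0x200192b) (.leaf 0x592b004301)) (.node (.leaf 0x27ef003537) (.leaf 0x0))))) (.node (.node (.node (.node (.leaf 0x300052b) (.leaf 0x43c80043b9)) (.node (.leaf 0x200240f) (.leaf 0x6313000003))) (.node (.node (.leaf 0x152b000003) (.leaf 0x42ae0046d7)) (.node (.leaf 0x1f7100352b) (.leaf 0x0)))) (.node (.node (.node (.leaf 0xd2b000003) (.leaf 0x43f5004422)) (.node (.leaf 0x2d2b001f72) (.leaf 0x6b2b000001))) (.node (.node (.leaf 0x1d2b000001) (.leaf 0x5c71000003)) (.node (.leaf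 0x3303002552) (.leaf 0x0)))))) (.node (.node (.node (.node (.node (.leaf 0x32b000001) (.leaf 0x43290042ad)) (.node (.leaf 0x1002255) (.leaf 0x612b000001))) (.node (.node (.leaf 0x132b000001) (.leaf 0x4387004622)) (.node (.leaf 0x3089001f7b) (.leaf 0x0)))) (.node (.node (.node (.leaf 0x1000b2b) (.leaf 0x4b2b00003c)) (.node (.leaf 0x2b2b001f72) (.leaf 0x68d0000001))) (.node (.node (.leaf 0x2001b2b) (.leaf 0x20019af)) (.node (.leaf 0x2aa200276b) (.leaf 0x0))))) (.node (.node (.node (.node (.leaf 0x100072b) (.leaf 0x472b004402)) (.node (.leaf 0x1002645) (.leaf 0x64db000003))) (.node (.node (.leaf 0x300172b) (.leaf 0x572b00439e)) (.node (.leaf 0x1f7b0031f3) (.leaf 0x0)))) (.node (.node (.node (.leaf 0xf2b000002) (.leaf 0x42fc004f2b)) (.node (.leaf 0x2c55001f7b) (.leaf 0x6dfb000003))) (.node (.node (.leaf 0x1001f2b) (.leaf 0x5df5000003)) (.node (.leaf 0x2ecf0027e2) (.leaf 0x0)))))))) (.node (.node (.node (.node (.node (.node (.node (.leaf 0x19000003)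 (.leaf 0x34c800257c)) (.node (.leaf 0x2002045) (.leaf 0x3c9000001))) (.node (.node (.leaf 0x20010ab) (.leaf 0x43700043ee)) (.node (.leaf 0x30ab001f72) (.leaf 0x7013000003)))) (.node (.node (.node (.leaf 0x20008ab) (.leaf 0x43a10048ab)) (.node (.leaf 0x2002805) (.leaf 0x1006646))) (.node (.node (.leaf 0x10018ab) (.leaf 0x58ab004427)) (.node (.leaf 0x1f7b003446) (.leaf 0x0))))) (.node (.node (.node (.node (.leaf 0x10004ab) (.leaf 0x44ab0042ff)) (.node (.leaf 0x2002395) (.leaf 0x629f000001))) (.node (.node (.leaf 0x14ab000001) (.leaf 0x429c0054ab)) (.node (.leaf 0x34ab001f72) (.leaf 0x0)))) (.node (.node (.node (.leaf 0xcab000001) (.leaf 0x4cab0043d3)) (.node (.leaf 0x2cab001f7b) (.leaf 0x6a95000003))) (.node (.node (.leaf 0x1cab000001) (.leaf 0x5c09000003)) (.node (.leaf 0x29d000244c) (.leaf 0x0)))))) (.node (.node (.node (.node (.node (.leaf 0x2ab000068) (.leaf 0x42ab00428a)) (.node (.leaf 0x10021d9) (.leaf 0x60bb000001))) (.node (.node (.leaf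 0x12ab000003) (.leaf 0x43d2004a39)) (.node (.leaf 0x2cb1000968) (.leaf 0x0)))) (.node (.node (.node (.leaf 0x2000aab) (.leaf 0x42e6004388)) (.node (.leaf 0x1f71002aab) (.leaf 0x6856000001))) (.node (.node (.leaf 0x65001aab) (.leaf 0x56b800428d)) (.node (.leaf 0x2e2500249c) (.leaf 0x0))))) (.node (.node (.node (.node (.leaf 0x10006ab) (.leaf 0x46ab0043d3)) (.node (.leaf 0x2002480) (.leaf 0x6463000003))) (.node (.node (.leaf 0x10016ab) (.leaf 0x56ab0042a5)) (.node (.leaf 0x24b1002bf6) (.leaf 0x0)))) (.node (.node (.node (.leaf 0xeab000003) (.leaf 0x4eab0042e5)) (.node (.leaf 0x1f7b002eab) (.leaf 0x6d31000001))) (.node (.node (.leaf 0x10010bd) (.leaf 0x2001616)) (.node (.leaf 0x2c1f00227d) (.leaf 0x0))))))) (.node (.node (.node (.node (.node (.node (.leaf 0x1ab000001) (.leaf 0x2d49001faa)) (.node (.leaf 0x200206e) (.leaf 0x5fe9000003))) (.node (.node (.leaf 0x11ab000003) (.leaf 0x51ab00428d)) (.node (.leaf 0x1f71002b75) (.leaf 0x0)))) (.node (.node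 (.node (.leaf 0x9ab000003) (.leaf 0x442c0049ab)) (.node (.leaf 0x20029a7) (.leaf 0x6751000001))) (.node (.node (.leaf 0x10019ab) (.leaf 0x5674004384)) (.node (.leaf 0x2627003875) (.leaf 0x0))))) (.node (.node (.node (.node (.leaf 0x10005ab) (.leaf 0x45ab0042fb)) (.node (.leaf 0x2002493) (.leaf 0x6383000003))) (.node (.node (.leaf 0x15ab000003) (.leaf 0x4b26004329)) (.node (.leaf 0x25002aa9) (.leaf 0x0)))) (.node (.node (.node (.leaf 0xdab000002) (.leaf 0x4dab004384)) (.node (.leaf 0x2dab00236e) (.leaf 0x6bcd000003))) (.node (.node (.leaf 0x2001dab) (.leaf 0x2459000003)) (.node (.leaf 0x356e002804) (.leaf 0x0)))))) (.node (.node (.node (.node (.node (.leaf 0x20003ab) (.leaf 0x42f90042e2)) (.node (.leaf 0x1001c3b) (.leaf 0x619f000003))) (.node (.node (.leaf 0x13ab000003) (.leaf 0x53ab00439a)) (.node (.leaf 0x1f710033ab) (.leaf 0x0)))) (.node (.node (.node (.leaf 0x3000bab) (.leaf 0x4bab004353)) (.node (.leaf 0x2bab001f72) (.leaf 0x6973000003)))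 (.node (.node (.leaf 0x2001bab) (.leaf 0x5b56000003)) (.node (.leaf 0x2da10022e4) (.leaf 0x0))))) (.node (.node (.node (.node (.leaf 0x20007ab) (.leaf 0x43ce0047ab)) (.node (.leaf 0x20026e3) (.leaf 0x1006550))) (.node (.node (.leaf 0x20017ab) (.leaf 0x42fc0057ab)) (.node (.leaf 0x3767000054) (.leaf 0x0)))) (.node (.node (.node (.leaf 0xfab000001) (.leaf 0x4fab00432f)) (.node (.leaf 0x20cb002c2c) (.leaf 0x6ea9000001))) (.node (.node (.leaf 0x2001b28) (.leaf 0x5e57000003)) (.node (.leaf 0x313b002154) (.leaf 0x0)))))))))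

/-- part -/
def slpT_91 : Tr Nat := (.node (.node (.node (.node (.node (.node (.node (.node (.leaf 0x1000043) (.leaf 0x35e000266c)) (.node (.leaf 0x1002015) (.leaf 0x5ee3000003))) (.node (.node (.leaf 0x100106b) (.leaf 0x100506b)) (.node (.leaf 0x306b001f72) (.leaf 0x6fbd000003)))) (.node (.node (.node (.leaf 0x100086b) (.leaf 0x486b00443b)) (.node (.leaf 0x20027bb) (.leaf 0x200660a))) (.node (.node (.leaf 0x300186b) (.leaf 0x586b004313)) (.node (.leaf 0x252b0031db) (.leaf 0x0))))) (.node (.node (.node (.node (.leaf 0x200046b) (.leaf 0x446b0043fe)) (.node (.leaf 0x20021ba) (.leaf 0x6267000003))) (.node (.node (.leaf 0x146b000003) (.leaf 0x42b300546b)) (.node (.leaf 0x346b001f7b) (.leaf 0x0)))) (.node (.node (.node (.leaf 0xc6b000001) (.leaf 0x4399004c6b)) (.node (.leaf 0x2c6b001f7b) (.leaf 0x6a39000003))) (.node (.node (.leaf 0x1c6b000003) (.leaf 0x5bd9000001)) (.node (.leaf 0x32cd002122) (.leaf 0x0)))))) (.node (.node (.node (.node (.node (.leaf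 0x26b000003) (.leaf 0x2bf90022de)) (.node (.leaf 0x219e000003) (.leaf 0x6083000003))) (.node (.node (.leaf 0x126b000001) (.leaf 0x4bd2004427)) (.node (.leaf 0x26f300326b) (.leaf 0x0)))) (.node (.node (.node (.leaf 0x2000a6b) (.leaf 0x73004a6b)) (.node (.leaf 0x1f71002a6b) (.leaf 0x6813000003))) (.node (.node (.leaf 0x2001a6b) (.leaf 0x43b5004373)) (.node (.leaf 0x29f1001f72) (.leaf 0x0))))) (.node (.node (.node (.node (.leaf 0x200066b) (.leaf 0x466b004402)) (.node (.leaf 0x2002567) (.leaf 0x642b000003))) (.node (.node (.leaf 0x166b000001) (.leaf 0x42e400566b)) (.node (.leaf 0x4d002b02) (.leaf 0x0)))) (.node (.node (.node (.leaf 0xe6b000003) (.leaf 0x443e004400)) (.node (.leaf 0x1f71002e6b) (.leaf 0x6ce5000001))) (.node (.node (.leaf 0x1001e6b) (.leaf 0x2005d52)) (.node (.leaf 0x2e7c0027ba) (.leaf 0x0))))))) (.node (.node (.node (.node (.node (.node (.leaf 0x16b000003) (.leaf 0x35720023b2)) (.node (.leaf 0x200206c) (.leaf 0x5fb1000001))) (.node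 (.node (.leaf 0x116b000001) (.leaf 0x42f800516b)) (.node (.leaf 0x1f7b003067) (.leaf 0x0)))) (.node (.node (.node (.leaf 0x100096b) (.leaf 0x429a00496b)) (.node (.leaf 0x20028aa) (.leaf 0x6709000001))) (.node (.node (.leaf 0x200196b) (.leaf 0x596b0043cf)) (.node (.leaf 0x1f7b00396b) (.leaf 0x0))))) (.node (.node (.node (.node (.leaf 0x100056b) (.leaf 0x43b70043ed)) (.node (.leaf 0x100244f) (.leaf 0x634b000001))) (.node (.node (.leaf 0x156b000003) (.leaf 0x556b0042b2)) (.node (.leaf 0x1f7b00356b) (.leaf 0x0)))) (.node (.node (.node (.leaf 0xd6b000003) (.leaf 0x4d6b0043ac)) (.node (.leaf 0x1f7b0029fe) (.leaf 0x6676000003))) (.node (.node (.leaf 0x3001d6b) (.leaf 0x5ca7000001)) (.node (.leaf 0x314000216e) (.leaf 0x0)))))) (.node (.node (.node (.node (.node (.leaf 0x200036b) (.leaf 0x4369004325)) (.node (.leaf 0x2001922) (.leaf 0x6163000001))) (.node (.node (.leaf 0x136b000001) (.leaf 0x42ae004491)) (.node (.leaf 0x1f7100336b) (.leaf 0x0)))) (.node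 (.node (.node (.leaf 0x2000b6b) (.leaf 0x460400432f)) (.node (.leaf 0x1f7b002b6b) (.leaf 0x6929000001))) (.node (.node (.leaf 0x2001b6b) (.leaf 0x5b2e000001)) (.node (.leaf 0x2f8e0026c8) (.leaf 0x0))))) (.node (.node (.node (.node (.leaf 0x200076b) (.leaf 0x438500476b)) (.node (.leaf 0x268e000003) (.leaf 0x6511000003))) (.node (.node (.leaf 0x100176b) (.leaf 0x4383004757)) (.node (.leaf 0x2c43001f7b) (.leaf 0x0)))) (.node (.node (.node (.leaf 0xd6e000001) (.leaf 0x4f6b004408)) (.node (.leaf 0x1f7b002f6b) (.leaf 0x6e45000003))) (.node (.node (.leaf 0x1f6b000001) (.leaf 0x5e22000003)) (.node (.leaf 0x33d1000fd9) (.leaf 0x0)))))))) (.node (.node (.node (.node (.node (.node (.node (.leaf 0x20000ec) (.leaf 0x37ee000187)) (.node (.leaf 0x2002075) (.leaf 0x5f51000003))) (.node (.node (.leaf 0x10010eb) (.leaf 0x42fa0050eb)) (.node (.leaf 0x1f710030eb) (.leaf 0x708f000003)))) (.node (.node (.node (.leaf 0x10008eb) (.leaf 0x42f80048eb)) (.node (.leaf 0x100284f)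 (.leaf 0x6693000003))) (.node (.node (.leaf 0x10018eb) (.leaf 0x43da0058eb)) (.node (.leaf 0x21c700327d) (.leaf 0x0))))) (.node (.node (.node (.node (.leaf 0x20004eb) (.leaf 0x42b30044eb)) (.node (.leaf 0x20023d3) (.leaf 0x62d7000001))) (.node (.node (.leaf 0x14eb000002) (.leaf 0x54eb0042ed)) (.node (.leaf 0x1f7b002d77) (.leaf 0x0)))) (.node (.node (.node (.leaf 0xceb000002) (.leaf 0x43ef004326)) (.node (.leaf 0x2c75000fce) (.leaf 0x6adf000001))) (.node (.node (.leaf 0x1ceb000001) (.leaf 0x20ed000003)) (.node (.leaf 0x32e900233c) (.leaf 0x0)))))) (.node (.node (.node (.node (.node (.leaf 0x2eb000001) (.leaf 0x42e50042ad)) (.node (.leaf 0x2002216) (.leaf 0x60ed000003))) (.node (.node (.leaf 0x12eb000002) (.leaf 0x52eb004349)) (.node (.leaf 0x32eb0027fe) (.leaf 0x0)))) (.node (.node (.node (.leaf 0x3000aeb) (.leaf 0x42b1004550)) (.node (.leaf 0x2adf001f7b) (.leaf 0x689a000003))) (.node (.node (.leaf 0x1001aeb) (.leaf 0x2001b09)) (.node (.leaf 0x2cbf00266a)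 (.leaf 0x0))))) (.node (.node (.node (.node (.leaf 0x10006eb) (.leaf 0x46eb0043cf)) (.node (.leaf 0x20025ef) (.leaf 0x624c000001))) (.node (.node (.leaf 0x10016eb) (.leaf 0x56eb004329)) (.node (.leaf 0x1f710036eb) (.leaf 0x0)))) (.node (.node (.node (.leaf 0xeeb000001) (.leaf 0x42ac004eeb)) (.node (.leaf 0x2ab60028e2) (.leaf 0x6dab000003))) (.node (.node (.leaf 0x2001eeb) (.leaf 0x5dbf000003)) (.node (.leaf 0x33c60027e2) (.leaf 0x0))))))) (.node (.node (.node (.node (.node (.node (.leaf 0x20001eb) (.leaf 0x34f800001a)) (.node (.leaf 0x2002135) (.leaf 0x5afb000001))) (.node (.node (.leaf 0x11eb000001) (.leaf 0x51eb004313)) (.node (.leaf 0x1f71002b24) (.leaf 0x0)))) (.node (.node (.node (.leaf 0x9eb000003) (.leaf 0x43890049eb)) (.node (.leaf 0x29eb001f7b) (.leaf 0x6796000001))) (.node (.node (.leaf 0x20019eb) (.leaf 0x4b74004429)) (.node (.leaf 0x1f71002fb3) (.leaf 0x0))))) (.node (.node (.node (.node (.leaf 0x10005eb) (.leaf 0x42a40045eb)) (.node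 (.leaf 0x20024cf) (.leaf 0x63b9000001))) (.node (.node (.leaf 0x15eb000002) (.leaf 0x55eb0043aa)) (.node (.leaf 0x2967002ee2) (.leaf 0x0)))) (.node (.node (.node (.leaf 0xdeb000003) (.leaf 0x48fb00442d)) (.node (.leaf 0x2deb0022f8) (.leaf 0x6c29000001))) (.node (.node (.leaf 0x2001c5c) (.leaf 0x5cfb000001)) (.node (.leaf 0x34e60021b9) (.leaf 0x0)))))) (.node (.node (.node (.node (.node (.leaf 0x3eb000003) (.leaf 0x43eb004391)) (.node (.leaf 0x20022f7) (.leaf 0x61e1000003))) (.node (.node (.leaf 0x13eb000001) (.leaf 0x4328004499)) (.node (.leaf 0x33eb002636) (.leaf 0x0)))) (.node (.node (.node (.leaf 0xbeb000001) (.leaf 0x441d0043bd)) (.node (.leaf 0x2beb001f72) (.leaf 0x69b7000003))) (.node (.node (.leaf 0x1001beb) (.leaf 0x5b8f000001)) (.node (.leaf 0x3204002477) (.leaf 0x0))))) (.node (.node (.node (.node (.leaf 0x10007eb) (.leaf 0x439b0047eb)) (.node (.leaf 0x100272f) (.leaf 0x2006588))) (.node (.node (.leaf 0x20017eb) (.leaf 0x43120057eb))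 (.node (.leaf 0x1f71003446) (.leaf 0x0)))) (.node (.node (.node (.leaf 0x2000feb) (.leaf 0x43d0004feb)) (.node (.leaf 0x1f7b002dee) (.leaf 0x6f05000001))) (.node (.node (.leaf 0x1fc0000003) (.leaf 0x5e83000003)) (.node (.leaf 0x37000023e8) (.leaf 0x0)))))))))

/-- part -/
def slpT_92 : Tr Nat := (.node (.node (.node (.node (.node (.node (.node (.node (.leaf 0x1b000003) (.leaf 0x3a8d002430)) (.node (.leaf 0x2001fe5) (.leaf 0x5ea6000003))) (.node (.node (.leaf 0x300101b) (.leaf 0x501b000002)) (.node (.leaf 0x1f7b00301b) (.leaf 0x6f3d000003)))) (.node (.node (.node (.leaf 0x200081b) (.leaf 0x43c80043ef)) (.node (.leaf 0x2002763) (.leaf 0x65b9000001))) (.node (.node (.leaf 0x100181b) (.leaf 0x460e00442d)) (.node (.leaf 0x1f71002dbb) (.leaf 0x0))))) (.node (.node (.node (.node (.leaf 0x200041b) (.leaf 0x43b400441b)) (.node (.leaf 0x2002323) (.leaf 0x6209000003))) (.node (.node (.leaf 0x141b000003) (.leaf 0x42e600541b)) (.node (.leaf 0x3038002636)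 (.leaf 0x0)))) (.node (.node (.node (.leaf 0xc1b000003) (.leaf 0x4c1b0042e7)) (.node (.leaf 0x2a80001f72) (.leaf 0x69eb000003))) (.node (.node (.leaf 0x1001c1b) (.leaf 0x218d000003)) (.node (.leaf 0x2c1d0020aa) (.leaf 0x0)))))) (.node (.node (.node (.node (.node (.leaf 0x200021b) (.leaf 0x35920027bc)) (.node (.leaf 0x2156000001) (.leaf 0x6043000003))) (.node (.node (.leaf 0x121b000001) (.leaf 0x429c00521b)) (.node (.leaf 0x1f7100313f) (.leaf 0x0)))) (.node (.node (.node (.leaf 0x1000a1b) (.leaf 0x44260047fb)) (.node (.leaf 0x2a1b001f72) (.leaf 0x67c2000003))) (.node (.node (.leaf 0x1000069) (.leaf 0x4a4b004384)) (.node (.leaf 0x50002a77) (.leaf 0x0))))) (.node (.node (.node (.node (.leaf 0x100061b) (.leaf 0x43a100461b)) (.node (.leaf 0x1002507) (.leaf 0x6270000001))) (.node (.node (.leaf 0x161b000001) (.leaf 0x561b00429d)) (.node (.leaf 0x1f71002b51) (.leaf 0x0)))) (.node (.node (.node (.leaf 0xe1b000003) (.leaf 0x42ad004462)) (.node (.leaf 0x2e1b00247e)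 (.leaf 0x6c73000003))) (.node (.node (.leaf 0x200124d) (.leaf 0x2005d1a)) (.node (.leaf 0x3423002220) (.leaf 0x0))))))) (.node (.node (.node (.node (.node (.node (.leaf 0x200011b) (.leaf 0x33be0021e8)) (.node (.leaf 0x20020ab) (.leaf 0x5f77000003))) (.node (.node (.leaf 0x111b000003) (.leaf 0x511b000023)) (.node (.leaf 0x311b001f72) (.leaf 0x7101000003)))) (.node (.node (.node (.leaf 0x100091b) (.leaf 0x43a700491b)) (.node (.leaf 0x200289d) (.leaf 0x66bb000001))) (.node (.node (.leaf 0x200191b) (.leaf 0x591b000021)) (.node (.leaf 0x13e00383f) (.leaf 0x0))))) (.node (.node (.node (.node (.leaf 0x200051b) (.leaf 0x442a00451b)) (.node (.leaf 0x2002403) (.leaf 0x6305000003))) (.node (.node (.leaf 0x151b000003) (.leaf 0x428a00551b)) (.node (.leaf 0x2200002bea) (.leaf 0x0)))) (.node (.node (.node (.leaf 0xd1b000003) (.leaf 0x4d1b004398)) (.node (.leaf 0x2d1b0029ac) (.leaf 0x6b15000003))) (.node (.node (.leaf 0x1d1b000001) (.leaf 0x5c65000001)) (.node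 (.leaf 0x2da1002552) (.leaf 0x0)))))) (.node (.node (.node (.node (.node (.leaf 0x31b000001) (.leaf 0x42e100003b)) (.node (.leaf 0x2002247) (.leaf 0x6119000003))) (.node (.node (.leaf 0x131b000001) (.leaf 0x42ad0043b3)) (.node (.leaf 0x30d4001f72) (.leaf 0x0)))) (.node (.node (.node (.leaf 0x1000b1b) (.leaf 0x4328004934)) (.node (.leaf 0x2b1b001f7b) (.leaf 0x68c2000001))) (.node (.node (.leaf 0x1001b1b) (.leaf 0x2001b31)) (.node (.leaf 0x34ca00276b) (.leaf 0x0))))) (.node (.node (.node (.node (.leaf 0x100071b) (.leaf 0x471b00428f)) (.node (.leaf 0x1002637) (.leaf 0x64c9000001))) (.node (.node (.leaf 0x200171b) (.leaf 0x571b000021)) (.node (.leaf 0x25ff00371b) (.leaf 0x0)))) (.node (.node (.node (.leaf 0xf1b000d9f) (.leaf 0x43ff004589)) (.node (.leaf 0x2f1b001f72) (.leaf 0x6deb000003))) (.node (.node (.leaf 0x2001f1b) (.leaf 0x5de5000001)) (.node (.leaf 0x29e00027e2) (.leaf 0x0)))))))) (.node (.node (.node (.node (.node (.node (.node (.leaf 0x9b000003)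 (.leaf 0x30610021b4)) (.node (.leaf 0x2000878) (.leaf 0x5f13000003))) (.node (.node (.leaf 0x200109b) (.leaf 0x42e400509b)) (.node (.leaf 0x309b000a02) (.leaf 0x6ffb000003)))) (.node (.node (.node (.leaf 0x200089b) (.leaf 0x42a400489b)) (.node (.leaf 0x10027ef) (.leaf 0x2006638))) (.node (.node (.leaf 0x100189b) (.leaf 0x589b0042e5)) (.node (.leaf 0x27cd0036eb) (.leaf 0x0))))) (.node (.node (.node (.node (.leaf 0x200049b) (.leaf 0x438900449b)) (.node (.leaf 0x2002381) (.leaf 0x6293000003))) (.node (.node (.leaf 0x149b000003) (.leaf 0x43e200549b)) (.node (.leaf 0x3495001f72) (.leaf 0x0)))) (.node (.node (.node (.leaf 0xc9b000001) (.leaf 0x4c9b00439e)) (.node (.leaf 0x2c9b001f72) (.leaf 0x6a85000001))) (.node (.node (.leaf 0x1c9b000001) (.leaf 0x5bf7000003)) (.node (.leaf 0x329300225c) (.leaf 0x0)))))) (.node (.node (.node (.node (.node (.leaf 0x29b000001) (.leaf 0x3c00428b)) (.node (.leaf 0x21d2000001) (.leaf 0x60ab000001))) (.node (.node (.leaf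 0x129b000003) (.leaf 0x442600437a)) (.node (.leaf 0x3095001f72) (.leaf 0x0)))) (.node (.node (.node (.leaf 0x3000a9b) (.leaf 0x2004a9b)) (.node (.leaf 0x1f71002a9b) (.leaf 0x6845000001))) (.node (.node (.leaf 0x1001a9b) (.leaf 0x5a9b0042cd)) (.node (.leaf 0x315200249c) (.leaf 0x0))))) (.node (.node (.node (.node (.leaf 0x10005e5) (.leaf 0x469b0042c1)) (.node (.leaf 0x2002593) (.leaf 0x6457000003))) (.node (.node (.leaf 0x100169b) (.leaf 0x569b004406)) (.node (.leaf 0x24b1002c88) (.leaf 0x0)))) (.node (.node (.node (.leaf 0xe9b000002) (.leaf 0x4e9b0042f9)) (.node (.leaf 0x1f7b002b7b) (.leaf 0x6d19000003))) (.node (.node (.leaf 0x3001e9b) (.leaf 0x2373000003)) (.node (.leaf 0x38e20020e4) (.leaf 0x0))))))) (.node (.node (.node (.node (.node (.node (.leaf 0x19b000003) (.leaf 0x33ef001faa)) (.node (.leaf 0x2002084) (.leaf 0x5fdd000001))) (.node (.node (.leaf 0x119b000003) (.leaf 0x440900519b)) (.node (.leaf 0x1f7100319b) (.leaf 0x0)))) (.node (.node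 (.node (.leaf 0x27000003) (.leaf 0x42fe00499b)) (.node (.leaf 0x1002971) (.leaf 0x673f000003))) (.node (.node (.leaf 0x100199b) (.leaf 0x599b0043e3)) (.node (.leaf 0x2627002dd4) (.leaf 0x0))))) (.node (.node (.node (.node (.leaf 0x100059b) (.leaf 0x459b004386)) (.node (.leaf 0x1002481) (.leaf 0x6377000003))) (.node (.node (.leaf 0x159b000002) (.leaf 0x559b00440a)) (.node (.leaf 0x26d900359b) (.leaf 0x0)))) (.node (.node (.node (.leaf 0xd9b000003) (.leaf 0x4d9b00428c)) (.node (.leaf 0x2d9b001f72) (.leaf 0x6bbd000001))) (.node (.node (.leaf 0x2001d9b) (.leaf 0x5cc5000003)) (.node (.leaf 0x372f00262e) (.leaf 0x0)))))) (.node (.node (.node (.node (.node (.leaf 0x100039b) (.leaf 0x43660042f8)) (.node (.leaf 0x10022b7) (.leaf 0x618f000003))) (.node (.node (.leaf 0x10c1000003) (.leaf 0x430200539b)) (.node (.leaf 0x1f7100330c) (.leaf 0x0)))) (.node (.node (.node (.leaf 0x1000b9b) (.leaf 0x4b9b0043ac)) (.node (.leaf 0x1f710029dd) (.leaf 0x695d000003)))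 (.node (.node (.leaf 0x3001b9b) (.leaf 0x5b4c000001)) (.node (.leaf 0x2ea800015c) (.leaf 0x0))))) (.node (.node (.node (.node (.leaf 0x200079b) (.leaf 0x440100479b)) (.node (.leaf 0x10026d1) (.leaf 0x1006548))) (.node (.node (.leaf 0x200179b) (.leaf 0x430200579b)) (.node (.leaf 0x30b9001f7b) (.leaf 0x0)))) (.node (.node (.node (.leaf 0xf9b000001) (.leaf 0x4f9b00428b)) (.node (.leaf 0x1f71002a97) (.leaf 0x6e85000001))) (.node (.node (.leaf 0x1001f91) (.leaf 0x5e4a000001)) (.node (.leaf 0x3162002154) (.leaf 0x0)))))))))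

/-- part -/
def slpT_93 : Tr Nat := (.node (.node (.node (.node (.node (.node (.node (.node (.leaf 0x200005b) (.leaf 0x32c300266c)) (.node (.leaf 0x100200b) (.leaf 0x5e78000001))) (.node (.node (.leaf 0x200105b) (.leaf 0x431200505b)) (.node (.leaf 0x2d5e002692) (.leaf 0x6f9d000003)))) (.node (.node (.node (.leaf 0x100085b) (.leaf 0x43ee0043c3)) (.node (.leaf 0x10027ab) (.leaf 0x10065f8))) (.node (.node (.leaf 0x200185b) (.leaf 0x585b0042a5)) (.node (.leaf 0x252b002b8b) (.leaf 0x0))))) (.node (.node (.node (.node (.leaf 0x200045b) (.leaf 0x445b000023)) (.node (.leaf 0x1002357) (.leaf 0x6259000003))) (.node (.node (.leaf 0x145b000003) (.leaf 0x435200545b)) (.node (.leaf 0x2be3001f7b) (.leaf 0x0)))) (.node (.node (.node (.leaf 0xc5b000001) (.leaf 0x42cc004c5b)) (.node (.leaf 0x2c4b001f72) (.leaf 0x58ef000001))) (.node (.node (.leaf 0x1c5b000003) (.leaf 0x5bcd000003)) (.node (.leaf 0x311b00019a) (.leaf 0x0)))))) (.node (.node (.node (.node (.node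 (.leaf 0x25b000003) (.leaf 0x316400263a)) (.node (.leaf 0x200218d) (.leaf 0x10b9000003))) (.node (.node (.leaf 0x125b000001) (.leaf 0x525b00442b)) (.node (.leaf 0x1f71002d40) (.leaf 0x0)))) (.node (.node (.node (.leaf 0x2000a5b) (.leaf 0x436a0043b6)) (.node (.leaf 0x1f71002a5b) (.leaf 0x6806000001))) (.node (.node (.leaf 0x2001a5b) (.leaf 0x50a3004431)) (.node (.leaf 0x2afb00096d) (.leaf 0x0))))) (.node (.node (.node (.node (.leaf 0x200065b) (.leaf 0x465b004402)) (.node (.leaf 0x2002557) (.leaf 0x641d000001))) (.node (.node (.leaf 0x165b000001) (.leaf 0x43ce00564a)) (.node (.leaf 0x1f7100365b) (.leaf 0x0)))) (.node (.node (.node (.leaf 0xe5b000003) (.leaf 0x4e5b004429)) (.node (.leaf 0x1f71002e5b) (.leaf 0x6cc5000003))) (.node (.node (.leaf 0x1001e5b) (.leaf 0x5d47000003)) (.node (.leaf 0x33d1000972) (.leaf 0x0))))))) (.node (.node (.node (.node (.node (.node (.leaf 0x15b000001) (.leaf 0x2fcc0023b2)) (.node (.leaf 0x20020dd) (.leaf 0x5fa7000003)))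 (.node (.node (.leaf 0x115b000003) (.leaf 0x439900515b)) (.node (.leaf 0x254b00315b) (.leaf 0x0)))) (.node (.node (.node (.leaf 0x200095b) (.leaf 0x440900495b)) (.node (.leaf 0x200290f) (.leaf 0x66f9000003))) (.node (.node (.leaf 0x300195b) (.leaf 0x595b0042ef)) (.node (.leaf 0x274a002ab3) (.leaf 0x0))))) (.node (.node (.node (.node (.leaf 0x100055b) (.leaf 0x455b00428d)) (.node (.leaf 0x200243b) (.leaf 0x633f000003))) (.node (.node (.leaf 0x155b000003) (.leaf 0x428a00555b)) (.node (.leaf 0x299f003375) (.leaf 0x0)))) (.node (.node (.node (.leaf 0xd5b000001) (.leaf 0x479100442f)) (.node (.leaf 0x1f7b002d5b) (.leaf 0x6b69000001))) (.node (.node (.leaf 0x1c36000001) (.leaf 0x1b14000001)) (.node (.leaf 0x3644000f77) (.leaf 0x0)))))) (.node (.node (.node (.node (.node (.leaf 0x300035b) (.leaf 0x3e004325)) (.node (.leaf 0x10014bd) (.leaf 0x6153000003))) (.node (.node (.leaf 0x6c000001) (.leaf 0x4383004526)) (.node (.leaf 0x1f71002e4f) (.leaf 0x0))))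 (.node (.node (.node (.leaf 0x3000b5b) (.leaf 0x4b5b0043ac)) (.node (.leaf 0x1f7b002b5b) (.leaf 0x6913000003))) (.node (.node (.leaf 0x2001b5b) (.leaf 0x661000001)) (.node (.leaf 0x3b0f001f7b) (.leaf 0x0))))) (.node (.node (.node (.node (.leaf 0x200075b) (.leaf 0x430000475b)) (.node (.leaf 0x2002679) (.leaf 0x6501000003))) (.node (.node (.leaf 0x100175b) (.leaf 0x442600575b)) (.node (.leaf 0x2b50001f72) (.leaf 0x0)))) (.node (.node (.node (.leaf 0xf5b000003) (.leaf 0x4369004400)) (.node (.leaf 0x1f71002f5b) (.leaf 0x6e37000001))) (.node (.node (.leaf 0x1f5b000001) (.leaf 0x5e1b000001)) (.node (.leaf 0x37ee000fd9) (.leaf 0x0)))))))) (.node (.node (.node (.node (.node (.node (.node (.leaf 0x20000db) (.leaf 0x2d39000187)) (.node (.leaf 0x1000196) (.leaf 0x5f45000001))) (.node (.node (.leaf 0x10010db) (.leaf 0x43a10050db)) (.node (.leaf 0x1f710030db) (.leaf 0x7063000003)))) (.node (.node (.node (.leaf 0x20008db) (.leaf 0x43e00048db)) (.node (.leaf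 0x100283b) (.leaf 0x200667a))) (.node (.node (.leaf 0x30018db) (.leaf 0x43680043b4)) (.node (.leaf 0x1f7100320f) (.leaf 0x0))))) (.node (.node (.node (.node (.leaf 0x20004db) (.leaf 0x44db0042cd)) (.node (.leaf 0x10023c7) (.leaf 0x62c5000003))) (.node (.node (.leaf 0x14db000001) (.leaf 0x44380054db)) (.node (.leaf 0x1f71003263) (.leaf 0x0)))) (.node (.node (.node (.leaf 0xcdb000003) (.leaf 0x4cdb0010e7)) (.node (.leaf 0x2c37002972) (.leaf 0x6ac7000001))) (.node (.node (.leaf 0x1cdb000001) (.leaf 0x258f000003)) (.node (.leaf 0x30ce00244c) (.leaf 0x0)))))) (.node (.node (.node (.node (.node (.leaf 0x2db000003) (.leaf 0x42db00003e)) (.node (.leaf 0x2002205) (.leaf 0x60e3000003))) (.node (.node (.leaf 0x12db000001) (.leaf 0x52db0042b2)) (.node (.leaf 0x2fcc001f72) (.leaf 0x0)))) (.node (.node (.node (.leaf 0x1000adb) (.leaf 0x73004adb)) (.node (.leaf 0x2adb001f72) (.leaf 0x688a000003))) (.node (.node (.leaf 0x2001adb) (.leaf 0x2001c27)) (.node (.leaf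 0x30b300266a) (.leaf 0x0))))) (.node (.node (.node (.node (.leaf 0x10006db) (.leaf 0x46db000021)) (.node (.leaf 0x20025db) (.leaf 0x6489000003))) (.node (.node (.leaf 0x20016db) (.leaf 0x4a2500442f)) (.node (.leaf 0x5e7002a91) (.leaf 0x0)))) (.node (.node (.node (.leaf 0xedb000001) (.leaf 0x4397004edb)) (.node (.leaf 0x2edb001f72) (.leaf 0x6d89000003))) (.node (.node (.leaf 0x2001edb) (.leaf 0x2347000003)) (.node (.leaf 0x332700272a) (.leaf 0x0))))))) (.node (.node (.node (.node (.node (.node (.leaf 0x30001db) (.leaf 0x380200229d)) (.node (.leaf 0x100212b) (.leaf 0x5daa000001))) (.node (.node (.leaf 0x11db000001) (.leaf 0x462b0043bf)) (.node (.leaf 0x1f710031db) (.leaf 0x0)))) (.node (.node (.node (.leaf 0x9db000003) (.leaf 0x44340049db)) (.node (.leaf 0x1f710029db) (.leaf 0x4921000003))) (.node (.node (.leaf 0x10019db) (.leaf 0x44fd004431)) (.node (.leaf 0x2711002c50) (.leaf 0x0))))) (.node (.node (.node (.node (.leaf 0x20005db) (.leaf 0x441f0045dc))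 (.node (.leaf 0x10024c3) (.leaf 0x63ab000001))) (.node (.node (.leaf 0x15db000003) (.leaf 0x43ef0043c9)) (.node (.leaf 0x1f7b002c72) (.leaf 0x0)))) (.node (.node (.node (.leaf 0xddb000002) (.leaf 0x4ddb00434d)) (.node (.leaf 0x2d52001f72) (.leaf 0x6c13000001))) (.node (.node (.leaf 0x3001ddb) (.leaf 0x45da000003)) (.node (.leaf 0x35cc0021b9) (.leaf 0x0)))))) (.node (.node (.node (.node (.node (.leaf 0x3db000002) (.leaf 0x42c10043b4)) (.node (.leaf 0x20022eb) (.leaf 0x61d5000003))) (.node (.node (.leaf 0x13db000001) (.leaf 0x42f00053db)) (.node (.leaf 0x33db002636) (.leaf 0x0)))) (.node (.node (.node (.leaf 0xbdb000003) (.leaf 0x482800442b)) (.node (.leaf 0x2bdb001f72) (.leaf 0x52d6000003))) (.node (.node (.leaf 0x1001bdb) (.leaf 0x5b83000001)) (.node (.leaf 0x30f40027aa) (.leaf 0x0))))) (.node (.node (.node (.node (.leaf 0x30007db) (.leaf 0x43700043bb)) (.node (.leaf 0x1002717) (.leaf 0x200657a))) (.node (.node (.leaf 0x2001096) (.leaf 0x44240043b5))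 (.node (.leaf 0x2719002a37) (.leaf 0x0)))) (.node (.node (.node (.leaf 0x1000fdb) (.leaf 0x4fdb00434d)) (.node (.leaf 0x1f7b002fdb) (.leaf 0x6ef1000003))) (.node (.node (.leaf 0x1fb6000001) (.leaf 0x5e76000003)) (.node (.leaf 0x2bf900087a) (.leaf 0x0)))))))))

/-- part -/
def slpT_94 : Tr Nat := (.node (.node (.node (.node (.node (.node (.node (.node (.leaf 0x100003b) (.leaf 0x338c00266c)) (.node (.leaf 0x2001ff4) (.leaf 0x5ec0000001))) (.node (.node (.leaf 0x100103b) (.leaf 0x503b0042fb)) (.node (.leaf 0x211d002be2) (.leaf 0x6f73000003)))) (.node (.node (.node (.leaf 0x100083b) (.leaf 0x483b0042e5)) (.node (.leaf 0x2002782) (.leaf 0x65d9000003))) (.node (.node (.leaf 0x200183b) (.leaf 0x52fd004384)) (.node (.leaf 0x1fee0037ae) (.leaf 0x0))))) (.node (.node (.node (.node (.leaf 0x200043b) (.leaf 0x441000001f)) (.node (.leaf 0x2002341) (.leaf 0x6235000003))) (.node (.node (.leaf 0x143b000003) (.leaf 0x443400543b)) (.node (.leaf 0x343b001f72) (.leaf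 0x0)))) (.node (.node (.node (.leaf 0xc3b000001) (.leaf 0x4c3b0043db)) (.node (.leaf 0x2c3b001f72) (.leaf 0x6a0f000001))) (.node (.node (.leaf 0x1c3b000003) (.leaf 0x4ec9000003)) (.node (.leaf 0x33440025a2) (.leaf 0x0)))))) (.node (.node (.node (.node (.node (.leaf 0x23b000003) (.leaf 0x3447002590)) (.node (.leaf 0x200216f) (.leaf 0x6063000003))) (.node (.node (.leaf 0x123b000003) (.leaf 0x42a400523b)) (.node (.leaf 0x1f71002d89) (.leaf 0x0)))) (.node (.node (.node (.leaf 0x100096f) (.leaf 0x428a004a3b)) (.node (.leaf 0x1f71002a16) (.leaf 0x67e0000003))) (.node (.node (.leaf 0x1001a3b) (.leaf 0x5a3b004384)) (.node (.leaf 0x133b002b06) (.leaf 0x0))))) (.node (.node (.node (.node (.leaf 0x100063b) (.leaf 0x463b00429d)) (.node (.leaf 0x2002525) (.leaf 0x6403000003))) (.node (.node (.leaf 0x163b000001) (.leaf 0x563b004349)) (.node (.leaf 0x1f71002bd2) (.leaf 0x0)))) (.node (.node (.node (.leaf 0xe3b000001) (.leaf 0x4e3b000003)) (.node (.leaf 0x1f71002bdc)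 (.leaf 0x6c9d000003))) (.node (.node (.leaf 0x1e3b000001) (.leaf 0x200281a)) (.node (.leaf 0x29cb002220) (.leaf 0x0))))))) (.node (.node (.node (.node (.node (.node (.leaf 0x100013b) (.leaf 0x34e60023b2)) (.node (.leaf 0x20020c3) (.leaf 0x5f8b000001))) (.node (.node (.leaf 0x113b000003) (.leaf 0x42fa00513b)) (.node (.leaf 0x1f710030fa) (.leaf 0x0)))) (.node (.node (.node (.leaf 0x100093b) (.leaf 0x43c800443e)) (.node (.leaf 0x10028d5) (.leaf 0x66d7000001))) (.node (.node (.leaf 0x200193b) (.leaf 0x593b004435)) (.node (.leaf 0x1f7b002b9f) (.leaf 0x0))))) (.node (.node (.node (.node (.leaf 0x200053b) (.leaf 0x43b700441b)) (.node (.leaf 0x2002421) (.leaf 0x6321000003))) (.node (.node (.leaf 0x153b000002) (.leaf 0x43a700553b)) (.node (.leaf 0x2200002bfe) (.leaf 0x0)))) (.node (.node (.node (.leaf 0xd3b000003) (.leaf 0x432e00460d)) (.node (.leaf 0x2d3b000fce) (.leaf 0x6b3b000001))) (.node (.node (.leaf 0x1d3b000003) (.leaf 0x1d3d000001)) (.node (.leaf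 0x377d00284a) (.leaf 0x0)))))) (.node (.node (.node (.node (.node (.leaf 0x300033b) (.leaf 0x4333004325)) (.node (.leaf 0x1002263) (.leaf 0x12a7000003))) (.node (.node (.leaf 0x133b000003) (.leaf 0x442600533b)) (.node (.leaf 0x1f7b002cb2) (.leaf 0x0)))) (.node (.node (.node (.leaf 0x1000b3b) (.leaf 0x4b3b0042ef)) (.node (.leaf 0x1f7b002a0a) (.leaf 0x68e7000003))) (.node (.node (.leaf 0x1001ae5) (.leaf 0x5b10000003)) (.node (.leaf 0x36c600097e) (.leaf 0x0))))) (.node (.node (.node (.node (.leaf 0x100073b) (.leaf 0x463f0043fe)) (.node (.leaf 0x1000bcd) (.leaf 0x64e7000003))) (.node (.node (.leaf 0x200173b) (.leaf 0x428a004abb)) (.node (.leaf 0x373b001f7b) (.leaf 0x0)))) (.node (.node (.node (.leaf 0x49000003) (.leaf 0x42ec004f3b)) (.node (.leaf 0x2f3b001f7b) (.leaf 0x6e0f000003))) (.node (.node (.leaf 0x1001f3b) (.leaf 0x5e03000001)) (.node (.leaf 0x34610027e2) (.leaf 0x0)))))))) (.node (.node (.node (.node (.node (.node (.node (.leaf 0x20000bb)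 (.leaf 0x2b1f0023f4)) (.node (.leaf 0x100204f) (.leaf 0x5f2d000001))) (.node (.node (.leaf 0x20010bb) (.leaf 0x730050bb)) (.node (.leaf 0x2c49002120) (.leaf 0x7025000003)))) (.node (.node (.node (.leaf 0x20008bb) (.leaf 0x442c0048bb)) (.node (.leaf 0x2002813) (.leaf 0x1006656))) (.node (.node (.leaf 0x10018bb) (.leaf 0x438900568e)) (.node (.leaf 0x1f7b002ede) (.leaf 0x0))))) (.node (.node (.node (.node (.leaf 0x20004bb) (.leaf 0x44bb0043fe)) (.node (.leaf 0x10023a9) (.leaf 0x62ab000001))) (.node (.node (.leaf 0x14bb000001) (.leaf 0x44070054bb)) (.node (.leaf 0x25650033bf) (.leaf 0x0)))) (.node (.node (.node (.leaf 0xcbb000001) (.leaf 0x4cbb004359)) (.node (.leaf 0x2a03001f72) (.leaf 0x6aa3000001))) (.node (.node (.leaf 0x1cbb000003) (.leaf 0x5c13000003)) (.node (.leaf 0x30ab00244c) (.leaf 0x0)))))) (.node (.node (.node (.node (.node (.leaf 0x2bb000001) (.leaf 0x428a0042ad)) (.node (.leaf 0x2000a45) (.leaf 0x60c9000001))) (.node (.node (.leaf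 0x12bb000003) (.leaf 0x52bb004408)) (.node (.leaf 0x31a8001f72) (.leaf 0x0)))) (.node (.node (.node (.leaf 0x1000abb) (.leaf 0x4432004abb)) (.node (.leaf 0x1f7b002abb) (.leaf 0x686a000001))) (.node (.node (.leaf 0x3001abb) (.leaf 0x5abb000003)) (.node (.leaf 0x2b600023f0) (.leaf 0x0))))) (.node (.node (.node (.node (.leaf 0x10006bb) (.leaf 0x441c004423)) (.node (.leaf 0x20025b9) (.leaf 0x6473000003))) (.node (.node (.leaf 0x20016bb) (.leaf 0x56bb0043db)) (.node (.leaf 0x1f7b002eb7) (.leaf 0x0)))) (.node (.node (.node (.leaf 0xebb000001) (.leaf 0x4434004ebb)) (.node (.leaf 0x1f7b002c66) (.leaf 0x6d49000001))) (.node (.node (.leaf 0x2001ebb) (.leaf 0x1005d9e)) (.node (.leaf 0x363c00227d) (.leaf 0x0))))))) (.node (.node (.node (.node (.node (.node (.leaf 0x1bb000001) (.leaf 0x2e52000a0a)) (.node (.leaf 0x1002115) (.leaf 0x5d20000001))) (.node (.node (.leaf 0x11bb000003) (.leaf 0x51bb0042f1)) (.node (.leaf 0x1f710031bb) (.leaf 0x0)))) (.node (.node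 (.node (.leaf 0x9bb000003) (.leaf 0x49bb004313)) (.node (.leaf 0x1f710029bb) (.leaf 0x6761000001))) (.node (.node (.leaf 0x10019bb) (.leaf 0x4b94004386)) (.node (.leaf 0x213b002fc7) (.leaf 0x0))))) (.node (.node (.node (.node (.leaf 0x10005bb) (.leaf 0x45bb0042c1)) (.node (.leaf 0x20024a1) (.leaf 0x28c7000003))) (.node (.node (.leaf 0x15bb000001) (.leaf 0x55bb0042ac)) (.node (.leaf 0x25002f42) (.leaf 0x0)))) (.node (.node (.node (.leaf 0xdbb000001) (.leaf 0x43f200436b)) (.node (.leaf 0x2dbb001f72) (.leaf 0x6bdd000003))) (.node (.node (.leaf 0x1001dbb) (.leaf 0x16a5000003)) (.node (.leaf 0x3b55001f81) (.leaf 0x0)))))) (.node (.node (.node (.node (.node (.leaf 0x20003bb) (.leaf 0x43250043b4)) (.node (.leaf 0x20022cf) (.leaf 0x61b1000003))) (.node (.node (.leaf 0x13bb000001) (.leaf 0x428e0053bb)) (.node (.leaf 0x1f710032cc) (.leaf 0x0)))) (.node (.node (.node (.leaf 0x200061b) (.leaf 0x4bbb0042f1)) (.node (.leaf 0x2bbb001f72) (.leaf 0x6983000003)))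 (.node (.node (.leaf 0x2001bbb) (.leaf 0x1fec000003)) (.node (.leaf 0x37310022e4) (.leaf 0x0))))) (.node (.node (.node (.node (.leaf 0x30007bb) (.leaf 0x42cc0047bb)) (.node (.leaf 0x20026f5) (.leaf 0x200655c))) (.node (.node (.leaf 0x20017bb) (.leaf 0x42b30057bb)) (.node (.leaf 0x35f8002408) (.leaf 0x0)))) (.node (.node (.node (.leaf 0xfbb000002) (.leaf 0x437a0043d1)) (.node (.leaf 0x1f7b002b30) (.leaf 0x6ec3000003))) (.node (.node (.leaf 0x2001fa3) (.leaf 0x5e61000003)) (.node (.leaf 0x2f39002154) (.leaf 0x0)))))))))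

/-- part -/
def slpT_95 : Tr Nat := (.node (.node (.node (.node (.node (.node (.node (.node (.leaf 0x100007b) (.leaf 0x2a6000266c)) (.node (.leaf 0x2002021) (.leaf 0x5ef5000001))) (.node (.node (.leaf 0x200107b) (.leaf 0x430000507b)) (.node (.leaf 0x307b001f72) (.leaf 0x6fc7000003)))) (.node (.node (.node (.leaf 0x200087b) (.leaf 0x439f00487b)) (.node (.leaf 0x20027c9) (.leaf 0x2006616))) (.node (.node (.leaf 0x200187b) (.leaf 0x4fc5004429)) (.node (.leaf 0x23c3002ec5) (.leaf 0x0))))) (.node (.node (.node (.node (.leaf 0x100047b) (.leaf 0x441c00441a)) (.node (.leaf 0x100236d) (.leaf 0x6277000001))) (.node (.node (.leaf 0x147b000002) (.leaf 0x43d800547b)) (.node (.leaf 0x312d001f7b) (.leaf 0x0)))) (.node (.node (.node (.leaf 0xc7b000001) (.leaf 0x2004c7b)) (.node (.leaf 0x2c7b001f72) (.leaf 0x6a59000003))) (.node (.node (.leaf 0x1c7b000003) (.leaf 0x1710000003)) (.node (.leaf 0x2cb1002184) (.leaf 0x0)))))) (.node (.node (.node (.node (.node (.leaf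 0x27b000001) (.leaf 0x4277000021)) (.node (.leaf 0x10021b1) (.leaf 0x608f000003))) (.node (.node (.leaf 0x127b000001) (.leaf 0x527b0043e1)) (.node (.leaf 0x1f71002bca) (.leaf 0x0)))) (.node (.node (.node (.leaf 0x2000a7b) (.leaf 0x430e004a7b)) (.node (.leaf 0x1f71002a7b) (.leaf 0x1f5f000001))) (.node (.node (.leaf 0x1001a7b) (.leaf 0x5a7b000001)) (.node (.leaf 0x39340020b5) (.leaf 0x0))))) (.node (.node (.node (.node (.leaf 0x200067b) (.leaf 0x467b0042ad)) (.node (.leaf 0x200247e) (.leaf 0x6437000003))) (.node (.node (.leaf 0x100167c) (.leaf 0x43b300436d)) (.node (.leaf 0x4d00367b) (.leaf 0x0)))) (.node (.node (.node (.leaf 0xe7b000001) (.leaf 0x4e7b0042ff)) (.node (.leaf 0x1f71002e7b) (.leaf 0x6cf5000001))) (.node (.node (.leaf 0x1001e7b) (.leaf 0x5d65000001)) (.node (.leaf 0x38940027ba) (.leaf 0x0))))))) (.node (.node (.node (.node (.node (.node (.leaf 0x17b000001) (.leaf 0x34ad00285c)) (.node (.leaf 0x10020f1) (.leaf 0x5fc1000001))) (.node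 (.node (.leaf 0x117b000003) (.leaf 0x428a00517b)) (.node (.leaf 0x1f71002c0c) (.leaf 0x0)))) (.node (.node (.node (.leaf 0x97b000003) (.leaf 0x43870047c9)) (.node (.leaf 0x2002939) (.leaf 0x6719000001))) (.node (.node (.leaf 0x100197b) (.leaf 0x4417004431)) (.node (.leaf 0x22c9002da6) (.leaf 0x0))))) (.node (.node (.node (.node (.leaf 0x100057b) (.leaf 0x457b000003)) (.node (.leaf 0x2002461) (.leaf 0x635d000001))) (.node (.node (.leaf 0x157b000001) (.leaf 0x441d004425)) (.node (.leaf 0x26d9002c52) (.leaf 0x0)))) (.node (.node (.node (.leaf 0xd7b000003) (.leaf 0x4d7b0043a8)) (.node (.leaf 0x1f71002ab7) (.leaf 0x6b9b000003))) (.node (.node (.leaf 0x1d5f001d7b) (.leaf 0x249d000003)) (.node (.leaf 0x2b71002384) (.leaf 0x0)))))) (.node (.node (.node (.node (.node (.leaf 0x200037b) (.leaf 0x4366004376)) (.node (.leaf 0x2001f74) (.leaf 0x6171000003))) (.node (.node (.leaf 0x137b000001) (.leaf 0x43260045dc)) (.node (.leaf 0x1f7b00337b) (.leaf 0x0))))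 (.node (.node (.node (.leaf 0x2000b7b) (.leaf 0x4b7b0043aa)) (.node (.leaf 0x1f71002b7b) (.leaf 0x6937000003))) (.node (.node (.leaf 0x3001b7b) (.leaf 0x5b33000003)) (.node (.leaf 0x31f000018f) (.leaf 0x0))))) (.node (.node (.node (.node (.leaf 0x200077b) (.leaf 0x477b00429b)) (.node (.leaf 0x26a6000001) (.leaf 0x6521000003))) (.node (.node (.leaf 0x100177b) (.leaf 0x42ac00577b)) (.node (.leaf 0x2e0d001f7b) (.leaf 0x0)))) (.node (.node (.node (.leaf 0xf7b000001) (.leaf 0x4f7b00428f)) (.node (.leaf 0x2603002c12) (.leaf 0x6e53000003))) (.node (.node (.leaf 0x1000d85) (.leaf 0x5e2e000003)) (.node (.leaf 0x2aed00286e) (.leaf 0x0)))))))) (.node (.node (.node (.node (.node (.node (.node (.leaf 0x10000fb) (.leaf 0x3356000187)) (.node (.leaf 0x1002087) (.leaf 0x5f5f000001))) (.node (.node (.leaf 0x10010fb) (.leaf 0x50fb004429)) (.node (.leaf 0x30fb001f72) (.leaf 0x70af000003)))) (.node (.node (.node (.leaf 0x20008fb) (.leaf 0x432e0048fb)) (.node (.leaf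 0x200286d) (.leaf 0x669f000003))) (.node (.node (.leaf 0x10018fb) (.leaf 0x42ee0058fb)) (.node (.leaf 0x21c700300d) (.leaf 0x0))))) (.node (.node (.node (.node (.leaf 0x10004fb) (.leaf 0x441b0043ba)) (.node (.leaf 0x10023e3) (.leaf 0x62e9000001))) (.node (.node (.leaf 0x14fb000003) (.leaf 0x43d60054fb)) (.node (.leaf 0x1f7b0029c3) (.leaf 0x0)))) (.node (.node (.node (.leaf 0xcfb000003) (.leaf 0x4cfb0043a2)) (.node (.leaf 0x2b2d0028d2) (.leaf 0x6af3000001))) (.node (.node (.leaf 0x1cfb000001) (.leaf 0x5c47000003)) (.node (.leaf 0x2ec400233c) (.leaf 0x0)))))) (.node (.node (.node (.node (.node (.leaf 0x2fb000001) (.leaf 0x10e70042e5)) (.node (.leaf 0x2002224) (.leaf 0x60fb000003))) (.node (.node (.leaf 0x12fb000003) (.leaf 0x43f4004422)) (.node (.leaf 0x3256001f72) (.leaf 0x0)))) (.node (.node (.node (.leaf 0x2000afb) (.leaf 0x43ff004afb)) (.node (.leaf 0x2afb001f72) (.leaf 0x68a8000003))) (.node (.node (.leaf 0x1001afb) (.leaf 0x2002474)) (.node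 (.leaf 0x38be001fb6) (.leaf 0x0))))) (.node (.node (.node (.node (.leaf 0x10006fb) (.leaf 0x46fb0043a8)) (.node (.leaf 0x200260d) (.leaf 0x64a7000001))) (.node (.node (.leaf 0x16e10016fb) (.leaf 0x56fb00003c)) (.node (.leaf 0x258b002c20) (.leaf 0x0)))) (.node (.node (.node (.leaf 0xefb000001) (.leaf 0x44240043f6)) (.node (.leaf 0x2c09001f72) (.leaf 0x6dbf000003))) (.node (.node (.leaf 0x2001efb) (.leaf 0x5dcb000003)) (.node (.leaf 0x2be70027e2) (.leaf 0x0))))))) (.node (.node (.node (.node (.node (.node (.leaf 0x10001fb) (.leaf 0x330b0023d8)) (.node (.leaf 0x200213d) (.leaf 0x602b000003))) (.node (.node (.leaf 0x11fb000001) (.leaf 0x43120051fb)) (.node (.leaf 0x20af0031fb) (.leaf 0x0)))) (.node (.node (.node (.leaf 0x9fb000001) (.leaf 0x43480049fb)) (.node (.leaf 0x29fb001f7b) (.leaf 0x67a4000001))) (.node (.node (.leaf 0x10019fb) (.leaf 0x59fb000001)) (.node (.leaf 0x218b00360b) (.leaf 0x0))))) (.node (.node (.node (.node (.leaf 0x10005fb) (.leaf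 0x42ec0045fb)) (.node (.leaf 0x10024e7) (.leaf 0x63c9000003))) (.node (.node (.leaf 0x15fb000003) (.leaf 0x55fb0043aa)) (.node (.leaf 0x1f71003420) (.leaf 0x0)))) (.node (.node (.node (.leaf 0xdfb000002) (.leaf 0x44ea004384)) (.node (.leaf 0x29cd001f72) (.leaf 0x6c49000003))) (.node (.node (.leaf 0x1001dfb) (.leaf 0x27b3000003)) (.node (.leaf 0x2bed0021b9) (.leaf 0x0)))))) (.node (.node (.node (.node (.node (.leaf 0x3fb000001) (.leaf 0x43ee0042ae)) (.node (.leaf 0x2000885) (.leaf 0x61f3000001))) (.node (.node (.leaf 0x13fb000001) (.leaf 0x42ac004492)) (.node (.leaf 0x33fb002636) (.leaf 0x0)))) (.node (.node (.node (.leaf 0xbfb000001) (.leaf 0x4bfb004329)) (.node (.leaf 0x2af2001f72) (.leaf 0x69cb000001))) (.node (.node (.leaf 0x1001bfb) (.leaf 0x2153000003)) (.node (.leaf 0x2b9a002950) (.leaf 0x0))))) (.node (.node (.node (.node (.leaf 0x10007fb) (.leaf 0x43fd0047fb)) (.node (.leaf 0x2002742) (.leaf 0x100659c))) (.node (.node (.leaf 0x10017fb)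 (.leaf 0x441c004420)) (.node (.leaf 0x2719002c84) (.leaf 0x0)))) (.node (.node (.node (.leaf 0x1000ffb) (.leaf 0x43f70043b4)) (.node (.leaf 0x2047002ffb) (.leaf 0x6f19000003))) (.node (.node (.leaf 0x1001fd3) (.leaf 0x5e8e000001)) (.node (.leaf 0x368e0024a6) (.leaf 0x0)))))))))

/-- part -/
def slpT_96 : Tr Nat := (.node (.node (.node (.node (.node (.node (.node (.node (.leaf 0x2000002) (.leaf 0x2f450024a6)) (.node (.leaf 0x1001fd7) (.leaf 0x5e94000003))) (.node (.node (.leaf 0x3001001) (.leaf 0x50010042fd)) (.node (.leaf 0x1f71002bcc) (.leaf 0x6f1f000001)))) (.node (.node (.node (.leaf 0x2000801) (.leaf 0x71004801)) (.node (.leaf 0x1002748) (.leaf 0x20065a0))) (.node (.node (.leaf 0x3001801) (.leaf 0x580100439e)) (.node (.leaf 0x21a1002cb4) (.leaf 0x0))))) (.node (.node (.node (.node (.leaf 0x401000003) (.leaf 0x43ee0042f8)) (.node (.leaf 0x100230b) (.leaf 0x3c7000001))) (.node (.node (.leaf 0x1401000003) (.leaf 0x43e2005401)) (.node (.leaf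 0x33b2002636) (.leaf 0x0)))) (.node (.node (.node (.leaf 0xc01000003) (.leaf 0x4c0100003c)) (.node (.leaf 0x2a13001f72) (.leaf 0x69d1000001))) (.node (.node (.leaf 0x2001c01) (.leaf 0x21ab000003)) (.node (.leaf 0x2f66001f7b) (.leaf 0x0)))))) (.node (.node (.node (.node (.node (.leaf 0x2000201) (.leaf 0x36ec00295e)) (.node (.leaf 0x2002143) (.leaf 0x16de000001))) (.node (.node (.leaf 0x1201000003) (.leaf 0x42fc005201)) (.node (.leaf 0x1f71003201) (.leaf 0x0)))) (.node (.node (.node (.leaf 0xa01000001) (.leaf 0x42ac00463e)) (.node (.leaf 0x2a01001f72) (.leaf 0x67aa000001))) (.node (.node (.leaf 0x1001a01) (.leaf 0x5a01004439)) (.node (.leaf 0x218b00330e) (.leaf 0x0))))) (.node (.node (.node (.node (.leaf 0x2000601) (.leaf 0x4368004366)) (.node (.leaf 0x10024ed) (.leaf 0x45be000003))) (.node (.node (.leaf 0x616000001) (.leaf 0x5601000003)) (.node (.leaf 0xc33002bf4) (.leaf 0x0)))) (.node (.node (.node (.leaf 0xe01000001) (.leaf 0x4e01000072)) (.node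 (.leaf 0x2c8500247e) (.leaf 0x6c51000001))) (.node (.node (.leaf 0x2001e01) (.leaf 0x5d05000003)) (.node (.leaf 0x34ea0021b9) (.leaf 0x0))))))) (.node (.node (.node (.node (.node (.node (.leaf 0x2000101) (.leaf 0x34ea000187)) (.node (.leaf 0x200208b) (.leaf 0x5f63000003))) (.node (.node (.leaf 0x2001101) (.leaf 0x5101004313)) (.node (.leaf 0x2a46001f72) (.leaf 0x70cb000003)))) (.node (.node (.node (.leaf 0x1000901) (.leaf 0x4409004901)) (.node (.leaf 0x2002873) (.leaf 0x66a3000003))) (.node (.node (.leaf 0x2001901) (.leaf 0x59010042f1)) (.node (.leaf 0x21c700322f) (.leaf 0x0))))) (.node (.node (.node (.node (.leaf 0x1000501) (.leaf 0x450100428b)) (.node (.leaf 0x10023e9) (.leaf 0x62ed000001))) (.node (.node (.leaf 0x1501000003) (.leaf 0x442c005501)) (.node (.leaf 0x1f710032bc) (.leaf 0x0)))) (.node (.node (.node (.leaf 0xd01000003) (.leaf 0x4d01004329)) (.node (.leaf 0x2c570028d2) (.leaf 0x6afb000003))) (.node (.node (.leaf 0x1d01000002) (.leaf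 0x5c4f000003)) (.node (.leaf 0x37d000233c) (.leaf 0x0)))))) (.node (.node (.node (.node (.node (.leaf 0x301000001) (.leaf 0x42c10042e5)) (.node (.leaf 0x200222a) (.leaf 0x6101000001))) (.node (.node (.leaf 0x1301000001) (.leaf 0x5301004303)) (.node (.leaf 0x30f4001f72) (.leaf 0x0)))) (.node (.node (.node (.leaf 0x1000b01) (.leaf 0x43a7004b01)) (.node (.leaf 0x2b01001f72) (.leaf 0x68ac000001))) (.node (.node (.leaf 0x1000012) (.leaf 0x2002052)) (.node (.leaf 0x2c5500266e) (.leaf 0x0))))) (.node (.node (.node (.node (.leaf 0x3000701) (.leaf 0x47010043d7)) (.node (.leaf 0x200261b) (.leaf 0x64ad000003))) (.node (.node (.leaf 0x2001701) (.leaf 0x5701004408)) (.node (.leaf 0x258b002b04) (.leaf 0x0)))) (.node (.node (.node (.leaf 0xf01000001) (.leaf 0x428e004f01)) (.node (.leaf 0x2f01000020) (.leaf 0x6dcf000003))) (.node (.node (.leaf 0x2001f01) (.leaf 0x2349000003)) (.node (.leaf 0x2c9f0027e2) (.leaf 0x0)))))))) (.node (.node (.node (.node (.node (.node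 (.node (.leaf 0x1000081) (.leaf 0x2c5f00266c)) (.node (.leaf 0x100202b) (.leaf 0x5ef7000003))) (.node (.node (.leaf 0x1001081) (.leaf 0x4401005081)) (.node (.leaf 0x2bf8001f72) (.leaf 0x6fd3000003)))) (.node (.node (.node (.leaf 0x1000881) (.leaf 0x43ce004881)) (.node (.leaf 0x10027d3) (.leaf 0x200661a))) (.node (.node (.leaf 0x2001881) (.leaf 0x5881000072)) (.node (.leaf 0x23c3003496) (.leaf 0x0))))) (.node (.node (.node (.node (.leaf 0x2000481) (.leaf 0x44810042b4)) (.node (.leaf 0x2000a10) (.leaf 0x627d000001))) (.node (.node (.leaf 0x1481000001) (.leaf 0x43700043f2)) (.node (.leaf 0x34810002b1) (.leaf 0x0)))) (.node (.node (.node (.leaf 0xc81000002) (.leaf 0x4c810043cf)) (.node (.leaf 0x2b5c001f72) (.leaf 0x6a61000001))) (.node (.node (.leaf 0xff9000003) (.leaf 0x5be5000001)) (.node (.leaf 0x30f60027ca) (.leaf 0x0)))))) (.node (.node (.node (.node (.node (.leaf 0x281000002) (.leaf 0x4281000003)) (.node (.leaf 0x21b4000003) (.leaf 0x6095000001)))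 (.node (.node (.leaf 0x1281000003) (.leaf 0x43e2005281)) (.node (.leaf 0x1f7b002b55) (.leaf 0x0)))) (.node (.node (.node (.leaf 0x2000a81) (.leaf 0x43ab004a81)) (.node (.leaf 0x1f71002a81) (.leaf 0x6829000001))) (.node (.node (.leaf 0x3001a81) (.leaf 0x5a81000002)) (.node (.leaf 0x2a4f002105) (.leaf 0x0))))) (.node (.node (.node (.node (.leaf 0x2000681) (.leaf 0x468100429b)) (.node (.leaf 0x100257d) (.leaf 0x6441000001))) (.node (.node (.leaf 0x2001681) (.leaf 0x5681004313)) (.node (.leaf 0x4d002b8f) (.leaf 0x0)))) (.node (.node (.node (.leaf 0xe81000002) (.leaf 0x4e810042ad)) (.node (.leaf 0x1f71002e81) (.leaf 0x6cfb000001))) (.node (.node (.leaf 0x3001e81) (.leaf 0x5d67000001)) (.node (.leaf 0x2a8a0020e4) (.leaf 0x0))))))) (.node (.node (.node (.node (.node (.node (.leaf 0x181000003) (.leaf 0x2b1700285c)) (.node (.leaf 0x10020f7) (.leaf 0x5fc5000001))) (.node (.node (.leaf 0x1181000001) (.leaf 0x43c000451a)) (.node (.leaf 0x1f71003181) (.leaf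 0x0)))) (.node (.node (.node (.leaf 0x981000003) (.leaf 0x3d004981)) (.node (.leaf 0x1002947) (.leaf 0x6721000001))) (.node (.node (.leaf 0x2001981) (.leaf 0x5981004406)) (.node (.leaf 0x22c9003219) (.leaf 0x0))))) (.node (.node (.node (.node (.leaf 0x3000581) (.leaf 0x458100434d)) (.node (.leaf 0x2002467) (.leaf 0x6361000003))) (.node (.node (.leaf 0x1581000002) (.leaf 0x55810042ff)) (.node (.leaf 0x1f71003271) (.leaf 0x0)))) (.node (.node (.node (.leaf 0x21a000003) (.leaf 0x4d8100439c)) (.node (.leaf 0x21eb002d59) (.leaf 0x6ba3000003))) (.node (.node (.leaf 0x2001d81) (.leaf 0x5cb3000001)) (.node (.leaf 0x363400281a) (.leaf 0x0)))))) (.node (.node (.node (.node (.node (.leaf 0x1000381) (.leaf 0x43660042ac)) (.node (.leaf 0x10022a3) (.leaf 0x6177000003))) (.node (.node (.leaf 0x1381000003) (.leaf 0x3005381)) (.node (.leaf 0x1f71002fc5) (.leaf 0x0)))) (.node (.node (.node (.leaf 0x1000b81) (.leaf 0x4b81004439)) (.node (.leaf 0x1f71002b81) (.leaf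 0x6945000001))) (.node (.node (.leaf 0x1001b81) (.leaf 0x221e000003)) (.node (.leaf 0x2a2300018f) (.leaf 0x0))))) (.node (.node (.node (.node (.leaf 0x1000781) (.leaf 0x4781004301)) (.node (.leaf 0x26b0000001) (.leaf 0x652b000001))) (.node (.node (.leaf 0x2001781) (.leaf 0x43a9005781)) (.node (.leaf 0x3081001f72) (.leaf 0x0)))) (.node (.node (.node (.leaf 0xf81000001) (.leaf 0x4f81004353)) (.node (.leaf 0x1f71002f81) (.leaf 0x6e5d000001))) (.node (.node (.leaf 0x10010e7) (.leaf 0x5e34000001)) (.node (.leaf 0x365e00286e) (.leaf 0x0)))))))))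

/-- part -/
def slpT_97 : Tr Nat := (.node (.node (.node (.node (.node (.node (.node (.node (.leaf 0x2000041) (.leaf 0x382000266c)) (.node (.leaf 0x2001ff5) (.leaf 0x2727000003))) (.node (.node (.leaf 0x2001041) (.leaf 0x5041000003)) (.node (.leaf 0x211d003041) (.leaf 0x6f81000003)))) (.node (.node (.node (.leaf 0x3000841) (.leaf 0x45a50043bd)) (.node (.leaf 0x2002789) (.leaf 0x1b20000001))) (.node (.node (.leaf 0x1001841) (.leaf 0x5841004359)) (.node (.leaf 0x330f001f72) (.leaf 0x0))))) (.node (.node (.node (.node (.leaf 0x1000441) (.leaf 0x42e4004441)) (.node (.leaf 0x2002160) (.leaf 0x623b000001))) (.node (.node (.leaf 0x1441000003) (.leaf 0x42ac004827)) (.node (.leaf 0x313e001f7b) (.leaf 0x0)))) (.node (.node (.node (.leaf 0xc41000003) (.leaf 0x4c410043d9)) (.node (.leaf 0x2c41001f72) (.leaf 0x6a13000001))) (.node (.node (.leaf 0x1553000001) (.leaf 0x5bbf000003)) (.node (.leaf 0x38e2000fda) (.leaf 0x0)))))) (.node (.node (.node (.node (.node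 (.leaf 0x241000001) (.leaf 0x29b60025e8)) (.node (.leaf 0x1002175) (.leaf 0x6067000003))) (.node (.node (.leaf 0x1241000003) (.leaf 0x42f0005241)) (.node (.leaf 0x1f71003241) (.leaf 0x0)))) (.node (.node (.node (.leaf 0x1000a41) (.leaf 0x436c004460)) (.node (.leaf 0x1f7b002a41) (.leaf 0x67e6000001))) (.node (.node (.leaf 0x2001a41) (.leaf 0x44600043c1)) (.node (.leaf 0x324400218a) (.leaf 0x0))))) (.node (.node (.node (.node (.leaf 0x2000641) (.leaf 0x4641004398)) (.node (.leaf 0x1002533) (.leaf 0x6409000003))) (.node (.node (.leaf 0x1641000003) (.leaf 0x44a50043f8)) (.node (.leaf 0x1f71003641) (.leaf 0x0)))) (.node (.node (.node (.leaf 0xe41000003) (.leaf 0x4e410042ad)) (.node (.leaf 0x1f71002e41) (.leaf 0x6ca1000003))) (.node (.node (.leaf 0x1e41000001) (.leaf 0x1005d34)) (.node (.leaf 0x30320001d0) (.leaf 0x0))))))) (.node (.node (.node (.node (.node (.node (.leaf 0x200003c) (.leaf 0x2b350023b2)) (.node (.leaf 0x20020cb) (.leaf 0x5f8d000003)))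 (.node (.node (.leaf 0x1141000001) (.leaf 0x4432005141)) (.node (.leaf 0x1f71002c98) (.leaf 0x0)))) (.node (.node (.node (.leaf 0x2000941) (.leaf 0x22004941)) (.node (.leaf 0x10028db) (.leaf 0x66dd000001))) (.node (.node (.leaf 0x1001941) (.leaf 0x45c00042ef)) (.node (.leaf 0xf7a002b87) (.leaf 0x0))))) (.node (.node (.node (.node (.leaf 0x2000541) (.leaf 0x439b004541)) (.node (.leaf 0x2002425) (.leaf 0x6325000001))) (.node (.node (.leaf 0x1541000001) (.leaf 0x428e005541)) (.node (.leaf 0x299f002fe3) (.leaf 0x0)))) (.node (.node (.node (.leaf 0xd41000003) (.leaf 0x442a004353)) (.node (.leaf 0x2d4100018a) (.leaf 0x6b3d000003))) (.node (.node (.leaf 0x1d41000003) (.leaf 0x55b2000003)) (.node (.leaf 0x2da10024e2) (.leaf 0x0)))))) (.node (.node (.node (.node (.node (.leaf 0x1000341) (.leaf 0x4337004325)) (.node (.leaf 0x200226a) (.leaf 0x613b000003))) (.node (.node (.leaf 0x1341000001) (.leaf 0x4405005341)) (.node (.leaf 0x1f71003341) (.leaf 0x0))))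 (.node (.node (.node (.leaf 0x3000b41) (.leaf 0x43f40043c1)) (.node (.leaf 0x1f7b002b41) (.leaf 0x68eb000003))) (.node (.node (.leaf 0x2001b41) (.leaf 0x5b14000001)) (.node (.leaf 0x2add0022b8) (.leaf 0x0))))) (.node (.node (.node (.node (.leaf 0x2000741) (.leaf 0x4741000072)) (.node (.leaf 0x2660000003) (.leaf 0x5112000003))) (.node (.node (.leaf 0x1001741) (.leaf 0x434c0046a3)) (.node (.leaf 0x2aed00213a) (.leaf 0x0)))) (.node (.node (.node (.leaf 0xf41000001) (.leaf 0x43ff0043f1)) (.node (.leaf 0x2aa0001f72) (.leaf 0x6e1b000001))) (.node (.node (.leaf 0x1001f41) (.leaf 0x5e05000003)) (.node (.leaf 0x35c6000fd9) (.leaf 0x0)))))))) (.node (.node (.node (.node (.node (.node (.node (.leaf 0x10000c1) (.leaf 0x39ba0027c2)) (.node (.leaf 0x1002055) (.leaf 0x5f31000001))) (.node (.node (.leaf 0x10003b4) (.leaf 0x428a0050c1)) (.node (.leaf 0x2c69001f7b) (.leaf 0x702d000003)))) (.node (.node (.node (.leaf 0x10008c1) (.leaf 0x42a40048c1)) (.node (.leaf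 0x2002817) (.leaf 0x200665c))) (.node (.node (.leaf 0x30018c1) (.leaf 0x43e20058c1)) (.node (.leaf 0x22c5002c94) (.leaf 0x0))))) (.node (.node (.node (.node (.leaf 0x20004c1) (.leaf 0x44c1000072)) (.node (.leaf 0x20023af) (.leaf 0x62ad000003))) (.node (.node (.leaf 0x14c1000001) (.leaf 0x42b30054c1)) (.node (.leaf 0x1f7b0030dd) (.leaf 0x0)))) (.node (.node (.node (.leaf 0xcc1000003) (.leaf 0x4cc1004353)) (.node (.leaf 0x29e50029ac) (.leaf 0x6aab000003))) (.node (.node (.leaf 0x1cc1000001) (.leaf 0x5c1b000001)) (.node (.leaf 0x313e00244c) (.leaf 0x0)))))) (.node (.node (.node (.node (.node (.leaf 0x2c1000001) (.leaf 0x10e70042ad)) (.node (.leaf 0x10021eb) (.leaf 0x60cb000003))) (.node (.node (.leaf 0x12c1000001) (.leaf 0x52c1004433)) (.node (.leaf 0x311b001f7b) (.leaf 0x0)))) (.node (.node (.node (.leaf 0x2000ac1) (.leaf 0x43f500441a)) (.node (.leaf 0x1f71002a50) (.leaf 0x686e000003))) (.node (.node (.leaf 0x1001ac1) (.leaf 0x5ac1000001)) (.node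 (.leaf 0x2a0d0023f0) (.leaf 0x0))))) (.node (.node (.node (.node (.leaf 0x20006c1) (.leaf 0x46c10042fd)) (.node (.leaf 0x20025c5) (.leaf 0x6477000003))) (.node (.node (.leaf 0x10016c1) (.leaf 0x56c10042f1)) (.node (.leaf 0x1f71003124) (.leaf 0x0)))) (.node (.node (.node (.leaf 0xec1000003) (.leaf 0x43d000463f)) (.node (.leaf 0x1f71002eab) (.leaf 0x6d53000001))) (.node (.node (.leaf 0x1001ec1) (.leaf 0x1005da6)) (.node (.leaf 0x2b07002456) (.leaf 0x0))))))) (.node (.node (.node (.node (.node (.node (.leaf 0x1c1000003) (.leaf 0x343b002006)) (.node (.leaf 0x1002117) (.leaf 0x1d3e000001))) (.node (.node (.leaf 0x11c1000001) (.leaf 0x43b9004325)) (.node (.leaf 0x265d0031c1) (.leaf 0x0)))) (.node (.node (.node (.leaf 0x9c1000003) (.leaf 0x49c1004353)) (.node (.leaf 0x1f710029c1) (.leaf 0x6763000003))) (.node (.node (.leaf 0x10019c1) (.leaf 0x59c1000001)) (.node (.leaf 0x213b002ad1) (.leaf 0x0))))) (.node (.node (.node (.node (.leaf 0x10005c1) (.leaf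 0x45c1004388)) (.node (.leaf 0x200050c) (.leaf 0x6395000003))) (.node (.node (.leaf 0x15c1000003) (.leaf 0x55c1004359)) (.node (.leaf 0x1f7b002fdf) (.leaf 0x0)))) (.node (.node (.node (.leaf 0xdc1000002) (.leaf 0x4dc1004301)) (.node (.leaf 0x2dc1001f7b) (.leaf 0x6bf3000003))) (.node (.node (.leaf 0x3001dc1) (.leaf 0x5cdf000003)) (.node (.leaf 0x31b20028f6) (.leaf 0x0)))))) (.node (.node (.node (.node (.node (.leaf 0x20003c1) (.leaf 0x43bd0043b4)) (.node (.leaf 0x10022d5) (.leaf 0x61bf000001))) (.node (.node (.leaf 0x13c1000002) (.leaf 0x43520053c1)) (.node (.leaf 0x1f7b003104) (.leaf 0x0)))) (.node (.node (.node (.leaf 0x2000bc1) (.leaf 0x4ac30043cf)) (.node (.leaf 0x2bc1001f7b) (.leaf 0x5125000001))) (.node (.node (.leaf 0x1001bc1) (.leaf 0x5b69000003)) (.node (.leaf 0x37000022e4) (.leaf 0x0))))) (.node (.node (.node (.node (.leaf 0x10007c1) (.leaf 0x42ee0047c1)) (.node (.leaf 0x20026f9) (.leaf 0x1006566))) (.node (.node (.leaf 0x20017c1) (.leaf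 0x442c004f39)) (.node (.leaf 0x2c5f002408) (.leaf 0x0)))) (.node (.node (.node (.leaf 0xfc1000001) (.leaf 0x4fc1004317)) (.node (.leaf 0x20cb002f24) (.leaf 0x6ed1000003))) (.node (.node (.leaf 0x1001fa7) (.leaf 0x5e66000001)) (.node (.leaf 0x3886002154) (.leaf 0x0)))))))))

/-- part -/
def slpT_98 : Tr Nat := (.node (.node (.node (.node (.node (.node (.node (.node (.leaf 0x21000003) (.leaf 0x2e5e00266c)) (.node (.leaf 0x1001fea) (.leaf 0x5eac000001))) (.node (.node (.leaf 0x1001021) (.leaf 0x50210042e9)) (.node (.leaf 0x1f71003021) (.leaf 0x6f3f000003)))) (.node (.node (.node (.leaf 0x1000821) (.leaf 0x42fc004821)) (.node (.leaf 0x200276a) (.leaf 0x65bd000003))) (.node (.node (.leaf 0x2001821) (.leaf 0x5821000004)) (.node (.leaf 0x269b002bd4) (.leaf 0x0))))) (.node (.node (.node (.node (.leaf 0x2000421) (.leaf 0x441a004368)) (.node (.leaf 0x2002329) (.leaf 0x6211000003))) (.node (.node (.leaf 0x1421000001) (.leaf 0x438500468e)) (.node (.leaf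 0x306f001f72) (.leaf 0x0)))) (.node (.node (.node (.leaf 0xc21000001) (.leaf 0x4367004425)) (.node (.leaf 0x2c21001f72) (.leaf 0x69f1000003))) (.node (.node (.leaf 0x2001c21) (.leaf 0x219b000003)) (.node (.leaf 0x2e700020aa) (.leaf 0x0)))))) (.node (.node (.node (.node (.node (.leaf 0x1000221) (.leaf 0x2e4400297e)) (.node (.leaf 0x2158000003) (.leaf 0x6047000003))) (.node (.node (.leaf 0x1221000003) (.leaf 0x4438005221)) (.node (.leaf 0x1f71003221) (.leaf 0x0)))) (.node (.node (.node (.leaf 0x1000a21) (.leaf 0x42a4004a21)) (.node (.leaf 0x2a21001f72) (.leaf 0x67ca000001))) (.node (.node (.leaf 0x2000afd) (.leaf 0x5a2100003c)) (.node (.leaf 0x50002ea5) (.leaf 0x0))))) (.node (.node (.node (.node (.leaf 0x2000621) (.leaf 0x4389004621)) (.node (.leaf 0x200250d) (.leaf 0x63ed000001))) (.node (.node (.leaf 0x1621000001) (.leaf 0x562100428f)) (.node (.leaf 0x1f71003621) (.leaf 0x0)))) (.node (.node (.node (.leaf 0xe21000001) (.leaf 0x4409004e21)) (.node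 (.leaf 0x2e210024f2) (.leaf 0x6c7d000001))) (.node (.node (.leaf 0x2001e21) (.leaf 0x200136e)) (.node (.leaf 0x314c002220) (.leaf 0x0))))))) (.node (.node (.node (.node (.node (.node (.leaf 0x2000121) (.leaf 0x39480021e8)) (.node (.leaf 0x20020b1) (.leaf 0x5f7b000003))) (.node (.node (.leaf 0x1121000001) (.leaf 0x428a005121)) (.node (.leaf 0x3121001f72) (.leaf 0x7121000003)))) (.node (.node (.node (.leaf 0x2000921) (.leaf 0x436a0043b3)) (.node (.leaf 0x20028a5) (.leaf 0x66c1000001))) (.node (.node (.leaf 0x2001921) (.leaf 0x59210043d7)) (.node (.leaf 0x13e0034a6) (.leaf 0x0))))) (.node (.node (.node (.node (.leaf 0x1000521) (.leaf 0x4405004521)) (.node (.leaf 0x2002409) (.leaf 0x6309000003))) (.node (.node (.leaf 0x1521000001) (.leaf 0x44240043f0)) (.node (.leaf 0x2200002d73) (.leaf 0x0)))) (.node (.node (.node (.leaf 0xd21000001) (.leaf 0x44fd0043ed)) (.node (.leaf 0x2d21001f72) (.leaf 0x6b1b000003))) (.node (.node (.leaf 0x1d21000003) (.leaf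 0x5c69000003)) (.node (.leaf 0x2fa4002552) (.leaf 0x0)))))) (.node (.node (.node (.node (.node (.leaf 0x321000002) (.leaf 0x432100428b)) (.node (.leaf 0x100224d) (.leaf 0x6123000001))) (.node (.node (.leaf 0x1321000002) (.leaf 0x430e005321)) (.node (.leaf 0x3321002130) (.leaf 0x0)))) (.node (.node (.node (.leaf 0x3000b21) (.leaf 0x71004b21)) (.node (.leaf 0x2b21001f7b) (.leaf 0x6851000001))) (.node (.node (.leaf 0x1000d86) (.leaf 0x2005af9)) (.node (.leaf 0x394e00276b) (.leaf 0x0))))) (.node (.node (.node (.node (.leaf 0x2000721) (.leaf 0x42e4004722)) (.node (.leaf 0x100263d) (.leaf 0x64cf000003))) (.node (.node (.leaf 0x1001721) (.leaf 0x5721004433)) (.node (.leaf 0x25ff002df6) (.leaf 0x0)))) (.node (.node (.node (.leaf 0xf21000001) (.leaf 0x43a7004f21)) (.node (.leaf 0x2f21001f72) (.leaf 0x6def000001))) (.node (.node (.leaf 0x1001f21) (.leaf 0x5deb000003)) (.node (.leaf 0x31680027e2) (.leaf 0x0)))))))) (.node (.node (.node (.node (.node (.node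 (.node (.leaf 0xa1000001) (.leaf 0x312d0021b4)) (.node (.leaf 0x1002041) (.leaf 0x5f1d000003))) (.node (.node (.leaf 0x10010a1) (.leaf 0x43ec00441c)) (.node (.leaf 0x30a1001f72) (.leaf 0x7007000003)))) (.node (.node (.node (.leaf 0x10008a1) (.leaf 0x42f80048a1)) (.node (.leaf 0x10027f9) (.leaf 0x100663c))) (.node (.node (.leaf 0x30018a1) (.leaf 0x49c9004388)) (.node (.leaf 0x27cd0031d3) (.leaf 0x0))))) (.node (.node (.node (.node (.leaf 0x20004a1) (.leaf 0x710044a1)) (.node (.leaf 0x1002389) (.leaf 0x6297000003))) (.node (.node (.leaf 0x14a1000003) (.leaf 0x439d0054a1)) (.node (.leaf 0x2a5a002916) (.leaf 0x0)))) (.node (.node (.node (.leaf 0xca1000003) (.leaf 0x4ca100438a)) (.node (.leaf 0x2ca1001f72) (.leaf 0x6a89000003))) (.node (.node (.leaf 0x1ca1000003) (.leaf 0x5bff000001)) (.node (.leaf 0x3755002464) (.leaf 0x0)))))) (.node (.node (.node (.node (.node (.leaf 0x2a1000003) (.leaf 0x429d000001)) (.node (.leaf 0x20021d3) (.leaf 0x60b1000003)))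 (.node (.node (.leaf 0x12a1000003) (.leaf 0x44050052a1)) (.node (.leaf 0x32a1001f7b) (.leaf 0x0)))) (.node (.node (.node (.leaf 0x1000aa1) (.leaf 0x42ac004aa1)) (.node (.leaf 0x1f71002aa1) (.leaf 0x684b000003))) (.node (.node (.leaf 0x2001aa1) (.leaf 0x5aa10043d9)) (.node (.leaf 0x324a00249c) (.leaf 0x0))))) (.node (.node (.node (.node (.leaf 0x20006a1) (.leaf 0x46a10043fe)) (.node (.leaf 0x200259b) (.leaf 0x645b000001))) (.node (.node (.leaf 0x10016a1) (.leaf 0x56a1000021)) (.node (.leaf 0x24b1002a34) (.leaf 0x0)))) (.node (.node (.node (.leaf 0xea1000001) (.leaf 0x4ea10043d3)) (.node (.leaf 0x1f71002ea1) (.leaf 0x6d1d000001))) (.node (.node (.leaf 0x1001ea1) (.leaf 0x2005d82)) (.node (.leaf 0x375d002089) (.leaf 0x0))))))) (.node (.node (.node (.node (.node (.node (.leaf 0x1a1000001) (.leaf 0x2d31001faa)) (.node (.leaf 0x2002109) (.leaf 0x5fe3000001))) (.node (.node (.leaf 0x11a1000001) (.leaf 0x43520051a1)) (.node (.leaf 0x265d002ee2) (.leaf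 0x0)))) (.node (.node (.node (.leaf 0x9a1000003) (.leaf 0x43d20049a1)) (.node (.leaf 0x200298b) (.leaf 0x6747000001))) (.node (.node (.leaf 0x20019a1) (.leaf 0x59a1000001)) (.node (.leaf 0x2627002b4f) (.leaf 0x0))))) (.node (.node (.node (.node (.leaf 0x20005a1) (.leaf 0x45a1000074)) (.node (.leaf 0x200248b) (.leaf 0x637d000001))) (.node (.node (.leaf 0x15a1000001) (.leaf 0x55a1000023)) (.node (.leaf 0x1f71002a55) (.leaf 0x0)))) (.node (.node (.node (.leaf 0xda1000001) (.leaf 0x44e80043d1)) (.node (.leaf 0x2da1001f72) (.leaf 0x6bc3000003))) (.node (.node (.leaf 0x1001da1) (.leaf 0x5cc9000001)) (.node (.leaf 0x3612002749) (.leaf 0x0)))))) (.node (.node (.node (.node (.node (.leaf 0x20000e7) (.leaf 0x436600439b)) (.node (.leaf 0x20022bb) (.leaf 0x6193000003))) (.node (.node (.leaf 0x13a1000001) (.leaf 0x53a10043d9)) (.node (.leaf 0x1f7b002da6) (.leaf 0x0)))) (.node (.node (.node (.leaf 0x1000ba1) (.leaf 0x4ba1004433)) (.node (.leaf 0x1f7b002ba1)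 (.leaf 0x6967000003))) (.node (.node (.leaf 0x1001ba1) (.leaf 0x5b52000001)) (.node (.leaf 0x2fe20022e4) (.leaf 0x0))))) (.node (.node (.node (.node (.leaf 0x10007a1) (.leaf 0x43fd0043c6)) (.node (.leaf 0x20026d7) (.leaf 0x200654c))) (.node (.node (.leaf 0x10017a1) (.leaf 0x42e80057a1)) (.node (.leaf 0x3066000054) (.leaf 0x0)))) (.node (.node (.node (.leaf 0xfa1000002) (.leaf 0x48bb00438a)) (.node (.leaf 0x1f71002fa1) (.leaf 0x6e95000001))) (.node (.node (.leaf 0x1001f97) (.leaf 0x5e4e000001)) (.node (.leaf 0x35c6002154) (.leaf 0x0)))))))))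

/-- part -/
def slpT_99 : Tr Nat := (.node (.node (.node (.node (.node (.node (.node (.node (.leaf 0x100001c) (.leaf 0x2fb700266c)) (.node (.leaf 0x100200d) (.leaf 0x5ed9000001))) (.node (.node (.leaf 0x2001061) (.leaf 0x20005061)) (.node (.leaf 0x2f41001f72) (.leaf 0x6fa7000001)))) (.node (.node (.node (.leaf 0x3000861) (.leaf 0x4861004406)) (.node (.leaf 0x10027b3) (.leaf 0x20065fe))) (.node (.node (.leaf 0x1001861) (.leaf 0x5861004406)) (.node (.leaf 0x252b002a3d) (.leaf 0x0))))) (.node (.node (.node (.node (.leaf 0x1000461) (.leaf 0x4385004461)) (.node (.leaf 0x1002359) (.leaf 0x625f000003))) (.node (.node (.leaf 0x1461000001) (.leaf 0x442e0048b2)) (.node (.leaf 0x3461001f72) (.leaf 0x0)))) (.node (.node (.node (.leaf 0xc61000002) (.leaf 0x10e8004c61)) (.node (.leaf 0x2c61001f72) (.leaf 0x6a2f000001))) (.node (.node (.leaf 0x1c61000001) (.leaf 0x5bd1000003)) (.node (.leaf 0x308d002122) (.leaf 0x0)))))) (.node (.node (.node (.node (.node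 (.leaf 0x261000001) (.leaf 0x30320027fc)) (.node (.leaf 0x2002191) (.leaf 0x25e7000003))) (.node (.node (.leaf 0x1261000003) (.leaf 0x5261004406)) (.node (.leaf 0x1f7b003261) (.leaf 0x0)))) (.node (.node (.node (.leaf 0x2000a61) (.leaf 0x10e8004a61)) (.node (.leaf 0x1f71002a61) (.leaf 0x680c000001))) (.node (.node (.leaf 0x1001a61) (.leaf 0x5a610043a8)) (.node (.leaf 0x323a00096d) (.leaf 0x0))))) (.node (.node (.node (.node (.leaf 0x2000661) (.leaf 0x44b100442b)) (.node (.leaf 0x200255d) (.leaf 0x6204000001))) (.node (.node (.leaf 0x1661000003) (.leaf 0x43a9005661)) (.node (.leaf 0x4d003122) (.leaf 0x0)))) (.node (.node (.node (.leaf 0xe61000001) (.leaf 0x4e6100003e)) (.node (.leaf 0x24f1002e61) (.leaf 0x6cc9000003))) (.node (.node (.leaf 0x3001e61) (.leaf 0x1005d4e)) (.node (.leaf 0x39ee0027ba) (.leaf 0x0))))))) (.node (.node (.node (.node (.node (.node (.leaf 0x161000003) (.leaf 0x2e300023b2)) (.node (.leaf 0x10020e1) (.leaf 0x2655000003)))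 (.node (.node (.leaf 0x1161000003) (.leaf 0x42b3005161)) (.node (.leaf 0x1f7b003161) (.leaf 0x0)))) (.node (.node (.node (.leaf 0x1000961) (.leaf 0x42ee004961)) (.node (.leaf 0x100291d) (.leaf 0x66ff000003))) (.node (.node (.leaf 0x1001961) (.leaf 0x4744004384)) (.node (.leaf 0x1f7b00330c) (.leaf 0x0))))) (.node (.node (.node (.node (.leaf 0x3000561) (.leaf 0x441b0043c1)) (.node (.leaf 0x1002441) (.leaf 0x6343000003))) (.node (.node (.leaf 0x1561000003) (.leaf 0x43fd0052d9)) (.node (.leaf 0x1f7b003561) (.leaf 0x0)))) (.node (.node (.node (.leaf 0xd61000001) (.leaf 0x4d61000004)) (.node (.leaf 0x1f71002c94) (.leaf 0x6b6d000003))) (.node (.node (.leaf 0x1001d61) (.leaf 0x46d4000003)) (.node (.leaf 0x33db000f77) (.leaf 0x0)))))) (.node (.node (.node (.node (.node (.leaf 0x1000361) (.leaf 0x432100434c)) (.node (.leaf 0x20005ee) (.leaf 0x615b000003))) (.node (.node (.leaf 0x1361000003) (.leaf 0x43720043f6)) (.node (.leaf 0x1f7100330a) (.leaf 0x0))))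 (.node (.node (.node (.leaf 0x1000b61) (.leaf 0x4b610043d7)) (.node (.leaf 0x1f71002b61) (.leaf 0x6917000003))) (.node (.node (.leaf 0x1001b61) (.leaf 0x5b24000001)) (.node (.leaf 0x2a38002824) (.leaf 0x0))))) (.node (.node (.node (.node (.leaf 0x2000761) (.leaf 0x43ff004761)) (.node (.leaf 0x1002681) (.leaf 0x6509000003))) (.node (.node (.leaf 0x3001761) (.leaf 0x5761000074)) (.node (.leaf 0x2e33001fb8) (.leaf 0x0)))) (.node (.node (.node (.leaf 0xf61000001) (.leaf 0x4f610043a8)) (.node (.leaf 0x1f71002f61) (.leaf 0x6e3d000001))) (.node (.node (.leaf 0xd93000003) (.leaf 0x5e1c000001)) (.node (.leaf 0x380a000fd9) (.leaf 0x0)))))))) (.node (.node (.node (.node (.node (.node (.node (.leaf 0x10000e1) (.leaf 0x2c91000187)) (.node (.leaf 0x200206b) (.leaf 0x5f49000001))) (.node (.node (.leaf 0x20010e1) (.leaf 0x43d60050e1)) (.node (.leaf 0x1f7b0030e1) (.leaf 0x706b000003)))) (.node (.node (.node (.leaf 0x20008e1) (.leaf 0x434c0048e1)) (.node (.leaf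 0x1002841) (.leaf 0x6683000003))) (.node (.node (.leaf 0x10018e1) (.leaf 0x42fc0058e1)) (.node (.leaf 0x1f71003106) (.leaf 0x0))))) (.node (.node (.node (.node (.leaf 0x10004e1) (.leaf 0x44e10042f1)) (.node (.leaf 0x20023cb) (.leaf 0x62cb000001))) (.node (.node (.leaf 0x14e1000003) (.leaf 0x54e10043d3)) (.node (.leaf 0x1f7b002fef) (.leaf 0x0)))) (.node (.node (.node (.leaf 0xce1000001) (.leaf 0x4ce100428f)) (.node (.leaf 0x29e9000fce) (.leaf 0x6ad1000001))) (.node (.node (.leaf 0x1ce1000002) (.leaf 0x5c35000001)) (.node (.leaf 0x2ad800233c) (.leaf 0x0)))))) (.node (.node (.node (.node (.node (.leaf 0x2e1000003) (.leaf 0x42e1001f84)) (.node (.leaf 0x200220a) (.leaf 0x60e7000003))) (.node (.node (.leaf 0x12e1000003) (.leaf 0x46ea004388)) (.node (.leaf 0x31b80027fe) (.leaf 0x0)))) (.node (.node (.node (.leaf 0x2000ae1) (.leaf 0x429a004ae1)) (.node (.leaf 0x2ac6001f7b) (.leaf 0x6890000001))) (.node (.node (.leaf 0x1001ae1) (.leaf 0x2005acd)) (.node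 (.leaf 0x335c00266a) (.leaf 0x0))))) (.node (.node (.node (.node (.leaf 0x30006e1) (.leaf 0x46e10043d1)) (.node (.leaf 0x10025e5) (.leaf 0x6493000001))) (.node (.node (.leaf 0x2001140) (.leaf 0x56e10042a5)) (.node (.leaf 0x5e7002b53) (.leaf 0x0)))) (.node (.node (.node (.leaf 0xee1000003) (.leaf 0x442a0047e7)) (.node (.leaf 0x2ee1001f72) (.leaf 0x6d95000003))) (.node (.node (.leaf 0x2001ee1) (.leaf 0x5db7000001)) (.node (.leaf 0x2ddf0027b0) (.leaf 0x0))))))) (.node (.node (.node (.node (.node (.node (.leaf 0x10001e1) (.leaf 0x30fa00229d)) (.node (.leaf 0x100212f) (.leaf 0x1f6e000003))) (.node (.node (.leaf 0x11e1000003) (.leaf 0x51e100439c)) (.node (.leaf 0x20af002a34) (.leaf 0x0)))) (.node (.node (.node (.leaf 0x9e1000001) (.leaf 0x43d2004366)) (.node (.leaf 0x1f710029e1) (.leaf 0x678a000003))) (.node (.node (.leaf 0x20019e1) (.leaf 0x59e1000004)) (.node (.leaf 0x2009002e33) (.leaf 0x0))))) (.node (.node (.node (.node (.leaf 0x10005e1) (.leaf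 0x43e00045e1)) (.node (.leaf 0x20024c9) (.leaf 0x63b1000001))) (.node (.node (.leaf 0x15e1000001) (.leaf 0x55e10042ff)) (.node (.leaf 0x1f7b002f57) (.leaf 0x0)))) (.node (.node (.node (.leaf 0xde1000001) (.leaf 0x43b80043ed)) (.node (.leaf 0x2a3a0022f8) (.leaf 0x6c1b000003))) (.node (.node (.leaf 0x1001de1) (.leaf 0x5cef000001)) (.node (.leaf 0x2b4a0021b9) (.leaf 0x0)))))) (.node (.node (.node (.node (.node (.leaf 0x3e1000001) (.leaf 0x740043b4)) (.node (.leaf 0x20022f1) (.leaf 0x61d9000001))) (.node (.node (.leaf 0x13e1000003) (.leaf 0x43be00441a)) (.node (.leaf 0x2bab002636) (.leaf 0x0)))) (.node (.node (.node (.leaf 0x558000003) (.leaf 0x4be100003e)) (.node (.leaf 0x2be1001f72) (.leaf 0x69ab000003))) (.node (.node (.leaf 0x2001be1) (.leaf 0x1d39000003)) (.node (.leaf 0x359a0027aa) (.leaf 0x0))))) (.node (.node (.node (.node (.leaf 0x10007e1) (.leaf 0x439b0047e1)) (.node (.leaf 0x1002721) (.leaf 0x1006580))) (.node (.node (.leaf 0x10017e1)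 (.leaf 0x20057e1)) (.node (.leaf 0x1f710037e1) (.leaf 0x0)))) (.node (.node (.node (.leaf 0x2000fe1) (.leaf 0x432e004fe2)) (.node (.leaf 0x1f7b002ec9) (.leaf 0x6efb000003))) (.node (.node (.leaf 0x2001fb9) (.leaf 0x5e79000003)) (.node (.leaf 0x324e0001ca) (.leaf 0x0)))))))))

/-- part -/
def slpT_100 : Tr Nat := (.node (.node (.node (.node (.node (.node (.node (.node (.leaf 0x11000003) (.leaf 0x335e0000bb)) (.node (.leaf 0x2000879) (.leaf 0x5e9f000003))) (.node (.node (.leaf 0x2001011) (.leaf 0x50110042e5)) (.node (.leaf 0x244f002b5d) (.leaf 0x6f31000001)))) (.node (.node (.node (.leaf 0x1000811) (.leaf 0x4421004756)) (.node (.leaf 0x2002759) (.leaf 0x65b1000001))) (.node (.node (.leaf 0x2001811) (.leaf 0x581100439c)) (.node (.leaf 0x21a1003768) (.leaf 0x0))))) (.node (.node (.node (.node (.leaf 0x1000411) (.leaf 0x21004411)) (.node (.leaf 0x2002319) (.leaf 0x6201000003))) (.node (.node (.leaf 0x1411000001) (.leaf 0x43890043ba)) (.node (.leaf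 0x3411002636) (.leaf 0x0)))) (.node (.node (.node (.leaf 0xc11000003) (.leaf 0x4c110042f1)) (.node (.leaf 0x2c11001f72) (.leaf 0x69e1000003))) (.node (.node (.leaf 0x2001c11) (.leaf 0x2697000003)) (.node (.leaf 0x2dfc0020aa) (.leaf 0x0)))))) (.node (.node (.node (.node (.node (.leaf 0x1000211) (.leaf 0x357200295e)) (.node (.leaf 0x50e000003) (.leaf 0x603b000003))) (.node (.node (.leaf 0x1211000002) (.leaf 0x4348005211)) (.node (.leaf 0x1f71002ac1) (.leaf 0x0)))) (.node (.node (.node (.leaf 0x1000a11) (.leaf 0x442300449a)) (.node (.leaf 0x2a11001f72) (.leaf 0x67ba000003))) (.node (.node (.leaf 0x2001a11) (.leaf 0x5a11000002)) (.node (.leaf 0x1f7b0029db) (.leaf 0x0))))) (.node (.node (.node (.node (.leaf 0x100014e) (.leaf 0x4436004611)) (.node (.leaf 0x20024fd) (.leaf 0x63e1000001))) (.node (.node (.leaf 0x1611000003) (.leaf 0x5611000021)) (.node (.leaf 0x1f710033bf) (.leaf 0x0)))) (.node (.node (.node (.leaf 0xe11000001) (.leaf 0x4e1100429d))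 (.node (.leaf 0x2e11001f72) (.leaf 0x6c63000003))) (.node (.node (.leaf 0x2001e11) (.leaf 0x5d11000001)) (.node (.leaf 0x33c0002220) (.leaf 0x0))))))) (.node (.node (.node (.node (.node (.node (.leaf 0x1000111) (.leaf 0x36f800242e)) (.node (.leaf 0x20020a1) (.leaf 0x5f6f000003))) (.node (.node (.leaf 0x1111000001) (.leaf 0x51110043ac)) (.node (.leaf 0x3111001f72) (.leaf 0x70e3000003)))) (.node (.node (.node (.leaf 0x200055a) (.leaf 0x43a9004911)) (.node (.leaf 0x1002887) (.leaf 0x66b3000001))) (.node (.node (.leaf 0x1001911) (.leaf 0x591100434d)) (.node (.leaf 0x13e0029bd) (.leaf 0x0))))) (.node (.node (.node (.node (.leaf 0x1000511) (.leaf 0x4511004429)) (.node (.leaf 0x20023f9) (.leaf 0x1669000001))) (.node (.node (.leaf 0x1511000003) (.leaf 0x43270043f2)) (.node (.leaf 0x2200003383) (.leaf 0x0)))) (.node (.node (.node (.leaf 0xd11000003) (.leaf 0x4d110042e5)) (.node (.leaf 0x2cbf00236e) (.leaf 0x6b09000003))) (.node (.node (.leaf 0x1d11000003)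 (.leaf 0x5c5b000003)) (.node (.leaf 0x3830002552) (.leaf 0x0)))))) (.node (.node (.node (.node (.node (.leaf 0x311000001) (.leaf 0x429b0042e5)) (.node (.leaf 0x100223d) (.leaf 0x610f000001))) (.node (.node (.leaf 0x1311000001) (.leaf 0x5311004437)) (.node (.leaf 0x3311002130) (.leaf 0x0)))) (.node (.node (.node (.leaf 0x1000b11) (.leaf 0x43e0004b11)) (.node (.leaf 0x2b11001f7b) (.leaf 0x68b6000003))) (.node (.node (.leaf 0x2001b11) (.leaf 0x2005aef)) (.node (.leaf 0x335c00276b) (.leaf 0x0))))) (.node (.node (.node (.node (.leaf 0x2000711) (.leaf 0x471100439c)) (.node (.leaf 0x200262d) (.leaf 0x64bb000003))) (.node (.node (.leaf 0x2001711) (.leaf 0x57110042b0)) (.node (.leaf 0x25ff003494) (.leaf 0x0)))) (.node (.node (.node (.leaf 0xf11000001) (.leaf 0x43e2004f11)) (.node (.leaf 0x2e4e001f7b) (.leaf 0x6de1000003))) (.node (.node (.leaf 0x2001f11) (.leaf 0x5de1000001)) (.node (.leaf 0x2c9d0027e2) (.leaf 0x0)))))))) (.node (.node (.node (.node (.node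 (.node (.node (.leaf 0x91000001) (.leaf 0x331f0021b4)) (.node (.leaf 0x1002039) (.leaf 0x5f07000001))) (.node (.node (.leaf 0x1001091) (.leaf 0x4383005091)) (.node (.leaf 0x2d64001f72) (.leaf 0x6fe9000003)))) (.node (.node (.node (.leaf 0x2000891) (.leaf 0x71004891)) (.node (.leaf 0x10027e5) (.leaf 0x1006630))) (.node (.node (.leaf 0x2001891) (.leaf 0x5891004435)) (.node (.leaf 0x1f710035fd) (.leaf 0x0))))) (.node (.node (.node (.node (.leaf 0x1000491) (.leaf 0x42ac004491)) (.node (.leaf 0x100237d) (.leaf 0x6289000003))) (.node (.node (.leaf 0x1283000871) (.leaf 0x3005491)) (.node (.leaf 0x2afc0002b1) (.leaf 0x0)))) (.node (.node (.node (.leaf 0xc91000003) (.leaf 0x43bc0042ed)) (.node (.leaf 0x2aa4001f7b) (.leaf 0x6a79000001))) (.node (.node (.leaf 0x1c91000003) (.leaf 0x5bf1000003)) (.node (.leaf 0x3319002562) (.leaf 0x0)))))) (.node (.node (.node (.node (.node (.leaf 0x291000003) (.leaf 0x2300428b)) (.node (.leaf 0x21c8000001) (.leaf 0x60a3000001)))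 (.node (.node (.leaf 0x1291000003) (.leaf 0x429c005291)) (.node (.leaf 0x2a0d001f7b) (.leaf 0x0)))) (.node (.node (.node (.leaf 0x2000a91) (.leaf 0x22004a91)) (.node (.leaf 0x1f71002a91) (.leaf 0xf65000003))) (.node (.node (.leaf 0x2001a91) (.leaf 0x5a91000002)) (.node (.leaf 0x2b0d00249c) (.leaf 0x0))))) (.node (.node (.node (.node (.leaf 0x2000691) (.leaf 0x4691004349)) (.node (.leaf 0x200258d) (.leaf 0x644f000001))) (.node (.node (.leaf 0x1001691) (.leaf 0x56910043d9)) (.node (.leaf 0x24b10034df) (.leaf 0x0)))) (.node (.node (.node (.leaf 0xae4000001) (.leaf 0x4c72004386)) (.node (.leaf 0x1f71002e91) (.leaf 0x6d11000001))) (.node (.node (.leaf 0x1001e91) (.leaf 0x2005d76)) (.node (.leaf 0x2e210020e4) (.leaf 0x0))))))) (.node (.node (.node (.node (.node (.node (.leaf 0x191000003) (.leaf 0x38e4002614)) (.node (.leaf 0x1002101) (.leaf 0x5fd5000001))) (.node (.node (.leaf 0x1191000001) (.leaf 0x42c0005191)) (.node (.leaf 0x1fbf003191) (.leaf 0x0))))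 (.node (.node (.node (.leaf 0x991000001) (.leaf 0x4397004991)) (.node (.leaf 0x2002959) (.leaf 0x6731000003))) (.node (.node (.leaf 0x1001991) (.leaf 0x599100428f)) (.node (.leaf 0x22c9002fb1) (.leaf 0x0))))) (.node (.node (.node (.node (.leaf 0x2000591) (.leaf 0x459100438a)) (.node (.leaf 0x2002477) (.leaf 0x636f000001))) (.node (.node (.leaf 0x1591000003) (.leaf 0x55910043a8)) (.node (.leaf 0x26d9003591) (.leaf 0x0)))) (.node (.node (.node (.leaf 0xd91000003) (.leaf 0x4d9100439e)) (.node (.leaf 0x2d91001f72) (.leaf 0x6bb5000001))) (.node (.node (.leaf 0x2001d91) (.leaf 0x1996000003)) (.node (.leaf 0x322c0001fb) (.leaf 0x0)))))) (.node (.node (.node (.node (.node (.leaf 0x3000391) (.leaf 0x436600432e)) (.node (.leaf 0x20022ad) (.leaf 0x6187000001))) (.node (.node (.leaf 0x1391000001) (.leaf 0x439d005391)) (.node (.leaf 0x207f003391) (.leaf 0x0)))) (.node (.node (.node (.leaf 0x3000b91) (.leaf 0x4b910042cd)) (.node (.leaf 0x1f7b002b75) (.leaf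 0x6953000001))) (.node (.node (.leaf 0x1001b91) (.leaf 0x1eef000003)) (.node (.leaf 0x393e002320) (.leaf 0x0))))) (.node (.node (.node (.node (.leaf 0x1000791) (.leaf 0x428d004791)) (.node (.leaf 0x20026c9) (.leaf 0x2006540))) (.node (.node (.leaf 0x1001791) (.leaf 0x42b1005791)) (.node (.leaf 0x2ddf000054) (.leaf 0x0)))) (.node (.node (.node (.leaf 0xf91000003) (.leaf 0x4460004373)) (.node (.leaf 0x1f71002f91) (.leaf 0x6e79000003))) (.node (.node (.leaf 0x1001cd7) (.leaf 0x5e44000003)) (.node (.leaf 0x3aff00217e) (.leaf 0x0)))))))))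

/-- part -/
def slpT_101 : Tr Nat := (.node (.node (.node (.node (.node (.node (.node (.node (.leaf 0x1000051) (.leaf 0x360c00266c)) (.node (.leaf 0x2000059) (.leaf 0x1f9000003))) (.node (.node (.leaf 0x1001051) (.leaf 0x42af004747)) (.node (.leaf 0x3051001f72) (.leaf 0x6f93000001)))) (.node (.node (.node (.leaf 0x2000851) (.leaf 0x48510042f9)) (.node (.leaf 0x200279f) (.leaf 0x20065ec))) (.node (.node (.leaf 0x1001851) (.leaf 0x58510043e3)) (.node (.leaf 0x1f7b002cbc) (.leaf 0x0))))) (.node (.node (.node (.node (.leaf 0x1000451) (.leaf 0x428e004451)) (.node (.leaf 0x2002351) (.leaf 0x1995000001))) (.node (.node (.leaf 0x1451000003) (.leaf 0x442a004790)) (.node (.leaf 0x3451000fd6) (.leaf 0x0)))) (.node (.node (.node (.leaf 0xc51000001) (.leaf 0x460e0042e7)) (.node (.leaf 0x2c51001f7b) (.leaf 0x6a23000003))) (.node (.node (.leaf 0xfca001c51) (.leaf 0x5bc7000003)) (.node (.leaf 0x2c6300249a) (.leaf 0x0)))))) (.node (.node (.node (.node (.node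 (.leaf 0x251000001) (.leaf 0x34ea00019b)) (.node (.leaf 0x2002181) (.leaf 0x6075000001))) (.node (.node (.leaf 0x1251000003) (.leaf 0x52510043fe)) (.node (.leaf 0x1f71002f8b) (.leaf 0x0)))) (.node (.node (.node (.leaf 0x2000a51) (.leaf 0x4407004a51)) (.node (.leaf 0x1f710029d2) (.leaf 0x67f6000003))) (.node (.node (.leaf 0x2001a51) (.leaf 0x5a510043a8)) (.node (.leaf 0x302600218a) (.leaf 0x0))))) (.node (.node (.node (.node (.leaf 0x10003d1) (.leaf 0x465100428c)) (.node (.leaf 0x1002547) (.leaf 0x6415000003))) (.node (.node (.leaf 0x1651000001) (.leaf 0x44280043c2)) (.node (.leaf 0x4d002c2c) (.leaf 0x0)))) (.node (.node (.node (.leaf 0xe51000003) (.leaf 0x441800442f)) (.node (.leaf 0x24f1002e51) (.leaf 0x6cb9000001))) (.node (.node (.leaf 0x1e51000001) (.leaf 0x5d41000003)) (.node (.leaf 0x3461002448) (.leaf 0x0))))))) (.node (.node (.node (.node (.node (.node (.leaf 0x151000001) (.leaf 0x2eac0023b2)) (.node (.leaf 0x20020d9) (.leaf 0x5f9d000003)))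 (.node (.node (.leaf 0x1151000001) (.leaf 0x42ec005151)) (.node (.leaf 0x254b0030e1) (.leaf 0x0)))) (.node (.node (.node (.leaf 0x1000951) (.leaf 0x42fa004951)) (.node (.leaf 0x10028f9) (.leaf 0x66f1000003))) (.node (.node (.leaf 0x1001951) (.leaf 0x59510043d9)) (.node (.leaf 0x1f7b002ac1) (.leaf 0x0))))) (.node (.node (.node (.node (.leaf 0x2000551) (.leaf 0x4352004551)) (.node (.leaf 0x2002433) (.leaf 0x6335000003))) (.node (.node (.leaf 0x1551000003) (.leaf 0x42e8005551)) (.node (.leaf 0x299f003551) (.leaf 0x0)))) (.node (.node (.node (.leaf 0xd51000001) (.leaf 0x43b70043c9)) (.node (.leaf 0x18b0029f5) (.leaf 0x6b57000003))) (.node (.node (.leaf 0x3ad000001) (.leaf 0x5c91000001)) (.node (.leaf 0x316c0024e2) (.leaf 0x0)))))) (.node (.node (.node (.node (.node (.leaf 0x1000351) (.leaf 0x42ed004325)) (.node (.leaf 0x2002278) (.leaf 0x614b000003))) (.node (.node (.leaf 0x1351000003) (.leaf 0x4436005351)) (.node (.leaf 0x237d003351) (.leaf 0x0))))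 (.node (.node (.node (.leaf 0x1000b51) (.leaf 0x4b5100440a)) (.node (.leaf 0x1f71002b41) (.leaf 0x6907000003))) (.node (.node (.leaf 0x2001b51) (.leaf 0x2000a0a)) (.node (.leaf 0x360c00099e) (.leaf 0x0))))) (.node (.node (.node (.node (.leaf 0x2000751) (.leaf 0x4751004437)) (.node (.leaf 0x2670000003) (.leaf 0x64f9000003))) (.node (.node (.leaf 0x1001751) (.leaf 0x442a0045e5)) (.node (.leaf 0x306d001f46) (.leaf 0x0)))) (.node (.node (.node (.leaf 0xf51000003) (.leaf 0x43a9004f51)) (.node (.leaf 0x1f71002e5f) (.leaf 0x6e27000003))) (.node (.node (.leaf 0x1f51000003) (.leaf 0x5e11000003)) (.node (.leaf 0x2e6a000fd9) (.leaf 0x0)))))))) (.node (.node (.node (.node (.node (.node (.node (.leaf 0x10000d1) (.leaf 0x30d4000187)) (.node (.leaf 0x2000509) (.leaf 0x5f3f000001))) (.node (.node (.leaf 0x10010d1) (.leaf 0x42e60050d1)) (.node (.leaf 0x1f710030d1) (.leaf 0x704b000003)))) (.node (.node (.node (.leaf 0x10008d1) (.leaf 0x43020048d1)) (.node (.leaf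 0x1002831) (.leaf 0x100666e))) (.node (.node (.leaf 0x10018d1) (.leaf 0x437200453d)) (.node (.leaf 0x1f7b003462) (.leaf 0x0))))) (.node (.node (.node (.node (.leaf 0x20004d1) (.leaf 0x44d1000003)) (.node (.leaf 0x20023bf) (.leaf 0x62bb000001))) (.node (.node (.leaf 0x14d1000002) (.leaf 0x44010054d1)) (.node (.leaf 0x1f710034d1) (.leaf 0x0)))) (.node (.node (.node (.leaf 0xcd1000001) (.leaf 0x4cd1004402)) (.node (.leaf 0x2a15002972) (.leaf 0x6ab9000001))) (.node (.node (.leaf 0x1cd1000001) (.leaf 0x5c2b000001)) (.node (.leaf 0x2c6900244c) (.leaf 0x0)))))) (.node (.node (.node (.node (.node (.leaf 0x2d1000001) (.leaf 0x3e0042ad)) (.node (.leaf 0x10021fd) (.leaf 0x60db000001))) (.node (.node (.leaf 0x12d1000002) (.leaf 0x52d10042f1)) (.node (.leaf 0x30a70027fe) (.leaf 0x0)))) (.node (.node (.node (.leaf 0x3000ad1) (.leaf 0x71004ad1)) (.node (.leaf 0x1f7b002ad1) (.leaf 0x6882000001))) (.node (.node (.leaf 0x1001ad1) (.leaf 0x2001fbc)) (.node (.leaf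 0x32a5001f72) (.leaf 0x0))))) (.node (.node (.node (.node (.leaf 0x20006d1) (.leaf 0x46d10042f1)) (.node (.leaf 0x10025d3) (.leaf 0x6481000003))) (.node (.node (.leaf 0x20016d1) (.leaf 0x56d1000004)) (.node (.leaf 0x5e70029f0) (.leaf 0x0)))) (.node (.node (.node (.leaf 0xed1000002) (.leaf 0x438500437e)) (.node (.leaf 0x2ed10028e2) (.leaf 0x6d79000003))) (.node (.node (.leaf 0x1001ed1) (.leaf 0x1005db0)) (.node (.leaf 0x37000025e4) (.leaf 0x0))))))) (.node (.node (.node (.node (.node (.node (.leaf 0x20001d1) (.leaf 0x2b940019d9)) (.node (.leaf 0x20020ac) (.leaf 0x6007000001))) (.node (.node (.leaf 0x6bc000003) (.leaf 0x51d10043a8)) (.node (.leaf 0x1f7b00307a) (.leaf 0x0)))) (.node (.node (.node (.leaf 0x9d1000001) (.leaf 0x436d004386)) (.node (.leaf 0x1f710029d1) (.leaf 0x6777000001))) (.node (.node (.leaf 0x20019d1) (.leaf 0x59d100439a)) (.node (.leaf 0x2861003147) (.leaf 0x0))))) (.node (.node (.node (.node (.leaf 0x10005d1) (.leaf 0x43ee0043c9))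 (.node (.leaf 0x20024b9) (.leaf 0x63a3000003))) (.node (.node (.leaf 0x15d1000001) (.leaf 0x55d100003e)) (.node (.leaf 0x1f71003088) (.leaf 0x0)))) (.node (.node (.node (.leaf 0xdd1000003) (.leaf 0x4dd100428b)) (.node (.leaf 0x2dd1001f72) (.leaf 0x6c07000001))) (.node (.node (.leaf 0x1001dd1) (.leaf 0x5bfe000001)) (.node (.leaf 0x2b500021b9) (.leaf 0x0)))))) (.node (.node (.node (.node (.node (.leaf 0x10001ed) (.leaf 0x43860043b4)) (.node (.leaf 0x20001fc) (.leaf 0x61cb000003))) (.node (.node (.leaf 0x13d1000003) (.leaf 0x42b30053d1)) (.node (.leaf 0x3398001f72) (.leaf 0x0)))) (.node (.node (.node (.leaf 0xbd1000003) (.leaf 0x4366004422)) (.node (.leaf 0x2bd1001f72) (.leaf 0x6999000001))) (.node (.node (.leaf 0x3001bd1) (.leaf 0x5b79000001)) (.node (.leaf 0x37650027aa) (.leaf 0x0))))) (.node (.node (.node (.node (.leaf 0x10007d1) (.leaf 0x43c00043ef)) (.node (.leaf 0x200270b) (.leaf 0x1006574))) (.node (.node (.leaf 0x20017d1) (.leaf 0x710057d1))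 (.node (.leaf 0x2407002a1c) (.leaf 0x0)))) (.node (.node (.node (.leaf 0x1000fd1) (.leaf 0x4fd10042a5)) (.node (.leaf 0x1f71002fd1) (.leaf 0x6ee5000003))) (.node (.node (.leaf 0x20005eb) (.leaf 0x5e70000003)) (.node (.leaf 0x356400228d) (.leaf 0x0)))))))))

/-- part -/
def slpT_102 : Tr Nat := (.node (.node (.node (.node (.node (.node (.node (.node (.leaf 0x31000001) (.leaf 0x34e000266c)) (.node (.leaf 0x1000660) (.leaf 0x5e54000001))) (.node (.node (.leaf 0x2001031) (.leaf 0x503100428c)) (.node (.leaf 0x1f71003031) (.leaf 0x6f59000001)))) (.node (.node (.node (.leaf 0x1000831) (.leaf 0x48310043cf)) (.node (.leaf 0x2002778) (.leaf 0x65cf000003))) (.node (.node (.leaf 0x1001831) (.leaf 0x58310043ac)) (.node (.leaf 0x1f71002d73) (.leaf 0x0))))) (.node (.node (.node (.node (.leaf 0x2000431) (.leaf 0x428b00441b)) (.node (.leaf 0x2002339) (.leaf 0x6227000001))) (.node (.node (.leaf 0x1431000001) (.leaf 0x432e00492d)) (.node (.leaf 0x30a9002020) (.leaf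 0x0)))) (.node (.node (.node (.leaf 0x3a7000001) (.leaf 0x4c31000023)) (.node (.leaf 0x2c31001f72) (.leaf 0x6a07000003))) (.node (.node (.leaf 0x2001c31) (.leaf 0x5bb1000003)) (.node (.leaf 0x2efb0025a2) (.leaf 0x0)))))) (.node (.node (.node (.node (.node (.leaf 0x231000001) (.leaf 0x2a800021f3)) (.node (.leaf 0x2166000003) (.leaf 0x6059000001))) (.node (.node (.leaf 0x1231000001) (.leaf 0x4436005231)) (.node (.leaf 0x1f7b003231) (.leaf 0x0)))) (.node (.node (.node (.leaf 0x2000a31) (.leaf 0x42e4004a31)) (.node (.leaf 0x1f72001f72) (.leaf 0x67d8000001))) (.node (.node (.leaf 0x2001a31) (.leaf 0x5a310043e1)) (.node (.leaf 0x1d10038b3) (.leaf 0x0))))) (.node (.node (.node (.node (.leaf 0x2000631) (.leaf 0x439f004631)) (.node (.leaf 0x2002517) (.leaf 0x63f9000001))) (.node (.node (.leaf 0x1631000003) (.leaf 0x56310042ad)) (.node (.leaf 0x1f7100347c) (.leaf 0x0)))) (.node (.node (.node (.leaf 0xe31000002) (.leaf 0x4397004b2f)) (.node (.leaf 0x1f7b002e31)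 (.leaf 0x6c8f000003))) (.node (.node (.leaf 0x1e31000002) (.leaf 0x2001558)) (.node (.leaf 0x37d0002220) (.leaf 0x0))))))) (.node (.node (.node (.node (.node (.node (.leaf 0x2000131) (.leaf 0x2d33002648)) (.node (.leaf 0x20020bd) (.leaf 0x5f83000003))) (.node (.node (.leaf 0x1131000001) (.leaf 0x4401005131)) (.node (.leaf 0x3131001f7b) (.leaf 0x0)))) (.node (.node (.node (.leaf 0x2000931) (.leaf 0x493100443b)) (.node (.leaf 0x20028c5) (.leaf 0x66d3000001))) (.node (.node (.leaf 0x2001931) (.leaf 0x5931004388)) (.node (.leaf 0x1f7b002b47) (.leaf 0x0))))) (.node (.node (.node (.node (.leaf 0x1000531) (.leaf 0x4302004531)) (.node (.leaf 0x2002417) (.leaf 0x6319000003))) (.node (.node (.leaf 0x1531000001) (.leaf 0x3d005531)) (.node (.leaf 0x2200002fe3) (.leaf 0x0)))) (.node (.node (.node (.leaf 0xd31000c59) (.leaf 0x4d310042ff)) (.node (.leaf 0x2d31001f72) (.leaf 0x6b31000001))) (.node (.node (.leaf 0x1d31000001) (.leaf 0x5c79000003)) (.node (.leaf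 0x2c870020ae) (.leaf 0x0)))))) (.node (.node (.node (.node (.node (.leaf 0x1000332) (.leaf 0x432b004325)) (.node (.leaf 0x1002257) (.leaf 0x612f000001))) (.node (.node (.leaf 0x1331000003) (.leaf 0x4409005331)) (.node (.leaf 0x2a54001f72) (.leaf 0x0)))) (.node (.node (.node (.leaf 0x2000b31) (.leaf 0x4b310042b4)) (.node (.leaf 0x2b31001f72) (.leaf 0x68dd000001))) (.node (.node (.leaf 0x1001b31) (.leaf 0x5b06000003)) (.node (.leaf 0x2cb900097e) (.leaf 0x0))))) (.node (.node (.node (.node (.leaf 0x2000731) (.leaf 0x449a0043f8)) (.node (.leaf 0x100264b) (.leaf 0x64df000003))) (.node (.node (.leaf 0x1001731) (.leaf 0x428c005731)) (.node (.leaf 0x2db900213a) (.leaf 0x0)))) (.node (.node (.node (.leaf 0xf31000001) (.leaf 0x4401004f31)) (.node (.leaf 0x2a21001f7b) (.leaf 0x6e07000001))) (.node (.node (.leaf 0x2001f31) (.leaf 0x5dfb000001)) (.node (.leaf 0x2fc60027e2) (.leaf 0x0)))))))) (.node (.node (.node (.node (.node (.node (.node (.leaf 0x10000b2)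 (.leaf 0x302400257c)) (.node (.leaf 0x2002049) (.leaf 0x5f25000003))) (.node (.node (.leaf 0x10010b1) (.leaf 0x43020050b1)) (.node (.leaf 0x30b1001f72) (.leaf 0x7017000003)))) (.node (.node (.node (.leaf 0x10008b1) (.leaf 0x442c0048b1)) (.node (.leaf 0x2002809) (.leaf 0x100664c))) (.node (.node (.leaf 0x20018b1) (.leaf 0x58b100429d)) (.node (.leaf 0x1f7b002be8) (.leaf 0x0))))) (.node (.node (.node (.node (.leaf 0x20004b1) (.leaf 0x44b1004400)) (.node (.leaf 0x200239b) (.leaf 0x62a3000001))) (.node (.node (.leaf 0x14b1000001) (.leaf 0x20054b1)) (.node (.leaf 0x34b1001f72) (.leaf 0x0)))) (.node (.node (.node (.leaf 0xcb1000003) (.leaf 0x4cb100429b)) (.node (.leaf 0x2c4d001f72) (.leaf 0x6a99000003))) (.node (.node (.leaf 0x1cb1000003) (.leaf 0x20eb000003)) (.node (.leaf 0x33c400244c) (.leaf 0x0)))))) (.node (.node (.node (.node (.node (.leaf 0x2b1000001) (.leaf 0x428a0042af)) (.node (.leaf 0x10021e1) (.leaf 0x60c1000001))) (.node (.node (.leaf 0x12b1000003)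 (.leaf 0x10052b1)) (.node (.leaf 0x2e70001f72) (.leaf 0x0)))) (.node (.node (.node (.leaf 0x2000ab1) (.leaf 0x43d2004ab1)) (.node (.leaf 0x1f71002a87) (.leaf 0x685a000003))) (.node (.node (.leaf 0x1001ab1) (.leaf 0x2279000003)) (.node (.leaf 0x2c2900249c) (.leaf 0x0))))) (.node (.node (.node (.node (.leaf 0x20006b1) (.leaf 0x46b100440a)) (.node (.leaf 0x20025af) (.leaf 0x6469000003))) (.node (.node (.leaf 0x10016b1) (.leaf 0x56b10042ef)) (.node (.leaf 0x24b1002a91) (.leaf 0x0)))) (.node (.node (.node (.leaf 0xeb1000003) (.leaf 0x43f100436b)) (.node (.leaf 0x1f7b002ba8) (.leaf 0x6d39000001))) (.node (.node (.leaf 0x2001eb1) (.leaf 0x2005d8e)) (.node (.leaf 0x2f0b00227d) (.leaf 0x0))))))) (.node (.node (.node (.node (.node (.node (.leaf 0x1b1000001) (.leaf 0x30f7002506)) (.node (.leaf 0x2002094) (.leaf 0x5fef000001))) (.node (.node (.leaf 0x11b1000001) (.leaf 0x4717004384)) (.node (.leaf 0x265d0031b1) (.leaf 0x0)))) (.node (.node (.node (.leaf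 0x9b1000003) (.leaf 0x429c0049b1)) (.node (.leaf 0x1f710029b1) (.leaf 0x6759000001))) (.node (.node (.leaf 0x20019b1) (.leaf 0x59b1000001)) (.node (.leaf 0x2627002a35) (.leaf 0x0))))) (.node (.node (.node (.node (.leaf 0x10005b1) (.leaf 0x45b10042b0)) (.node (.leaf 0x200249b) (.leaf 0x6389000001))) (.node (.node (.leaf 0x15b1000003) (.leaf 0x55b1004359)) (.node (.leaf 0x1f71003458) (.leaf 0x0)))) (.node (.node (.node (.leaf 0xdb1000001) (.leaf 0x4db1000001)) (.node (.leaf 0x2db1001f7b) (.leaf 0x6bd5000003))) (.node (.node (.leaf 0x1c001db1) (.leaf 0x5ccf000003)) (.node (.leaf 0x3634000fd3) (.leaf 0x0)))))) (.node (.node (.node (.node (.node (.leaf 0x10003b1) (.leaf 0x43710043b1)) (.node (.leaf 0x10022cb) (.leaf 0x61a5000001))) (.node (.node (.leaf 0x13b1000003) (.leaf 0x53b100428c)) (.node (.leaf 0x221d002bce) (.leaf 0x0)))) (.node (.node (.node (.leaf 0x1000bb1) (.leaf 0x46d70043d3)) (.node (.leaf 0x29fb001f72) (.leaf 0x6979000001))) (.node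 (.node (.leaf 0x1001bb1) (.leaf 0x5b5a000001)) (.node (.leaf 0x35080022e4) (.leaf 0x0))))) (.node (.node (.node (.node (.leaf 0x10007b1) (.leaf 0x43a70047b1)) (.node (.leaf 0x20026e9) (.leaf 0x2006556))) (.node (.node (.leaf 0x10017b1) (.leaf 0x428d0057b1)) (.node (.leaf 0x2ba0002408) (.leaf 0x0)))) (.node (.node (.node (.leaf 0xfb1000001) (.leaf 0x4fb10043e3)) (.node (.leaf 0x1f71002fb1) (.leaf 0x6eb5000001))) (.node (.node (.leaf 0x20001cf) (.leaf 0x5e5d000001)) (.node (.leaf 0x3896002154) (.leaf 0x0)))))))))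

/-- part -/
def slpT_103 : Tr Nat := (.node (.node (.node (.node (.node (.node (.node (.node (.leaf 0x1000071) (.leaf 0x373b00266c)) (.node (.leaf 0x2002019) (.leaf 0x5ee9000003))) (.node (.node (.leaf 0x2001071) (.leaf 0x4348005071)) (.node (.leaf 0x3071001f72) (.leaf 0x5044000003)))) (.node (.node (.node (.leaf 0x1000871) (.leaf 0x4436004871)) (.node (.leaf 0x20027bf) (.leaf 0x20047e6))) (.node (.node (.leaf 0x1001871) (.leaf 0x58710043db)) (.node (.leaf 0x252b002dd8) (.leaf 0x0))))) (.node (.node (.node (.node (.leaf 0x2000471) (.leaf 0x432600441d)) (.node (.leaf 0x2002363) (.leaf 0x626d000001))) (.node (.node (.leaf 0x1471000001) (.leaf 0x42ae00449b)) (.node (.leaf 0x2a27000fd6) (.leaf 0x0)))) (.node (.node (.node (.leaf 0xc71000003) (.leaf 0x4387004c71)) (.node (.leaf 0x2bef001f72) (.leaf 0x6a45000003))) (.node (.node (.leaf 0x1c71000001) (.leaf 0x5bdb000001)) (.node (.leaf 0x31a00022fc) (.leaf 0x0)))))) (.node (.node (.node (.node (.node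 (.leaf 0x271000001) (.leaf 0x2db1002345)) (.node (.leaf 0x21a2000003) (.leaf 0x6087000003))) (.node (.node (.leaf 0x1271000002) (.leaf 0x5271004313)) (.node (.leaf 0x1f7b0029dd) (.leaf 0x0)))) (.node (.node (.node (.leaf 0x2000a71) (.leaf 0x4436004a71)) (.node (.leaf 0x1f71002a71) (.leaf 0x681b000001))) (.node (.node (.leaf 0x65001a71) (.leaf 0x5a7100429b)) (.node (.leaf 0x39f2001f72) (.leaf 0x0))))) (.node (.node (.node (.node (.leaf 0x2000671) (.leaf 0x44400043d3)) (.node (.leaf 0x2000227) (.leaf 0x6431000001))) (.node (.node (.leaf 0x1671000003) (.leaf 0x43c00043f2)) (.node (.leaf 0x1f71002f83) (.leaf 0x0)))) (.node (.node (.node (.leaf 0xe71000001) (.leaf 0x4e71004406)) (.node (.leaf 0x1f71002e71) (.leaf 0x6ce9000003))) (.node (.node (.leaf 0x2001e71) (.leaf 0x1005d5a)) (.node (.leaf 0x2f0d0027ba) (.leaf 0x0))))))) (.node (.node (.node (.node (.node (.node (.leaf 0x171000003) (.leaf 0x3b5500285c)) (.node (.leaf 0x10020ed) (.leaf 0x5fb9000003)))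 (.node (.node (.leaf 0x1171000003) (.leaf 0x42ec005171)) (.node (.leaf 0x1fbf003092) (.leaf 0x0)))) (.node (.node (.node (.leaf 0x1000971) (.leaf 0x4436004971)) (.node (.leaf 0x100292f) (.leaf 0x6711000001))) (.node (.node (.leaf 0x2001971) (.leaf 0x5971004359)) (.node (.leaf 0x22c9002c8a) (.leaf 0x0))))) (.node (.node (.node (.node (.leaf 0x2000571) (.leaf 0x4571000021)) (.node (.leaf 0x2002455) (.leaf 0x6355000003))) (.node (.node (.leaf 0x1571000003) (.leaf 0x462c004420)) (.node (.leaf 0x299f003571) (.leaf 0x0)))) (.node (.node (.node (.leaf 0xc31000001) (.leaf 0x4d710042e9)) (.node (.leaf 0x1f71002d71) (.leaf 0x6b87000003))) (.node (.node (.leaf 0x1001d71) (.leaf 0x5cab000003)) (.node (.leaf 0x2c7b00216e) (.leaf 0x0)))))) (.node (.node (.node (.node (.node (.leaf 0x1000371) (.leaf 0x436b004325)) (.node (.leaf 0x2002290) (.leaf 0x6169000001))) (.node (.node (.leaf 0x2f1000003) (.leaf 0x4407005371)) (.node (.leaf 0x1f7b003371) (.leaf 0x0))))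 (.node (.node (.node (.leaf 0x1000b71) (.leaf 0x4b71000004)) (.node (.leaf 0x1f71002b71) (.leaf 0x692b000003))) (.node (.node (.leaf 0x67001b71) (.leaf 0x1659000001)) (.node (.leaf 0x2ffc0020b6) (.leaf 0x0))))) (.node (.node (.node (.node (.leaf 0x2000771) (.leaf 0x42a4004771)) (.node (.leaf 0x269a000003) (.leaf 0x6517000001))) (.node (.node (.leaf 0x2000795) (.leaf 0x5005771)) (.node (.leaf 0x2e1b001f7b) (.leaf 0x0)))) (.node (.node (.node (.leaf 0xf71000003) (.leaf 0x4f710042b2)) (.node (.leaf 0x1f71002f71) (.leaf 0x6e49000003))) (.node (.node (.leaf 0x1001eed) (.leaf 0x5e26000001)) (.node (.leaf 0x2bc5000fd9) (.leaf 0x0)))))))) (.node (.node (.node (.node (.node (.node (.node (.leaf 0x10000f1) (.leaf 0x34a7000187)) (.node (.leaf 0x2001e18) (.leaf 0x5f57000001))) (.node (.node (.leaf 0x2000aad) (.leaf 0x50f100442b)) (.node (.leaf 0x1f710030f1) (.leaf 0x70a1000001)))) (.node (.node (.node (.leaf 0x20008f1) (.leaf 0x442e0048f1)) (.node (.leaf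 0x2002855) (.leaf 0x6074000001))) (.node (.node (.leaf 0x30018f1) (.leaf 0x42e80058f1)) (.node (.leaf 0x21c7002a47) (.leaf 0x0))))) (.node (.node (.node (.node (.leaf 0x20004f1) (.leaf 0x43c2004499)) (.node (.leaf 0x20023db) (.leaf 0x62dd000001))) (.node (.node (.leaf 0x14f1000001) (.leaf 0x54f100438a)) (.node (.leaf 0x1f710034d5) (.leaf 0x0)))) (.node (.node (.node (.leaf 0xcf1000001) (.leaf 0x4cf1004301)) (.node (.leaf 0x2b2700018a) (.leaf 0x6ae7000003))) (.node (.node (.leaf 0x1cf1000003) (.leaf 0x5c41000001)) (.node (.leaf 0x381c00233c) (.leaf 0x0)))))) (.node (.node (.node (.node (.node (.leaf 0x2f1000002) (.leaf 0x42e90042ad)) (.node (.leaf 0x200221c) (.leaf 0x60f3000003))) (.node (.node (.leaf 0x12f1000001) (.leaf 0x453d004373)) (.node (.leaf 0x32f1001f7b) (.leaf 0x0)))) (.node (.node (.node (.leaf 0x1000af1) (.leaf 0x4428004717)) (.node (.leaf 0x29e2001f7b) (.leaf 0x689e000003))) (.node (.node (.leaf 0x3001af1) (.leaf 0x1005ad7)) (.node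 (.leaf 0x2cbf001f72) (.leaf 0x0))))) (.node (.node (.node (.node (.leaf 0x20006f1) (.leaf 0x46f10043e3)) (.node (.leaf 0x20025f7) (.leaf 0x649d000003))) (.node (.node (.leaf 0x20016f1) (.leaf 0x56f10043aa)) (.node (.leaf 0x258b0033c7) (.leaf 0x0)))) (.node (.node (.node (.leaf 0xef1000002) (.leaf 0x443a004ef1)) (.node (.leaf 0x2e5a001f7b) (.leaf 0x6db5000001))) (.node (.node (.leaf 0x2001ef1) (.leaf 0x5dc3000003)) (.node (.leaf 0x2a640027e2) (.leaf 0x0))))))) (.node (.node (.node (.node (.node (.node (.leaf 0x20001f1) (.leaf 0x2b21002156)) (.node (.leaf 0x1000bc6) (.leaf 0x601f000003))) (.node (.node (.leaf 0x11f1000003) (.leaf 0x51f1004275)) (.node (.leaf 0x1f710031f1) (.leaf 0x0)))) (.node (.node (.node (.leaf 0x9f1000003) (.leaf 0x43580049f1)) (.node (.leaf 0x29cc001f7b) (.leaf 0x6798000003))) (.node (.node (.leaf 0x10019f1) (.leaf 0x59f100003c)) (.node (.leaf 0x1f7b002a30) (.leaf 0x0))))) (.node (.node (.node (.node (.leaf 0x10005f1) (.leaf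 0x44340045f1)) (.node (.leaf 0x10024d7) (.leaf 0x63bf000003))) (.node (.node (.leaf 0x15f1000001) (.leaf 0x55f10042ef)) (.node (.leaf 0x2967002fa7) (.leaf 0x0)))) (.node (.node (.node (.leaf 0xdf1000001) (.leaf 0x4df10042a5)) (.node (.leaf 0x2c030022f8) (.leaf 0x6c33000001))) (.node (.node (.leaf 0x1000674) (.leaf 0x5cff000001)) (.node (.leaf 0x30b90021b9) (.leaf 0x0)))))) (.node (.node (.node (.node (.node (.leaf 0x3f1000003) (.leaf 0x43ee0043b7)) (.node (.leaf 0x10022fd) (.leaf 0x61e7000003))) (.node (.node (.leaf 0x13f1000003) (.leaf 0x730053f1)) (.node (.leaf 0x2ee9002636) (.leaf 0x0)))) (.node (.node (.node (.leaf 0xbf1000003) (.leaf 0x46220043d1)) (.node (.leaf 0x2bf1001f7b) (.leaf 0x69c1000003))) (.node (.node (.leaf 0x3001bf1) (.leaf 0x5b93000003)) (.node (.leaf 0x2b03002477) (.leaf 0x0))))) (.node (.node (.node (.node (.leaf 0x30007f1) (.leaf 0x43850047f1)) (.node (.leaf 0x1002739) (.leaf 0x200658c))) (.node (.node (.leaf 0x10017f1)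 (.leaf 0x43ab0057f1)) (.node (.leaf 0x1f710035dd) (.leaf 0x0)))) (.node (.node (.node (.leaf 0x1000ff1) (.leaf 0x43e0004ff1)) (.node (.leaf 0x1f7b002ff1) (.leaf 0x6f09000003))) (.node (.node (.leaf 0x10005b0) (.leaf 0x5e85000003)) (.node (.leaf 0x2ba30023e8) (.leaf 0x0)))))))))

/-- part -/
def slpT_104 : Tr Nat := (.node (.node (.node (.node (.node (.node (.node (.node (.leaf 0x1000009) (.leaf 0x316a00205a)) (.node (.leaf 0x2001fdb) (.leaf 0x5e9a000003))) (.node (.node (.leaf 0x2001009) (.leaf 0x5009004303)) (.node (.leaf 0x244f002ec9) (.leaf 0x6f29000001)))) (.node (.node (.node (.leaf 0x1000809) (.leaf 0x73004809)) (.node (.leaf 0x1002752) (.leaf 0x20065a8))) (.node (.node (.leaf 0x2001809) (.leaf 0x58090042ff)) (.node (.leaf 0x1f71003809) (.leaf 0x0))))) (.node (.node (.node (.node (.leaf 0x1000409) (.leaf 0x160043e4)) (.node (.leaf 0x1002311) (.leaf 0x61fd000001))) (.node (.node (.leaf 0x1409000001) (.leaf 0x43e2005409)) (.node (.leaf 0x2b1f002636)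 (.leaf 0x0)))) (.node (.node (.node (.leaf 0xc09000002) (.leaf 0x43c400442d)) (.node (.leaf 0x2c09001f7b) (.leaf 0x69db000001))) (.node (.node (.leaf 0x3001c09) (.leaf 0x21cd000003)) (.node (.leaf 0x33df0021d8) (.leaf 0x0)))))) (.node (.node (.node (.node (.node (.leaf 0x1000209) (.leaf 0x2b7c00295e)) (.node (.leaf 0x214a000003) (.leaf 0x6035000003))) (.node (.node (.leaf 0x1209000003) (.leaf 0x428c005209)) (.node (.leaf 0x1f71002b57) (.leaf 0x0)))) (.node (.node (.node (.leaf 0x1000a09) (.leaf 0x4387004491)) (.node (.leaf 0x2a09001f72) (.leaf 0x67b4000003))) (.node (.node (.leaf 0x1001a09) (.leaf 0x5a090042fd)) (.node (.leaf 0x218b00316b) (.leaf 0x0))))) (.node (.node (.node (.node (.leaf 0x2000609) (.leaf 0x4312004609)) (.node (.leaf 0x10024f7) (.leaf 0x63d3000001))) (.node (.node (.leaf 0x1609000001) (.leaf 0x560900439e)) (.node (.leaf 0x1f71003609) (.leaf 0x0)))) (.node (.node (.node (.leaf 0xe09000001) (.leaf 0x4e0900443b)) (.node (.leaf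 0x2e09001f7b) (.leaf 0x6c57000003))) (.node (.node (.leaf 0x1001e09) (.leaf 0x5d0b000001)) (.node (.leaf 0x35dc0021b9) (.leaf 0x0))))))) (.node (.node (.node (.node (.node (.node (.leaf 0x1000109) (.leaf 0x339c00251c)) (.node (.leaf 0x2002093) (.leaf 0x5f6b000001))) (.node (.node (.leaf 0x1000334) (.leaf 0x510900430f)) (.node (.leaf 0x2c1d001f7b) (.leaf 0x70d9000001)))) (.node (.node (.node (.leaf 0x1000909) (.leaf 0x43a9004909)) (.node (.leaf 0x100287d) (.leaf 0x66ad000001))) (.node (.node (.leaf 0x1001909) (.leaf 0x59090042f1)) (.node (.leaf 0x21c7002f20) (.leaf 0x0))))) (.node (.node (.node (.node (.leaf 0x1000509) (.leaf 0x42f000450a)) (.node (.leaf 0x20023f1) (.leaf 0x62f3000003))) (.node (.node (.leaf 0x1509000002) (.leaf 0x4426005179)) (.node (.leaf 0x1f71003257) (.leaf 0x0)))) (.node (.node (.node (.leaf 0xd09000002) (.leaf 0x4d090042f1)) (.node (.leaf 0x2c7d0021ec) (.leaf 0x6b01000003))) (.node (.node (.leaf 0x1d09000003) (.leaf 0x5c55000003))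 (.node (.leaf 0x33b6002552) (.leaf 0x0)))))) (.node (.node (.node (.node (.node (.leaf 0x309000001) (.leaf 0x4303000021)) (.node (.leaf 0x2002232) (.leaf 0x6109000001))) (.node (.node (.leaf 0x1309000001) (.leaf 0x53090042ed)) (.node (.leaf 0x320e001f72) (.leaf 0x0)))) (.node (.node (.node (.leaf 0x1000b09) (.leaf 0x3d004b09)) (.node (.leaf 0x2b09001f72) (.leaf 0x68b2000003))) (.node (.node (.leaf 0x1001b09) (.leaf 0x2001707)) (.node (.leaf 0x2b94001f72) (.leaf 0x0))))) (.node (.node (.node (.node (.leaf 0x2000709) (.leaf 0x4709004433)) (.node (.leaf 0x1002627) (.leaf 0x64b5000001))) (.node (.node (.leaf 0x2001709) (.leaf 0x5709004301)) (.node (.leaf 0x258b00316b) (.leaf 0x0)))) (.node (.node (.node (.leaf 0xf09000001) (.leaf 0x439d004f09)) (.node (.leaf 0x2f09001f72) (.leaf 0x6ddb000001))) (.node (.node (.leaf 0x2001f09) (.leaf 0x5ddb000001)) (.node (.leaf 0x2bd30027e2) (.leaf 0x0)))))))) (.node (.node (.node (.node (.node (.node (.node (.leaf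 0x89000003) (.leaf 0x2f7800266c)) (.node (.leaf 0x1002031) (.leaf 0x278b000003))) (.node (.node (.leaf 0x1001089) (.leaf 0x4401005089)) (.node (.leaf 0x3089000a02) (.leaf 0x6fdb000001)))) (.node (.node (.node (.leaf 0x1000889) (.leaf 0x436a0045dc)) (.node (.leaf 0x10027db) (.leaf 0x1006628))) (.node (.node (.leaf 0x3001889) (.leaf 0x58890042e7)) (.node (.leaf 0x23c3002c24) (.leaf 0x0))))) (.node (.node (.node (.node (.leaf 0x2000489) (.leaf 0x448900442b)) (.node (.leaf 0x200214a) (.leaf 0x6283000003))) (.node (.node (.leaf 0x1489000001) (.leaf 0x43e2005489)) (.node (.leaf 0x2def0002b1) (.leaf 0x0)))) (.node (.node (.node (.leaf 0xc89000003) (.leaf 0x437b00432f)) (.node (.leaf 0x2c89001f72) (.leaf 0x6a6d000003))) (.node (.node (.leaf 0x1c89000002) (.leaf 0x1f4f000003)) (.node (.leaf 0x2bdd0022e2) (.leaf 0x0)))))) (.node (.node (.node (.node (.node (.leaf 0x289000003) (.leaf 0xb4004278)) (.node (.leaf 0x21b8000003) (.leaf 0x609b000001))) (.node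 (.node (.leaf 0x1289000003) (.leaf 0x43e2005289)) (.node (.leaf 0x322400287a) (.leaf 0x0)))) (.node (.node (.node (.leaf 0x2000a89) (.leaf 0x4300004a89)) (.node (.leaf 0x1f71002a5d) (.leaf 0x6833000003))) (.node (.node (.leaf 0x2001a89) (.leaf 0x5a890042f9)) (.node (.leaf 0x31fc001f72) (.leaf 0x0))))) (.node (.node (.node (.node (.leaf 0x1000689) (.leaf 0x46890010e7)) (.node (.leaf 0x1002583) (.leaf 0x6447000001))) (.node (.node (.leaf 0x1001689) (.leaf 0x56890042f9)) (.node (.leaf 0x24b1002fa1) (.leaf 0x0)))) (.node (.node (.node (.leaf 0xe89000003) (.leaf 0x449a0042ae)) (.node (.leaf 0x1f71002e89) (.leaf 0x6d05000003))) (.node (.node (.leaf 0x2001e89) (.leaf 0x2005d6e)) (.node (.leaf 0x33700020e4) (.leaf 0x0))))))) (.node (.node (.node (.node (.node (.node (.leaf 0x189000001) (.leaf 0x327800285c)) (.node (.leaf 0x20020fb) (.leaf 0x5fcb000003))) (.node (.node (.leaf 0x1189000001) (.leaf 0x42cc005189)) (.node (.leaf 0x1fbf002baa) (.leaf 0x0))))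 (.node (.node (.node (.leaf 0x989000001) (.leaf 0x42f8004989)) (.node (.leaf 0x2002953) (.leaf 0x672b000003))) (.node (.node (.leaf 0x1937001989) (.leaf 0x59890042ff)) (.node (.leaf 0x22c900344c) (.leaf 0x0))))) (.node (.node (.node (.node (.leaf 0x2000589) (.leaf 0x458900442b)) (.node (.leaf 0x200246d) (.leaf 0x6367000001))) (.node (.node (.leaf 0x1589000003) (.leaf 0x5589004313)) (.node (.leaf 0x26d9002e79) (.leaf 0x0)))) (.node (.node (.node (.leaf 0x2000d89) (.leaf 0x4d89004349)) (.node (.leaf 0x2d89001f7b) (.leaf 0x6bab000001))) (.node (.node (.leaf 0x3001d89) (.leaf 0x5cb7000003)) (.node (.leaf 0x31030001fb) (.leaf 0x0)))))) (.node (.node (.node (.node (.node (.leaf 0x2000389) (.leaf 0x4366004328)) (.node (.leaf 0x10022a9) (.leaf 0x6181000001))) (.node (.node (.leaf 0x1389000003) (.leaf 0x42fc005389)) (.node (.leaf 0x1f71003389) (.leaf 0x0)))) (.node (.node (.node (.leaf 0x2000b89) (.leaf 0x4b8900439a)) (.node (.leaf 0x1f71002b89) (.leaf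 0x694b000003))) (.node (.node (.leaf 0x1001b89) (.leaf 0x5b39000001)) (.node (.leaf 0x35d400018f) (.leaf 0x0))))) (.node (.node (.node (.node (.leaf 0x1000789) (.leaf 0x478900434d)) (.node (.leaf 0x20026bf) (.leaf 0x100653c))) (.node (.node (.leaf 0x2001789) (.leaf 0x10e8005789)) (.node (.leaf 0x2b7c000054) (.leaf 0x0)))) (.node (.node (.node (.leaf 0xf89000001) (.leaf 0x4f89004429)) (.node (.leaf 0x1f71002f06) (.leaf 0x6e6b000003))) (.node (.node (.leaf 0x1001f85) (.leaf 0x5e3a000003)) (.node (.leaf 0x34430021f6) (.leaf 0x0)))))))))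

/-- part -/
def slpT_105 : Tr Nat := (.node (.node (.node (.node (.node (.node (.node (.node (.leaf 0x1000049) (.leaf 0x2c9500266c)) (.node (.leaf 0x2001ffd) (.leaf 0x5ec8000003))) (.node (.node (.leaf 0x1001049) (.leaf 0x4f3a0042ad)) (.node (.leaf 0x1f71002a26) (.leaf 0x6f89000003)))) (.node (.node (.node (.leaf 0x2000849) (.leaf 0x4849004359)) (.node (.leaf 0x1002799) (.leaf 0x65e3000003))) (.node (.node (.leaf 0x1001849) (.leaf 0x58490043e1)) (.node (.leaf 0x3086001f72) (.leaf 0x0))))) (.node (.node (.node (.node (.leaf 0x1000449) (.leaf 0x44490043d7)) (.node (.leaf 0x1002349) (.leaf 0x6241000001))) (.node (.node (.leaf 0x1449000002) (.leaf 0x432e004cbe)) (.node (.leaf 0x32cd001f7b) (.leaf 0x0)))) (.node (.node (.node (.leaf 0xc49000001) (.leaf 0x4c4900442f)) (.node (.leaf 0x2c49001f72) (.leaf 0x6a1b000001))) (.node (.node (.leaf 0x1c49000003) (.leaf 0x5bc3000001)) (.node (.leaf 0x2cad000fda) (.leaf 0x0)))))) (.node (.node (.node (.node (.node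 (.leaf 0x249000001) (.leaf 0x338600019b)) (.node (.leaf 0x2000fd4) (.leaf 0x5dc2000003))) (.node (.node (.leaf 0x1249000001) (.leaf 0x434c005249)) (.node (.leaf 0x1f7b002f9b) (.leaf 0x0)))) (.node (.node (.node (.leaf 0x2000a49) (.leaf 0x4424004790)) (.node (.leaf 0x1f7b002a49) (.leaf 0x67f0000001))) (.node (.node (.leaf 0x3001a49) (.leaf 0x5a4900443b)) (.node (.leaf 0x2e4e00218a) (.leaf 0x0))))) (.node (.node (.node (.node (.leaf 0x1000649) (.leaf 0x46490042b0)) (.node (.leaf 0x200253f) (.leaf 0x6413000001))) (.node (.node (.leaf 0x4c8000003) (.leaf 0x43ff00564a)) (.node (.leaf 0x4d00346a) (.leaf 0x0)))) (.node (.node (.node (.leaf 0xe49000002) (.leaf 0x44990042ac)) (.node (.leaf 0x24f1002dc0) (.leaf 0x6cad000003))) (.node (.node (.leaf 0x1e49000001) (.leaf 0x1005d3a)) (.node (.leaf 0x2fb2000186) (.leaf 0x0))))))) (.node (.node (.node (.node (.node (.node (.leaf 0x149000003) (.leaf 0x2b560023b2)) (.node (.leaf 0x20020d1) (.leaf 0x5f95000003)))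 (.node (.node (.leaf 0x1149000001) (.leaf 0x42f0005149)) (.node (.leaf 0x1f71003141) (.leaf 0x0)))) (.node (.node (.node (.leaf 0x1000949) (.leaf 0x428d004949)) (.node (.leaf 0x10028ef) (.leaf 0x66e5000003))) (.node (.node (.leaf 0x1001949) (.leaf 0x59490042ed)) (.node (.leaf 0xf7a0035b7) (.leaf 0x0))))) (.node (.node (.node (.node (.leaf 0x3000549) (.leaf 0x42fa004549)) (.node (.leaf 0x100242d) (.leaf 0x632f000001))) (.node (.node (.leaf 0x1549000001) (.leaf 0x4434005549)) (.node (.leaf 0x299f0030a8) (.leaf 0x0)))) (.node (.node (.node (.leaf 0xd49000003) (.leaf 0x4d4900432f)) (.node (.leaf 0x2d49001f72) (.leaf 0x6b4d000003))) (.node (.node (.leaf 0x1d49000003) (.leaf 0x1c61000003)) (.node (.leaf 0x3a710024e2) (.leaf 0x0)))))) (.node (.node (.node (.node (.node (.leaf 0x1000349) (.leaf 0x42e5004325)) (.node (.leaf 0x100066a) (.leaf 0x6145000003))) (.node (.node (.leaf 0x1349000001) (.leaf 0x43ab005349)) (.node (.leaf 0x1f71003349) (.leaf 0x0))))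 (.node (.node (.node (.leaf 0x2000b49) (.leaf 0x4b49004408)) (.node (.leaf 0x1f71002b49) (.leaf 0x68f7000003))) (.node (.node (.leaf 0x3001b49) (.leaf 0x5b18000001)) (.node (.leaf 0x36180020cb) (.leaf 0x0))))) (.node (.node (.node (.node (.leaf 0x2000749) (.leaf 0x4749000001)) (.node (.leaf 0x2668000003) (.leaf 0x64f3000003))) (.node (.node (.leaf 0x1001749) (.leaf 0x442c005749)) (.node (.leaf 0x2ba9001f46) (.leaf 0x0)))) (.node (.node (.node (.leaf 0xf49000001) (.leaf 0x43270043ee)) (.node (.leaf 0x2ab20027da) (.leaf 0x6e21000003))) (.node (.node (.leaf 0x1f49000003) (.leaf 0x5e0d000001)) (.node (.leaf 0x2d74000fd9) (.leaf 0x0)))))))) (.node (.node (.node (.node (.node (.node (.node (.leaf 0x10000c9) (.leaf 0x362e000187)) (.node (.leaf 0x1002059) (.leaf 0x5f39000001))) (.node (.node (.leaf 0x20010c9) (.leaf 0x44010050c9)) (.node (.leaf 0x30c9001f7b) (.leaf 0x7041000003)))) (.node (.node (.node (.leaf 0x10008c9) (.leaf 0x429c0048c9)) (.node (.leaf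 0x1002825) (.leaf 0x2006664))) (.node (.node (.leaf 0x20018c9) (.leaf 0x50058c9)) (.node (.leaf 0x1f7b002fb1) (.leaf 0x0))))) (.node (.node (.node (.node (.leaf 0x20004c9) (.leaf 0x44c90043a0)) (.node (.leaf 0x20023b5) (.leaf 0x62b3000003))) (.node (.node (.leaf 0x14c9000003) (.leaf 0x42e80054c9)) (.node (.leaf 0x1f7b0031d7) (.leaf 0x0)))) (.node (.node (.node (.leaf 0xcc9000001) (.leaf 0x4cc9004433)) (.node (.leaf 0x2bfb0029ac) (.leaf 0x6ab3000001))) (.node (.node (.leaf 0x1cc9000001) (.leaf 0x25b9000003)) (.node (.leaf 0x308500244c) (.leaf 0x0)))))) (.node (.node (.node (.node (.node (.leaf 0x2c9000001) (.leaf 0x10042ad)) (.node (.leaf 0x20021f1) (.leaf 0x60d3000003))) (.node (.node (.leaf 0x6d8000003) (.leaf 0x52c90043d9)) (.node (.leaf 0x2d64000968) (.leaf 0x0)))) (.node (.node (.node (.leaf 0x2000ac9) (.leaf 0x4ac900440a)) (.node (.leaf 0x1f71002ac9) (.leaf 0x4727000001))) (.node (.node (.leaf 0x1001ac9) (.leaf 0x2005ac6)) (.node (.leaf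 0x30530023f0) (.leaf 0x0))))) (.node (.node (.node (.node (.leaf 0x30006c9) (.leaf 0x46c9000023)) (.node (.leaf 0x20025cb) (.leaf 0x647b000001))) (.node (.node (.leaf 0x2001604) (.leaf 0x56c9000023)) (.node (.leaf 0x5e7002e5d) (.leaf 0x0)))) (.node (.node (.node (.leaf 0xec9000003) (.leaf 0x4426004b7e)) (.node (.leaf 0x1f71002c3e) (.leaf 0x6d65000001))) (.node (.node (.leaf 0x1001ec9) (.leaf 0x1005dac)) (.node (.leaf 0x2a66002456) (.leaf 0x0))))))) (.node (.node (.node (.node (.node (.node (.leaf 0x20001ca) (.leaf 0x306f0019d9)) (.node (.leaf 0x100211d) (.leaf 0x6001000001))) (.node (.node (.leaf 0x11c9000003) (.leaf 0x51c90042a5)) (.node (.leaf 0x1f7b0031c9) (.leaf 0x0)))) (.node (.node (.node (.leaf 0x9c9000001) (.leaf 0x49c90042ad)) (.node (.leaf 0x1f71001f7b) (.leaf 0x676d000003))) (.node (.node (.leaf 0x20019c9) (.leaf 0x59c900443b)) (.node (.leaf 0x213b002b3a) (.leaf 0x0))))) (.node (.node (.node (.node (.leaf 0x1000471) (.leaf 0x44170042ad))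 (.node (.leaf 0x10024b3) (.leaf 0x639d000003))) (.node (.node (.leaf 0x15c9000001) (.leaf 0x55c900003c)) (.node (.leaf 0x1f7b003052) (.leaf 0x0)))) (.node (.node (.node (.leaf 0xdc9000003) (.leaf 0x4dc90043d9)) (.node (.leaf 0x2dc9001f72) (.leaf 0x6c01000001))) (.node (.node (.leaf 0x2001dc9) (.leaf 0x5ce3000003)) (.node (.leaf 0x2d450021b9) (.leaf 0x0)))))) (.node (.node (.node (.node (.node (.leaf 0x10003c9) (.leaf 0x43240043b4)) (.node (.leaf 0x10022dd) (.leaf 0x61c5000003))) (.node (.node (.leaf 0x13c9000003) (.leaf 0x200053c9)) (.node (.leaf 0x2fbe001f72) (.leaf 0x0)))) (.node (.node (.node (.leaf 0x200097b) (.leaf 0x43780043cf)) (.node (.leaf 0x2bc9001f72) (.leaf 0x698f000001))) (.node (.node (.leaf 0x20017a5) (.leaf 0x5b71000001)) (.node (.leaf 0x2ba70027aa) (.leaf 0x0))))) (.node (.node (.node (.node (.leaf 0x10007c9) (.leaf 0x42ad0047c9)) (.node (.leaf 0x1002705) (.leaf 0x200656e))) (.node (.node (.leaf 0x30017c9) (.leaf 0x4370004419))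 (.node (.leaf 0x29ed002408) (.leaf 0x0)))) (.node (.node (.node (.leaf 0xf68000fca) (.leaf 0x4fc90043db)) (.node (.leaf 0x1f71002fc9) (.leaf 0x6ed9000003))) (.node (.node (.leaf 0x2001f9a) (.leaf 0x5e6c000001)) (.node (.leaf 0x2b580020f8) (.leaf 0x0)))))))))

/-- part -/
def slpT_106 : Tr Nat := (.node (.node (.node (.node (.node (.node (.node (.node (.leaf 0x29000003) (.leaf 0x32a100266c)) (.node (.leaf 0x2001fdd) (.leaf 0x5eb4000001))) (.node (.node (.leaf 0x1001029) (.leaf 0x5029004386)) (.node (.leaf 0x244f002a34) (.leaf 0x6f4d000003)))) (.node (.node (.node (.leaf 0x1000829) (.leaf 0x4432004829)) (.node (.leaf 0x20021f8) (.leaf 0x65c7000003))) (.node (.node (.leaf 0x2001829) (.leaf 0x58290042fd)) (.node (.leaf 0x269b0030f1) (.leaf 0x0))))) (.node (.node (.node (.node (.leaf 0x3000429) (.leaf 0x43cf00441b)) (.node (.leaf 0x1002331) (.leaf 0x621b000003))) (.node (.node (.leaf 0x1429000001) (.leaf 0x438300451b)) (.node (.leaf 0x2c25002020)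 (.leaf 0x0)))) (.node (.node (.node (.leaf 0xc29000001) (.leaf 0x4c290043e1)) (.node (.leaf 0x2c29001f72) (.leaf 0x6642000001))) (.node (.node (.leaf 0x2001c29) (.leaf 0x21c1000003)) (.node (.leaf 0x2ca50020aa) (.leaf 0x0)))))) (.node (.node (.node (.node (.node (.leaf 0x229000001) (.leaf 0x2aff0022e0)) (.node (.leaf 0x215e000001) (.leaf 0x604f000003))) (.node (.node (.leaf 0x1229000001) (.leaf 0x42fc005229)) (.node (.leaf 0x1f71002be4) (.leaf 0x0)))) (.node (.node (.node (.leaf 0x2000a29) (.leaf 0x42c0004a29)) (.node (.leaf 0x2a29001f72) (.leaf 0x1720000003))) (.node (.node (.leaf 0x3001a29) (.leaf 0x5a290042cd)) (.node (.leaf 0x1f7b00370d) (.leaf 0x0))))) (.node (.node (.node (.node (.leaf 0x1000629) (.leaf 0x436600441a)) (.node (.leaf 0x1002513) (.leaf 0x63f5000001))) (.node (.node (.leaf 0x1629000003) (.leaf 0x562900434d)) (.node (.leaf 0x1f7b003629) (.leaf 0x0)))) (.node (.node (.node (.leaf 0xe29000003) (.leaf 0x22004e29)) (.node (.leaf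 0x2e29001f72) (.leaf 0x6c89000001))) (.node (.node (.leaf 0x1e29000003) (.leaf 0x2005d22)) (.node (.leaf 0x2a6a002220) (.leaf 0x0))))))) (.node (.node (.node (.node (.node (.node (.leaf 0x10000f5) (.leaf 0x33b60021e8)) (.node (.leaf 0x20020b5) (.leaf 0x55fc000003))) (.node (.node (.leaf 0x1129000001) (.leaf 0x22005129)) (.node (.leaf 0x2c090021aa) (.leaf 0x0)))) (.node (.node (.node (.leaf 0x2000929) (.leaf 0x4407004929)) (.node (.leaf 0x20028b7) (.leaf 0x66cb000003))) (.node (.node (.leaf 0x1001929) (.leaf 0x59290042b2)) (.node (.leaf 0x27ef00384f) (.leaf 0x0))))) (.node (.node (.node (.node (.leaf 0x1000529) (.leaf 0x4316004529)) (.node (.leaf 0x100240f) (.leaf 0x6311000003))) (.node (.node (.leaf 0x1529000001) (.leaf 0x43e0005529)) (.node (.leaf 0x1f7b002fcb) (.leaf 0x0)))) (.node (.node (.node (.leaf 0xd29000001) (.leaf 0x4d29004317)) (.node (.leaf 0x2d29001f72) (.leaf 0x1688000001))) (.node (.node (.leaf 0x1d29000003) (.leaf 0x5c71000001))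 (.node (.leaf 0x301e002552) (.leaf 0x0)))))) (.node (.node (.node (.node (.node (.leaf 0x329000003) (.leaf 0x42ac004325)) (.node (.leaf 0x1002253) (.leaf 0x6129000001))) (.node (.node (.leaf 0x1329000003) (.leaf 0x73005329)) (.node (.leaf 0x2f01002130) (.leaf 0x0)))) (.node (.node (.node (.leaf 0x2000b29) (.leaf 0x4b29004301)) (.node (.leaf 0x2b29001f7b) (.leaf 0x68ce000003))) (.node (.node (.leaf 0x1001b29) (.leaf 0x2005afd)) (.node (.leaf 0x312300276b) (.leaf 0x0))))) (.node (.node (.node (.node (.leaf 0x2000729) (.leaf 0x472900442b)) (.node (.leaf 0x2002643) (.leaf 0x64d9000001))) (.node (.node (.leaf 0x1001729) (.leaf 0x57290042e5)) (.node (.leaf 0x1f71003625) (.leaf 0x0)))) (.node (.node (.node (.leaf 0xf29000001) (.leaf 0x42ec004f29)) (.node (.leaf 0x2d4d000020) (.leaf 0x6df9000001))) (.node (.node (.leaf 0x2001f29) (.leaf 0x5df3000003)) (.node (.leaf 0x2ef90027e2) (.leaf 0x0)))))))) (.node (.node (.node (.node (.node (.node (.node (.leaf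 0xa9000001) (.leaf 0x2fa800257c)) (.node (.leaf 0x1002045) (.leaf 0x5f23000003))) (.node (.node (.leaf 0x10010a9) (.leaf 0x43ab0050a9)) (.node (.leaf 0x2dcd001f72) (.leaf 0x7011000003)))) (.node (.node (.node (.leaf 0x10008a9) (.leaf 0x42b30048a9)) (.node (.leaf 0x2002803) (.leaf 0x2006644))) (.node (.node (.leaf 0x20018a9) (.leaf 0x43b6004369)) (.node (.leaf 0x27cd0038a9) (.leaf 0x0))))) (.node (.node (.node (.node (.leaf 0x20004a9) (.leaf 0x44a90042e9)) (.node (.leaf 0x2002393) (.leaf 0x629d000003))) (.node (.node (.leaf 0x14a9000003) (.leaf 0x42f80054a9)) (.node (.leaf 0x3101001f72) (.leaf 0x0)))) (.node (.node (.node (.leaf 0xca9000003) (.leaf 0x43b3004420)) (.node (.leaf 0x2a3c001f72) (.leaf 0x6a91000001))) (.node (.node (.leaf 0x1ca9000002) (.leaf 0x5c05000003)) (.node (.leaf 0x30e100244c) (.leaf 0x0)))))) (.node (.node (.node (.node (.node (.leaf 0x2a9000003) (.leaf 0xb6004298)) (.node (.leaf 0x2002040) (.leaf 0x60b7000003))) (.node (.node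 (.leaf 0x12a9000003) (.leaf 0x429c0052a9)) (.node (.leaf 0x2b84000968) (.leaf 0x0)))) (.node (.node (.node (.leaf 0x1000aa9) (.leaf 0x43be004419)) (.node (.leaf 0x1f7b002aa9) (.leaf 0x6854000001))) (.node (.node (.leaf 0x2001aa9) (.leaf 0x5aa90042cd)) (.node (.leaf 0x2aeb00249c) (.leaf 0x0))))) (.node (.node (.node (.node (.leaf 0x30006a9) (.leaf 0x43b7004371)) (.node (.leaf 0x10025a3) (.leaf 0x6463000001))) (.node (.node (.leaf 0x20016a9) (.leaf 0x56a90043a0)) (.node (.leaf 0x24b1003349) (.leaf 0x0)))) (.node (.node (.node (.leaf 0xea9000001) (.leaf 0x45a70042ae)) (.node (.leaf 0x1f71002c9c) (.leaf 0x6d2d000003))) (.node (.node (.leaf 0x1e23001ea9) (.leaf 0x2005d8a)) (.node (.leaf 0x2d58001eb4) (.leaf 0x0))))))) (.node (.node (.node (.node (.node (.node (.leaf 0x1a9000003) (.leaf 0x2fa8001faa)) (.node (.leaf 0x200210d) (.leaf 0x25e5000003))) (.node (.node (.leaf 0x11a9000001) (.leaf 0x51a90042ad)) (.node (.leaf 0x265d002b3f) (.leaf 0x0)))) (.node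 (.node (.node (.leaf 0x9a9000001) (.leaf 0x436c004367)) (.node (.leaf 0x10029a5) (.leaf 0x674f000001))) (.node (.node (.leaf 0x20019a9) (.leaf 0x59a9004406)) (.node (.leaf 0x2627002f44) (.leaf 0x0))))) (.node (.node (.node (.node (.leaf 0x20005a9) (.leaf 0x45a9004435)) (.node (.leaf 0x2002491) (.leaf 0x6383000001))) (.node (.node (.leaf 0x15a9000001) (.leaf 0x55a90043a8)) (.node (.leaf 0x1f7b002edc) (.leaf 0x0)))) (.node (.node (.node (.leaf 0xda9000001) (.leaf 0x44fd004369)) (.node (.leaf 0x2da9001f72) (.leaf 0x6bcb000003))) (.node (.node (.leaf 0x1001da9) (.leaf 0x5ccb000003)) (.node (.leaf 0x30f6000028) (.leaf 0x0)))))) (.node (.node (.node (.node (.node (.leaf 0x10003a9) (.leaf 0x10043a7)) (.node (.leaf 0x20022c3) (.leaf 0x619d000003))) (.node (.node (.leaf 0x13a9000003) (.leaf 0x53a9004402)) (.node (.leaf 0x1f7b002dd0) (.leaf 0x0)))) (.node (.node (.node (.leaf 0x1000ba9) (.leaf 0x4ba9004400)) (.node (.leaf 0x2ba9001f72) (.leaf 0x6971000003)))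 (.node (.node (.leaf 0x1001ba9) (.leaf 0x5b46000001)) (.node (.leaf 0x2af90022e4) (.leaf 0x0))))) (.node (.node (.node (.node (.leaf 0x10007a9) (.leaf 0x437000447d)) (.node (.leaf 0x20026e1) (.leaf 0x2001c50))) (.node (.node (.leaf 0x10017a9) (.leaf 0x43480057a9)) (.node (.leaf 0x2d31000054) (.leaf 0x0)))) (.node (.node (.node (.leaf 0xfa9000003) (.leaf 0x44e80043c3)) (.node (.leaf 0x20cb002ebd) (.leaf 0x6ea1000003))) (.node (.node (.leaf 0x2001f9d) (.leaf 0x5e53000001)) (.node (.leaf 0x2cbf002154) (.leaf 0x0)))))))))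

/-- part -/
def slpT_107 : Tr Nat := (.node (.node (.node (.node (.node (.node (.node (.node (.leaf 0x2000069) (.leaf 0x2b3700266c)) (.node (.leaf 0x1002013) (.leaf 0x5ee1000001))) (.node (.node (.leaf 0x3001069) (.leaf 0x4436005069)) (.node (.leaf 0x2e6a001f72) (.leaf 0x6fb9000001)))) (.node (.node (.node (.leaf 0x2000869) (.leaf 0x48690042c1)) (.node (.leaf 0x20027b9) (.leaf 0x2006606))) (.node (.node (.leaf 0x1001869) (.leaf 0x586900439a)) (.node (.leaf 0x252b003114) (.leaf 0x0))))) (.node (.node (.node (.node (.leaf 0x1000469) (.leaf 0x43b60043c3)) (.node (.leaf 0x200235f) (.leaf 0x6265000003))) (.node (.node (.leaf 0x1469000001) (.leaf 0x43d20049b5)) (.node (.leaf 0x2def001f72) (.leaf 0x0)))) (.node (.node (.node (.leaf 0xc69000003) (.leaf 0x4348004c69)) (.node (.leaf 0x2c69001f72) (.leaf 0x6a37000003))) (.node (.node (.leaf 0x1c69000001) (.leaf 0x129d000003)) (.node (.leaf 0x2bf1002122) (.leaf 0x0)))))) (.node (.node (.node (.node (.node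 (.leaf 0x269000001) (.leaf 0x33030022de)) (.node (.leaf 0x219e000001) (.leaf 0x6083000001))) (.node (.node (.leaf 0x72c000003) (.leaf 0x5269004408)) (.node (.leaf 0x1f7b002d3a) (.leaf 0x0)))) (.node (.node (.node (.leaf 0x2000a69) (.leaf 0x3004a69)) (.node (.leaf 0x1f71002a69) (.leaf 0x6811000001))) (.node (.node (.leaf 0x1001a69) (.leaf 0x5a69004313)) (.node (.leaf 0x383800096d) (.leaf 0x0))))) (.node (.node (.node (.node (.leaf 0x2000669) (.leaf 0x454f00438a)) (.node (.leaf 0x2002478) (.leaf 0x642b000001))) (.node (.node (.leaf 0x1669000003) (.leaf 0x42ac004461)) (.node (.leaf 0x4d0034fb) (.leaf 0x0)))) (.node (.node (.node (.leaf 0xe69000001) (.leaf 0x4e690042cd)) (.node (.leaf 0x1f7b002e69) (.leaf 0x6cd9000003))) (.node (.node (.leaf 0x2001e69) (.leaf 0x2005d50)) (.node (.leaf 0x32420027ba) (.leaf 0x0))))))) (.node (.node (.node (.node (.node (.node (.leaf 0x169000001) (.leaf 0x2c4d0023b2)) (.node (.leaf 0x20020e7) (.leaf 0x5faf000003)))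 (.node (.node (.leaf 0x1169000002) (.leaf 0x42af005169)) (.node (.leaf 0x1f7b002bf9) (.leaf 0x0)))) (.node (.node (.node (.leaf 0x2000969) (.leaf 0x4300004969)) (.node (.leaf 0x100292b) (.leaf 0x6707000003))) (.node (.node (.leaf 0x1001969) (.leaf 0x43f20043ed)) (.node (.leaf 0x1f71003969) (.leaf 0x0))))) (.node (.node (.node (.node (.leaf 0x2000569) (.leaf 0x456900429d)) (.node (.leaf 0x200244b) (.leaf 0x6349000003))) (.node (.node (.leaf 0x1569000001) (.leaf 0x4f930043d3)) (.node (.leaf 0x1f71003369) (.leaf 0x0)))) (.node (.node (.node (.leaf 0xb1000001) (.leaf 0x4d69000003)) (.node (.leaf 0x28d10029f0) (.leaf 0x6b7f000003))) (.node (.node (.leaf 0x1001d69) (.leaf 0x5ca3000003)) (.node (.leaf 0x29fd00216e) (.leaf 0x0)))))) (.node (.node (.node (.node (.node (.leaf 0x1000369) (.leaf 0x4327004367)) (.node (.leaf 0x200228c) (.leaf 0x6161000003))) (.node (.node (.leaf 0x1369000003) (.leaf 0x1005369)) (.node (.leaf 0x1f71002bc0) (.leaf 0x0)))) (.node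 (.node (.node (.leaf 0x1000b69) (.leaf 0x4b6900003c)) (.node (.leaf 0x1f71002b69) (.leaf 0x6925000003))) (.node (.node (.leaf 0x1001b69) (.leaf 0x5b2c000001)) (.node (.leaf 0x3352002824) (.leaf 0x0))))) (.node (.node (.node (.node (.leaf 0x1000769) (.leaf 0x43bc0043f2)) (.node (.leaf 0x268c000003) (.leaf 0x650f000003))) (.node (.node (.leaf 0x2001769) (.leaf 0x5005769)) (.node (.leaf 0x33cb001f72) (.leaf 0x0)))) (.node (.node (.node (.leaf 0x6f6000f69) (.leaf 0x4f69000003)) (.node (.leaf 0x1f71002de4) (.leaf 0x6e45000001))) (.node (.node (.leaf 0x1f69000003) (.leaf 0x5e20000003)) (.node (.leaf 0x2fe8000fd9) (.leaf 0x0)))))))) (.node (.node (.node (.node (.node (.node (.node (.leaf 0xe9000003) (.leaf 0x34f0000187)) (.node (.leaf 0x2002073) (.leaf 0x5f4f000001))) (.node (.node (.leaf 0x20010e9) (.leaf 0x42b10050e9)) (.node (.leaf 0x1f7100302f) (.leaf 0x707d000001)))) (.node (.node (.node (.leaf 0x30008e9) (.leaf 0x42e60048e9)) (.node (.leaf 0x200284d)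 (.leaf 0x6691000001))) (.node (.node (.leaf 0x20018e9) (.leaf 0x42e40058e9)) (.node (.leaf 0x1f7b0033ee) (.leaf 0x0))))) (.node (.node (.node (.node (.leaf 0x10004e9) (.leaf 0x442c0044e9)) (.node (.leaf 0x10023d3) (.leaf 0x62d5000003))) (.node (.node (.leaf 0x14e9000001) (.leaf 0x446a0043d3)) (.node (.leaf 0x1f7b002f42) (.leaf 0x0)))) (.node (.node (.node (.leaf 0xce9000001) (.leaf 0x4ce9000072)) (.node (.leaf 0x2b98000fce) (.leaf 0x6adb000003))) (.node (.node (.leaf 0x1ce9000003) (.leaf 0x5c3d000003)) (.node (.leaf 0x2c3700233c) (.leaf 0x0)))))) (.node (.node (.node (.node (.node (.leaf 0x2e9000003) (.leaf 0x42e50042e5)) (.node (.leaf 0x1002214) (.leaf 0x60ed000001))) (.node (.node (.leaf 0x12e9000001) (.leaf 0x458900438a)) (.node (.leaf 0x32e9001f7b) (.leaf 0x0)))) (.node (.node (.node (.leaf 0x1000ae9) (.leaf 0x1004ae9)) (.node (.leaf 0x2ae9001f7b) (.leaf 0x6896000003))) (.node (.node (.leaf 0x2001ae9) (.leaf 0x2002122)) (.node (.leaf 0x2a0500266a)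 (.leaf 0x0))))) (.node (.node (.node (.node (.leaf 0x20006e9) (.leaf 0x43f2004425)) (.node (.leaf 0x20025eb) (.leaf 0x649b000003))) (.node (.node (.leaf 0x30016e9) (.leaf 0x43f000436d)) (.node (.leaf 0x1f710036e9) (.leaf 0x0)))) (.node (.node (.node (.leaf 0xee9000003) (.leaf 0x44210043b7)) (.node (.leaf 0x2ee90028e2) (.leaf 0x6da7000001))) (.node (.node (.leaf 0x1000c3d) (.leaf 0x5dbd000001)) (.node (.leaf 0x2b230028ae) (.leaf 0x0))))))) (.node (.node (.node (.node (.node (.node (.leaf 0x10001e9) (.leaf 0x34a7000084)) (.node (.leaf 0x2002133) (.leaf 0x6019000003))) (.node (.node (.leaf 0x11e9000003) (.leaf 0x51e90042f9)) (.node (.leaf 0x1f7b002c32) (.leaf 0x0)))) (.node (.node (.node (.leaf 0x9e9000001) (.leaf 0x436a0045a5)) (.node (.leaf 0x29e9001f72) (.leaf 0x6792000003))) (.node (.node (.leaf 0x10019e9) (.leaf 0x59e90043ac)) (.node (.leaf 0x1f7b0033c1) (.leaf 0x0))))) (.node (.node (.node (.node (.leaf 0x20005e9) (.leaf 0x42c00045e9)) (.node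 (.leaf 0x10024cf) (.leaf 0x6126000001))) (.node (.node (.leaf 0x15e9000001) (.leaf 0x55e9004275)) (.node (.leaf 0x2967003261) (.leaf 0x0)))) (.node (.node (.node (.leaf 0xde9000001) (.leaf 0x4de900003c)) (.node (.leaf 0x2de9001f7b) (.leaf 0x6c27000001))) (.node (.node (.leaf 0x1d5f001de9) (.leaf 0x5cf7000001)) (.node (.leaf 0x39f20021b9) (.leaf 0x0)))))) (.node (.node (.node (.node (.node (.leaf 0x3e9000001) (.leaf 0x43e90042e8)) (.node (.leaf 0x10022f7) (.leaf 0x61df000003))) (.node (.node (.leaf 0x13e9000003) (.leaf 0x43120053e9)) (.node (.leaf 0x3160001f7b) (.leaf 0x0)))) (.node (.node (.node (.leaf 0xbe9000002) (.leaf 0x4be900440a)) (.node (.leaf 0x2be9001f72) (.leaf 0x69b7000001))) (.node (.node (.leaf 0x2001be9) (.leaf 0x5ab3000001)) (.node (.leaf 0x3934002477) (.leaf 0x0))))) (.node (.node (.node (.node (.leaf 0x20007e9) (.leaf 0x42ec0047e9)) (.node (.leaf 0x200272d) (.leaf 0x1006588))) (.node (.node (.leaf 0x10017e9) (.leaf 0x43000057e9))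 (.node (.leaf 0x2719003104) (.leaf 0x0)))) (.node (.node (.node (.leaf 0x1000fe9) (.leaf 0x437000453e)) (.node (.leaf 0x1f71002fe9) (.leaf 0x6f03000003))) (.node (.node (.leaf 0x1fbe000003) (.leaf 0x5e81000003)) (.node (.leaf 0x340f0023e8) (.leaf 0x0)))))))))

/-- part -/
def slpT_108 : Tr Nat := (.node (.node (.node (.node (.node (.node (.node (.node (.leaf 0x19000001) (.leaf 0x2e74002430)) (.node (.leaf 0x2001fe3) (.leaf 0x160e000001))) (.node (.node (.leaf 0x1001019) (.leaf 0x50190042ef)) (.node (.leaf 0x1f71002c86) (.leaf 0x6f3d000001)))) (.node (.node (.node (.leaf 0x1000819) (.leaf 0x4409004819)) (.node (.leaf 0x2002761) (.leaf 0x65b7000003))) (.node (.node (.leaf 0x3001819) (.leaf 0x581900439e)) (.node (.leaf 0x1f7b0034e9) (.leaf 0x0))))) (.node (.node (.node (.node (.leaf 0x1000419) (.leaf 0x44190043b5)) (.node (.leaf 0x1002321) (.leaf 0xf60000001))) (.node (.node (.leaf 0x1419000001) (.leaf 0x43fd004511)) (.node (.leaf 0x3419002636)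 (.leaf 0x0)))) (.node (.node (.node (.leaf 0xc19000001) (.leaf 0x4c190043cf)) (.node (.leaf 0x2c19001f72) (.leaf 0x69e9000003))) (.node (.node (.leaf 0x2001c19) (.leaf 0x5ba7000003)) (.node (.leaf 0x311b0020aa) (.leaf 0x0)))))) (.node (.node (.node (.node (.node (.leaf 0x1000219) (.leaf 0x33030027bc)) (.node (.leaf 0x2152000003) (.leaf 0x6043000001))) (.node (.node (.leaf 0x1219000003) (.leaf 0x3005219)) (.node (.leaf 0x1f71003219) (.leaf 0x0)))) (.node (.node (.node (.leaf 0x2000a19) (.leaf 0x3b004a19)) (.node (.leaf 0x2a19001f72) (.leaf 0x67c0000003))) (.node (.node (.leaf 0x1001a19) (.leaf 0x5a190042cd)) (.node (.leaf 0x50003770) (.leaf 0x0))))) (.node (.node (.node (.node (.leaf 0x2000619) (.leaf 0x428d004619)) (.node (.leaf 0x1002505) (.leaf 0x63e7000001))) (.node (.node (.leaf 0x1619000003) (.leaf 0x561900439c)) (.node (.leaf 0x2177002b26) (.leaf 0x0)))) (.node (.node (.node (.leaf 0xe19000001) (.leaf 0x42a4004e19)) (.node (.leaf 0x2e19001f72)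 (.leaf 0x6c6f000003))) (.node (.node (.leaf 0x2001e19) (.leaf 0x5d17000003)) (.node (.leaf 0x3370002220) (.leaf 0x0))))))) (.node (.node (.node (.node (.node (.node (.leaf 0x2000119) (.leaf 0x30630021e8)) (.node (.leaf 0x20020a9) (.leaf 0x5f77000001))) (.node (.node (.leaf 0x1119000001) (.leaf 0x51190042f1)) (.node (.leaf 0x3119001f72) (.leaf 0x7101000001)))) (.node (.node (.node (.leaf 0x3000919) (.leaf 0x10e8004919)) (.node (.leaf 0x1002897) (.leaf 0x66b9000003))) (.node (.node (.leaf 0x1001919) (.leaf 0x59190042ed)) (.node (.leaf 0x13e002f0c) (.leaf 0x0))))) (.node (.node (.node (.node (.leaf 0x1000519) (.leaf 0x432600451a)) (.node (.leaf 0x2002401) (.leaf 0x6303000003))) (.node (.node (.leaf 0x1519000001) (.leaf 0x4387004b26)) (.node (.leaf 0x2200002e08) (.leaf 0x0)))) (.node (.node (.node (.leaf 0xd19000001) (.leaf 0x4d190042ad)) (.node (.leaf 0x2bc3001f72) (.leaf 0x6b13000001))) (.node (.node (.leaf 0x1d19000002) (.leaf 0x5c63000001)) (.node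 (.leaf 0x2f50002552) (.leaf 0x0)))))) (.node (.node (.node (.node (.node (.leaf 0x319000003) (.leaf 0x9680042e5)) (.node (.leaf 0x2002245) (.leaf 0x6117000003))) (.node (.node (.leaf 0x1319000003) (.leaf 0x5319000023)) (.node (.leaf 0x3319002130) (.leaf 0x0)))) (.node (.node (.node (.leaf 0x2000b19) (.leaf 0x4409004b19)) (.node (.leaf 0x2b19001f72) (.leaf 0x68c0000001))) (.node (.node (.leaf 0x2001b19) (.leaf 0x20020aa)) (.node (.leaf 0x346500276b) (.leaf 0x0))))) (.node (.node (.node (.node (.leaf 0x3000719) (.leaf 0x47190042e5)) (.node (.leaf 0x2002635) (.leaf 0x64c7000001))) (.node (.node (.leaf 0x2001719) (.leaf 0x57190042f1)) (.node (.leaf 0x1f7b0033d6) (.leaf 0x0)))) (.node (.node (.node (.leaf 0xf19000001) (.leaf 0x4405004f19)) (.node (.leaf 0x2f19001f7b) (.leaf 0x6de9000003))) (.node (.node (.leaf 0x1001f19) (.leaf 0x5c3e000003)) (.node (.leaf 0x375f0027e2) (.leaf 0x0)))))))) (.node (.node (.node (.node (.node (.node (.node (.leaf 0x99000003)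 (.leaf 0x36460021b4)) (.node (.leaf 0x200203d) (.leaf 0x5f11000003))) (.node (.node (.leaf 0x1001099) (.leaf 0x4428004325)) (.node (.leaf 0x3099001f7b) (.leaf 0x6ffb000001)))) (.node (.node (.node (.leaf 0x2000899) (.leaf 0x42fa004899)) (.node (.leaf 0x20027eb) (.leaf 0x2006636))) (.node (.node (.leaf 0x2000e08) (.leaf 0x58990042ae)) (.node (.leaf 0x27cd002fdd) (.leaf 0x0))))) (.node (.node (.node (.node (.leaf 0x1000499) (.leaf 0x43bc004499)) (.node (.leaf 0x1002381) (.leaf 0x6291000003))) (.node (.node (.leaf 0x1499000001) (.leaf 0x42fa005499)) (.node (.leaf 0x34990002b1) (.leaf 0x0)))) (.node (.node (.node (.leaf 0xc99000002) (.leaf 0x4c990042f1)) (.node (.leaf 0x29c0001f7b) (.leaf 0x6a83000003))) (.node (.node (.leaf 0x1c99000003) (.leaf 0x5bf7000001)) (.node (.leaf 0x2a4d001fc3) (.leaf 0x0)))))) (.node (.node (.node (.node (.node (.leaf 0x299000002) (.leaf 0x100428b)) (.node (.leaf 0x21d0000003) (.leaf 0x60a9000003))) (.node (.node (.leaf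 0x1299000001) (.leaf 0x4405005299)) (.node (.leaf 0x3299001f72) (.leaf 0x0)))) (.node (.node (.node (.leaf 0x1000a99) (.leaf 0x428c004a99)) (.node (.leaf 0x1f71002a99) (.leaf 0x6843000003))) (.node (.node (.leaf 0x3001a99) (.leaf 0x5a99004437)) (.node (.leaf 0x37f400249c) (.leaf 0x0))))) (.node (.node (.node (.node (.leaf 0x10005c9) (.leaf 0x46990042b2)) (.node (.leaf 0x1002593) (.leaf 0x6455000003))) (.node (.node (.leaf 0x2001699) (.leaf 0x5699004301)) (.node (.leaf 0x24b10031b9) (.leaf 0x0)))) (.node (.node (.node (.leaf 0xe99000001) (.leaf 0x4e990042e9)) (.node (.leaf 0x2199002e99) (.leaf 0x6d15000003))) (.node (.node (.leaf 0x1001e99) (.leaf 0x2005d7c)) (.node (.leaf 0x3a730020e4) (.leaf 0x0))))))) (.node (.node (.node (.node (.node (.node (.leaf 0x199000001) (.leaf 0x2b5e001faa)) (.node (.leaf 0x200205e) (.leaf 0x5fd9000003))) (.node (.node (.leaf 0x1199000001) (.leaf 0x4438005199)) (.node (.leaf 0x1f7b003199) (.leaf 0x0)))) (.node (.node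 (.node (.leaf 0x999000003) (.leaf 0x4397004999)) (.node (.leaf 0x200296d) (.leaf 0x673d000001))) (.node (.node (.leaf 0x2001999) (.leaf 0x59990042c1)) (.node (.leaf 0x2627002a1c) (.leaf 0x0))))) (.node (.node (.node (.node (.leaf 0x3000599) (.leaf 0x43bb0043f8)) (.node (.leaf 0x200247f) (.leaf 0x6377000001))) (.node (.node (.leaf 0x1599000001) (.leaf 0x5599004275)) (.node (.leaf 0x1f7b003599) (.leaf 0x0)))) (.node (.node (.node (.leaf 0xd99000001) (.leaf 0x437e00432f)) (.node (.leaf 0x2a9c001f7b) (.leaf 0x6bbb000001))) (.node (.node (.leaf 0x1001d99) (.leaf 0x2433000003)) (.node (.leaf 0x320e00262e) (.leaf 0x0)))))) (.node (.node (.node (.node (.node (.leaf 0x2000399) (.leaf 0x4366000020)) (.node (.leaf 0x20022b3) (.leaf 0x618d000003))) (.node (.node (.leaf 0x15c000003) (.leaf 0x4348005399)) (.node (.leaf 0x1f71003399) (.leaf 0x0)))) (.node (.node (.node (.leaf 0x2000b99) (.leaf 0x4b99000003)) (.node (.leaf 0x1f7b002b99) (.leaf 0x6959000003)))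 (.node (.node (.leaf 0x1001b99) (.leaf 0x5b4b000003)) (.node (.leaf 0x2afb000070) (.leaf 0x0))))) (.node (.node (.node (.node (.leaf 0x1000799) (.leaf 0x432e004799)) (.node (.leaf 0x20026cf) (.leaf 0x2006546))) (.node (.node (.leaf 0x1001799) (.leaf 0x42f0005799)) (.node (.leaf 0x3311000054) (.leaf 0x0)))) (.node (.node (.node (.leaf 0xf99000003) (.leaf 0x48a70042ae)) (.node (.leaf 0x1f71002f99) (.leaf 0x6e83000003))) (.node (.node (.leaf 0x1000d8a) (.leaf 0x5e48000003)) (.node (.leaf 0x3802002154) (.leaf 0x0)))))))))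

/-- part -/
def slpT_109 : Tr Nat := (.node (.node (.node (.node (.node (.node (.node (.node (.leaf 0x1000059) (.leaf 0x2e6e00266c)) (.node (.leaf 0x1002009) (.leaf 0x5ed4000003))) (.node (.node (.leaf 0x1001059) (.leaf 0x42ec005059)) (.node (.leaf 0x2b1b002692) (.leaf 0x6f99000003)))) (.node (.node (.node (.leaf 0x2000859) (.leaf 0x48590042e5)) (.node (.leaf 0x10027a9) (.leaf 0x1005f5f))) (.node (.node (.leaf 0x1001859) (.leaf 0x58590042ff)) (.node (.leaf 0x252b002e6f) (.leaf 0x0))))) (.node (.node (.node (.node (.leaf 0x1000459) (.leaf 0x4459004402)) (.node (.leaf 0x2002188) (.leaf 0x6257000003))) (.node (.node (.leaf 0x1459000001) (.leaf 0x4428005459)) (.node (.leaf 0x3254001f7b) (.leaf 0x0)))) (.node (.node (.node (.leaf 0x8c1000003) (.leaf 0x42fc004c59)) (.node (.leaf 0x2c59001f72) (.leaf 0x6a2b000003))) (.node (.node (.leaf 0x1c59000001) (.leaf 0x5bcd000001)) (.node (.leaf 0x2c0500019a) (.leaf 0x0)))))) (.node (.node (.node (.node (.node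 (.leaf 0x259000001) (.leaf 0x2d1b00263a)) (.node (.leaf 0x100218b) (.leaf 0x10b9000001))) (.node (.node (.leaf 0x1259000003) (.leaf 0x43b4004369)) (.node (.leaf 0x1f71003259) (.leaf 0x0)))) (.node (.node (.node (.leaf 0x1000a59) (.leaf 0x4399004a59)) (.node (.leaf 0x1f71002a59) (.leaf 0x6804000001))) (.node (.node (.leaf 0x1001a59) (.leaf 0x5a590043e1)) (.node (.leaf 0x2e2100096d) (.leaf 0x0))))) (.node (.node (.node (.node (.leaf 0x1000659) (.leaf 0x4659004329)) (.node (.leaf 0x2002555) (.leaf 0x28ab000003))) (.node (.node (.leaf 0x1659000003) (.leaf 0x43a7004b5a)) (.node (.leaf 0x1f71002f44) (.leaf 0x0)))) (.node (.node (.node (.leaf 0xe59000003) (.leaf 0x44fd004371)) (.node (.leaf 0x1f71002e59) (.leaf 0x6cc3000003))) (.node (.node (.leaf 0x2001e5a) (.leaf 0x5d45000003)) (.node (.leaf 0x2b96002996) (.leaf 0x0))))))) (.node (.node (.node (.node (.node (.node (.leaf 0x159000003) (.leaf 0x30fb0023b2)) (.node (.leaf 0x20020db) (.leaf 0x5fa7000001)))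 (.node (.node (.leaf 0x1159000001) (.leaf 0x4401005159)) (.node (.leaf 0x1f7b003159) (.leaf 0x0)))) (.node (.node (.node (.leaf 0x1000959) (.leaf 0x22004959)) (.node (.leaf 0x200290d) (.leaf 0x66f7000003))) (.node (.node (.leaf 0x1001959) (.leaf 0x595900438a)) (.node (.leaf 0x1f7b002eb5) (.leaf 0x0))))) (.node (.node (.node (.node (.leaf 0x2000559) (.leaf 0x4328004559)) (.node (.leaf 0x2002439) (.leaf 0x633d000001))) (.node (.node (.leaf 0x1559000001) (.leaf 0x42ad005559)) (.node (.leaf 0x299f002c64) (.leaf 0x0)))) (.node (.node (.node (.leaf 0xd59000003) (.leaf 0x4d590042a5)) (.node (.leaf 0x1f71002d59) (.leaf 0x6b65000001))) (.node (.node (.leaf 0x1d59000003) (.leaf 0x5c97000003)) (.node (.leaf 0x2aac000f77) (.leaf 0x0)))))) (.node (.node (.node (.node (.node (.leaf 0x1000359) (.leaf 0x430f004325)) (.node (.leaf 0x2002286) (.leaf 0x6153000001))) (.node (.node (.leaf 0x1359000001) (.leaf 0x42cc005359)) (.node (.leaf 0x1f7b003359) (.leaf 0x0))))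 (.node (.node (.node (.leaf 0x1000b59) (.leaf 0x4b5900439e)) (.node (.leaf 0x1f71002a75) (.leaf 0x6911000001))) (.node (.node (.leaf 0x1001b59) (.leaf 0x2005b21)) (.node (.leaf 0x30e3002824) (.leaf 0x0))))) (.node (.node (.node (.node (.leaf 0x1000759) (.leaf 0x4348004759)) (.node (.leaf 0x1002677) (.leaf 0x64ff000001))) (.node (.node (.leaf 0x2001759) (.leaf 0x432700447d)) (.node (.leaf 0x363c001f72) (.leaf 0x0)))) (.node (.node (.node (.leaf 0x66d000001) (.leaf 0x43a7004f59)) (.node (.leaf 0x1f7b002f59) (.leaf 0x6e31000001))) (.node (.node (.leaf 0x1f59000003) (.leaf 0x1663000001)) (.node (.leaf 0x2ad2000fd9) (.leaf 0x0)))))))) (.node (.node (.node (.node (.node (.node (.node (.leaf 0x10000d9) (.leaf 0x304f000187)) (.node (.leaf 0x2002067) (.leaf 0x5f43000003))) (.node (.node (.leaf 0x20010d9) (.leaf 0x428a0050d9)) (.node (.leaf 0x1f71002bec) (.leaf 0x705d000003)))) (.node (.node (.node (.leaf 0x10008d9) (.leaf 0x220048d9)) (.node (.leaf 0x2002839)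 (.leaf 0x2006678))) (.node (.node (.leaf 0x10018d9) (.leaf 0x443a0058d9)) (.node (.leaf 0x1f71003699) (.leaf 0x0))))) (.node (.node (.node (.node (.leaf 0x10004d9) (.leaf 0x44d90042fb)) (.node (.leaf 0x10023c5) (.leaf 0x62c3000001))) (.node (.node (.leaf 0x14d9000003) (.leaf 0x428d0054d9)) (.node (.leaf 0xa13003420) (.leaf 0x0)))) (.node (.node (.node (.leaf 0xcd9000001) (.leaf 0x4cd900434d)) (.node (.leaf 0x2c01002972) (.leaf 0x6ac5000003))) (.node (.node (.leaf 0x34e000003) (.leaf 0x1b3a000003)) (.node (.leaf 0x2ec800244c) (.leaf 0x0)))))) (.node (.node (.node (.node (.node (.leaf 0x2d9000003) (.leaf 0x42d9000d84)) (.node (.leaf 0x1002205) (.leaf 0x60e1000003))) (.node (.node (.leaf 0x12d9000003) (.leaf 0x52d9004400)) (.node (.leaf 0x2abc001f72) (.leaf 0x0)))) (.node (.node (.node (.leaf 0x2000ad9) (.leaf 0x4436004ad9)) (.node (.leaf 0x29f9001f7b) (.leaf 0x688a000001))) (.node (.node (.leaf 0x1001ad9) (.leaf 0x2001fb6)) (.node (.leaf 0x3034001f7b)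 (.leaf 0x0))))) (.node (.node (.node (.node (.leaf 0x20006d9) (.leaf 0x46d9004398)) (.node (.leaf 0x10025d9) (.leaf 0x6489000001))) (.node (.node (.leaf 0x10016d9) (.leaf 0x56d9004406)) (.node (.leaf 0x5e70034df) (.leaf 0x0)))) (.node (.node (.node (.leaf 0xed9000003) (.leaf 0x43d00044f3)) (.node (.leaf 0x2ed9001f72) (.leaf 0x6d89000001))) (.node (.node (.leaf 0x2001ed9) (.leaf 0x5db5000001)) (.node (.leaf 0x2f9a00272a) (.leaf 0x0))))))) (.node (.node (.node (.node (.node (.node (.leaf 0x10001d9) (.leaf 0x29fb00229d)) (.node (.leaf 0x1002129) (.leaf 0x1f79000003))) (.node (.node (.leaf 0x11d9000002) (.leaf 0x51d9004313)) (.node (.leaf 0x1f7b002c3a) (.leaf 0x0)))) (.node (.node (.node (.leaf 0x9d9000001) (.leaf 0x44260049da)) (.node (.leaf 0x1f710029d9) (.leaf 0x677d000003))) (.node (.node (.leaf 0x20019d9) (.leaf 0x59d900440a)) (.node (.leaf 0x2711002abf) (.leaf 0x0))))) (.node (.node (.node (.node (.leaf 0x10005d9) (.leaf 0x45d90043e1)) (.node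 (.leaf 0x10024c1) (.leaf 0x63a9000001))) (.node (.node (.leaf 0x15d9000001) (.leaf 0x55d900430f)) (.node (.leaf 0x1f71003203) (.leaf 0x0)))) (.node (.node (.node (.leaf 0xdd9000001) (.leaf 0x4dd900438a)) (.node (.leaf 0x2dd90022f8) (.leaf 0x6c11000003))) (.node (.node (.leaf 0x1001dd9) (.leaf 0x246b000003)) (.node (.leaf 0x3a020021b9) (.leaf 0x0)))))) (.node (.node (.node (.node (.node (.leaf 0x3d9000001) (.leaf 0x210043b4)) (.node (.leaf 0x20022e9) (.leaf 0x61d3000003))) (.node (.node (.leaf 0x13d9000002) (.leaf 0x44260053d9)) (.node (.leaf 0x2fe2001f7b) (.leaf 0x0)))) (.node (.node (.node (.leaf 0xbd9000003) (.leaf 0x4bd900429b)) (.node (.leaf 0x2bd9001f72) (.leaf 0x699f000003))) (.node (.node (.leaf 0x2001bd9) (.leaf 0x5b7f000003)) (.node (.leaf 0x2efd0027aa) (.leaf 0x0))))) (.node (.node (.node (.node (.leaf 0x10007d9) (.leaf 0x3b0047d9)) (.node (.leaf 0x2002713) (.leaf 0x100657a))) (.node (.node (.leaf 0x20017d9) (.leaf 0x429c0057d9)) (.node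 (.leaf 0x1f71002e73) (.leaf 0x0)))) (.node (.node (.node (.leaf 0x2000fd9) (.leaf 0x4a98004388)) (.node (.leaf 0x1f71002c61) (.leaf 0x6eef000003))) (.node (.node (.leaf 0x1001f47) (.leaf 0x5e76000001)) (.node (.leaf 0x2d7e00087a) (.leaf 0x0)))))))))

/-- part -/
def slpT_110 : Tr Nat := (.node (.node (.node (.node (.node (.node (.node (.node (.leaf 0x2000001) (.leaf 0x2a9200266c)) (.node (.leaf 0x2001ff3) (.leaf 0x5ebe000003))) (.node (.node (.leaf 0x3001039) (.leaf 0x503900428d)) (.node (.leaf 0x211d003039) (.leaf 0x6f67000003)))) (.node (.node (.node (.leaf 0x2000839) (.leaf 0x43f10043ed)) (.node (.leaf 0x2002780) (.leaf 0x65d9000001))) (.node (.node (.leaf 0x1001839) (.leaf 0x583900430f)) (.node (.leaf 0x1fee002bb2) (.leaf 0x0))))) (.node (.node (.node (.node (.leaf 0x2000439) (.leaf 0x100441b)) (.node (.leaf 0x1002341) (.leaf 0x6231000003))) (.node (.node (.leaf 0x1439000001) (.leaf 0x442a004550)) (.node (.leaf 0x316c001f72) (.leaf 0x0))))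 (.node (.node (.node (.leaf 0xc39000003) (.leaf 0x4c39004435)) (.node (.leaf 0x2c39001f72) (.leaf 0x6a0d000003))) (.node (.node (.leaf 0x1c39000001) (.leaf 0x21cf000003)) (.node (.leaf 0x2a070025a2) (.leaf 0x0)))))) (.node (.node (.node (.node (.node (.leaf 0x239000001) (.leaf 0x329b0016d7)) (.node (.leaf 0x100216f) (.leaf 0x6061000003))) (.node (.node (.leaf 0x1239000001) (.leaf 0x4436005239)) (.node (.leaf 0x1f71003239) (.leaf 0x0)))) (.node (.node (.node (.leaf 0x1000779) (.leaf 0x43d0004a39)) (.node (.leaf 0x1f710029e0) (.leaf 0x67e0000001))) (.node (.node (.leaf 0x2001a39) (.leaf 0x4367004423)) (.node (.leaf 0x133b0030c6) (.leaf 0x0))))) (.node (.node (.node (.node (.leaf 0x2000639) (.leaf 0x46390042f9)) (.node (.leaf 0x1002525) (.leaf 0x63ff000003))) (.node (.node (.leaf 0x1639000002) (.leaf 0x473300442f)) (.node (.leaf 0x1f71003639) (.leaf 0x0)))) (.node (.node (.node (.leaf 0xe39000003) (.leaf 0x4e390042e9)) (.node (.leaf 0x24f1002b0e)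 (.leaf 0x6c9b000003))) (.node (.node (.leaf 0x1e39000003) (.leaf 0x1005d2e)) (.node (.leaf 0x3b0b002220) (.leaf 0x0))))))) (.node (.node (.node (.node (.node (.node (.leaf 0x2000139) (.leaf 0x2cb10025a6)) (.node (.leaf 0x20020c1) (.leaf 0x5f89000001))) (.node (.node (.leaf 0x1139000001) (.leaf 0x42b3005139)) (.node (.leaf 0x3139001f7b) (.leaf 0x0)))) (.node (.node (.node (.leaf 0x3000939) (.leaf 0x429a004939)) (.node (.leaf 0x1001e22) (.leaf 0x2817000003))) (.node (.node (.leaf 0x1001939) (.leaf 0x593900442d)) (.node (.leaf 0x27ef002c03) (.leaf 0x0))))) (.node (.node (.node (.node (.leaf 0x1000539) (.leaf 0x42a4004539)) (.node (.leaf 0x200241d) (.leaf 0x631f000003))) (.node (.node (.leaf 0x1539000001) (.leaf 0x3005539)) (.node (.leaf 0x22000033d0) (.leaf 0x0)))) (.node (.node (.node (.leaf 0xd39000001) (.leaf 0x73004d39)) (.node (.leaf 0x2d39001f72) (.leaf 0x6b39000001))) (.node (.node (.leaf 0x1d39000001) (.leaf 0x5c7f000003)) (.node (.leaf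 0x2b050027b4) (.leaf 0x0)))))) (.node (.node (.node (.node (.node (.leaf 0x1000339) (.leaf 0x4331004325)) (.node (.leaf 0x200225f) (.leaf 0x6135000003))) (.node (.node (.leaf 0x1339000001) (.leaf 0x442100462b)) (.node (.leaf 0x2d5100237e) (.leaf 0x0)))) (.node (.node (.node (.leaf 0x2000b39) (.leaf 0x4b3900442b)) (.node (.leaf 0x2b39001f72) (.leaf 0x68e5000003))) (.node (.node (.leaf 0x1b39000207) (.leaf 0x5b0e000003)) (.node (.leaf 0x35cc00097e) (.leaf 0x0))))) (.node (.node (.node (.node (.leaf 0x3000739) (.leaf 0x47390042a5)) (.node (.leaf 0x1002655) (.leaf 0x64e5000001))) (.node (.node (.leaf 0x1001739) (.leaf 0x42a4005739)) (.node (.leaf 0x2fce001f72) (.leaf 0x0)))) (.node (.node (.node (.leaf 0xf39000d9f) (.leaf 0x43d2004f39)) (.node (.leaf 0x2f39001f72) (.leaf 0x6e0d000003))) (.node (.node (.leaf 0x2001f39) (.leaf 0x5e01000001)) (.node (.leaf 0x37260027e2) (.leaf 0x0)))))))) (.node (.node (.node (.node (.node (.node (.node (.leaf 0x10000b9)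 (.leaf 0x2c0b001652)) (.node (.leaf 0x1000fd5) (.leaf 0x5f2b000003))) (.node (.node (.leaf 0x1000969) (.leaf 0x439d0050b9)) (.node (.leaf 0x30b9001f72) (.leaf 0x7025000001)))) (.node (.node (.node (.leaf 0x10008b9) (.leaf 0x43c0004367)) (.node (.leaf 0x1002813) (.leaf 0x2006654))) (.node (.node (.leaf 0x20018b9) (.leaf 0x43ab0058b9)) (.node (.leaf 0x22c50038b9) (.leaf 0x0))))) (.node (.node (.node (.node (.leaf 0x10004b9) (.leaf 0x441e0043c1)) (.node (.leaf 0x20023a7) (.leaf 0x62a9000001))) (.node (.node (.leaf 0x14b9000003) (.leaf 0x42fa0054b9)) (.node (.leaf 0x2f39001f7b) (.leaf 0x0)))) (.node (.node (.node (.leaf 0xcb9000002) (.leaf 0x4cb90042fd)) (.node (.leaf 0x2cb9001f72) (.leaf 0x6aa1000003))) (.node (.node (.leaf 0x1cb9000001) (.leaf 0x5c13000001)) (.node (.leaf 0x3b0d00244c) (.leaf 0x0)))))) (.node (.node (.node (.node (.node (.leaf 0x2b9000003) (.leaf 0x42ac0042b3)) (.node (.leaf 0x10021e7) (.leaf 0x60c7000003))) (.node (.node (.leaf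 0x617000001) (.leaf 0x52b9004437)) (.node (.leaf 0x2c31000968) (.leaf 0x0)))) (.node (.node (.node (.leaf 0x3000ab9) (.leaf 0x432e0045fa)) (.node (.leaf 0x1f71002ab9) (.leaf 0x6864000003))) (.node (.node (.leaf 0x1001ab9) (.leaf 0x5ab9000003)) (.node (.leaf 0x30730023f0) (.leaf 0x0))))) (.node (.node (.node (.node (.leaf 0x20006b9) (.leaf 0x46b90043a8)) (.node (.leaf 0x10025b9) (.leaf 0x6471000003))) (.node (.node (.leaf 0x10016b9) (.leaf 0x56b9004402)) (.node (.leaf 0x24b1002efe) (.leaf 0x0)))) (.node (.node (.node (.leaf 0xeb9000002) (.leaf 0x4430004eb9)) (.node (.leaf 0x2199002eb9) (.leaf 0x6d45000003))) (.node (.node (.leaf 0x2001eb9) (.leaf 0x2005d9c)) (.node (.leaf 0x2beb00227d) (.leaf 0x0))))))) (.node (.node (.node (.node (.node (.node (.leaf 0x1b9000003) (.leaf 0x2c27000a0a)) (.node (.leaf 0x2000f43) (.leaf 0x5ff3000003))) (.node (.node (.leaf 0x11b9000003) (.leaf 0x47fc0043cf)) (.node (.leaf 0x1f7b0031b9) (.leaf 0x0)))) (.node (.node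 (.node (.leaf 0x9b9000001) (.leaf 0x49b90043a0)) (.node (.leaf 0x1f7b0029b9) (.leaf 0x675f000003))) (.node (.node (.leaf 0x20019b9) (.leaf 0x59b9000004)) (.node (.leaf 0x213b0033e6) (.leaf 0x0))))) (.node (.node (.node (.node (.leaf 0x20005b9) (.leaf 0x45b9004435)) (.node (.leaf 0x10024a1) (.leaf 0x6393000003))) (.node (.node (.leaf 0x15b9000002) (.leaf 0x441e004420)) (.node (.leaf 0x25002ef2) (.leaf 0x0)))) (.node (.node (.node (.leaf 0x457000003) (.leaf 0x4db90043aa)) (.node (.leaf 0x2db9001f72) (.leaf 0x6bdd000001))) (.node (.node (.leaf 0x2001db9) (.leaf 0x16a5000001)) (.node (.leaf 0x29e3002644) (.leaf 0x0)))))) (.node (.node (.node (.node (.node (.leaf 0x20003b9) (.leaf 0x43b30043b5)) (.node (.leaf 0x10022cf) (.leaf 0x61af000003))) (.node (.node (.leaf 0x13b9000003) (.leaf 0x42b30053ba)) (.node (.leaf 0x221d002a4e) (.leaf 0x0)))) (.node (.node (.node (.leaf 0x1000bb9) (.leaf 0x48950042ad)) (.node (.leaf 0x2bb9001f7b) (.leaf 0x697f000003)))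 (.node (.node (.leaf 0x1001bb9) (.leaf 0x5b5f000003)) (.node (.leaf 0x31150022e4) (.leaf 0x0))))) (.node (.node (.node (.node (.leaf 0x10007b9) (.leaf 0x200047b9)) (.node (.leaf 0x10026f3) (.leaf 0x100655c))) (.node (.node (.leaf 0x10017b9) (.leaf 0x43ff0057b9)) (.node (.leaf 0x2e13002408) (.leaf 0x0)))) (.node (.node (.node (.leaf 0xfb9000001) (.leaf 0x4fb9000072)) (.node (.leaf 0x20cb002fb9) (.leaf 0x6ec1000003))) (.node (.node (.leaf 0x2001fa1) (.leaf 0x5e61000001)) (.node (.leaf 0x2e91002154) (.leaf 0x0)))))))))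

/-- part -/
def slpT_111 : Tr Nat := (.node (.node (.node (.node (.node (.node (.node (.node (.leaf 0x2000079) (.leaf 0x377700266c)) (.node (.leaf 0x1002021) (.leaf 0x5ef1000003))) (.node (.node (.leaf 0x2001079) (.leaf 0x4401005079)) (.node (.leaf 0x3079001f72) (.leaf 0x6fc7000001)))) (.node (.node (.node (.leaf 0x1000879) (.leaf 0x42b3004879)) (.node (.leaf 0x10027c9) (.leaf 0x1006616))) (.node (.node (.leaf 0x1001879) (.leaf 0x5879004408)) (.node (.leaf 0x23c3002e30) (.leaf 0x0))))) (.node (.node (.node (.node (.leaf 0x3000479) (.leaf 0x43e0004479)) (.node (.leaf 0x100236b) (.leaf 0x6275000003))) (.node (.node (.leaf 0x1479000001) (.leaf 0x43d00044ff)) (.node (.leaf 0x2fd0000fd6) (.leaf 0x0)))) (.node (.node (.node (.leaf 0xc79000003) (.leaf 0x42f0004c79)) (.node (.leaf 0x2c79001f72) (.leaf 0x6a57000001))) (.node (.node (.leaf 0x1c79000001) (.leaf 0x5bdf000001)) (.node (.leaf 0x38410022fc) (.leaf 0x0)))))) (.node (.node (.node (.node (.node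 (.leaf 0x279000003) (.leaf 0x4277000003)) (.node (.leaf 0x10021af) (.leaf 0x608b000003))) (.node (.node (.leaf 0x1279000003) (.leaf 0x527900439a)) (.node (.leaf 0x1f710029ea) (.leaf 0x0)))) (.node (.node (.node (.leaf 0x1000a79) (.leaf 0x4438004a79)) (.node (.leaf 0x1f7b002a79) (.leaf 0x6823000001))) (.node (.node (.leaf 0x2001a79) (.leaf 0x5a79004437)) (.node (.leaf 0x2f350020b5) (.leaf 0x0))))) (.node (.node (.node (.node (.leaf 0x1000679) (.leaf 0x43f1004369)) (.node (.leaf 0x20023e0) (.leaf 0x617a000001))) (.node (.node (.leaf 0x1679000003) (.leaf 0x5679004408)) (.node (.leaf 0x1f7b002e83) (.leaf 0x0)))) (.node (.node (.node (.leaf 0xe79000003) (.leaf 0x4e7900428d)) (.node (.leaf 0x1f71002e79) (.leaf 0x6cf3000001))) (.node (.node (.leaf 0x2001e79) (.leaf 0x5d63000003)) (.node (.leaf 0x2e1b0027ba) (.leaf 0x0))))))) (.node (.node (.node (.node (.node (.node (.leaf 0x179000003) (.leaf 0x320e00285c)) (.node (.leaf 0x200208a) (.leaf 0x5fbf000003)))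 (.node (.node (.leaf 0x1179000001) (.leaf 0x4428005179)) (.node (.leaf 0x1fbf003179) (.leaf 0x0)))) (.node (.node (.node (.leaf 0x979000003) (.leaf 0x429a004979)) (.node (.leaf 0x1002937) (.leaf 0x6717000003))) (.node (.node (.leaf 0x3001979) (.leaf 0x59790043e1)) (.node (.leaf 0x22c9003310) (.leaf 0x0))))) (.node (.node (.node (.node (.leaf 0x2000579) (.leaf 0x457900428d)) (.node (.leaf 0x100245f) (.leaf 0x635b000003))) (.node (.node (.leaf 0x590000003) (.leaf 0x557900443b)) (.node (.leaf 0x299f003064) (.leaf 0x0)))) (.node (.node (.node (.leaf 0xd79000001) (.leaf 0x4d7900439c)) (.node (.leaf 0x21eb002c58) (.leaf 0x6b97000001))) (.node (.node (.leaf 0x1001d79) (.leaf 0x5caf000003)) (.node (.leaf 0x3218001fe6) (.leaf 0x0)))))) (.node (.node (.node (.node (.node (.leaf 0x1000379) (.leaf 0x4366004372)) (.node (.leaf 0x2002298) (.leaf 0x616f000003))) (.node (.node (.leaf 0x1379000003) (.leaf 0x4405005379)) (.node (.leaf 0x1f71003379) (.leaf 0x0))))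 (.node (.node (.node (.leaf 0x1000b79) (.leaf 0x4b79004301)) (.node (.leaf 0x1f71002b79) (.leaf 0x6931000003))) (.node (.node (.leaf 0x1001b79) (.leaf 0x225d000003)) (.node (.leaf 0x3150001f7b) (.leaf 0x0))))) (.node (.node (.node (.node (.leaf 0x10002fe) (.leaf 0x4779000023)) (.node (.leaf 0x26a2000003) (.leaf 0x651d000003))) (.node (.node (.leaf 0x3001779) (.leaf 0x436a0043ba)) (.node (.leaf 0x35aa001f72) (.leaf 0x0)))) (.node (.node (.node (.leaf 0xf79000003) (.leaf 0x4f79004402)) (.node (.leaf 0x2603002c20) (.leaf 0x6e51000003))) (.node (.node (.leaf 0x1001f79) (.leaf 0x5e2c000001)) (.node (.leaf 0x3303000fd9) (.leaf 0x0)))))))) (.node (.node (.node (.node (.node (.node (.node (.leaf 0x20000f9) (.leaf 0x2c7d000187)) (.node (.leaf 0x2002083) (.leaf 0x5f5d000003))) (.node (.node (.leaf 0x30010f9) (.leaf 0x43f1004423)) (.node (.leaf 0x1f710030f9) (.leaf 0x70a9000001)))) (.node (.node (.node (.leaf 0x10008f9) (.leaf 0x441f0043ee)) (.node (.leaf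 0x100286d) (.leaf 0x669d000003))) (.node (.node (.leaf 0x20018f9) (.leaf 0x442e0058f9)) (.node (.leaf 0x21c7002ae8) (.leaf 0x0))))) (.node (.node (.node (.node (.leaf 0x20004f9) (.leaf 0x44f90043a8)) (.node (.leaf 0x20023e1) (.leaf 0x62e7000001))) (.node (.node (.leaf 0x14f9000001) (.leaf 0x43ff0054fa)) (.node (.leaf 0x1f7b002b65) (.leaf 0x0)))) (.node (.node (.node (.leaf 0xcf9000001) (.leaf 0x4cf90042ef)) (.node (.leaf 0x2b9200018a) (.leaf 0x6af1000003))) (.node (.node (.leaf 0x1cf9000003) (.leaf 0x5c45000003)) (.node (.leaf 0x2ad700233c) (.leaf 0x0)))))) (.node (.node (.node (.node (.node (.leaf 0x2f9000003) (.leaf 0x210042e5)) (.node (.leaf 0x1002224) (.leaf 0x60f9000003))) (.node (.node (.leaf 0x12f9000001) (.leaf 0x52f90043aa)) (.node (.leaf 0x2d5e001f72) (.leaf 0x0)))) (.node (.node (.node (.leaf 0x1000af9) (.leaf 0x43c8004367)) (.node (.leaf 0x2af9001f7b) (.leaf 0x68a6000001))) (.node (.node (.leaf 0x2001af9) (.leaf 0x2005ae3)) (.node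 (.leaf 0x3137001fb6) (.leaf 0x0))))) (.node (.node (.node (.node (.leaf 0x20006f9) (.leaf 0x46f90042ff)) (.node (.leaf 0x1002607) (.leaf 0x64a5000003))) (.node (.node (.leaf 0x20016f9) (.leaf 0x56f900439a)) (.node (.leaf 0x258b002b16) (.leaf 0x0)))) (.node (.node (.node (.leaf 0xef9000003) (.leaf 0x43e2004ef9)) (.node (.leaf 0x2ef9001f7b) (.leaf 0x6dbf000001))) (.node (.node (.leaf 0x1001ef9) (.leaf 0x5dcb000001)) (.node (.leaf 0x2d4d0027e2) (.leaf 0x0))))))) (.node (.node (.node (.node (.node (.node (.leaf 0x30001f9) (.leaf 0x2fca0023d8)) (.node (.leaf 0x100213d) (.leaf 0x6029000001))) (.node (.node (.leaf 0x11f9000002) (.leaf 0x43990051f9)) (.node (.leaf 0x1f710031f9) (.leaf 0x0)))) (.node (.node (.node (.leaf 0x9f9000003) (.leaf 0x43280049c9)) (.node (.leaf 0x29f9001f72) (.leaf 0x67a2000003))) (.node (.node (.leaf 0x20019f9) (.leaf 0x59f9004439)) (.node (.leaf 0x218b002e43) (.leaf 0x0))))) (.node (.node (.node (.node (.leaf 0x20005f9) (.leaf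 0x42ad0045f9)) (.node (.leaf 0x20024e5) (.leaf 0x63c7000001))) (.node (.node (.leaf 0x15f9000001) (.leaf 0x55f9004402)) (.node (.leaf 0xc330030ca) (.leaf 0x0)))) (.node (.node (.node (.leaf 0xdf9000001) (.leaf 0x4df9000001)) (.node (.leaf 0x2df900247e) (.leaf 0x6c49000001))) (.node (.node (.leaf 0x2001df9) (.leaf 0x5d01000003)) (.node (.leaf 0x38be0021b9) (.leaf 0x0)))))) (.node (.node (.node (.node (.node (.leaf 0x3f9000002) (.leaf 0x43ee00436a)) (.node (.leaf 0x1002303) (.leaf 0x61f1000003))) (.node (.node (.leaf 0x13f9000002) (.leaf 0x429c0053f9)) (.node (.leaf 0x33f9001f72) (.leaf 0x0)))) (.node (.node (.node (.leaf 0xbf9000003) (.leaf 0x4499004326)) (.node (.leaf 0x2bf9001f72) (.leaf 0x69c9000003))) (.node (.node (.leaf 0x2001bf9) (.leaf 0x14bf000001)) (.node (.leaf 0x2c1b00282a) (.leaf 0x0))))) (.node (.node (.node (.node (.leaf 0x20007f9) (.leaf 0x44210043b5)) (.node (.leaf 0x1002742) (.leaf 0x2006598))) (.node (.node (.leaf 0x20017f9)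 (.leaf 0x57f9004408)) (.node (.leaf 0x2719002cae) (.leaf 0x0)))) (.node (.node (.node (.leaf 0x2000ff9) (.leaf 0x1004ff9)) (.node (.leaf 0x1f71002ff9) (.leaf 0x6f15000003))) (.node (.node (.leaf 0x1fd0000001) (.leaf 0x5e8c000001)) (.node (.leaf 0x3c030024a6) (.leaf 0x0)))))))))

/-- part -/
def slpT_112 : Tr Nat := (.node (.node (.node (.node (.node (.node (.node (.node (.leaf 0x1000006) (.leaf 0x2e21002173)) (.node (.leaf 0x1001fd9) (.leaf 0x5e96000003))) (.node (.node (.leaf 0x3001005) (.leaf 0x43b5004386)) (.node (.leaf 0x2047002cac) (.leaf 0x6f23000003)))) (.node (.node (.node (.leaf 0x1000805) (.leaf 0x42e8004805)) (.node (.leaf 0x200274c) (.leaf 0x10065a4))) (.node (.node (.leaf 0x2001805) (.leaf 0x509200432f)) (.node (.leaf 0x21a1002eaf) (.leaf 0x0))))) (.node (.node (.node (.node (.leaf 0x405000003) (.leaf 0x43ee000073)) (.node (.leaf 0x200230d) (.leaf 0x61f9000001))) (.node (.node (.leaf 0x1405000003) (.leaf 0x42b1005405)) (.node (.leaf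 0x3405001f72) (.leaf 0x0)))) (.node (.node (.node (.leaf 0xc05000002) (.leaf 0x4c05000002)) (.node (.leaf 0x2c05001f7b) (.leaf 0x69d7000003))) (.node (.node (.leaf 0x2001c05) (.leaf 0x5b9b000003)) (.node (.leaf 0x2c15002016) (.leaf 0x0)))))) (.node (.node (.node (.node (.node (.leaf 0x10000c0) (.leaf 0x2a5c00295e)) (.node (.leaf 0x2002147) (.leaf 0x6031000001))) (.node (.node (.leaf 0x1205000003) (.leaf 0x43bc00443e)) (.node (.leaf 0x20af002a6d) (.leaf 0x0)))) (.node (.node (.node (.leaf 0xa05000003) (.leaf 0x4302004a05)) (.node (.leaf 0x29b4001f7b) (.leaf 0x67b0000003))) (.node (.node (.leaf 0x2001a05) (.leaf 0x4e26004386)) (.node (.leaf 0x218b002c72) (.leaf 0x0))))) (.node (.node (.node (.node (.leaf 0x2000605) (.leaf 0x42e4004605)) (.node (.leaf 0x20024f1) (.leaf 0x63d1000001))) (.node (.node (.leaf 0x1605000001) (.leaf 0x55ba00432f)) (.node (.leaf 0xc33003605) (.leaf 0x0)))) (.node (.node (.node (.leaf 0xe05000001) (.leaf 0x4e0500428c)) (.node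 (.leaf 0x2b19001f7b) (.leaf 0x6c55000003))) (.node (.node (.leaf 0x2001e05) (.leaf 0x5d07000001)) (.node (.leaf 0x30240021b9) (.leaf 0x0))))))) (.node (.node (.node (.node (.node (.node (.leaf 0x2000105) (.leaf 0x302400251c)) (.node (.leaf 0x2002091) (.leaf 0x5f67000001))) (.node (.node (.leaf 0x2001105) (.leaf 0x510500428b)) (.node (.leaf 0x3105001f72) (.leaf 0x70cf000001)))) (.node (.node (.node (.leaf 0x1000905) (.leaf 0x42f0004905)) (.node (.leaf 0x1002877) (.leaf 0x66a5000001))) (.node (.node (.leaf 0x1001905) (.leaf 0x59050042a5)) (.node (.leaf 0x21c7003730) (.leaf 0x0))))) (.node (.node (.node (.node (.leaf 0x2000505) (.leaf 0x4505004406)) (.node (.leaf 0x20023ef) (.leaf 0x62ef000003))) (.node (.node (.leaf 0x1505000002) (.leaf 0x4399005505)) (.node (.leaf 0x1f7b002d22) (.leaf 0x0)))) (.node (.node (.node (.leaf 0xd05000002) (.leaf 0x4d05004359)) (.node (.leaf 0x2c1b0021ec) (.leaf 0x6afd000003))) (.node (.node (.leaf 0x1d05000003) (.leaf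 0x28c9000003)) (.node (.leaf 0x2b6e00233c) (.leaf 0x0)))))) (.node (.node (.node (.node (.node (.leaf 0x305000001) (.leaf 0x42fb0042e5)) (.node (.leaf 0x1002230) (.leaf 0x6105000003))) (.node (.node (.leaf 0x1305000001) (.leaf 0x43ba0043c1)) (.node (.leaf 0x323a002130) (.leaf 0x0)))) (.node (.node (.node (.leaf 0x1000b05) (.leaf 0x42e6004b05)) (.node (.leaf 0x2b05001f72) (.leaf 0x68b0000001))) (.node (.node (.leaf 0x1001b05) (.leaf 0x1005ae9)) (.node (.leaf 0x342100266e) (.leaf 0x0))))) (.node (.node (.node (.node (.leaf 0x2000705) (.leaf 0x47050043e3)) (.node (.leaf 0x1002623) (.leaf 0x64b1000001))) (.node (.node (.leaf 0x2001705) (.leaf 0x57050042ac)) (.node (.leaf 0x258b002bb8) (.leaf 0x0)))) (.node (.node (.node (.leaf 0xf05000001) (.leaf 0x42ae0047fc)) (.node (.leaf 0x2f05001f72) (.leaf 0x6dd5000003))) (.node (.node (.leaf 0x2001f05) (.leaf 0x236f000003)) (.node (.leaf 0x33320027e2) (.leaf 0x0)))))))) (.node (.node (.node (.node (.node (.node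 (.node (.leaf 0x2000085) (.leaf 0x2c3300266c)) (.node (.leaf 0x200202d) (.leaf 0x5efd000001))) (.node (.node (.leaf 0x1001085) (.leaf 0x42cc005085)) (.node (.leaf 0x3066001f72) (.leaf 0x6fd9000001)))) (.node (.node (.node (.leaf 0x1000885) (.leaf 0x428e004885)) (.node (.leaf 0x20027d5) (.leaf 0x1006624))) (.node (.node (.leaf 0x3001885) (.leaf 0x5885004353)) (.node (.leaf 0x23c3003885) (.leaf 0x0))))) (.node (.node (.node (.node (.leaf 0x2000485) (.leaf 0x44850042a5)) (.node (.leaf 0x1002375) (.leaf 0x627f000003))) (.node (.node (.leaf 0x1485000001) (.leaf 0x42af005485)) (.node (.leaf 0x2b5a001f72) (.leaf 0x0)))) (.node (.node (.node (.leaf 0xc85000003) (.leaf 0x4c85004303)) (.node (.leaf 0x2c85001f72) (.leaf 0x6a69000003))) (.node (.node (.leaf 0x1c85000003) (.leaf 0x5beb000003)) (.node (.leaf 0x33090022e2) (.leaf 0x0)))))) (.node (.node (.node (.node (.node (.leaf 0x285000003) (.leaf 0x1f90000021)) (.node (.leaf 0x21b6000001) (.leaf 0x6099000001)))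 (.node (.node (.leaf 0x1285000d8f) (.leaf 0x4401005285)) (.node (.leaf 0x1f7b002a08) (.leaf 0x0)))) (.node (.node (.node (.leaf 0x2000a85) (.leaf 0x442e004a85)) (.node (.leaf 0x1f710029e4) (.leaf 0x682b000001))) (.node (.node (.leaf 0x2001a85) (.leaf 0x4559004400)) (.node (.leaf 0x39ce002105) (.leaf 0x0))))) (.node (.node (.node (.node (.leaf 0x1000685) (.leaf 0x4685004429)) (.node (.leaf 0x1002581) (.leaf 0x6443000003))) (.node (.node (.leaf 0x2001685) (.leaf 0x5685004400)) (.node (.leaf 0x4d003581) (.leaf 0x0)))) (.node (.node (.node (.leaf 0xe85000003) (.leaf 0x4e85004275)) (.node (.leaf 0x1f7b002e85) (.leaf 0x6cff000003))) (.node (.node (.leaf 0x2001e85) (.leaf 0x22c9000003)) (.node (.leaf 0x2c750020e4) (.leaf 0x0))))))) (.node (.node (.node (.node (.node (.node (.leaf 0xeb000001) (.leaf 0x2c4500285c)) (.node (.leaf 0x10020f9) (.leaf 0x5fc7000003))) (.node (.node (.leaf 0x1185000001) (.leaf 0x4432005185)) (.node (.leaf 0x1fbf002a08) (.leaf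 0x0)))) (.node (.node (.node (.leaf 0x985000003) (.leaf 0x4428004985)) (.node (.leaf 0x2002949) (.leaf 0x6727000001))) (.node (.node (.leaf 0x2001985) (.leaf 0x5985004388)) (.node (.leaf 0x22c90033b7) (.leaf 0x0))))) (.node (.node (.node (.node (.leaf 0x2000585) (.leaf 0x4585004408)) (.node (.leaf 0x200246b) (.leaf 0x6363000003))) (.node (.node (.leaf 0x1585000002) (.leaf 0x460d0042ad)) (.node (.leaf 0x26d9002e3d) (.leaf 0x0)))) (.node (.node (.node (.leaf 0x2000d86) (.leaf 0x453e004422)) (.node (.leaf 0x1f71002caa) (.leaf 0x6ba7000001))) (.node (.node (.leaf 0x3001d85) (.leaf 0x5cb5000001)) (.node (.leaf 0x39540001fb) (.leaf 0x0)))))) (.node (.node (.node (.node (.node (.leaf 0x2000385) (.leaf 0x4324004383)) (.node (.leaf 0x20022a5) (.leaf 0x617b000001))) (.node (.node (.leaf 0x1385000003) (.leaf 0x4328004526)) (.node (.leaf 0x207f003084) (.leaf 0x0)))) (.node (.node (.node (.leaf 0x2000b85) (.leaf 0x43f900442f)) (.node (.leaf 0x1f71002b85)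 (.leaf 0x6947000003))) (.node (.node (.leaf 0x1001b85) (.leaf 0x2239000003)) (.node (.leaf 0x327200018f) (.leaf 0x0))))) (.node (.node (.node (.node (.leaf 0x1000785) (.leaf 0x449a00436d)) (.node (.leaf 0x20026b7) (.leaf 0x1006532))) (.node (.node (.leaf 0x2001785) (.leaf 0x4389005785)) (.node (.leaf 0x3284000054) (.leaf 0x0)))) (.node (.node (.node (.leaf 0xf85000001) (.leaf 0x4f85000001)) (.node (.leaf 0x2603002f85) (.leaf 0x6e69000003))) (.node (.node (.leaf 0x10003a5) (.leaf 0x5e38000001)) (.node (.leaf 0x30a700286e) (.leaf 0x0)))))))))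

/-- part -/
def slpT_113 : Tr Nat := (.node (.node (.node (.node (.node (.node (.node (.node (.leaf 0x1000045) (.leaf 0x396a00266c)) (.node (.leaf 0x2001b2c) (.leaf 0x5ec6000001))) (.node (.node (.leaf 0x2001045) (.leaf 0x43bf004349)) (.node (.leaf 0x211d002c10) (.leaf 0x6f85000003)))) (.node (.node (.node (.leaf 0x3000845) (.leaf 0x48450042b0)) (.node (.leaf 0x200278f) (.leaf 0x65e1000001))) (.node (.node (.leaf 0x1001845) (.leaf 0x58450042e7)) (.node (.leaf 0x30ab001f7b) (.leaf 0x0))))) (.node (.node (.node (.node (.leaf 0x1000445) (.leaf 0x443a004445)) (.node (.leaf 0x2002345) (.leaf 0x623d000003))) (.node (.node (.leaf 0x1445000002) (.leaf 0x439d005445)) (.node (.leaf 0x3445001f72) (.leaf 0x0)))) (.node (.node (.node (.leaf 0xc45000001) (.leaf 0x4c4500003e)) (.node (.leaf 0x2c45001f72) (.leaf 0x6a17000003))) (.node (.node (.leaf 0x1c45000001) (.leaf 0x51b8000001)) (.node (.leaf 0x2d21000fda) (.leaf 0x0)))))) (.node (.node (.node (.node (.node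 (.leaf 0x245000001) (.leaf 0x339e00203c)) (.node (.leaf 0x100217b) (.leaf 0x5da6000001))) (.node (.node (.leaf 0x1245000003) (.leaf 0x4370004460)) (.node (.leaf 0x1f71003245) (.leaf 0x0)))) (.node (.node (.node (.leaf 0x1000a45) (.leaf 0x4300004a45)) (.node (.leaf 0x1f7b002a45) (.leaf 0x67e8000003))) (.node (.node (.leaf 0x3001a45) (.leaf 0x5a4500428d)) (.node (.leaf 0x2b5800218a) (.leaf 0x0))))) (.node (.node (.node (.node (.leaf 0x2000645) (.leaf 0x464500443b)) (.node (.leaf 0x2002535) (.leaf 0x640f000003))) (.node (.node (.leaf 0x1645000003) (.leaf 0x56450042fb)) (.node (.leaf 0x4d003645) (.leaf 0x0)))) (.node (.node (.node (.leaf 0xe45000003) (.leaf 0x4e45000023)) (.node (.leaf 0x1f7b002e45) (.leaf 0x6cab000003))) (.node (.node (.leaf 0x1e45000001) (.leaf 0x2005d36)) (.node (.leaf 0x37f40001d0) (.leaf 0x0))))))) (.node (.node (.node (.node (.node (.node (.leaf 0x145000003) (.leaf 0x30ec0023b2)) (.node (.leaf 0x10020cf) (.leaf 0x5f93000001)))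 (.node (.node (.leaf 0x1145000001) (.leaf 0x4312005145)) (.node (.leaf 0x1f7b002dba) (.leaf 0x0)))) (.node (.node (.node (.leaf 0x2000945) (.leaf 0x43260044fc)) (.node (.leaf 0x20028e3) (.leaf 0x66e1000001))) (.node (.node (.leaf 0x1001945) (.leaf 0x5945000074)) (.node (.leaf 0x1f7100352d) (.leaf 0x0))))) (.node (.node (.node (.node (.leaf 0x3000545) (.leaf 0x43ce004373)) (.node (.leaf 0x2002429) (.leaf 0x6329000003))) (.node (.node (.leaf 0x1545000001) (.leaf 0x436c00462b)) (.node (.leaf 0x299f002a06) (.leaf 0x0)))) (.node (.node (.node (.leaf 0xd45000003) (.leaf 0x4d45000004)) (.node (.leaf 0x2d4500018a) (.leaf 0x6b49000003))) (.node (.node (.leaf 0x1d45000001) (.leaf 0x5c85000001)) (.node (.leaf 0x2ca90024e2) (.leaf 0x0)))))) (.node (.node (.node (.node (.node (.leaf 0x1000345) (.leaf 0x433d0042ad)) (.node (.leaf 0x200221d) (.leaf 0x613f000001))) (.node (.node (.leaf 0x1345000001) (.leaf 0x42af005345)) (.node (.leaf 0x237d003345) (.leaf 0x0))))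 (.node (.node (.node (.leaf 0x2000b45) (.leaf 0x4b4500428d)) (.node (.leaf 0x1f71002b45) (.leaf 0x68ef000003))) (.node (.node (.leaf 0x3001b45) (.leaf 0x1d5000003)) (.node (.leaf 0x32360022b8) (.leaf 0x0))))) (.node (.node (.node (.node (.leaf 0x2000745) (.leaf 0x4745004431)) (.node (.leaf 0x2664000001) (.leaf 0x64eb000003))) (.node (.node (.leaf 0x1001745) (.leaf 0x43a9005745)) (.node (.leaf 0x311d001f72) (.leaf 0x0)))) (.node (.node (.node (.leaf 0x11000001) (.leaf 0x20004f45)) (.node (.leaf 0x2f45001f7b) (.leaf 0x6e1f000001))) (.node (.node (.leaf 0x1f45000001) (.leaf 0x5e09000001)) (.node (.leaf 0x396c000fd9) (.leaf 0x0)))))))) (.node (.node (.node (.node (.node (.node (.node (.leaf 0x10000c5) (.leaf 0x3268002278)) (.node (.leaf 0x1002057) (.leaf 0x5f33000003))) (.node (.node (.leaf 0x10010c5) (.leaf 0x43e20050c5)) (.node (.leaf 0x2a2b001f7b) (.leaf 0x7037000001)))) (.node (.node (.node (.leaf 0x10008c5) (.leaf 0x42af0048c5)) (.node (.leaf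 0x200281d) (.leaf 0x2006660))) (.node (.node (.leaf 0x20018c5) (.leaf 0x44010058c5)) (.node (.leaf 0x1f71002c34) (.leaf 0x0))))) (.node (.node (.node (.node (.leaf 0x20004c5) (.leaf 0x44c5004431)) (.node (.leaf 0x20023b1) (.leaf 0x62af000003))) (.node (.node (.leaf 0x14c5000001) (.leaf 0x44050054c5)) (.node (.leaf 0x1f710034ac) (.leaf 0x0)))) (.node (.node (.node (.leaf 0xcc5000003) (.leaf 0x4cc5000001)) (.node (.leaf 0x2aa00029ac) (.leaf 0x5702000001))) (.node (.node (.leaf 0x1cc5000001) (.leaf 0x5c1d000003)) (.node (.leaf 0x2beb00244c) (.leaf 0x0)))))) (.node (.node (.node (.node (.node (.leaf 0x2c5000001) (.leaf 0x42c1000021)) (.node (.leaf 0x20021ef) (.leaf 0x60cf000001))) (.node (.node (.leaf 0x12c5000001) (.leaf 0x52c50043aa)) (.node (.leaf 0x3053000968) (.leaf 0x0)))) (.node (.node (.node (.leaf 0x2000ac5) (.leaf 0x4ac5004435)) (.node (.leaf 0x1f71002ac5) (.leaf 0x6872000003))) (.node (.node (.leaf 0x1001ac5) (.leaf 0x1f8d000003)) (.node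 (.leaf 0x2d290023f0) (.leaf 0x0))))) (.node (.node (.node (.node (.leaf 0x30006c5) (.leaf 0x437d0043d3)) (.node (.leaf 0x20025c7) (.leaf 0x622e000001))) (.node (.node (.leaf 0x20016c5) (.leaf 0x4ab200442b)) (.node (.leaf 0x1f7b002f14) (.leaf 0x0)))) (.node (.node (.node (.leaf 0xec5000003) (.leaf 0x42f8004ec5)) (.node (.leaf 0x1f71002ec5) (.leaf 0x6d5f000001))) (.node (.node (.leaf 0x1001ec5) (.leaf 0x2005da8)) (.node (.leaf 0x2e3e002456) (.leaf 0x0))))))) (.node (.node (.node (.node (.node (.node (.leaf 0x1c5000001) (.leaf 0x2bc70019d9)) (.node (.leaf 0x2002070) (.leaf 0x5ffd000003))) (.node (.node (.leaf 0x11c5000001) (.leaf 0x51c50042ed)) (.node (.leaf 0x1f7b002e43) (.leaf 0x0)))) (.node (.node (.node (.leaf 0x9c5000003) (.leaf 0x49c50043aa)) (.node (.leaf 0x1f710029c5) (.leaf 0x6769000003))) (.node (.node (.leaf 0x20019c5) (.leaf 0x59c50042ef)) (.node (.leaf 0x213b00329a) (.leaf 0x0))))) (.node (.node (.node (.node (.leaf 0x10005c5) (.leaf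 0x45c5004301)) (.node (.leaf 0x20024a9) (.leaf 0x6399000003))) (.node (.node (.leaf 0x15c5000003) (.leaf 0x55c50043d7)) (.node (.leaf 0x25002c4e) (.leaf 0x0)))) (.node (.node (.node (.leaf 0xdc5000002) (.leaf 0x4366004369)) (.node (.leaf 0x2a2700236e) (.leaf 0x6bf9000001))) (.node (.node (.leaf 0x2001dc5) (.leaf 0x5ce1000003)) (.node (.leaf 0x349f0025c0) (.leaf 0x0)))))) (.node (.node (.node (.node (.node (.leaf 0x20003c5) (.leaf 0x43bf0043b4)) (.node (.leaf 0x20022d7) (.leaf 0x61c1000003))) (.node (.node (.leaf 0x13c5000003) (.leaf 0x43d0004380)) (.node (.leaf 0x1f710033c5) (.leaf 0x0)))) (.node (.node (.node (.leaf 0x2000bc5) (.leaf 0x4bc500428f)) (.node (.leaf 0x2bc5001f72) (.leaf 0x698b000001))) (.node (.node (.leaf 0x1001bc5) (.leaf 0x5b6d000003)) (.node (.leaf 0x2bc30022e4) (.leaf 0x0))))) (.node (.node (.node (.node (.leaf 0x10007c5) (.leaf 0x43a70047c5)) (.node (.leaf 0x20026fd) (.leaf 0x100656a))) (.node (.node (.leaf 0x20017c5) (.leaf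 0x30057c5)) (.node (.leaf 0x34c4002408) (.leaf 0x0)))) (.node (.node (.node (.leaf 0xfc5000001) (.leaf 0x4fc5004400)) (.node (.leaf 0x1f7b002a10) (.leaf 0x6ed5000003))) (.node (.node (.leaf 0x1001fa9) (.leaf 0x5e68000003)) (.node (.leaf 0x36ee0020f8) (.leaf 0x0)))))))))

/-- part -/
def slpT_114 : Tr Nat := (.node (.node (.node (.node (.node (.node (.node (.node (.leaf 0x25000003) (.leaf 0x2d7600266c)) (.node (.leaf 0x2000f3f) (.leaf 0x5eb0000003))) (.node (.node (.leaf 0x1001025) (.leaf 0x50250043a8)) (.node (.leaf 0x1f71003025) (.leaf 0x6f45000003)))) (.node (.node (.node (.leaf 0x1000825) (.leaf 0x43260044e8)) (.node (.leaf 0x1002770) (.leaf 0x65c3000003))) (.node (.node (.leaf 0x2001825) (.leaf 0x5825004386)) (.node (.leaf 0x269b002ddd) (.leaf 0x0))))) (.node (.node (.node (.node (.leaf 0x2000425) (.leaf 0x42ae00441b)) (.node (.leaf 0x200232d) (.leaf 0x6217000003))) (.node (.node (.leaf 0x1425000001) (.leaf 0x3005425)) (.node (.leaf 0x2a6a002020)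 (.leaf 0x0)))) (.node (.node (.node (.leaf 0xc25000001) (.leaf 0x4c250042e9)) (.node (.leaf 0x2c25001f72) (.leaf 0x69f7000003))) (.node (.node (.leaf 0x2001c25) (.leaf 0x21a7000003)) (.node (.leaf 0x2d230020aa) (.leaf 0x0)))))) (.node (.node (.node (.node (.node (.leaf 0x225000001) (.leaf 0x2fb000297e)) (.node (.leaf 0x215c000001) (.leaf 0x604d000003))) (.node (.node (.leaf 0x1225000001) (.leaf 0x442a00505f)) (.node (.leaf 0x1f71003225) (.leaf 0x0)))) (.node (.node (.node (.leaf 0x1000a25) (.leaf 0x442e004a25)) (.node (.leaf 0x2a25001f72) (.leaf 0x67ce000001))) (.node (.node (.leaf 0x2001a25) (.leaf 0x5a250042ed)) (.node (.leaf 0x1f71003249) (.leaf 0x0))))) (.node (.node (.node (.node (.leaf 0x2000625) (.leaf 0x42f8004625)) (.node (.leaf 0x200250f) (.leaf 0x63ef000001))) (.node (.node (.leaf 0x1625000003) (.leaf 0x47900043f8)) (.node (.leaf 0x1f7100334b) (.leaf 0x0)))) (.node (.node (.node (.leaf 0xe25000003) (.leaf 0x4430004e25)) (.node (.leaf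 0x2e25001f72) (.leaf 0x6c83000003))) (.node (.node (.leaf 0x1e25000003) (.leaf 0x1005d20)) (.node (.leaf 0x347d002220) (.leaf 0x0))))))) (.node (.node (.node (.node (.node (.node (.leaf 0x2000125) (.leaf 0x2a2b0021e8)) (.node (.leaf 0x10020b3) (.leaf 0x5f7d000003))) (.node (.node (.leaf 0x1125000001) (.leaf 0x4328004c68)) (.node (.leaf 0x31130021aa) (.leaf 0x0)))) (.node (.node (.node (.leaf 0x2000925) (.leaf 0x4434004925)) (.node (.leaf 0x10028ad) (.leaf 0x66c3000003))) (.node (.node (.leaf 0x2001925) (.leaf 0x592500429b)) (.node (.leaf 0x13e0030ba) (.leaf 0x0))))) (.node (.node (.node (.node (.leaf 0x1000525) (.leaf 0x43ff004525)) (.node (.leaf 0x2000c47) (.leaf 0x630f000001))) (.node (.node (.leaf 0x1525000001) (.leaf 0x428a005525)) (.node (.leaf 0x2200003231) (.leaf 0x0)))) (.node (.node (.node (.leaf 0xd25000001) (.leaf 0x4d250042e9)) (.node (.leaf 0x2c4f002972) (.leaf 0x6b1d000003))) (.node (.node (.leaf 0x1d25000003) (.leaf 0x1c45000003))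 (.node (.leaf 0x332d002552) (.leaf 0x0)))))) (.node (.node (.node (.node (.node (.leaf 0x325000002) (.leaf 0x4325004325)) (.node (.leaf 0x200224f) (.leaf 0x6125000003))) (.node (.node (.leaf 0x1325000002) (.leaf 0x42af005325)) (.node (.leaf 0x3325001f72) (.leaf 0x0)))) (.node (.node (.node (.leaf 0x3000b25) (.leaf 0x43fd004b25)) (.node (.leaf 0x2b25001f7b) (.leaf 0x68cc000001))) (.node (.node (.leaf 0x1001b25) (.leaf 0x20019d7)) (.node (.leaf 0x2bd500276b) (.leaf 0x0))))) (.node (.node (.node (.node (.leaf 0x2000725) (.leaf 0x430e004725)) (.node (.leaf 0x20022d4) (.leaf 0x64d3000003))) (.node (.node (.leaf 0x1001725) (.leaf 0x572500430f)) (.node (.leaf 0x2139002a8d) (.leaf 0x0)))) (.node (.node (.node (.leaf 0xf25000001) (.leaf 0x4409004f25)) (.node (.leaf 0x2f25000020) (.leaf 0x6df1000003))) (.node (.node (.leaf 0x2001f25) (.leaf 0x5df1000001)) (.node (.leaf 0x2f470027e2) (.leaf 0x0)))))))) (.node (.node (.node (.node (.node (.node (.node (.leaf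 0xa5000001) (.leaf 0x2ae70021b4)) (.node (.leaf 0x1002043) (.leaf 0x5f21000001))) (.node (.node (.leaf 0x10010a5) (.leaf 0x42ee0050a5)) (.node (.leaf 0x3086001f7b) (.leaf 0x700b000003)))) (.node (.node (.node (.leaf 0x10008a5) (.leaf 0x436c0043b5)) (.node (.leaf 0x20027ff) (.leaf 0x1006640))) (.node (.node (.leaf 0x30018a5) (.leaf 0x58a5004439)) (.node (.leaf 0x27cd002c76) (.leaf 0x0))))) (.node (.node (.node (.node (.leaf 0x20004a5) (.leaf 0x44a5004325)) (.node (.leaf 0x200238b) (.leaf 0x6299000003))) (.node (.node (.leaf 0x14a5000003) (.leaf 0x42ae005274)) (.node (.leaf 0x31e0001f72) (.leaf 0x0)))) (.node (.node (.node (.leaf 0xca5000003) (.leaf 0x4ca50042c1)) (.node (.leaf 0x2a7a001f72) (.leaf 0x6a8d000001))) (.node (.node (.leaf 0x1ca5000002) (.leaf 0x5c01000003)) (.node (.leaf 0x36c400244c) (.leaf 0x0)))))) (.node (.node (.node (.node (.node (.leaf 0x2a5000003) (.leaf 0x250600428b)) (.node (.leaf 0x10021d5) (.leaf 0x60b5000001))) (.node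 (.node (.leaf 0x12a5000003) (.leaf 0x428a0052a5)) (.node (.leaf 0x29ef001f72) (.leaf 0x0)))) (.node (.node (.node (.leaf 0x1000aa5) (.leaf 0x42f8004aa5)) (.node (.leaf 0x1f7b002aa5) (.leaf 0x684d000003))) (.node (.node (.leaf 0x2001aa5) (.leaf 0x5aa5000004)) (.node (.leaf 0x384100249c) (.leaf 0x0))))) (.node (.node (.node (.node (.leaf 0x20006a5) (.leaf 0x46a50043a2)) (.node (.leaf 0x100259f) (.leaf 0x645f000001))) (.node (.node (.leaf 0x10016a5) (.leaf 0x476b004388)) (.node (.leaf 0x24b1002ae6) (.leaf 0x0)))) (.node (.node (.node (.leaf 0xea5000001) (.leaf 0x4ea50042fb)) (.node (.leaf 0x1f71002ea5) (.leaf 0x6d23000003))) (.node (.node (.leaf 0x1001ea5) (.leaf 0x1005d88)) (.node (.leaf 0x34e8002089) (.leaf 0x0))))))) (.node (.node (.node (.node (.node (.node (.leaf 0x1a5000001) (.leaf 0x2d1b001faa)) (.node (.leaf 0x2002062) (.leaf 0x5fe7000001))) (.node (.node (.leaf 0x11a5000001) (.leaf 0x730051a5)) (.node (.leaf 0x1f710031a5) (.leaf 0x0))))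 (.node (.node (.node (.leaf 0x9a5000003) (.leaf 0x20049a5)) (.node (.leaf 0x2002995) (.leaf 0x674b000001))) (.node (.node (.leaf 0x19a30019a5) (.leaf 0x59a5004402)) (.node (.leaf 0x2627003037) (.leaf 0x0))))) (.node (.node (.node (.node (.leaf 0x20005a5) (.leaf 0x45a5004422)) (.node (.leaf 0x100248f) (.leaf 0x637f000003))) (.node (.node (.leaf 0x15a5000001) (.leaf 0x4fc400428d)) (.node (.leaf 0x26d90035a5) (.leaf 0x0)))) (.node (.node (.node (.leaf 0xda5000001) (.leaf 0x4da5000021)) (.node (.leaf 0x2aaa001f72) (.leaf 0x6bc5000003))) (.node (.node (.leaf 0x1001da5) (.leaf 0x23e9000003)) (.node (.leaf 0x30f8002749) (.leaf 0x0)))))) (.node (.node (.node (.node (.node (.leaf 0x3a5000003) (.leaf 0x4366000001)) (.node (.leaf 0x10022c1) (.leaf 0x6199000001))) (.node (.node (.leaf 0x13a5000003) (.leaf 0x53a500429b)) (.node (.leaf 0x1f710033a5) (.leaf 0x0)))) (.node (.node (.node (.leaf 0x1000ba5) (.leaf 0x4ba50042cd)) (.node (.leaf 0x2ba5001f7b) (.leaf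 0x696d000003))) (.node (.node (.leaf 0x1001ba5) (.leaf 0x226e000003)) (.node (.leaf 0x36280022e4) (.leaf 0x0))))) (.node (.node (.node (.node (.leaf 0x10007a5) (.leaf 0x428e0047a5)) (.node (.leaf 0x10026dd) (.leaf 0x100654e))) (.node (.node (.leaf 0x10017a5) (.leaf 0x3d0057a5)) (.node (.leaf 0x2e44000054) (.leaf 0x0)))) (.node (.node (.node (.leaf 0xfa5000003) (.leaf 0x4fa50043db)) (.node (.leaf 0x1f71002a85) (.leaf 0x6e9b000003))) (.node (.node (.leaf 0x2001f99) (.leaf 0x2757000003)) (.node (.leaf 0x2c69002154) (.leaf 0x0)))))))))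

/-- part -/
def slpT_115 : Tr Nat := (.node (.node (.node (.node (.node (.node (.node (.node (.leaf 0x1000065) (.leaf 0x350400266c)) (.node (.leaf 0x1001246) (.leaf 0x5e93000001))) (.node (.node (.leaf 0x2001065) (.leaf 0x43d00049bf)) (.node (.leaf 0x3065001f72) (.leaf 0x6fb1000003)))) (.node (.node (.node (.leaf 0x2000865) (.leaf 0x48650043d3)) (.node (.leaf 0x10027b7) (.leaf 0x1006602))) (.node (.node (.leaf 0x1001865) (.leaf 0x586500442b)) (.node (.leaf 0x252b002f61) (.leaf 0x0))))) (.node (.node (.node (.node (.leaf 0x1000465) (.leaf 0x22004465)) (.node (.leaf 0x100235b) (.leaf 0x6263000001))) (.node (.node (.leaf 0x1465000001) (.leaf 0x20005465)) (.node (.leaf 0x33be000fd6) (.leaf 0x0)))) (.node (.node (.node (.leaf 0xc65000002) (.leaf 0x43c00043b5)) (.node (.leaf 0x2c65001f72) (.leaf 0x6a35000001))) (.node (.node (.leaf 0x1c65000001) (.leaf 0x259f000003)) (.node (.leaf 0x2ab7002122) (.leaf 0x0)))))) (.node (.node (.node (.node (.node (.leaf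 0x265000001) (.leaf 0x35420021c4)) (.node (.leaf 0x100219b) (.leaf 0x607f000001))) (.node (.node (.leaf 0x1265000001) (.leaf 0x52650042b4)) (.node (.leaf 0x1f7b002c56) (.leaf 0x0)))) (.node (.node (.node (.leaf 0x2000a65) (.leaf 0x44280045e5)) (.node (.leaf 0x1f71002a65) (.leaf 0x680e000003))) (.node (.node (.leaf 0x1001a65) (.leaf 0x5a650042e5)) (.node (.leaf 0x321200096d) (.leaf 0x0))))) (.node (.node (.node (.node (.leaf 0x2000665) (.leaf 0x46650042fb)) (.node (.leaf 0x1002561) (.leaf 0x6425000003))) (.node (.node (.leaf 0x1665000001) (.leaf 0x4434005665)) (.node (.leaf 0x4d0034d1) (.leaf 0x0)))) (.node (.node (.node (.leaf 0xe65000001) (.leaf 0x4e650043d7)) (.node (.leaf 0x1f7b0029d5) (.leaf 0x6cd1000003))) (.node (.node (.leaf 0x3001e65) (.leaf 0x1001f52)) (.node (.leaf 0x2a0d0027ba) (.leaf 0x0))))))) (.node (.node (.node (.node (.node (.node (.leaf 0x165000003) (.leaf 0x2dbc0023b2)) (.node (.leaf 0x20020e3) (.leaf 0x5fad000001))) (.node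 (.node (.leaf 0x1165000002) (.leaf 0x4312005165)) (.node (.leaf 0x1f710030ed) (.leaf 0x0)))) (.node (.node (.node (.leaf 0x1000965) (.leaf 0x438900484d)) (.node (.leaf 0x2002921) (.leaf 0x6703000001))) (.node (.node (.leaf 0x1001965) (.leaf 0x59650042c1)) (.node (.leaf 0x1f71003537) (.leaf 0x0))))) (.node (.node (.node (.node (.leaf 0x3000565) (.leaf 0x4565004433)) (.node (.leaf 0x1002447) (.leaf 0x6345000003))) (.node (.node (.leaf 0x1565000003) (.leaf 0x10e8005565)) (.node (.leaf 0x299f0034eb) (.leaf 0x0)))) (.node (.node (.node (.leaf 0xd65000001) (.leaf 0x4d65004400)) (.node (.leaf 0x1f71002d65) (.leaf 0x6b75000003))) (.node (.node (.leaf 0x1001d65) (.leaf 0x5c9f000003)) (.node (.leaf 0x2fbe000f77) (.leaf 0x0)))))) (.node (.node (.node (.node (.node (.leaf 0x1000365) (.leaf 0x4365004326)) (.node (.leaf 0x2002221) (.leaf 0x615f000003))) (.node (.node (.leaf 0x1365000001) (.leaf 0x4432005365)) (.node (.leaf 0x207f002a28) (.leaf 0x0)))) (.node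 (.node (.node (.leaf 0x1000b65) (.leaf 0x4b6500003e)) (.node (.leaf 0x1f71002b65) (.leaf 0x6921000003))) (.node (.node (.leaf 0x1001b65) (.leaf 0x5b26000003)) (.node (.leaf 0x29c2002824) (.leaf 0x0))))) (.node (.node (.node (.node (.leaf 0x1000765) (.leaf 0x439f004765)) (.node (.leaf 0x2686000003) (.leaf 0x650d000001))) (.node (.node (.leaf 0x2001765) (.leaf 0x43d6005765)) (.node (.leaf 0x370e001f72) (.leaf 0x0)))) (.node (.node (.node (.leaf 0xf65000001) (.leaf 0x4f650042ad)) (.node (.leaf 0x27d9002f65) (.leaf 0x6e3f000003))) (.node (.node (.leaf 0x1f65001eed) (.leaf 0x5e1e000003)) (.node (.leaf 0x33e7000fd9) (.leaf 0x0)))))))) (.node (.node (.node (.node (.node (.node (.node (.leaf 0xe5000003) (.leaf 0x365c000187)) (.node (.leaf 0x200206f) (.leaf 0x5f4b000003))) (.node (.node (.leaf 0x2000048) (.leaf 0x43e00050e5)) (.node (.leaf 0x288f002c2e) (.leaf 0x7073000001)))) (.node (.node (.node (.leaf 0x30008e5) (.leaf 0x43a70048e5)) (.node (.leaf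 0x2002845) (.leaf 0x6689000001))) (.node (.node (.leaf 0x200073a) (.leaf 0x43c000462c)) (.node (.leaf 0x1f71003844) (.leaf 0x0))))) (.node (.node (.node (.node (.leaf 0x10004e5) (.leaf 0x44e50042cd)) (.node (.leaf 0x20023cd) (.leaf 0x62d1000001))) (.node (.node (.leaf 0x14e5000001) (.leaf 0x54e5000003)) (.node (.leaf 0x1f7b0034e5) (.leaf 0x0)))) (.node (.node (.node (.leaf 0xce5000001) (.leaf 0x448b0042b2)) (.node (.leaf 0x2b13000fce) (.leaf 0x6ad3000003))) (.node (.node (.leaf 0x1ce5000002) (.leaf 0x25c5000003)) (.node (.leaf 0x325e00233c) (.leaf 0x0)))))) (.node (.node (.node (.node (.node (.leaf 0x2e5000003) (.leaf 0x428b0042e5)) (.node (.leaf 0x200220e) (.leaf 0x60e9000003))) (.node (.node (.leaf 0x12e5000001) (.leaf 0x52e50043a2)) (.node (.leaf 0x314a001f7b) (.leaf 0x0)))) (.node (.node (.node (.leaf 0x1000ae5) (.leaf 0x4385004ae5)) (.node (.leaf 0x2ae5001f7b) (.leaf 0x6894000003))) (.node (.node (.leaf 0x2001ae5) (.leaf 0x2001292)) (.node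 (.leaf 0x313100266a) (.leaf 0x0))))) (.node (.node (.node (.node (.leaf 0x30006e5) (.leaf 0x46e500439e)) (.node (.leaf 0x20025e7) (.leaf 0x6499000001))) (.node (.node (.leaf 0x20016e5) (.leaf 0x56e50043d9)) (.node (.leaf 0x5e70029cf) (.leaf 0x0)))) (.node (.node (.node (.leaf 0xee5000003) (.leaf 0x10e8004ee5)) (.node (.leaf 0x2b580028e2) (.leaf 0x6d9d000003))) (.node (.node (.leaf 0x2001ee5) (.leaf 0x5db9000003)) (.node (.leaf 0x34fa002332) (.leaf 0x0))))))) (.node (.node (.node (.node (.node (.node (.leaf 0x10001e5) (.leaf 0x2f94000084)) (.node (.leaf 0x2002131) (.leaf 0x26b3000003))) (.node (.node (.leaf 0x11e5000003) (.leaf 0x449900442d)) (.node (.leaf 0x20af0031e5) (.leaf 0x0)))) (.node (.node (.node (.leaf 0x9e5000001) (.leaf 0x42740049e5)) (.node (.leaf 0x29e5001f72) (.leaf 0x678e000001))) (.node (.node (.leaf 0x20019e5) (.leaf 0x59e5004435)) (.node (.leaf 0x20090032fc) (.leaf 0x0))))) (.node (.node (.node (.node (.leaf 0x20002b4) (.leaf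 0x43ff0045e5)) (.node (.leaf 0x20024cd) (.leaf 0x63b5000001))) (.node (.node (.leaf 0x15e5000001) (.leaf 0x4f4b004386)) (.node (.leaf 0x1f7b0035e5) (.leaf 0x0)))) (.node (.node (.node (.leaf 0xde5000001) (.leaf 0x4de5004435)) (.node (.leaf 0x2de50022f8) (.leaf 0x6c25000001))) (.node (.node (.leaf 0x1001de5) (.leaf 0x5cf3000003)) (.node (.leaf 0x30890021b9) (.leaf 0x0)))))) (.node (.node (.node (.node (.node (.leaf 0x3e5000001) (.leaf 0x43e50043e2)) (.node (.leaf 0x10022f3) (.leaf 0x61db000003))) (.node (.node (.leaf 0x13e5000003) (.leaf 0x43d80053e5)) (.node (.leaf 0x2c97001f72) (.leaf 0x0)))) (.node (.node (.node (.leaf 0xbe5000003) (.leaf 0x4be500428c)) (.node (.leaf 0x2a42001f72) (.leaf 0x69af000003))) (.node (.node (.leaf 0x2001be5) (.leaf 0x5b8b000003)) (.node (.leaf 0x34580027aa) (.leaf 0x0))))) (.node (.node (.node (.node (.leaf 0x10007e5) (.leaf 0x43ec0043f4)) (.node (.leaf 0x2002729) (.leaf 0x2006584))) (.node (.node (.leaf 0x10017e5)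 (.leaf 0x42ae004831)) (.node (.leaf 0x2719002e47) (.leaf 0x0)))) (.node (.node (.node (.leaf 0x1000fe5) (.leaf 0x3004fe5)) (.node (.leaf 0x1f71002fe5) (.leaf 0x6f01000001))) (.node (.node (.leaf 0x11b8000001) (.leaf 0x5e7d000003)) (.node (.leaf 0x2b370023e8) (.leaf 0x0)))))))))

/-- part -/
def slpT_116 : Tr Nat := (.node (.node (.node (.node (.node (.node (.node (.node (.leaf 0x15000001) (.leaf 0x2f8c002430)) (.node (.leaf 0x2001fe1) (.leaf 0x5ea2000003))) (.node (.node (.leaf 0x1001015) (.leaf 0x501500443b)) (.node (.leaf 0x1f71002f8f) (.leaf 0x6f37000003)))) (.node (.node (.node (.leaf 0x1000815) (.leaf 0x42f0004815)) (.node (.leaf 0x200275f) (.leaf 0x65b5000001))) (.node (.node (.leaf 0x2001815) (.leaf 0x4a4400442d)) (.node (.leaf 0x21a1002e93) (.leaf 0x0))))) (.node (.node (.node (.node (.leaf 0x1000415) (.leaf 0x4390004415)) (.node (.leaf 0x100231d) (.leaf 0x6205000001))) (.node (.node (.leaf 0x1415000001) (.leaf 0x2005415)) (.node (.leaf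 0x2b71002636) (.leaf 0x0)))) (.node (.node (.node (.leaf 0xc15000003) (.leaf 0x4c15000004)) (.node (.leaf 0x2c15001f72) (.leaf 0x69e5000003))) (.node (.node (.leaf 0x2001c15) (.leaf 0x5ba5000001)) (.node (.leaf 0x2ba00020aa) (.leaf 0x0)))))) (.node (.node (.node (.node (.node (.leaf 0x1000215) (.leaf 0x354600295e)) (.node (.leaf 0x2150000003) (.leaf 0x603f000003))) (.node (.node (.leaf 0x1215000002) (.leaf 0x43e0005215)) (.node (.leaf 0x1f71003215) (.leaf 0x0)))) (.node (.node (.node (.leaf 0x1000a15) (.leaf 0x42e6004a15)) (.node (.leaf 0x29b8001f7b) (.leaf 0x67be000001))) (.node (.node (.leaf 0x2001a15) (.leaf 0x4cec004429)) (.node (.leaf 0x50002d96) (.leaf 0x0))))) (.node (.node (.node (.node (.leaf 0x2000615) (.leaf 0x441f004367)) (.node (.leaf 0x1002501) (.leaf 0x63e3000003))) (.node (.node (.leaf 0x1615000003) (.leaf 0x467a0043cf)) (.node (.leaf 0x1f7b002dfc) (.leaf 0x0)))) (.node (.node (.node (.leaf 0xe15000001) (.leaf 0x42e8004e15)) (.node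 (.leaf 0x2c8100247e) (.leaf 0x6c6d000001))) (.node (.node (.leaf 0x100169f) (.leaf 0x5d13000003)) (.node (.leaf 0x3449002220) (.leaf 0x0))))))) (.node (.node (.node (.node (.node (.node (.leaf 0x2000115) (.leaf 0x30bb002254)) (.node (.leaf 0x20020a7) (.leaf 0x5f73000003))) (.node (.node (.leaf 0x1115000001) (.leaf 0x511500440a)) (.node (.leaf 0x3115001f72) (.leaf 0x70ed000001)))) (.node (.node (.node (.leaf 0x2000915) (.leaf 0x4428004915)) (.node (.leaf 0x100288d) (.leaf 0x66b5000003))) (.node (.node (.leaf 0x1001915) (.leaf 0x591500429b)) (.node (.leaf 0x13e003203) (.leaf 0x0))))) (.node (.node (.node (.node (.leaf 0x1000515) (.leaf 0x45150042c1)) (.node (.leaf 0x10023ff) (.leaf 0x62ff000003))) (.node (.node (.leaf 0x1515000003) (.leaf 0x434c005515)) (.node (.leaf 0x2200003498) (.leaf 0x0)))) (.node (.node (.node (.leaf 0xd15000003) (.leaf 0x4d150043ac)) (.node (.leaf 0x2b070022f8) (.leaf 0x6b0d000003))) (.node (.node (.leaf 0x1d15000003) (.leaf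 0x5c5f000001)) (.node (.leaf 0x2fd8002552) (.leaf 0x0)))))) (.node (.node (.node (.node (.node (.leaf 0x315000001) (.leaf 0x40042e5)) (.node (.leaf 0x200223f) (.leaf 0x6115000003))) (.node (.node (.leaf 0x1315000001) (.leaf 0x519f004431)) (.node (.leaf 0x2de5001f7b) (.leaf 0x0)))) (.node (.node (.node (.leaf 0x1000b15) (.leaf 0x434c004b15)) (.node (.leaf 0x2b15001f72) (.leaf 0x68ba000003))) (.node (.node (.leaf 0x1001b15) (.leaf 0x2005af3)) (.node (.leaf 0x324600276b) (.leaf 0x0))))) (.node (.node (.node (.node (.leaf 0x2000715) (.leaf 0x43ba0043f8)) (.node (.leaf 0x20001a4) (.leaf 0x64c3000001))) (.node (.node (.leaf 0x2001715) (.leaf 0x57150043e3)) (.node (.leaf 0x25ff003715) (.leaf 0x0)))) (.node (.node (.node (.leaf 0xf15000001) (.leaf 0x42e4004f15)) (.node (.leaf 0x2f15000020) (.leaf 0x6de3000001))) (.node (.node (.leaf 0x1001f15) (.leaf 0x14be000001)) (.node (.leaf 0x32870027e2) (.leaf 0x0)))))))) (.node (.node (.node (.node (.node (.node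 (.node (.leaf 0x95000003) (.leaf 0x31370021b4)) (.node (.leaf 0x100203b) (.leaf 0x5f09000003))) (.node (.node (.leaf 0x1001095) (.leaf 0x42fe005095)) (.node (.leaf 0x3095001f7b) (.leaf 0x6fef000003)))) (.node (.node (.node (.leaf 0x2000895) (.leaf 0x4428004895)) (.node (.leaf 0x20027e7) (.leaf 0x1006634))) (.node (.node (.leaf 0x2001895) (.leaf 0x5895004359)) (.node (.leaf 0x27cd0037ae) (.leaf 0x0))))) (.node (.node (.node (.node (.leaf 0x1000495) (.leaf 0x429a004495)) (.node (.leaf 0x100237f) (.leaf 0x628d000001))) (.node (.node (.leaf 0x5c0000001) (.leaf 0x437000441a)) (.node (.leaf 0x3495001f7b) (.leaf 0x0)))) (.node (.node (.node (.leaf 0xc95000003) (.leaf 0x4c950043a8)) (.node (.leaf 0x2c41001f7b) (.leaf 0x6a7f000001))) (.node (.node (.leaf 0x1c95000003) (.leaf 0xf59000001)) (.node (.leaf 0x2dcd001fc3) (.leaf 0x0)))))) (.node (.node (.node (.node (.node (.leaf 0x295000003) (.leaf 0x428f00428b)) (.node (.leaf 0x21ca000003) (.leaf 0x60a5000003)))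 (.node (.node (.leaf 0x1295000003) (.leaf 0x42af005295)) (.node (.leaf 0x3295001f7b) (.leaf 0x0)))) (.node (.node (.node (.leaf 0x1000a95) (.leaf 0x43700045a5)) (.node (.leaf 0x1f71002a95) (.leaf 0x683f000003))) (.node (.node (.leaf 0x2001a95) (.leaf 0x4cf7004384)) (.node (.leaf 0x339800249c) (.leaf 0x0))))) (.node (.node (.node (.node (.leaf 0x2000695) (.leaf 0x469500003c)) (.node (.leaf 0x200204a) (.leaf 0x6451000003))) (.node (.node (.leaf 0x2001695) (.leaf 0x4ac30043bd)) (.node (.leaf 0x24b1002f44) (.leaf 0x0)))) (.node (.node (.node (.leaf 0xe95000001) (.leaf 0x4e95004359)) (.node (.leaf 0x1f71002e95) (.leaf 0x6d13000001))) (.node (.node (.leaf 0x1001e95) (.leaf 0x1005d7a)) (.node (.leaf 0x2ea00020e4) (.leaf 0x0))))))) (.node (.node (.node (.node (.node (.node (.leaf 0x195000003) (.leaf 0x2abc002614)) (.node (.leaf 0x1002103) (.leaf 0x5fd7000001))) (.node (.node (.leaf 0x7ea000001) (.leaf 0x4385004576)) (.node (.leaf 0x1fbf002fe9) (.leaf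 0x0)))) (.node (.node (.node (.leaf 0x995000003) (.leaf 0x43ab004995)) (.node (.leaf 0x200295b) (.leaf 0x6739000001))) (.node (.node (.leaf 0x1001995) (.leaf 0x4d19004384)) (.node (.leaf 0x22c9003995) (.leaf 0x0))))) (.node (.node (.node (.node (.leaf 0x2000595) (.leaf 0x45950043a0)) (.node (.leaf 0x2002479) (.leaf 0x6371000003))) (.node (.node (.leaf 0x1595000001) (.leaf 0x5595004388)) (.node (.leaf 0x1f71003486) (.leaf 0x0)))) (.node (.node (.node (.leaf 0xd95000003) (.leaf 0x42ad004d96)) (.node (.leaf 0x2d95001f7b) (.leaf 0x6bb9000001))) (.node (.node (.leaf 0x2001d95) (.leaf 0x5cc1000003)) (.node (.leaf 0x2b3100262e) (.leaf 0x0)))))) (.node (.node (.node (.node (.node (.leaf 0x2000395) (.leaf 0x43660042e6)) (.node (.leaf 0x10022b1) (.leaf 0x618b000003))) (.node (.node (.leaf 0x1395000001) (.leaf 0x432400445f)) (.node (.leaf 0x1f7b002e5b) (.leaf 0x0)))) (.node (.node (.node (.leaf 0x2000b95) (.leaf 0x4b950042ad)) (.node (.leaf 0x1f71002b95)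 (.leaf 0x6955000003))) (.node (.node (.leaf 0x1001b95) (.leaf 0x5b47000001)) (.node (.leaf 0x307f002320) (.leaf 0x0))))) (.node (.node (.node (.node (.leaf 0x1000795) (.leaf 0x4358004795)) (.node (.leaf 0x10026cd) (.leaf 0x2006544))) (.node (.node (.leaf 0x1001795) (.leaf 0x429c005795)) (.node (.leaf 0x3333000054) (.leaf 0x0)))) (.node (.node (.node (.leaf 0xf95000003) (.leaf 0x4f95000002)) (.node (.leaf 0x1f71002a89) (.leaf 0x6e7f000003))) (.node (.node (.leaf 0x2001f8b) (.leaf 0x5e46000001)) (.node (.leaf 0x2eb4002696) (.leaf 0x0)))))))))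

/-- part -/
def slpT_117 : Tr Nat := (.node (.node (.node (.node (.node (.node (.node (.node (.leaf 0x1000055) (.leaf 0x30e000266c)) (.node (.leaf 0x2002003) (.leaf 0x5ed2000001))) (.node (.node (.leaf 0x1001055) (.leaf 0x43e0005055)) (.node (.leaf 0x2a46002692) (.leaf 0x6f95000001)))) (.node (.node (.node (.leaf 0x2000855) (.leaf 0x44fc004422)) (.node (.leaf 0x10027a5) (.leaf 0x10065f2))) (.node (.node (.leaf 0x1001855) (.leaf 0x585500442b)) (.node (.leaf 0x252b003052) (.leaf 0x0))))) (.node (.node (.node (.node (.leaf 0x1000455) (.leaf 0x43ee0043bd)) (.node (.leaf 0x2002353) (.leaf 0x624f000001))) (.node (.node (.leaf 0x1455000003) (.leaf 0x4399005455)) (.node (.leaf 0x3455000fd6) (.leaf 0x0)))) (.node (.node (.node (.leaf 0x982000003) (.leaf 0x4c550043e3)) (.node (.leaf 0x2c55001f72) (.leaf 0x6a27000003))) (.node (.node (.leaf 0x1c55000003) (.leaf 0x5bc9000003)) (.node (.leaf 0x361400019a) (.leaf 0x0)))))) (.node (.node (.node (.node (.node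 (.leaf 0x255000001) (.leaf 0x33d10020ce)) (.node (.leaf 0x2002187) (.leaf 0x6077000003))) (.node (.node (.leaf 0x1255000003) (.leaf 0x52550043db)) (.node (.leaf 0x1f7b003255) (.leaf 0x0)))) (.node (.node (.node (.leaf 0x2000a55) (.leaf 0x4383004a55)) (.node (.leaf 0x1f7b002a32) (.leaf 0x67f8000003))) (.node (.node (.leaf 0x2001a55) (.leaf 0x5a5500428d)) (.node (.leaf 0x338e00218a) (.leaf 0x0))))) (.node (.node (.node (.node (.leaf 0x10004c3) (.leaf 0x465500430f)) (.node (.leaf 0x1002551) (.leaf 0x6417000003))) (.node (.node (.leaf 0x1655000001) (.leaf 0x439b005655)) (.node (.leaf 0x1f7b002ae0) (.leaf 0x0)))) (.node (.node (.node (.leaf 0xe55000003) (.leaf 0x4e550042fd)) (.node (.leaf 0x24f1002e55) (.leaf 0x6cbb000003))) (.node (.node (.leaf 0x1e55000001) (.leaf 0x5d43000001)) (.node (.leaf 0x33db002672) (.leaf 0x0))))))) (.node (.node (.node (.node (.node (.node (.leaf 0x155000001) (.leaf 0x2ad60023b2)) (.node (.leaf 0x2002082) (.leaf 0x5fa1000001)))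 (.node (.node (.leaf 0x1155000001) (.leaf 0x44240043f2)) (.node (.leaf 0x254b002da0) (.leaf 0x0)))) (.node (.node (.node (.leaf 0x1000955) (.leaf 0x4387004744)) (.node (.leaf 0x1002905) (.leaf 0x66f5000001))) (.node (.node (.leaf 0x1001955) (.leaf 0x595500430f)) (.node (.leaf 0x1f7b003613) (.leaf 0x0))))) (.node (.node (.node (.node (.leaf 0x2000555) (.leaf 0x43e0004555)) (.node (.leaf 0x1002437) (.leaf 0x633b000001))) (.node (.node (.leaf 0x1555000001) (.leaf 0x71005555)) (.node (.leaf 0x299f003031) (.leaf 0x0)))) (.node (.node (.node (.leaf 0xd55000001) (.leaf 0x4d550042ef)) (.node (.leaf 0x1f7b002b3f) (.leaf 0x6b5b000003))) (.node (.node (.leaf 0x1d55000003) (.leaf 0x5c93000003)) (.node (.leaf 0x34a7000f77) (.leaf 0x0)))))) (.node (.node (.node (.node (.node (.leaf 0x1000355) (.leaf 0x43550042e5)) (.node (.leaf 0x200227b) (.leaf 0x614f000001))) (.node (.node (.leaf 0x1355000003) (.leaf 0x432e004b5e)) (.node (.leaf 0x1f71003355) (.leaf 0x0))))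 (.node (.node (.node (.leaf 0x1000b55) (.leaf 0x4b55004429)) (.node (.leaf 0x1f71002b55) (.leaf 0x690b000003))) (.node (.node (.leaf 0x2001b55) (.leaf 0x1005b1d)) (.node (.leaf 0x315c002824) (.leaf 0x0))))) (.node (.node (.node (.node (.leaf 0x2000755) (.leaf 0x441f004756)) (.node (.leaf 0x2002673) (.leaf 0x50bd000003))) (.node (.node (.leaf 0x2001755) (.leaf 0x42fc005755)) (.node (.leaf 0x3755001f46) (.leaf 0x0)))) (.node (.node (.node (.leaf 0xf55000001) (.leaf 0x42b3004f55)) (.node (.leaf 0x1f71002aa5) (.leaf 0x6e2d000003))) (.node (.node (.leaf 0x1f55000001) (.leaf 0x5e15000003)) (.node (.leaf 0x348d000fd9) (.leaf 0x0)))))))) (.node (.node (.node (.node (.node (.node (.node (.leaf 0x10000d5) (.leaf 0x2b09000187)) (.node (.leaf 0x1001d33) (.leaf 0xc57000003))) (.node (.node (.leaf 0x10010d5) (.leaf 0x443a0050d5)) (.node (.leaf 0x211f002cb4) (.leaf 0x7057000003)))) (.node (.node (.node (.leaf 0x10008d5) (.leaf 0x42ae004618)) (.node (.leaf 0x1002837)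 (.leaf 0x2006672))) (.node (.node (.leaf 0x10018d5) (.leaf 0x428a0058d5)) (.node (.leaf 0x22610029b3) (.leaf 0x0))))) (.node (.node (.node (.node (.leaf 0x20004d5) (.leaf 0x447d00442f)) (.node (.leaf 0x20023c1) (.leaf 0x62c1000001))) (.node (.node (.leaf 0x14d5000002) (.leaf 0x44050054d5)) (.node (.leaf 0x1f71002c22) (.leaf 0x0)))) (.node (.node (.node (.leaf 0xcd5000001) (.leaf 0x4cd50042a5)) (.node (.leaf 0x2ab2002972) (.leaf 0x666e000001))) (.node (.node (.leaf 0x13b2000001) (.leaf 0x20f7000003)) (.node (.leaf 0x302a00244c) (.leaf 0x0)))))) (.node (.node (.node (.node (.node (.leaf 0x2d5000003) (.leaf 0xb6000015)) (.node (.leaf 0x1002201) (.leaf 0x60dd000003))) (.node (.node (.leaf 0x12d5000002) (.leaf 0x52d5004359)) (.node (.leaf 0x32d5001f72) (.leaf 0x0)))) (.node (.node (.node (.leaf 0x3000ad5) (.leaf 0x4428004ad5)) (.node (.leaf 0x1f7b002ad5) (.leaf 0x6884000003))) (.node (.node (.leaf 0x1001ad5) (.leaf 0x2001fd0)) (.node (.leaf 0x363c00266a)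 (.leaf 0x0))))) (.node (.node (.node (.node (.leaf 0x20006d5) (.leaf 0x449a004423)) (.node (.leaf 0x10025d7) (.leaf 0x6485000003))) (.node (.node (.leaf 0x10016d5) (.leaf 0x56d50043d7)) (.node (.leaf 0x5e70036d5) (.leaf 0x0)))) (.node (.node (.node (.leaf 0xed5000002) (.leaf 0x4274004ed5)) (.node (.leaf 0x2b70001f72) (.leaf 0x6d81000001))) (.node (.node (.leaf 0x2001ed5) (.leaf 0x5db3000001)) (.node (.leaf 0x2bad0025e4) (.leaf 0x0))))))) (.node (.node (.node (.node (.node (.node (.leaf 0x10001d5) (.leaf 0x352c0019d9)) (.node (.leaf 0x2001b30) (.leaf 0x600b000001))) (.node (.node (.leaf 0x11d5000003) (.leaf 0x51d5004431)) (.node (.leaf 0x1f7100304b) (.leaf 0x0)))) (.node (.node (.node (.leaf 0x9d5000001) (.leaf 0x49d5004275)) (.node (.leaf 0x1f710029d5) (.leaf 0x677b000001))) (.node (.node (.leaf 0x20019d5) (.leaf 0x59d5004429)) (.node (.leaf 0x2861002ad5) (.leaf 0x0))))) (.node (.node (.node (.node (.leaf 0x10005d5) (.leaf 0x45d500434d)) (.node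 (.leaf 0x20024bd) (.leaf 0x63a7000003))) (.node (.node (.leaf 0x15d5000001) (.leaf 0x55d500434d)) (.node (.leaf 0x1f71003029) (.leaf 0x0)))) (.node (.node (.node (.leaf 0xdd5000001) (.leaf 0x4dd5000072)) (.node (.leaf 0x2dd50022f8) (.leaf 0x6c09000003))) (.node (.node (.leaf 0x1001dd5) (.leaf 0x5ce7000001)) (.node (.leaf 0x3a140021b9) (.leaf 0x0)))))) (.node (.node (.node (.node (.node (.leaf 0x3d5000001) (.leaf 0x42b00043b4)) (.node (.leaf 0x10022e5) (.leaf 0x61cf000001))) (.node (.node (.leaf 0x13d5000003) (.leaf 0x43ab0053d5)) (.node (.leaf 0x2f74001f72) (.leaf 0x0)))) (.node (.node (.node (.leaf 0xbd5000003) (.leaf 0x4bd50042b4)) (.node (.leaf 0x2bd5001f72) (.leaf 0x699d000001))) (.node (.node (.leaf 0x3001bd5) (.leaf 0x5b7b000003)) (.node (.leaf 0x30a60027aa) (.leaf 0x0))))) (.node (.node (.node (.node (.leaf 0x10007d5) (.leaf 0x43d60047d5)) (.node (.leaf 0x1002711) (.leaf 0x2006576))) (.node (.node (.leaf 0x20017d5) (.leaf 0x42e80057d5))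 (.node (.leaf 0x24070031f3) (.leaf 0x0)))) (.node (.node (.node (.leaf 0x2000fd5) (.leaf 0x4fd50042c1)) (.node (.leaf 0x1f71002fd5) (.leaf 0x6ee9000003))) (.node (.node (.leaf 0x2001faf) (.leaf 0xf7a000003)) (.node (.leaf 0x3459000f6f) (.leaf 0x0)))))))))

/-- part -/
def slpT_118 : Tr Nat := (.node (.node (.node (.node (.node (.node (.node (.node (.leaf 0x35000001) (.leaf 0x2e3600266c)) (.node (.leaf 0x2001ff1) (.leaf 0x5eba000001))) (.node (.node (.leaf 0x3001035) (.leaf 0x503500440a)) (.node (.leaf 0x1f7b002b36) (.leaf 0x6f63000003)))) (.node (.node (.node (.leaf 0x1000835) (.leaf 0x4835000021)) (.node (.leaf 0x200277a) (.leaf 0x65d5000001))) (.node (.node (.leaf 0x1001835) (.leaf 0x5835004402)) (.node (.leaf 0x1f71002ab8) (.leaf 0x0))))) (.node (.node (.node (.node (.leaf 0x2000435) (.leaf 0x2100441b)) (.node (.leaf 0x200233b) (.leaf 0x622f000001))) (.node (.node (.leaf 0x1435000001) (.leaf 0x3005435)) (.node (.leaf 0x2eb4002020) (.leaf 0x0))))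 (.node (.node (.node (.leaf 0xc35000001) (.leaf 0x475600436d)) (.node (.leaf 0x2c35001f7b) (.leaf 0x6a09000003))) (.node (.node (.leaf 0x1c35000003) (.leaf 0x5bb5000003)) (.node (.leaf 0x34510025a2) (.leaf 0x0)))))) (.node (.node (.node (.node (.node (.leaf 0x235000001) (.leaf 0x2f3d0021f3)) (.node (.leaf 0x100216d) (.leaf 0x605f000001))) (.node (.node (.leaf 0x1235000001) (.leaf 0x43ce004375)) (.node (.leaf 0x24bb003235) (.leaf 0x0)))) (.node (.node (.node (.leaf 0x1000a35) (.leaf 0x71004a35)) (.node (.leaf 0x2a35001f72) (.leaf 0x67da000003))) (.node (.node (.leaf 0x2001a35) (.leaf 0x5a350042b2)) (.node (.leaf 0x1f7b0035b3) (.leaf 0x0))))) (.node (.node (.node (.node (.leaf 0x1000635) (.leaf 0x436c004366)) (.node (.leaf 0x2002521) (.leaf 0x63fd000003))) (.node (.node (.leaf 0x1635000002) (.leaf 0x56350010e7)) (.node (.leaf 0x1f7b00332e) (.leaf 0x0)))) (.node (.node (.node (.leaf 0xe35000003) (.leaf 0x5004e35)) (.node (.leaf 0x1f71002e35) (.leaf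 0x6c95000003))) (.node (.node (.leaf 0x1e35000003) (.leaf 0x2005d2a)) (.node (.leaf 0x3a3f002220) (.leaf 0x0))))))) (.node (.node (.node (.node (.node (.node (.leaf 0x1000135) (.leaf 0x29ce002648)) (.node (.leaf 0x1000085) (.leaf 0x5f85000003))) (.node (.node (.leaf 0x1135000001) (.leaf 0x42cc005135)) (.node (.leaf 0x3135001f72) (.leaf 0x0)))) (.node (.node (.node (.leaf 0x3000935) (.leaf 0x428c004935)) (.node (.leaf 0x2002542) (.leaf 0x66d5000001))) (.node (.node (.leaf 0x1001935) (.leaf 0x593500003c)) (.node (.leaf 0x27ef002e20) (.leaf 0x0))))) (.node (.node (.node (.node (.leaf 0x1000535) (.leaf 0x428d0043be)) (.node (.leaf 0x200241b) (.leaf 0x631d000003))) (.node (.node (.leaf 0x1535000001) (.leaf 0x42ad005535)) (.node (.leaf 0x1f7b0030db) (.leaf 0x0)))) (.node (.node (.node (.leaf 0xd35000003) (.leaf 0x4352004d36)) (.node (.leaf 0x2d35001f72) (.leaf 0x6b35000001))) (.node (.node (.leaf 0x1d35000001) (.leaf 0x5c7d000001)) (.node (.leaf 0x34ab001fe0)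 (.leaf 0x0)))))) (.node (.node (.node (.node (.node (.leaf 0x1000335) (.leaf 0x432f0042ad)) (.node (.leaf 0x1002259) (.leaf 0x6133000001))) (.node (.node (.leaf 0x13350012c9) (.leaf 0x42c0005335)) (.node (.leaf 0x2ab200237e) (.leaf 0x0)))) (.node (.node (.node (.leaf 0x2000b35) (.leaf 0x4b3500429d)) (.node (.leaf 0x2a15001f72) (.leaf 0x68e3000001))) (.node (.node (.leaf 0x1001b35) (.leaf 0x1d35000003)) (.node (.leaf 0x31f800097e) (.leaf 0x0))))) (.node (.node (.node (.node (.leaf 0x3000735) (.leaf 0x47350042e5)) (.node (.leaf 0x200264f) (.leaf 0x64e1000003))) (.node (.node (.leaf 0x1001735) (.leaf 0x443200551b)) (.node (.leaf 0x33cb00213a) (.leaf 0x0)))) (.node (.node (.node (.leaf 0xf35000001) (.leaf 0x43e2004f35)) (.node (.leaf 0x2f35001f72) (.leaf 0x6e0b000001))) (.node (.node (.leaf 0x1001f35) (.leaf 0x5dfd000003)) (.node (.leaf 0x33840027e2) (.leaf 0x0)))))))) (.node (.node (.node (.node (.node (.node (.node (.leaf 0x10000b5) (.leaf 0x3504001652))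 (.node (.leaf 0x200204b) (.leaf 0x5f29000001))) (.node (.node (.leaf 0x10003bb) (.leaf 0x43850043cb)) (.node (.leaf 0x2d23001f72) (.leaf 0x7021000003)))) (.node (.node (.node (.leaf 0x10008b5) (.leaf 0x10e80048b5)) (.node (.leaf 0x100280f) (.leaf 0x1006652))) (.node (.node (.leaf 0x20018b5) (.leaf 0x42b30058b5)) (.node (.leaf 0x1f710033c3) (.leaf 0x0))))) (.node (.node (.node (.node (.leaf 0x20004b5) (.leaf 0x44b50042fb)) (.node (.leaf 0x10023a3) (.leaf 0x62a5000003))) (.node (.node (.leaf 0x14b5000003) (.leaf 0x42ac004d53)) (.node (.leaf 0x2db1002916) (.leaf 0x0)))) (.node (.node (.node (.leaf 0xcb5000002) (.leaf 0x4cb5004386)) (.node (.leaf 0x2cb5001f72) (.leaf 0x6a9f000001))) (.node (.node (.leaf 0x1cb5000003) (.leaf 0x5c11000001)) (.node (.leaf 0x321000244c) (.leaf 0x0)))))) (.node (.node (.node (.node (.node (.leaf 0x2b5000001) (.leaf 0x428a0042b1)) (.node (.leaf 0x20021e3) (.leaf 0x60c5000001))) (.node (.node (.leaf 0x12b5000003) (.leaf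 0x43fd0052b5)) (.node (.leaf 0x2c07000968) (.leaf 0x0)))) (.node (.node (.node (.leaf 0x3000ab5) (.leaf 0x42c0004ab5)) (.node (.leaf 0x1f71002ab5) (.leaf 0x6860000001))) (.node (.node (.leaf 0x1001ab5) (.leaf 0x2407000003)) (.node (.leaf 0x31fa0023f0) (.leaf 0x0))))) (.node (.node (.node (.node (.leaf 0x20006b5) (.leaf 0x46b50042f1)) (.node (.leaf 0x20025b5) (.leaf 0x646d000001))) (.node (.node (.leaf 0x10016b5) (.leaf 0x43b5004325)) (.node (.leaf 0x24b10036b5) (.leaf 0x0)))) (.node (.node (.node (.leaf 0xeb5000002) (.leaf 0x3b004eb5)) (.node (.leaf 0x1f71002eb5) (.leaf 0x6d3d000003))) (.node (.node (.leaf 0x2001eb5) (.leaf 0x1005d9a)) (.node (.leaf 0x327800227d) (.leaf 0x0))))))) (.node (.node (.node (.node (.node (.node (.leaf 0x1b5000003) (.leaf 0x29d2002506)) (.node (.leaf 0x1002113) (.leaf 0x5ff1000003))) (.node (.node (.leaf 0xc35000003) (.leaf 0x51b500439a)) (.node (.leaf 0x1f710031b5) (.leaf 0x0)))) (.node (.node (.node (.leaf 0x9b5000003)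 (.leaf 0x43fd0049b5)) (.node (.leaf 0x1f710029b5) (.leaf 0x675b000003))) (.node (.node (.leaf 0x10019b5) (.leaf 0x59b50042e9)) (.node (.leaf 0x1f710039b5) (.leaf 0x0))))) (.node (.node (.node (.node (.leaf 0x10005b5) (.leaf 0x45b500429d)) (.node (.leaf 0x200249f) (.leaf 0x638f000001))) (.node (.node (.leaf 0x15b5000002) (.leaf 0x55b5004437)) (.node (.leaf 0x1f710035b5) (.leaf 0x0)))) (.node (.node (.node (.leaf 0xdb5000001) (.leaf 0x4db50042f1)) (.node (.leaf 0x2db500236e) (.leaf 0x6bd9000001))) (.node (.node (.leaf 0x2001db5) (.leaf 0x5cd9000003)) (.node (.leaf 0x2eae000fd3) (.leaf 0x0)))))) (.node (.node (.node (.node (.node (.leaf 0x20003b5) (.leaf 0x43660043b3)) (.node (.leaf 0x20022cd) (.leaf 0x61a9000001))) (.node (.node (.leaf 0x7b2000003) (.leaf 0x53b50042cd)) (.node (.leaf 0x1f7b0033b5) (.leaf 0x0)))) (.node (.node (.node (.leaf 0x1000bb5) (.leaf 0x4bb500439c)) (.node (.leaf 0x2bb5001f72) (.leaf 0x697b000003))) (.node (.node (.leaf 0x1001bb5)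 (.leaf 0x5b5b000003)) (.node (.leaf 0x30950022e4) (.leaf 0x0))))) (.node (.node (.node (.node (.leaf 0x10007b5) (.leaf 0x43d20047b5)) (.node (.leaf 0x20026ef) (.leaf 0x10012aa))) (.node (.node (.leaf 0x10017b5) (.leaf 0x43120057b5)) (.node (.leaf 0x2eba001f72) (.leaf 0x0)))) (.node (.node (.node (.leaf 0xfb5000001) (.leaf 0x4fb50043d9)) (.node (.leaf 0x1f71002bf0) (.leaf 0x6eb7000003))) (.node (.node (.leaf 0x20000f1) (.leaf 0x1c65000003)) (.node (.leaf 0x29c6002154) (.leaf 0x0)))))))))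

/-- part -/
def slpT_119 : Tr Nat := (.node (.node (.node (.node (.node (.node (.node (.node (.leaf 0x1000075) (.leaf 0x332700266c)) (.node (.leaf 0x100201f) (.leaf 0x5eed000001))) (.node (.node (.leaf 0x2001075) (.leaf 0x44240043b8)) (.node (.leaf 0x2ca9001f72) (.leaf 0x6fc3000003)))) (.node (.node (.node (.leaf 0x1000875) (.leaf 0x44210043b6)) (.node (.leaf 0x20027c5) (.leaf 0x2002838))) (.node (.node (.leaf 0x1001875) (.leaf 0x51c300442d)) (.node (.leaf 0x1f7b003102) (.leaf 0x0))))) (.node (.node (.node (.node (.leaf 0x2000475) (.leaf 0x4401004475)) (.node (.leaf 0x1002367) (.leaf 0x6273000001))) (.node (.node (.leaf 0x1475000001) (.leaf 0x4436005475)) (.node (.leaf 0x3073001f72) (.leaf 0x0)))) (.node (.node (.node (.leaf 0xc75000003) (.leaf 0x43ab004c75)) (.node (.leaf 0x2a64001f72) (.leaf 0x6a4b000003))) (.node (.node (.leaf 0x1c75000001) (.leaf 0x2527000003)) (.node (.leaf 0x30320022fc) (.leaf 0x0)))))) (.node (.node (.node (.node (.node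 (.leaf 0x275000003) (.leaf 0x10e7000021)) (.node (.leaf 0x21aa000003) (.leaf 0x5d9c000003))) (.node (.node (.leaf 0x1275000002) (.leaf 0x52750042ac)) (.node (.leaf 0x1f71003275) (.leaf 0x0)))) (.node (.node (.node (.leaf 0x2000a75) (.leaf 0x43fd00481e)) (.node (.leaf 0x1f7b002a75) (.leaf 0x681f000003))) (.node (.node (.leaf 0x2001a75) (.leaf 0x5a75004388)) (.node (.leaf 0x375b001f72) (.leaf 0x0))))) (.node (.node (.node (.node (.leaf 0x2000675) (.leaf 0x46750042c1)) (.node (.leaf 0x200256f) (.leaf 0x6433000003))) (.node (.node (.leaf 0x1675000001) (.leaf 0x567500428d)) (.node (.leaf 0x4d003675) (.leaf 0x0)))) (.node (.node (.node (.leaf 0xe75000003) (.leaf 0x4e750042cd)) (.node (.leaf 0x2199002cba) (.leaf 0x6ced000003))) (.node (.node (.leaf 0x2001e75) (.leaf 0x2005d60)) (.node (.leaf 0x2d5e0027ba) (.leaf 0x0))))))) (.node (.node (.node (.node (.node (.node (.leaf 0x175000003) (.leaf 0x307100285c)) (.node (.leaf 0x20020ef) (.leaf 0x5fbd000001)))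 (.node (.node (.leaf 0x1175000003) (.leaf 0x73005175)) (.node (.leaf 0x1f71002f9b) (.leaf 0x0)))) (.node (.node (.node (.leaf 0x2000975) (.leaf 0x436c0043f4)) (.node (.leaf 0x2002933) (.leaf 0x19ee000003))) (.node (.node (.leaf 0x3001975) (.leaf 0x59750042b0)) (.node (.leaf 0x22c90029e1) (.leaf 0x0))))) (.node (.node (.node (.node (.leaf 0x2000575) (.leaf 0x44a5004420)) (.node (.leaf 0x200245b) (.leaf 0x6359000001))) (.node (.node (.leaf 0x1575000003) (.leaf 0x5575004433)) (.node (.leaf 0x299f00330c) (.leaf 0x0)))) (.node (.node (.node (.leaf 0xd69000001) (.leaf 0x4d750042a5)) (.node (.leaf 0x1f71002d75) (.leaf 0x6b8d000003))) (.node (.node (.leaf 0x1001d75) (.leaf 0x5cad000001)) (.node (.leaf 0x2a2500216e) (.leaf 0x0)))))) (.node (.node (.node (.node (.node (.leaf 0x1000375) (.leaf 0x432400436e)) (.node (.leaf 0x2002296) (.leaf 0x616d000003))) (.node (.node (.leaf 0x1375000001) (.leaf 0x42f0005375)) (.node (.leaf 0x1f7100301f) (.leaf 0x0))))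 (.node (.node (.node (.leaf 0x1000b75) (.leaf 0x4b75004429)) (.node (.leaf 0x1f7b0029d3) (.leaf 0x5e10000001))) (.node (.node (.leaf 0x1001b75) (.leaf 0x5b30000001)) (.node (.leaf 0x31c80020b6) (.leaf 0x0))))) (.node (.node (.node (.node (.leaf 0x2000775) (.leaf 0x47750042ad)) (.node (.leaf 0x269e000001) (.leaf 0x651b000003))) (.node (.node (.leaf 0x2001775) (.leaf 0x42f8005775)) (.node (.leaf 0x329d001f7b) (.leaf 0x0)))) (.node (.node (.node (.leaf 0xc46000001) (.leaf 0x4f7500440a)) (.node (.leaf 0x1f71002f75) (.leaf 0x6e4d000003))) (.node (.node (.leaf 0x1001f75) (.leaf 0x5e28000003)) (.node (.leaf 0x365c000fd9) (.leaf 0x0)))))))) (.node (.node (.node (.node (.node (.node (.node (.leaf 0x20000f5) (.leaf 0x3822000187)) (.node (.leaf 0x2002081) (.leaf 0x5f59000003))) (.node (.node (.leaf 0x20010f5) (.leaf 0x50f50010e7)) (.node (.leaf 0x1f710030f5) (.leaf 0x70a5000001)))) (.node (.node (.node (.leaf 0x20008f5) (.leaf 0x42fc0048f5)) (.node (.leaf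 0x100285f) (.leaf 0x669b000001))) (.node (.node (.leaf 0x30018f5) (.leaf 0x43e20058f5)) (.node (.leaf 0x21c7003494) (.leaf 0x0))))) (.node (.node (.node (.node (.leaf 0x20004f5) (.leaf 0x44f5004402)) (.node (.leaf 0x20023dd) (.leaf 0x62e1000003))) (.node (.node (.leaf 0x14f5000001) (.leaf 0x54f50010e7)) (.node (.leaf 0x1f710034f5) (.leaf 0x0)))) (.node (.node (.node (.leaf 0xcf5000001) (.leaf 0x43f60043bf)) (.node (.leaf 0x2c3d00018a) (.leaf 0x6aeb000001))) (.node (.node (.leaf 0x1cf5000003) (.leaf 0x5c43000003)) (.node (.leaf 0x2b2f00233c) (.leaf 0x0)))))) (.node (.node (.node (.node (.node (.leaf 0x2f5000003) (.leaf 0x42ef0042e5)) (.node (.leaf 0x2002220) (.leaf 0x60f7000001))) (.node (.node (.leaf 0x12f5000001) (.leaf 0x52f5004402)) (.node (.leaf 0x32840027fe) (.leaf 0x0)))) (.node (.node (.node (.leaf 0x1000af5) (.leaf 0x439f004af5)) (.node (.leaf 0x2af5001f7b) (.leaf 0x68a2000003))) (.node (.node (.leaf 0x2001af5) (.leaf 0x2005adf)) (.node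 (.leaf 0x3028001fb6) (.leaf 0x0))))) (.node (.node (.node (.node (.leaf 0x20006f5) (.leaf 0x46f50043cf)) (.node (.leaf 0x2002601) (.leaf 0x64a1000003))) (.node (.node (.leaf 0x20016f5) (.leaf 0x56f500438a)) (.node (.leaf 0x1f7b00343a) (.leaf 0x0)))) (.node (.node (.node (.leaf 0xef5000003) (.leaf 0x428d004ef5)) (.node (.leaf 0x2ef5001f72) (.leaf 0x6db9000003))) (.node (.node (.leaf 0x1001ef5) (.leaf 0x5dc9000001)) (.node (.leaf 0x2c370027e2) (.leaf 0x0))))))) (.node (.node (.node (.node (.node (.node (.leaf 0x30001f5) (.leaf 0x349f002156)) (.node (.leaf 0x100213b) (.leaf 0x6021000003))) (.node (.node (.leaf 0x11f5000002) (.leaf 0x43d20051f6)) (.node (.leaf 0x1f710031f5) (.leaf 0x0)))) (.node (.node (.node (.leaf 0x9f5000003) (.leaf 0x42e40049f5)) (.node (.leaf 0x29f5001f72) (.leaf 0x679e000003))) (.node (.node (.leaf 0x20019f5) (.leaf 0x59f500432f)) (.node (.leaf 0x218b00336b) (.leaf 0x0))))) (.node (.node (.node (.node (.leaf 0x20005f5) (.leaf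 0x43ab0045f5)) (.node (.leaf 0x20024db) (.leaf 0x63c3000003))) (.node (.node (.leaf 0x15f5000001) (.leaf 0x55f50043aa)) (.node (.leaf 0x1f710032fa) (.leaf 0x0)))) (.node (.node (.node (.leaf 0xdf5000001) (.leaf 0x4df500434d)) (.node (.leaf 0x2d4b001f72) (.leaf 0x6c3b000001))) (.node (.node (.leaf 0x2001df5) (.leaf 0x3c3000003)) (.node (.leaf 0x3b7b0021b9) (.leaf 0x0)))))) (.node (.node (.node (.node (.node (.leaf 0x3f5000002) (.leaf 0x43ee004324)) (.node (.leaf 0x1001250) (.leaf 0x61eb000001))) (.node (.node (.leaf 0x13f5000002) (.leaf 0x43d60053f5)) (.node (.leaf 0x33f5002636) (.leaf 0x0)))) (.node (.node (.node (.leaf 0xbf5000003) (.leaf 0x4bf50043a2)) (.node (.leaf 0x2bf5001f7b) (.leaf 0x69c5000001))) (.node (.node (.leaf 0x2001bf5) (.leaf 0x2175000003)) (.node (.leaf 0x2f5000282a) (.leaf 0x0))))) (.node (.node (.node (.node (.leaf 0x30007f5) (.leaf 0x42fa0047f5)) (.node (.leaf 0x100273e) (.leaf 0x2006594))) (.node (.node (.leaf 0x20017f5)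 (.leaf 0x57f5004402)) (.node (.leaf 0x2719002e91) (.leaf 0x0)))) (.node (.node (.node (.leaf 0x1000ff5) (.leaf 0x42ee004ff5)) (.node (.leaf 0x20470029f5) (.leaf 0x6f0d000001))) (.node (.node (.leaf 0x1fcc000003) (.leaf 0x211000003)) (.node (.leaf 0x2a010024a6) (.leaf 0x0)))))))))

/-- part -/
def slpT_120 : Tr Nat := (.node (.node (.node (.node (.node (.node (.node (.node (.leaf 0xd000001) (.leaf 0x396800205a)) (.node (.leaf 0x1001fde) (.leaf 0x5e9d000003))) (.node (.node (.leaf 0x200100d) (.leaf 0x43f60043c1)) (.node (.leaf 0x244f00300d) (.leaf 0x6f2d000001)))) (.node (.node (.node (.leaf 0x100080d) (.leaf 0x435200480d)) (.node (.leaf 0x2002756) (.leaf 0x10065ac))) (.node (.node (.leaf 0x200180d) (.leaf 0x4c190042ad)) (.node (.leaf 0x21a1002f04) (.leaf 0x0))))) (.node (.node (.node (.node (.leaf 0x100040d) (.leaf 0x1c00440d)) (.node (.leaf 0x2002315) (.leaf 0x61ff000001))) (.node (.node (.leaf 0x140d000001) (.leaf 0x42af005021)) (.node (.leaf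 0x2dd3001f7b) (.leaf 0x0)))) (.node (.node (.node (.leaf 0xc0d000003) (.leaf 0x4c0d0042a5)) (.node (.leaf 0x2b6c001f72) (.leaf 0x69df000003))) (.node (.node (.leaf 0x3001c0d) (.leaf 0x5ba1000001)) (.node (.leaf 0x2be90020aa) (.leaf 0x0)))))) (.node (.node (.node (.node (.node (.leaf 0x100020d) (.leaf 0x2a5000295e)) (.node (.leaf 0x1676000001) (.leaf 0x5d18000001))) (.node (.node (.leaf 0x120d000003) (.leaf 0x429a00520d)) (.node (.leaf 0x1f7b00320d) (.leaf 0x0)))) (.node (.node (.node (.leaf 0x1000a0d) (.leaf 0x4302004a0d)) (.node (.leaf 0x2a0d001f72) (.leaf 0x67b8000003))) (.node (.node (.leaf 0x1001a0d) (.leaf 0x55720042ad)) (.node (.leaf 0x218b0037b0) (.leaf 0x0))))) (.node (.node (.node (.node (.leaf 0x100060d) (.leaf 0x43d000460d)) (.node (.leaf 0x20024f9) (.leaf 0x63d9000003))) (.node (.node (.leaf 0x160d000003) (.leaf 0x4c2c004329)) (.node (.leaf 0x1f7100346a) (.leaf 0x0)))) (.node (.node (.node (.leaf 0xe0d000001) (.leaf 0x4e0d00428c))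 (.node (.leaf 0x2e0d001f72) (.leaf 0x6c5b000001))) (.node (.node (.leaf 0x2001e0d) (.leaf 0x5d0d000003)) (.node (.leaf 0x2af5002220) (.leaf 0x0))))))) (.node (.node (.node (.node (.node (.node (.leaf 0x100010d) (.leaf 0x306600251c)) (.node (.leaf 0x2000204) (.leaf 0x5f6d000003))) (.node (.node (.leaf 0x110d000001) (.leaf 0x510d00428d)) (.node (.leaf 0x2b21001f72) (.leaf 0x70dd000003)))) (.node (.node (.node (.leaf 0x100090d) (.leaf 0x42ac00490d)) (.node (.leaf 0x2002883) (.leaf 0x66af000003))) (.node (.node (.leaf 0x100190d) (.leaf 0x590d00429b)) (.node (.leaf 0x1f71002a73) (.leaf 0x0))))) (.node (.node (.node (.node (.leaf 0x100050d) (.leaf 0x43a900450d)) (.node (.leaf 0x20023f5) (.leaf 0x62f9000003))) (.node (.node (.leaf 0x150d000003) (.leaf 0x439f00550d)) (.node (.leaf 0x1f7b0032b2) (.leaf 0x0)))) (.node (.node (.node (.leaf 0xd0d000003) (.leaf 0x4d0d004408)) (.node (.leaf 0x2b2b00236e) (.leaf 0x6b05000001))) (.node (.node (.leaf 0x1d0d000003)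 (.leaf 0x5c59000001)) (.node (.leaf 0x2b73002552) (.leaf 0x0)))))) (.node (.node (.node (.node (.node (.leaf 0x30d000001) (.leaf 0x10042e5)) (.node (.leaf 0x1002235) (.leaf 0x610b000003))) (.node (.node (.leaf 0x130d000001) (.leaf 0x462b004369)) (.node (.leaf 0x2b48001f72) (.leaf 0x0)))) (.node (.node (.node (.leaf 0x1000b0d) (.leaf 0x4352004b0d)) (.node (.leaf 0x2b0d001f72) (.leaf 0x19a4000001))) (.node (.node (.leaf 0x2000202) (.leaf 0x1005aeb)) (.node (.leaf 0x3562001f72) (.leaf 0x0))))) (.node (.node (.node (.node (.leaf 0x200070d) (.leaf 0x470d0043e3)) (.node (.leaf 0x1002629) (.leaf 0x64b7000003))) (.node (.node (.leaf 0x200170d) (.leaf 0x45a50043f8)) (.node (.leaf 0x1f7b003391) (.leaf 0x0)))) (.node (.node (.node (.leaf 0xf0d000001) (.leaf 0x42b1004f0d)) (.node (.leaf 0x2f0d001f72) (.leaf 0x6ddf000001))) (.node (.node (.leaf 0x2001f0d) (.leaf 0x5ddd000003)) (.node (.leaf 0x2e480027e2) (.leaf 0x0)))))))) (.node (.node (.node (.node (.node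 (.node (.node (.leaf 0x8d000001) (.leaf 0x2f0500266c)) (.node (.leaf 0x2002033) (.leaf 0x5f03000001))) (.node (.node (.leaf 0x100108d) (.leaf 0x7300508d)) (.node (.leaf 0x2e2a000a02) (.leaf 0x6fdf000001)))) (.node (.node (.node (.leaf 0x100088d) (.leaf 0x42ee00488d)) (.node (.leaf 0x20027e1) (.leaf 0x200662c))) (.node (.node (.leaf 0x200188d) (.leaf 0x588d0043e3)) (.node (.leaf 0x23c3003501) (.leaf 0x0))))) (.node (.node (.node (.node (.leaf 0x200048d) (.leaf 0x448d004275)) (.node (.leaf 0x2002379) (.leaf 0x6285000003))) (.node (.node (.leaf 0x148d000001) (.leaf 0x438700548d)) (.node (.leaf 0x2b0b001f7b) (.leaf 0x0)))) (.node (.node (.node (.leaf 0xc8d000003) (.leaf 0x4c8d000023)) (.node (.leaf 0x2c8d001f7b) (.leaf 0x6a75000001))) (.node (.node (.leaf 0x1c8d000002) (.leaf 0x5bef000001)) (.node (.leaf 0x31b00024ae) (.leaf 0x0)))))) (.node (.node (.node (.node (.node (.leaf 0x28d000003) (.leaf 0x2100428b)) (.node (.leaf 0x21c2000003) (.leaf 0x609f000003)))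 (.node (.node (.leaf 0x128d000003) (.leaf 0x42e600528d)) (.node (.leaf 0x2f0900287a) (.leaf 0x0)))) (.node (.node (.node (.leaf 0x2000a8d) (.leaf 0x432800437d)) (.node (.leaf 0x1f71002a8d) (.leaf 0x6839000001))) (.node (.node (.leaf 0x2001a8d) (.leaf 0x4aab0042ae)) (.node (.leaf 0x2e38000fd2) (.leaf 0x0))))) (.node (.node (.node (.node (.leaf 0x100068d) (.leaf 0x43ef004325)) (.node (.leaf 0x1002587) (.leaf 0x6449000003))) (.node (.node (.leaf 0x100168d) (.leaf 0x43f00043f8)) (.node (.leaf 0x24b10032fc) (.leaf 0x0)))) (.node (.node (.node (.leaf 0xe8d000003) (.leaf 0x4e8d0042c1)) (.node (.leaf 0x1f7b002d32) (.leaf 0x6d0b000001))) (.node (.node (.leaf 0x2001e8d) (.leaf 0x1005d72)) (.node (.leaf 0x2f450020e4) (.leaf 0x0))))))) (.node (.node (.node (.node (.node (.node (.leaf 0x18d000003) (.leaf 0x333c002614)) (.node (.leaf 0x20020fd) (.leaf 0x5fcf000001))) (.node (.node (.leaf 0x118d000001) (.leaf 0x438700518d)) (.node (.leaf 0x1fbf002c72) (.leaf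 0x0)))) (.node (.node (.node (.leaf 0x98d000001) (.leaf 0x43c80044fc)) (.node (.leaf 0x2002957) (.leaf 0x672d000003))) (.node (.node (.leaf 0x100198d) (.leaf 0x4b5400432f)) (.node (.leaf 0x22c9002c8e) (.leaf 0x0))))) (.node (.node (.node (.node (.leaf 0x200058d) (.leaf 0x458d0043e3)) (.node (.leaf 0x2002471) (.leaf 0x636b000001))) (.node (.node (.leaf 0x158d000003) (.leaf 0x558d0042b4)) (.node (.leaf 0x26d9002b57) (.leaf 0x0)))) (.node (.node (.node (.leaf 0xd8d000003) (.leaf 0x45a40043ed)) (.node (.leaf 0x2a5200236e) (.leaf 0x6baf000003))) (.node (.node (.leaf 0x2001d8d) (.leaf 0x5cbb000003)) (.node (.leaf 0x30fd0001fb) (.leaf 0x0)))))) (.node (.node (.node (.node (.node (.leaf 0x300038d) (.leaf 0x4366004387)) (.node (.leaf 0x20022ab) (.leaf 0x6183000003))) (.node (.node (.leaf 0x138d000003) (.leaf 0x432e00463e)) (.node (.leaf 0x1f7100338d) (.leaf 0x0)))) (.node (.node (.node (.leaf 0x3000b8d) (.leaf 0x4367004388)) (.node (.leaf 0x1f71002b8d)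 (.leaf 0x694f000003))) (.node (.node (.leaf 0x1001b8d) (.leaf 0x1674000003)) (.node (.leaf 0x3038002320) (.leaf 0x0))))) (.node (.node (.node (.node (.leaf 0x100078d) (.leaf 0x478d0042a5)) (.node (.leaf 0x10026c7) (.leaf 0x200653e))) (.node (.node (.leaf 0x100178d) (.leaf 0x43c00043b6)) (.node (.leaf 0x30b9000054) (.leaf 0x0)))) (.node (.node (.node (.leaf 0xf8d000001) (.leaf 0x4f8d0043db)) (.node (.leaf 0x1f71002f8d) (.leaf 0x6e75000001))) (.node (.node (.leaf 0x2001f84) (.leaf 0x5e3e000001)) (.node (.leaf 0x2b11002755) (.leaf 0x0)))))))))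

/-- part -/
def slpT_121 : Tr Nat := (.node (.node (.node (.node (.node (.node (.node (.node (.leaf 0x100004d) (.leaf 0x2a1700266c)) (.node (.leaf 0x2001fff) (.leaf 0x5ecc000003))) (.node (.node (.leaf 0x100104d) (.leaf 0x504d004275)) (.node (.leaf 0x1f7b002d59) (.leaf 0x6f8d000003)))) (.node (.node (.node (.leaf 0x200084d) (.leaf 0x484d004384)) (.node (.leaf 0x200279d) (.leaf 0x20065e6))) (.node (.node (.leaf 0x100184d) (.leaf 0x584d0042b4)) (.node (.leaf 0x1f7b002e7d) (.leaf 0x0))))) (.node (.node (.node (.node (.leaf 0x100044d) (.leaf 0x436a0043f6)) (.node (.leaf 0x200234d) (.leaf 0x6245000003))) (.node (.node (.leaf 0x144d000003) (.leaf 0x43da00544d)) (.node (.leaf 0x316d001f72) (.leaf 0x0)))) (.node (.node (.node (.leaf 0xc4d000001) (.leaf 0x4c4d000003)) (.node (.leaf 0x2c05001f72) (.leaf 0x6a1f000003))) (.node (.node (.leaf 0x1c4d000003) (.leaf 0x3bd000001)) (.node (.leaf 0x2aa600249a) (.leaf 0x0)))))) (.node (.node (.node (.node (.node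 (.leaf 0x24d000001) (.leaf 0x34c400019b)) (.node (.leaf 0x200217f) (.leaf 0x606f000003))) (.node (.node (.leaf 0x124d000001) (.leaf 0x429c00524d)) (.node (.leaf 0x1f7b00324d) (.leaf 0x0)))) (.node (.node (.node (.leaf 0x2000a4d) (.leaf 0x42e4004a4d)) (.node (.leaf 0x1f71002a4d) (.leaf 0x67f4000001))) (.node (.node (.leaf 0x2001a4d) (.leaf 0x5a4d0042e7)) (.node (.leaf 0x2e2700218a) (.leaf 0x0))))) (.node (.node (.node (.node (.leaf 0x200064d) (.leaf 0x464d00003c)) (.node (.leaf 0x1002543) (.leaf 0x19a0000003))) (.node (.node (.leaf 0x164d000003) (.leaf 0x443600564d)) (.node (.leaf 0x4d002ca2) (.leaf 0x0)))) (.node (.node (.node (.leaf 0xe4d000002) (.leaf 0x4e4d00428f)) (.node (.leaf 0x1f71002e4d) (.leaf 0x6cb1000003))) (.node (.node (.leaf 0x1e4d000001) (.leaf 0x2005d3e)) (.node (.leaf 0x3071000186) (.leaf 0x0))))))) (.node (.node (.node (.node (.node (.node (.leaf 0x14d000003) (.leaf 0x347d0023b2)) (.node (.leaf 0x10020d5) (.leaf 0x5f99000003)))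 (.node (.node (.leaf 0x114d000001) (.leaf 0x43a700514d)) (.node (.leaf 0x1f7100314d) (.leaf 0x0)))) (.node (.node (.node (.leaf 0x100094d) (.leaf 0x43e000494d)) (.node (.leaf 0x20028f3) (.leaf 0x66ed000003))) (.node (.node (.leaf 0x100194d) (.leaf 0x594d004313)) (.node (.leaf 0x22570038b1) (.leaf 0x0))))) (.node (.node (.node (.node (.leaf 0x200054d) (.leaf 0x43680043b9)) (.node (.leaf 0x200242f) (.leaf 0x6333000003))) (.node (.node (.leaf 0x154d0014c7) (.leaf 0x42a400554d)) (.node (.leaf 0x299f002b81) (.leaf 0x0)))) (.node (.node (.node (.leaf 0xd4d000003) (.leaf 0x4d4d00439a)) (.node (.leaf 0x2d4d00018a) (.leaf 0x6b53000003))) (.node (.node (.leaf 0x1d4d000003) (.leaf 0x5c89000003)) (.node (.leaf 0x2adf0024e2) (.leaf 0x0)))))) (.node (.node (.node (.node (.node (.leaf 0x100034d) (.leaf 0x4349004325)) (.node (.leaf 0x2002276) (.leaf 0x6149000001))) (.node (.node (.leaf 0x134d000001) (.leaf 0x43ce00534d)) (.node (.leaf 0x237d002f0e) (.leaf 0x0))))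 (.node (.node (.node (.leaf 0x2000b4d) (.leaf 0x4b4d0042e5)) (.node (.leaf 0x1f71002b4d) (.leaf 0x68ff000003))) (.node (.node (.leaf 0x2001b4d) (.leaf 0x100160c)) (.node (.leaf 0x2deb0020cb) (.leaf 0x0))))) (.node (.node (.node (.node (.leaf 0x100074d) (.leaf 0x474d00432f)) (.node (.leaf 0x266e000001) (.leaf 0x64f5000003))) (.node (.node (.leaf 0x100174d) (.leaf 0x200574d)) (.node (.leaf 0x374d001f46) (.leaf 0x0)))) (.node (.node (.node (.leaf 0xf4d000003) (.leaf 0x428a004f4d)) (.node (.leaf 0x1f7b002d67) (.leaf 0x6e25000001))) (.node (.node (.leaf 0x1f4d000003) (.leaf 0x5e0f000003)) (.node (.leaf 0x373d000fd9) (.leaf 0x0)))))))) (.node (.node (.node (.node (.node (.node (.node (.leaf 0x10000cd) (.leaf 0x34d2000187)) (.node (.leaf 0x200205b) (.leaf 0x5f3b000003))) (.node (.node (.leaf 0x20010cd) (.leaf 0x430e0050cd)) (.node (.leaf 0x1f710030ce) (.leaf 0x7045000003)))) (.node (.node (.node (.leaf 0x10008cd) (.leaf 0x42ac0048cd)) (.node (.leaf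 0x100282b) (.leaf 0x2006666))) (.node (.node (.leaf 0x20018cd) (.leaf 0x3000a14)) (.node (.leaf 0x2261002f1c) (.leaf 0x0))))) (.node (.node (.node (.node (.leaf 0x10004cd) (.leaf 0x4499004429)) (.node (.leaf 0x20023bb) (.leaf 0x62b7000003))) (.node (.node (.leaf 0x14cd000003) (.leaf 0x43120054cd)) (.node (.leaf 0x1f71002eee) (.leaf 0x0)))) (.node (.node (.node (.leaf 0xccd000001) (.leaf 0x4ccd004406)) (.node (.leaf 0x2c5f0029ac) (.leaf 0x6ab5000003))) (.node (.node (.leaf 0x1ccd000001) (.leaf 0x5c27000001)) (.node (.leaf 0x2dcd00244c) (.leaf 0x0)))))) (.node (.node (.node (.node (.node (.leaf 0x2cd000001) (.leaf 0x42cb000001)) (.node (.leaf 0x20021f7) (.leaf 0xc59000003))) (.node (.node (.leaf 0x12cd000003) (.leaf 0x52cd000074)) (.node (.leaf 0x30af001f72) (.leaf 0x0)))) (.node (.node (.node (.leaf 0x2000acd) (.leaf 0x4401004acd)) (.node (.leaf 0x1f71002acd) (.leaf 0x6878000003))) (.node (.node (.leaf 0x1001acd) (.leaf 0x200135e)) (.node (.leaf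 0x34510023f0) (.leaf 0x0))))) (.node (.node (.node (.node (.leaf 0x20006cd) (.leaf 0x43b8004325)) (.node (.leaf 0x10025d1) (.leaf 0x647d000003))) (.node (.node (.leaf 0x20016a0) (.leaf 0x4619004398)) (.node (.leaf 0x5e7002d96) (.leaf 0x0)))) (.node (.node (.node (.leaf 0xecd000003) (.leaf 0x22004ecd)) (.node (.leaf 0x1f71002e32) (.leaf 0x6d6b000001))) (.node (.node (.leaf 0x1001ecd) (.leaf 0x2005863)) (.node (.leaf 0x2ddc00207a) (.leaf 0x0))))))) (.node (.node (.node (.node (.node (.node (.leaf 0x20001cd) (.leaf 0x2ad80019d9)) (.node (.leaf 0x2002098) (.leaf 0x1929000003))) (.node (.node (.leaf 0x11cd000003) (.leaf 0x51cd0042ef)) (.node (.leaf 0x1f7b0031cd) (.leaf 0x0)))) (.node (.node (.node (.leaf 0x9cd000003) (.leaf 0x49cd004301)) (.node (.leaf 0x1f710029cd) (.leaf 0x6771000001))) (.node (.node (.leaf 0x10004cb) (.leaf 0x59cd00442f)) (.node (.leaf 0x286100362f) (.leaf 0x0))))) (.node (.node (.node (.node (.leaf 0x10005cd) (.leaf 0x45cd00428f))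 (.node (.leaf 0x20024b5) (.leaf 0x63a1000001))) (.node (.node (.leaf 0x15cd000001) (.leaf 0x55cd0042b4)) (.node (.leaf 0x1f710034ae) (.leaf 0x0)))) (.node (.node (.node (.leaf 0xdcd000003) (.leaf 0x4dcd004317)) (.node (.leaf 0x2dcd001f7b) (.leaf 0x6c05000001))) (.node (.node (.leaf 0x2001dcd) (.leaf 0x5c22000003)) (.node (.leaf 0x2af70021b9) (.leaf 0x0)))))) (.node (.node (.node (.node (.node (.leaf 0x10003cd) (.leaf 0x42ae0043b4)) (.node (.leaf 0x1001d5d) (.leaf 0x61c7000001))) (.node (.node (.leaf 0x13cd000003) (.leaf 0x43c80043f5)) (.node (.leaf 0x33cd001f72) (.leaf 0x0)))) (.node (.node (.node (.leaf 0xbcd000003) (.leaf 0x4bcd004301)) (.node (.leaf 0x2a68001f72) (.leaf 0x6995000003))) (.node (.node (.leaf 0x2001bcd) (.leaf 0x5b75000003)) (.node (.leaf 0x2eba0027aa) (.leaf 0x0))))) (.node (.node (.node (.node (.leaf 0x10007cd) (.leaf 0x43020047cd)) (.node (.leaf 0x1002709) (.leaf 0x1006572))) (.node (.node (.leaf 0x30017cd) (.leaf 0x42e60057cd))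 (.node (.leaf 0x3093002408) (.leaf 0x0)))) (.node (.node (.node (.leaf 0x2000fcd) (.leaf 0x47d30042ae)) (.node (.leaf 0x1f7b002fcd) (.leaf 0x6edf000003))) (.node (.node (.leaf 0x2001fab) (.leaf 0x5e6e000003)) (.node (.leaf 0x372e0020f8) (.leaf 0x0)))))))))

/-- part -/
def slpT_122 : Tr Nat := (.node (.node (.node (.node (.node (.node (.node (.node (.leaf 0x2d000001) (.leaf 0x29e100266c)) (.node (.leaf 0x2001fee) (.leaf 0x3c1000003))) (.node (.node (.leaf 0x200102d) (.leaf 0x502d0043a0)) (.node (.leaf 0x1f7b00302d) (.leaf 0x6f53000001)))) (.node (.node (.node (.leaf 0x100082d) (.leaf 0x3b00482d)) (.node (.leaf 0x1002774) (.leaf 0x65cd000001))) (.node (.node (.leaf 0x100182d) (.leaf 0x44c50042b0)) (.node (.leaf 0x1f7100343c) (.leaf 0x0))))) (.node (.node (.node (.node (.leaf 0x300042d) (.leaf 0x4427004325)) (.node (.leaf 0x2002333) (.leaf 0x6223000001))) (.node (.node (.leaf 0x142d000001) (.leaf 0x42c000542d)) (.node (.leaf 0x2f05002020) (.leaf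 0x0)))) (.node (.node (.node (.leaf 0xc2d000001) (.leaf 0x4c2d00438a)) (.node (.leaf 0x2c2d001f72) (.leaf 0x6a05000003))) (.node (.node (.leaf 0x1c2d0017f5) (.leaf 0x1e19000003)) (.node (.leaf 0x38020025a2) (.leaf 0x0)))))) (.node (.node (.node (.node (.node (.leaf 0x22d000001) (.leaf 0x396a0028d4)) (.node (.leaf 0x2160000003) (.leaf 0x6051000003))) (.node (.node (.leaf 0x122d000001) (.leaf 0x438500437a)) (.node (.leaf 0x1f7b003092) (.leaf 0x0)))) (.node (.node (.node (.leaf 0x2000a2d) (.leaf 0x43f700441e)) (.node (.leaf 0x2a2d001f72) (.leaf 0x67d4000003))) (.node (.node (.leaf 0x3001a2d) (.leaf 0x5a2d00428c)) (.node (.leaf 0x1d10035d5) (.leaf 0x0))))) (.node (.node (.node (.node (.leaf 0x200062d) (.leaf 0x43d200462d)) (.node (.leaf 0x2002515) (.leaf 0x627a000003))) (.node (.node (.leaf 0x1335000003) (.leaf 0x562d004313)) (.node (.leaf 0x1f7b003422) (.leaf 0x0)))) (.node (.node (.node (.leaf 0xe2d000002) (.leaf 0x3004e2d)) (.node (.leaf 0x2c77001f7b)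 (.leaf 0x6c8d000001))) (.node (.node (.leaf 0x1e2d000002) (.leaf 0x2005d24)) (.node (.leaf 0x2a31002220) (.leaf 0x0))))))) (.node (.node (.node (.node (.node (.node (.leaf 0x200012d) (.leaf 0x33db0021e8)) (.node (.leaf 0x2001eb3) (.leaf 0x5f81000003))) (.node (.node (.leaf 0x112d000001) (.leaf 0x436a0045a4)) (.node (.leaf 0x301c001f72) (.leaf 0x0)))) (.node (.node (.node (.leaf 0x200092d) (.leaf 0x492d0042ac)) (.node (.leaf 0x20028c1) (.leaf 0x66cf000001))) (.node (.node (.leaf 0x200192d) (.leaf 0x592d0042cd)) (.node (.leaf 0x27ef002baa) (.leaf 0x0))))) (.node (.node (.node (.node (.leaf 0x100052d) (.leaf 0x442600452d)) (.node (.leaf 0x2002411) (.leaf 0x6315000001))) (.node (.node (.leaf 0x152d000001) (.leaf 0x428a00552d)) (.node (.leaf 0x220000352d) (.leaf 0x0)))) (.node (.node (.node (.leaf 0xd2d000001) (.leaf 0x4d2d0042ac)) (.node (.leaf 0x2d2d000fce) (.leaf 0x6b2b000003))) (.node (.node (.leaf 0x1d2d0001cf) (.leaf 0x5c73000003)) (.node (.leaf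 0x3384002552) (.leaf 0x0)))))) (.node (.node (.node (.node (.node (.leaf 0x32d000003) (.leaf 0x4329004325)) (.node (.leaf 0x2002255) (.leaf 0x612b000003))) (.node (.node (.leaf 0x132d000003) (.leaf 0x42b100532d)) (.node (.leaf 0x2cb7001f72) (.leaf 0x0)))) (.node (.node (.node (.leaf 0x2000b2d) (.leaf 0x43ba004325)) (.node (.leaf 0x2add001f7b) (.leaf 0x68d2000003))) (.node (.node (.leaf 0x1001b2d) (.leaf 0x2002378)) (.node (.leaf 0x330900097e) (.leaf 0x0))))) (.node (.node (.node (.node (.leaf 0x200072d) (.leaf 0x472d0043a0)) (.node (.leaf 0x200232c) (.leaf 0x64dd000003))) (.node (.node (.leaf 0x100172d) (.leaf 0x572d0043e1)) (.node (.leaf 0x1f7100372d) (.leaf 0x0)))) (.node (.node (.node (.leaf 0xf2d000001) (.leaf 0x42a4004f2d)) (.node (.leaf 0x2ed7001f72) (.leaf 0x6dfd000001))) (.node (.node (.leaf 0x2001f2d) (.leaf 0x5df7000001)) (.node (.leaf 0x2f350027e2) (.leaf 0x0)))))))) (.node (.node (.node (.node (.node (.node (.node (.leaf 0xad000001)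 (.leaf 0x336000257c)) (.node (.leaf 0x2001fc4) (.leaf 0x3c9000003))) (.node (.node (.leaf 0x10010ad) (.leaf 0x43830050ad)) (.node (.leaf 0x30ad001f72) (.leaf 0x7015000001)))) (.node (.node (.node (.leaf 0x10008ad) (.leaf 0x3b0048ad)) (.node (.leaf 0x1002807) (.leaf 0x2006646))) (.node (.node (.leaf 0x20018ad) (.leaf 0x58ad004349)) (.node (.leaf 0x1f7b003725) (.leaf 0x0))))) (.node (.node (.node (.node (.leaf 0x20004ad) (.leaf 0x44ad0042a5)) (.node (.leaf 0x1002399) (.leaf 0x629f000003))) (.node (.node (.leaf 0x13b3000001) (.leaf 0x442c005179)) (.node (.leaf 0x3212001f72) (.leaf 0x0)))) (.node (.node (.node (.leaf 0xcad000003) (.leaf 0x4cad004349)) (.node (.leaf 0x2cad001f72) (.leaf 0x6a97000001))) (.node (.node (.leaf 0x1cad000003) (.leaf 0x20d3000003)) (.node (.leaf 0x2a1f00244c) (.leaf 0x0)))))) (.node (.node (.node (.node (.node (.leaf 0x70000001) (.leaf 0x42ac00428a)) (.node (.leaf 0x20021d9) (.leaf 0x60bd000003))) (.node (.node (.leaf 0x12ad000001)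 (.leaf 0x42e40052ad)) (.node (.leaf 0x29d8000968) (.leaf 0x0)))) (.node (.node (.node (.leaf 0x20008c4) (.leaf 0x42c0004aad)) (.node (.leaf 0x1f71002aad) (.leaf 0x6818000001))) (.node (.node (.leaf 0x10003ec) (.leaf 0x5aad004439)) (.node (.leaf 0x33be00249c) (.leaf 0x0))))) (.node (.node (.node (.node (.leaf 0x30006ad) (.leaf 0x46ad0042e9)) (.node (.leaf 0x20025ab) (.leaf 0x6467000003))) (.node (.node (.leaf 0x20016ad) (.leaf 0x43b8004420)) (.node (.leaf 0x24b100311e) (.leaf 0x0)))) (.node (.node (.node (.leaf 0xead000003) (.leaf 0x4ead0010e7)) (.node (.leaf 0x1f71002ead) (.leaf 0x6d33000003))) (.node (.node (.leaf 0x2001ead) (.leaf 0x2005d8c)) (.node (.leaf 0x2a1100227d) (.leaf 0x0))))))) (.node (.node (.node (.node (.node (.node (.leaf 0x1ad000003) (.leaf 0x3500001faa)) (.node (.leaf 0x200210f) (.leaf 0x5feb000001))) (.node (.node (.leaf 0x11ad000001) (.leaf 0x51ad0010e7)) (.node (.leaf 0x1f7b0031ad) (.leaf 0x0)))) (.node (.node (.node (.leaf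 0x9ad000003) (.leaf 0x428c0049ad)) (.node (.leaf 0x20029a9) (.leaf 0x6755000003))) (.node (.node (.leaf 0x20019ad) (.leaf 0x59ad0043d9)) (.node (.leaf 0x26270035fd) (.leaf 0x0))))) (.node (.node (.node (.node (.leaf 0x10003a8) (.leaf 0x45ad00429d)) (.node (.leaf 0x2002497) (.leaf 0x6385000001))) (.node (.node (.leaf 0x15ad000003) (.leaf 0x55ad004433)) (.node (.leaf 0x1f71002d2c) (.leaf 0x0)))) (.node (.node (.node (.leaf 0xdad000001) (.leaf 0x4dad004353)) (.node (.leaf 0x2b33001f72) (.leaf 0x6bcf000003))) (.node (.node (.leaf 0x1001dad) (.leaf 0x1678000001)) (.node (.leaf 0x34c6002804) (.leaf 0x0)))))) (.node (.node (.node (.node (.node (.leaf 0x20003ad) (.leaf 0x428b0043ad)) (.node (.leaf 0x10022c7) (.leaf 0x61a1000003))) (.node (.node (.leaf 0x13ad000001) (.leaf 0x53ad000001)) (.node (.leaf 0x1f710033ad) (.leaf 0x0)))) (.node (.node (.node (.leaf 0x1000bad) (.leaf 0x4bad0042fb)) (.node (.leaf 0x2bad001f72) (.leaf 0x6975000001))) (.node (.node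 (.leaf 0x1001bad) (.leaf 0x1b36000003)) (.node (.leaf 0x2f5a0022e4) (.leaf 0x0))))) (.node (.node (.node (.node (.leaf 0x10007ad) (.leaf 0x428d0047ad)) (.node (.leaf 0x20026e5) (.leaf 0x1006552))) (.node (.node (.leaf 0x10017ad) (.leaf 0x44050057ad)) (.node (.leaf 0x35b0001f72) (.leaf 0x0)))) (.node (.node (.node (.leaf 0xfad000003) (.leaf 0x4fad004349)) (.node (.leaf 0x1f7b002f34) (.leaf 0x6eab000003))) (.node (.node (.leaf 0x1001f9f) (.leaf 0x5e5b000001)) (.node (.leaf 0x2d58002154) (.leaf 0x0)))))))))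

/-- part -/
def slpT_123 : Tr Nat := (.node (.node (.node (.node (.node (.node (.node (.node (.leaf 0x200006d) (.leaf 0x34c000266c)) (.node (.leaf 0x1002017) (.leaf 0x5ee5000001))) (.node (.node (.leaf 0x300106d) (.leaf 0x43260045a5)) (.node (.leaf 0x306d001f72) (.leaf 0x6fc1000003)))) (.node (.node (.node (.leaf 0x200086d) (.leaf 0x43d000486e)) (.node (.leaf 0x10027bd) (.leaf 0x100660c))) (.node (.node (.leaf 0x100186d) (.leaf 0x436c004400)) (.node (.leaf 0x252b002e28) (.leaf 0x0))))) (.node (.node (.node (.node (.leaf 0x100046d) (.leaf 0x446d004435)) (.node (.leaf 0x1002361) (.leaf 0x6269000001))) (.node (.node (.leaf 0x146d000001) (.leaf 0x428e00546d)) (.node (.leaf 0x346d000fd6) (.leaf 0x0)))) (.node (.node (.node (.leaf 0xc6d000003) (.leaf 0x43e0004c6d)) (.node (.leaf 0x2c6d001f72) (.leaf 0x6a3b000003))) (.node (.node (.leaf 0x1c6d000001) (.leaf 0x5bd9000003)) (.node (.leaf 0x2cad0022fc) (.leaf 0x0)))))) (.node (.node (.node (.node (.node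 (.leaf 0x26d000001) (.leaf 0x2c6d0022de)) (.node (.leaf 0xa3d000003) (.leaf 0x6085000001))) (.node (.node (.leaf 0x126d000003) (.leaf 0x526d0042b4)) (.node (.leaf 0x1f71002e93) (.leaf 0x0)))) (.node (.node (.node (.leaf 0x1000a6d) (.leaf 0x43ce0043c9)) (.node (.leaf 0x1f710029b9) (.leaf 0x6815000001))) (.node (.node (.leaf 0x1001a6d) (.leaf 0x5a6d004402)) (.node (.leaf 0x30ad001f7b) (.leaf 0x0))))) (.node (.node (.node (.node (.leaf 0x100066d) (.leaf 0x466d004437)) (.node (.leaf 0x100256b) (.leaf 0x642d000003))) (.node (.node (.leaf 0x166d000003) (.leaf 0x439d00566d)) (.node (.leaf 0x4d002a4d) (.leaf 0x0)))) (.node (.node (.node (.leaf 0xe6d000001) (.leaf 0x4e6d00434d)) (.node (.leaf 0x1f71002e6d) (.leaf 0x6ce7000003))) (.node (.node (.leaf 0x2001e6d) (.leaf 0x2005d54)) (.node (.leaf 0x34110027ba) (.leaf 0x0))))))) (.node (.node (.node (.node (.node (.node (.leaf 0x16d000001) (.leaf 0x303600285c)) (.node (.leaf 0x20020e9) (.leaf 0x1c67000003)))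 (.node (.node (.leaf 0x116d000003) (.leaf 0x430e00516d)) (.node (.leaf 0x1f7100316d) (.leaf 0x0)))) (.node (.node (.node (.leaf 0x200096d) (.leaf 0x4428004365)) (.node (.leaf 0x100292d) (.leaf 0x6709000003))) (.node (.node (.leaf 0x200196d) (.leaf 0x596d0042e7)) (.node (.leaf 0x1f71002afc) (.leaf 0x0))))) (.node (.node (.node (.node (.leaf 0x200056d) (.leaf 0x456d00432f)) (.node (.leaf 0x2001ef2) (.leaf 0x634d000001))) (.node (.node (.leaf 0x156d000003) (.leaf 0x556d004439)) (.node (.leaf 0x1f7100356d) (.leaf 0x0)))) (.node (.node (.node (.leaf 0x12000001) (.leaf 0x447d0043bf)) (.node (.leaf 0x1f71002d6d) (.leaf 0x6b81000001))) (.node (.node (.leaf 0x1001d6d) (.leaf 0x5ca9000001)) (.node (.leaf 0x2dd300216e) (.leaf 0x0)))))) (.node (.node (.node (.node (.node (.leaf 0x100036d) (.leaf 0x4369004367)) (.node (.leaf 0x200226b) (.leaf 0x6165000003))) (.node (.node (.leaf 0x136d000003) (.leaf 0x439700536d)) (.node (.leaf 0x1f7b00336d) (.leaf 0x0))))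 (.node (.node (.node (.leaf 0x1000b6d) (.leaf 0x4b6d0042f1)) (.node (.leaf 0x1f71002b6d) (.leaf 0x5569000003))) (.node (.node (.leaf 0x1001b6d) (.leaf 0x3b7000001)) (.node (.leaf 0x34ea0026c8) (.leaf 0x0))))) (.node (.node (.node (.node (.leaf 0x200076d) (.leaf 0x42e600476d)) (.node (.leaf 0x2692000001) (.leaf 0x6513000003))) (.node (.node (.leaf 0x200176d) (.leaf 0x440100576d)) (.node (.leaf 0x2e98002785) (.leaf 0x0)))) (.node (.node (.node (.leaf 0xf6d000003) (.leaf 0x44190043c3)) (.node (.leaf 0x27d9002f6d) (.leaf 0x6e47000001))) (.node (.node (.leaf 0x1f6d000002) (.leaf 0x2748000003)) (.node (.leaf 0x32c3000fd9) (.leaf 0x0)))))))) (.node (.node (.node (.node (.node (.node (.node (.leaf 0x10000ed) (.leaf 0x3771000187)) (.node (.leaf 0x2002077) (.leaf 0x5f55000001))) (.node (.node (.leaf 0x20010ed) (.leaf 0x43a70050ed)) (.node (.leaf 0x1f7b002dae) (.leaf 0x7095000003)))) (.node (.node (.node (.leaf 0x20008ed) (.leaf 0x3d0048ed)) (.node (.leaf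 0x2002851) (.leaf 0x6695000003))) (.node (.node (.leaf 0x20018ed) (.leaf 0x44050058ed)) (.node (.leaf 0x21c7002a91) (.leaf 0x0))))) (.node (.node (.node (.node (.leaf 0x20004ed) (.leaf 0x42f80044ed)) (.node (.leaf 0x20023d5) (.leaf 0x62d7000003))) (.node (.node (.leaf 0x14ed000001) (.leaf 0x54ed000023)) (.node (.leaf 0x1f71003151) (.leaf 0x0)))) (.node (.node (.node (.leaf 0xced000001) (.leaf 0x4ced004427)) (.node (.leaf 0x2cb3000fce) (.leaf 0x6adf000003))) (.node (.node (.leaf 0x1ced000003) (.leaf 0x2115000003)) (.node (.leaf 0x375b00233c) (.leaf 0x0)))))) (.node (.node (.node (.node (.node (.leaf 0xc8000002) (.leaf 0x42e700428b)) (.node (.leaf 0x200133b) (.leaf 0x60ef000003))) (.node (.node (.leaf 0x12ed000001) (.leaf 0x52ed00428f)) (.node (.leaf 0x2fa60027fe) (.leaf 0x0)))) (.node (.node (.node (.leaf 0x1000aed) (.leaf 0x439f004aed)) (.node (.leaf 0x2aed001f72) (.leaf 0x689c000001))) (.node (.node (.leaf 0x3001aed) (.leaf 0x2002124)) (.node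 (.leaf 0x2f6e00266a) (.leaf 0x0))))) (.node (.node (.node (.node (.leaf 0x20006ed) (.leaf 0x46ed0042f1)) (.node (.leaf 0x20025f3) (.leaf 0x624c000003))) (.node (.node (.leaf 0x30016ed) (.leaf 0x56ed00434d)) (.node (.leaf 0x258b0029d0) (.leaf 0x0)))) (.node (.node (.node (.leaf 0xeed000002) (.leaf 0x4352004eed)) (.node (.leaf 0x2b90001f72) (.leaf 0x6dad000001))) (.node (.node (.leaf 0x2001eed) (.leaf 0x5dc1000001)) (.node (.leaf 0x2baf0027e2) (.leaf 0x0))))))) (.node (.node (.node (.node (.node (.node (.leaf 0x20001ed) (.leaf 0x2fd0002606)) (.node (.leaf 0x2002137) (.leaf 0x601d000001))) (.node (.node (.leaf 0x11ed000003) (.leaf 0x49ec004400)) (.node (.leaf 0x1f710031ed) (.leaf 0x0)))) (.node (.node (.node (.leaf 0x9ed000003) (.leaf 0x428a0049ed)) (.node (.leaf 0x29ed001f72) (.leaf 0x6796000003))) (.node (.node (.leaf 0x10019ed) (.leaf 0x59ed0043d9)) (.node (.leaf 0x28ab002a4b) (.leaf 0x0))))) (.node (.node (.node (.node (.leaf 0x20005ed) (.leaf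 0x43ec004419)) (.node (.leaf 0x10024d3) (.leaf 0x63bb000001))) (.node (.node (.leaf 0x15ed000001) (.leaf 0x43b40043ed)) (.node (.leaf 0x2967002a50) (.leaf 0x0)))) (.node (.node (.node (.leaf 0xded000001) (.leaf 0x4ded004433)) (.node (.leaf 0x29e1001f72) (.leaf 0x6c2b000003))) (.node (.node (.leaf 0x1001ded) (.leaf 0x5cfd000001)) (.node (.leaf 0x33250021b9) (.leaf 0x0)))))) (.node (.node (.node (.node (.node (.leaf 0x3ed000003) (.leaf 0x43660043ee)) (.node (.leaf 0x20022f9) (.leaf 0x61e3000003))) (.node (.node (.leaf 0x13ed000003) (.leaf 0x42e60053ed)) (.node (.leaf 0x310b001f72) (.leaf 0x0)))) (.node (.node (.node (.leaf 0xbed000002) (.leaf 0x4bed0043d3)) (.node (.leaf 0x2b7e001f72) (.leaf 0x69b9000003))) (.node (.node (.leaf 0x3001bed) (.leaf 0x26c3000003)) (.node (.leaf 0x2c43002477) (.leaf 0x0))))) (.node (.node (.node (.node (.leaf 0x20007ed) (.leaf 0x43a90047ed)) (.node (.leaf 0x2002731) (.leaf 0x200658a))) (.node (.node (.leaf 0x10017ed)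 (.leaf 0x43d0004daa)) (.node (.leaf 0x27190037ed) (.leaf 0x0)))) (.node (.node (.node (.leaf 0x1000fed) (.leaf 0x4397004fed)) (.node (.leaf 0x1f71002ed0) (.leaf 0x6f07000001))) (.node (.node (.leaf 0x1fc4000003) (.leaf 0x14c7000003)) (.node (.leaf 0x35a60023e8) (.leaf 0x0)))))))))

/-- part -/
def slpT_124 : Tr Nat := (.node (.node (.node (.node (.node (.node (.node (.node (.leaf 0x1d000003) (.leaf 0x2c41000f75)) (.node (.leaf 0x2001fe6) (.leaf 0x5ea8000003))) (.node (.node (.leaf 0x100101d) (.leaf 0x501d0043e1)) (.node (.leaf 0x1f7100301d) (.leaf 0x4c46000003)))) (.node (.node (.node (.leaf 0x100081d) (.leaf 0x432800481d)) (.node (.leaf 0x1002766) (.leaf 0x65bb000001))) (.node (.node (.leaf 0x300181d) (.leaf 0x581d00428b)) (.node (.leaf 0x1f71002cb0) (.leaf 0x0))))) (.node (.node (.node (.node (.leaf 0x100041d) (.leaf 0x441a004324)) (.node (.leaf 0x1002325) (.leaf 0xbcf000003))) (.node (.node (.leaf 0x141d000001) (.leaf 0x42fc00541d)) (.node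 (.leaf 0x3291001f7b) (.leaf 0x0)))) (.node (.node (.node (.leaf 0xc1d000001) (.leaf 0x4c1d00428f)) (.node (.leaf 0x2c1d001f72) (.leaf 0x69ed000003))) (.node (.node (.leaf 0x65001c1d) (.leaf 0x427b000001)) (.node (.leaf 0x2ad60020aa) (.leaf 0x0)))))) (.node (.node (.node (.node (.node (.leaf 0x100021d) (.leaf 0x2b1b00297e)) (.node (.leaf 0x2156000003) (.leaf 0x6045000001))) (.node (.node (.leaf 0x121d000003) (.leaf 0x442800483a)) (.node (.leaf 0x24bb002e27) (.leaf 0x0)))) (.node (.node (.node (.leaf 0x2000a1d) (.leaf 0x42e4004a1d)) (.node (.leaf 0x2a1d001f7b) (.leaf 0x67c4000003))) (.node (.node (.leaf 0x1a1d001989) (.leaf 0x5a1d0042e5)) (.node (.leaf 0x50002a52) (.leaf 0x0))))) (.node (.node (.node (.node (.leaf 0x200061d) (.leaf 0x440500461d)) (.node (.leaf 0x100250b) (.leaf 0x6270000003))) (.node (.node (.leaf 0x161d000003) (.leaf 0x4b43004386)) (.node (.leaf 0x1f7b002e97) (.leaf 0x0)))) (.node (.node (.node (.leaf 0xe1d000001) (.leaf 0x42b3004e1d))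 (.node (.leaf 0x2c0d001f7b) (.leaf 0x6c77000003))) (.node (.node (.leaf 0x2001c3e) (.leaf 0x2005d1c)) (.node (.leaf 0x38e0002220) (.leaf 0x0))))))) (.node (.node (.node (.node (.node (.node (.leaf 0x100011d) (.leaf 0x2fc80021e8)) (.node (.leaf 0x20020af) (.leaf 0x5f79000001))) (.node (.node (.leaf 0x111d000001) (.leaf 0x511d0043a8)) (.node (.leaf 0x311d001f7b) (.leaf 0x7103000001)))) (.node (.node (.node (.leaf 0x300091d) (.leaf 0x42ac0044c5)) (.node (.leaf 0x100289f) (.leaf 0x66bd000001))) (.node (.node (.leaf 0x6700191d) (.leaf 0x591d0043ac)) (.node (.leaf 0x13e002da8) (.leaf 0x0))))) (.node (.node (.node (.node (.leaf 0x100051d) (.leaf 0x428c00451d)) (.node (.leaf 0x1002407) (.leaf 0x6307000001))) (.node (.node (.leaf 0x151d000001) (.leaf 0x430000551d)) (.node (.leaf 0x2200002bee) (.leaf 0x0)))) (.node (.node (.node (.leaf 0xd1d000001) (.leaf 0x4d1d0042c1)) (.node (.leaf 0x29e7001f7b) (.leaf 0x6b17000003))) (.node (.node (.leaf 0x1d1d000002)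 (.leaf 0x5c65000003)) (.node (.leaf 0x37e2002552) (.leaf 0x0)))))) (.node (.node (.node (.node (.node (.leaf 0x31d000003) (.leaf 0x431d00429e)) (.node (.leaf 0x100224b) (.leaf 0x611b000003))) (.node (.node (.leaf 0x131d000003) (.leaf 0x42b100531d)) (.node (.leaf 0x3115001f7b) (.leaf 0x0)))) (.node (.node (.node (.leaf 0x2000b1d) (.leaf 0x42e6004b1d)) (.node (.leaf 0x2b1d001f72) (.leaf 0x68c4000003))) (.node (.node (.leaf 0x2001b1d) (.leaf 0x20020b0)) (.node (.leaf 0x2bbf00276b) (.leaf 0x0))))) (.node (.node (.node (.node (.leaf 0x300071d) (.leaf 0x471d00443b)) (.node (.leaf 0x2002637) (.leaf 0x64cb000003))) (.node (.node (.leaf 0x100171d) (.leaf 0x571d004406)) (.node (.leaf 0x25ff002a28) (.leaf 0x0)))) (.node (.node (.node (.leaf 0xead000001) (.leaf 0x4401004f1d)) (.node (.leaf 0x2f1d001f72) (.leaf 0x6ded000003))) (.node (.node (.leaf 0x1001f1d) (.leaf 0x5de7000003)) (.node (.leaf 0x2c090027e2) (.leaf 0x0)))))))) (.node (.node (.node (.node (.node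 (.node (.node (.leaf 0x9d000001) (.leaf 0x32a10021b4)) (.node (.leaf 0x2001fc0) (.leaf 0x5f15000001))) (.node (.node (.leaf 0x100109d) (.leaf 0x42f800509d)) (.node (.leaf 0x2c59000a02) (.leaf 0x6ffd000001)))) (.node (.node (.node (.leaf 0x100089d) (.leaf 0x43c00044fc)) (.node (.leaf 0x20027ef) (.leaf 0x100663a))) (.node (.node (.leaf 0x200189d) (.leaf 0x589d0042fb)) (.node (.leaf 0x27cd00381f) (.leaf 0x0))))) (.node (.node (.node (.node (.leaf 0x200049d) (.leaf 0x42e600449d)) (.node (.leaf 0x20021aa) (.leaf 0x6295000001))) (.node (.node (.leaf 0x149d000003) (.leaf 0x43870053b9)) (.node (.leaf 0x349d001f72) (.leaf 0x0)))) (.node (.node (.node (.leaf 0xc9d000002) (.leaf 0x4c9d004406)) (.node (.leaf 0x2c15001f7b) (.leaf 0x6a87000003))) (.node (.node (.leaf 0x1c9d000003) (.leaf 0x5bfb000003)) (.node (.leaf 0x2faa00225c) (.leaf 0x0)))))) (.node (.node (.node (.node (.node (.leaf 0x29d000002) (.leaf 0x429b000001)) (.node (.leaf 0x21d2000003) (.leaf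 0x60ad000003))) (.node (.node (.leaf 0x129d000001) (.leaf 0x43d800529d)) (.node (.leaf 0x3224001f72) (.leaf 0x0)))) (.node (.node (.node (.leaf 0x1000a9d) (.leaf 0x43a9004a9d)) (.node (.leaf 0x1f7b002a9d) (.leaf 0x6847000003))) (.node (.node (.leaf 0x3001a9d) (.leaf 0x43ef0043c3)) (.node (.leaf 0x357200249c) (.leaf 0x0))))) (.node (.node (.node (.node (.leaf 0x1000611) (.leaf 0x469d000004)) (.node (.leaf 0x2002599) (.leaf 0x6459000001))) (.node (.node (.leaf 0x20005ec) (.leaf 0x4b2e0042ad)) (.node (.leaf 0x24b1003363) (.leaf 0x0)))) (.node (.node (.node (.leaf 0xe9d000001) (.leaf 0x4e9d0042cd)) (.node (.leaf 0x1f71002e9d) (.leaf 0x6d1b000003))) (.node (.node (.leaf 0x1001e9d) (.leaf 0x12c9000001)) (.node (.leaf 0x2ee9002089) (.leaf 0x0))))))) (.node (.node (.node (.node (.node (.node (.leaf 0x19d000001) (.leaf 0x2aaa001faa)) (.node (.leaf 0x2002105) (.leaf 0x5fdf000003))) (.node (.node (.leaf 0x119d000001) (.leaf 0x436c00441a)) (.node (.leaf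 0x1f7b002bac) (.leaf 0x0)))) (.node (.node (.node (.leaf 0x99d000001) (.leaf 0x42a400499d)) (.node (.leaf 0x100297d) (.leaf 0x6741000003))) (.node (.node (.leaf 0x200199d) (.leaf 0x4f810042ad)) (.node (.leaf 0x2627002a09) (.leaf 0x0))))) (.node (.node (.node (.node (.leaf 0x300059d) (.leaf 0x459d0042ed)) (.node (.leaf 0x2002483) (.leaf 0x6379000003))) (.node (.node (.leaf 0x159d000001) (.leaf 0x45900043d3)) (.node (.leaf 0x26d9002bf4) (.leaf 0x0)))) (.node (.node (.node (.leaf 0xd9d000003) (.leaf 0x4d9d0010e7)) (.node (.leaf 0x2d9d001f7b) (.leaf 0x6bbd000003))) (.node (.node (.leaf 0x1001d9d) (.leaf 0x2483000003)) (.node (.leaf 0x30630026c6) (.leaf 0x0)))))) (.node (.node (.node (.node (.node (.leaf 0x200039d) (.leaf 0x20004399)) (.node (.leaf 0x20022b7) (.leaf 0x6191000001))) (.node (.node (.leaf 0x139d000001) (.leaf 0x437000441c)) (.node (.leaf 0x1f8d002ff1) (.leaf 0x0)))) (.node (.node (.node (.leaf 0x2000b9d) (.leaf 0x43bb004373)) (.node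 (.leaf 0x1f71002b9d) (.leaf 0x695f000003))) (.node (.node (.leaf 0x1001b9d) (.leaf 0x5b4e000003)) (.node (.leaf 0x30890022e4) (.leaf 0x0))))) (.node (.node (.node (.node (.leaf 0x100079d) (.leaf 0x42fc00479d)) (.node (.leaf 0x20026d3) (.leaf 0x2006548))) (.node (.node (.leaf 0x100179d) (.leaf 0x42cc00579d)) (.node (.leaf 0x379d000054) (.leaf 0x0)))) (.node (.node (.node (.leaf 0xf9d000002) (.leaf 0x4f9d000003)) (.node (.leaf 0x1f71002f9d) (.leaf 0x6e87000001))) (.node (.node (.leaf 0x2000051) (.leaf 0x5e4a000003)) (.node (.leaf 0x29f9002154) (.leaf 0x0)))))))))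

/-- part -/
def slpT_125 : Tr Nat := (.node (.node (.node (.node (.node (.node (.node (.node (.leaf 0x200005d) (.leaf 0x307300266c)) (.node (.leaf 0x200200b) (.leaf 0x5ed5000003))) (.node (.node (.leaf 0x100105d) (.leaf 0x43bc00462b)) (.node (.leaf 0x2bc7001f7b) (.leaf 0x6fa1000001)))) (.node (.node (.node (.leaf 0x300085d) (.leaf 0x485d0042e5)) (.node (.leaf 0x20027ab) (.leaf 0x20065f8))) (.node (.node (.leaf 0x100185d) (.leaf 0x4d03004353)) (.node (.leaf 0x252b0035a3) (.leaf 0x0))))) (.node (.node (.node (.node (.leaf 0x100045d) (.leaf 0x43b500441b)) (.node (.leaf 0x2002357) (.leaf 0x625b000003))) (.node (.node (.leaf 0x145d000001) (.leaf 0x439b00545d)) (.node (.leaf 0x333e000fd6) (.leaf 0x0)))) (.node (.node (.node (.leaf 0xc5d000003) (.leaf 0x442800441d)) (.node (.leaf 0x2c5d001f72) (.leaf 0x58ef000003))) (.node (.node (.leaf 0x1c5d000001) (.leaf 0x2553000003)) (.node (.leaf 0x2a78002122) (.leaf 0x0)))))) (.node (.node (.node (.node (.node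 (.leaf 0x25d000001) (.leaf 0x38dc00263a)) (.node (.leaf 0x100218f) (.leaf 0x607b000001))) (.node (.node (.leaf 0x125d000003) (.leaf 0x525d00434d)) (.node (.leaf 0x1f71002b9b) (.leaf 0x0)))) (.node (.node (.node (.leaf 0x2000a5d) (.leaf 0x4383004a5d)) (.node (.leaf 0x1f7b002a5d) (.leaf 0x6806000003))) (.node (.node (.leaf 0x1001a5d) (.leaf 0x5a5d0043d7)) (.node (.leaf 0x2b0f00096d) (.leaf 0x0))))) (.node (.node (.node (.node (.leaf 0x100065d) (.leaf 0x465d004303)) (.node (.leaf 0x100255b) (.leaf 0x614a000001))) (.node (.node (.leaf 0x165d000003) (.leaf 0x42ec00565d)) (.node (.leaf 0x4d00365d) (.leaf 0x0)))) (.node (.node (.node (.leaf 0xe5d000001) (.leaf 0x4e5d0042e7)) (.node (.leaf 0x1f71002e5d) (.leaf 0x6cc7000003))) (.node (.node (.leaf 0x2001e5d) (.leaf 0x5d4b000001)) (.node (.leaf 0x316a0027ba) (.leaf 0x0))))))) (.node (.node (.node (.node (.node (.node (.leaf 0x15d000003) (.leaf 0x2b420023b2)) (.node (.leaf 0x10020df) (.leaf 0x5fa9000003)))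 (.node (.node (.leaf 0x115d000003) (.leaf 0x429a00515d)) (.node (.leaf 0x1f7100310e) (.leaf 0x0)))) (.node (.node (.node (.leaf 0x100095d) (.leaf 0x441f0043f6)) (.node (.leaf 0x2002911) (.leaf 0x66fb000001))) (.node (.node (.leaf 0x100195d) (.leaf 0x595d00439a)) (.node (.leaf 0x1f7100332e) (.leaf 0x0))))) (.node (.node (.node (.node (.leaf 0x200055d) (.leaf 0x455d000023)) (.node (.leaf 0x100243d) (.leaf 0x6341000001))) (.node (.node (.leaf 0x155d000003) (.leaf 0x43da00555d)) (.node (.leaf 0x1f7b002ca6) (.leaf 0x0)))) (.node (.node (.node (.leaf 0xd5d000003) (.leaf 0x4d5d0042b4)) (.node (.leaf 0x28d1002d5d) (.leaf 0x6b69000003))) (.node (.node (.leaf 0x2001d5e) (.leaf 0x5c99000003)) (.node (.leaf 0x2be1000f77) (.leaf 0x0)))))) (.node (.node (.node (.node (.node (.leaf 0x100035d) (.leaf 0x4359004325)) (.node (.leaf 0x1000c41) (.leaf 0x6155000003))) (.node (.node (.leaf 0x135d000003) (.leaf 0x434800535d)) (.node (.leaf 0x1f7100335d) (.leaf 0x0))))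 (.node (.node (.node (.leaf 0x1000b5d) (.leaf 0x4499004327)) (.node (.leaf 0x1f71002b5d) (.leaf 0x6915000001))) (.node (.node (.leaf 0x1001b5d) (.leaf 0x201f000003)) (.node (.leaf 0x2db4002824) (.leaf 0x0))))) (.node (.node (.node (.node (.leaf 0x200075d) (.leaf 0x7300475d)) (.node (.leaf 0x100267b) (.leaf 0x6503000003))) (.node (.node (.leaf 0x300175d) (.leaf 0x575d0042ef)) (.node (.leaf 0x3606001f72) (.leaf 0x0)))) (.node (.node (.node (.leaf 0xf5d000003) (.leaf 0x4f5d004398)) (.node (.leaf 0x1f7b002f5d) (.leaf 0x6e39000003))) (.node (.node (.leaf 0x1f5d000003) (.leaf 0x5e1b000003)) (.node (.leaf 0x2d1b000fd9) (.leaf 0x0)))))))) (.node (.node (.node (.node (.node (.node (.node (.leaf 0x10000dd) (.leaf 0x2a3a000187)) (.node (.leaf 0x2002069) (.leaf 0x5f45000003))) (.node (.node (.leaf 0x20010dd) (.leaf 0x3d0050dd)) (.node (.leaf 0x1f710030dd) (.leaf 0x7065000003)))) (.node (.node (.node (.leaf 0x20008dd) (.leaf 0x43bc0043b8)) (.node (.leaf 0x200283b)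 (.leaf 0x667d000001))) (.node (.node (.leaf 0x10018dd) (.leaf 0x42ae0058dd)) (.node (.leaf 0x1f7b002c24) (.leaf 0x0))))) (.node (.node (.node (.node (.leaf 0x10004dd) (.leaf 0x43b8004327)) (.node (.leaf 0x20023c7) (.leaf 0x62c7000003))) (.node (.node (.leaf 0x14dd000003) (.leaf 0x43e00054dd)) (.node (.leaf 0x1f7b002aad) (.leaf 0x0)))) (.node (.node (.node (.leaf 0xcdd000001) (.leaf 0x4cdd00440a)) (.node (.leaf 0x2c71002972) (.leaf 0x6ac7000003))) (.node (.node (.leaf 0x1cdd000003) (.leaf 0x5c2f000001)) (.node (.leaf 0x2d2900233c) (.leaf 0x0)))))) (.node (.node (.node (.node (.node (.leaf 0x2dd000001) (.leaf 0x42dd000005)) (.node (.leaf 0x1002207) (.leaf 0x60e5000001))) (.node (.node (.leaf 0x12dd000003) (.leaf 0x52dd004439)) (.node (.leaf 0x32dd001f72) (.leaf 0x0)))) (.node (.node (.node (.leaf 0x2000add) (.leaf 0x43ce004327)) (.node (.leaf 0x2add001f72) (.leaf 0x688c000003))) (.node (.node (.leaf 0x1001add) (.leaf 0x2001fc6)) (.node (.leaf 0x2c8100266a)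 (.leaf 0x0))))) (.node (.node (.node (.node (.leaf 0x20006dd) (.leaf 0x46dd000072)) (.node (.leaf 0x20025df) (.leaf 0x648b000001))) (.node (.node (.leaf 0x20016dd) (.leaf 0x56dd004433)) (.node (.leaf 0x5e7002e6d) (.leaf 0x0)))) (.node (.node (.node (.leaf 0xedd000003) (.leaf 0x42fc004edd)) (.node (.leaf 0x2edd001f72) (.leaf 0x6d8d000001))) (.node (.node (.leaf 0x1001edd) (.leaf 0x5b82000001)) (.node (.leaf 0x380c00272a) (.leaf 0x0))))))) (.node (.node (.node (.node (.node (.node (.leaf 0x10001dd) (.leaf 0x32a700229d)) (.node (.leaf 0x200212b) (.leaf 0x600d000003))) (.node (.node (.leaf 0x11dd000002) (.leaf 0x51dd004384)) (.node (.leaf 0x1f7b0031dd) (.leaf 0x0)))) (.node (.node (.node (.leaf 0x9dd000001) (.leaf 0x30049dd)) (.node (.leaf 0x1f710029cf) (.leaf 0x6781000003))) (.node (.node (.leaf 0x20019dd) (.leaf 0x59dd004349)) (.node (.leaf 0x20090033d4) (.leaf 0x0))))) (.node (.node (.node (.node (.leaf 0x10005dd) (.leaf 0x43d00045dd)) (.node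 (.leaf 0x10024c7) (.leaf 0x63ab000003))) (.node (.node (.leaf 0x15dd000001) (.leaf 0x55dd00442b)) (.node (.leaf 0x1f7b003023) (.leaf 0x0)))) (.node (.node (.node (.leaf 0xddd000001) (.leaf 0x4ddd0042f9)) (.node (.leaf 0x2ddd001f72) (.leaf 0x6c15000003))) (.node (.node (.leaf 0x1001ddd) (.leaf 0x249f000003)) (.node (.leaf 0x31190021b9) (.leaf 0x0)))))) (.node (.node (.node (.node (.node (.leaf 0x3dd000001) (.leaf 0x43db004367)) (.node (.leaf 0x10022ef) (.leaf 0x5c62000001))) (.node (.node (.leaf 0x13dd000002) (.leaf 0x43000053dd)) (.node (.leaf 0x3282001f72) (.leaf 0x0)))) (.node (.node (.node (.leaf 0xbdd000001) (.leaf 0x4bdd0042b0)) (.node (.leaf 0x2bdd001f7b) (.leaf 0x69a1000001))) (.node (.node (.leaf 0x2001bdd) (.leaf 0x5b83000003)) (.node (.leaf 0x304a0027aa) (.leaf 0x0))))) (.node (.node (.node (.node (.leaf 0x10007dd) (.leaf 0x43280047dd)) (.node (.leaf 0x100271b) (.leaf 0x200657c))) (.node (.node (.leaf 0x10017dd) (.leaf 0x43850057dd))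 (.node (.leaf 0x27190033d0) (.leaf 0x0)))) (.node (.node (.node (.leaf 0x2000fdd) (.leaf 0x4fdd00439a)) (.node (.leaf 0x1f71002fdd) (.leaf 0x6ef7000003))) (.node (.node (.leaf 0x1243000003) (.leaf 0x5e77000001)) (.node (.leaf 0x34a9001fc7) (.leaf 0x0)))))))))

/-- part -/
def slpT_126 : Tr Nat := (.node (.node (.node (.node (.node (.node (.node (.node (.leaf 0x200003d) (.leaf 0x353800266c)) (.node (.leaf 0x1001ff8) (.leaf 0x5ec2000001))) (.node (.node (.leaf 0x200103d) (.leaf 0x503d000001)) (.node (.leaf 0x211d002b08) (.leaf 0x6f75000003)))) (.node (.node (.node (.leaf 0x200083d) (.leaf 0x483d004275)) (.node (.leaf 0x2002784) (.leaf 0x65dd000003))) (.node (.node (.leaf 0x100183d) (.leaf 0x583d0043d7)) (.node (.leaf 0x1f71002fb7) (.leaf 0x0))))) (.node (.node (.node (.node (.leaf 0x100043d) (.leaf 0x441f00443e)) (.node (.leaf 0x1002343) (.leaf 0x6237000003))) (.node (.node (.leaf 0x143d000003) (.leaf 0x43a100543d)) (.node (.leaf 0x343d002020)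 (.leaf 0x0)))) (.node (.node (.node (.leaf 0xc3d000003) (.leaf 0x4c3d000072)) (.node (.leaf 0x2a3e001f72) (.leaf 0x6a0f000003))) (.node (.node (.leaf 0x1c3d000001) (.leaf 0x5333000001)) (.node (.leaf 0x302e0025a2) (.leaf 0x0)))))) (.node (.node (.node (.node (.node (.leaf 0x23d000001) (.leaf 0x2c130025e8)) (.node (.leaf 0x2002171) (.leaf 0x6065000001))) (.node (.node (.leaf 0x123d000d9f) (.leaf 0x43f700447d)) (.node (.leaf 0x1f7b002b89) (.leaf 0x0)))) (.node (.node (.node (.leaf 0x2000a3d) (.leaf 0x43da004a3d)) (.node (.leaf 0x1f7b002a3d) (.leaf 0x67e2000003))) (.node (.node (.leaf 0x2001a3d) (.leaf 0x5a3d00434d)) (.node (.leaf 0x1f7b002b73) (.leaf 0x0))))) (.node (.node (.node (.node (.leaf 0x200063d) (.leaf 0x43b50043bd)) (.node (.leaf 0x200252f) (.leaf 0x6405000001))) (.node (.node (.leaf 0x163d000003) (.leaf 0x563d0010e7)) (.node (.leaf 0x1f71003098) (.leaf 0x0)))) (.node (.node (.node (.leaf 0xe3d000003) (.leaf 0x4e3d004317)) (.node (.leaf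 0x24f1002e3d) (.leaf 0x6c9f000001))) (.node (.node (.leaf 0x1e3d000003) (.leaf 0x1005d30)) (.node (.leaf 0x2c41002220) (.leaf 0x0))))))) (.node (.node (.node (.node (.node (.node (.leaf 0x200013d) (.leaf 0x2d6e0023b2)) (.node (.leaf 0x20020c7) (.leaf 0x5f8b000003))) (.node (.node (.leaf 0x113d000001) (.leaf 0x500513d)) (.node (.leaf 0x1f7b002acf) (.leaf 0x0)))) (.node (.node (.node (.leaf 0x200093d) (.leaf 0x442a00493d)) (.node (.leaf 0x20028d5) (.leaf 0x66d9000003))) (.node (.node (.leaf 0x100193d) (.leaf 0x593d000023)) (.node (.leaf 0x1f71003480) (.leaf 0x0))))) (.node (.node (.node (.node (.leaf 0x200053d) (.leaf 0x438300453d)) (.node (.leaf 0x1002423) (.leaf 0x141000003))) (.node (.node (.leaf 0x153d000001) (.leaf 0x4426004c58)) (.node (.leaf 0x1f7b002e3d) (.leaf 0x0)))) (.node (.node (.node (.leaf 0xd3d000003) (.leaf 0x4434004d3d)) (.node (.leaf 0x2b07000fce) (.leaf 0x6b3b000003))) (.node (.node (.leaf 0x1d3d000003) (.leaf 0x5c81000003))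 (.node (.leaf 0x35840024e2) (.leaf 0x0)))))) (.node (.node (.node (.node (.node (.leaf 0x100033d) (.leaf 0x43350042ad)) (.node (.leaf 0x2002263) (.leaf 0x6139000001))) (.node (.node (.leaf 0x133d000001) (.leaf 0x42b300533d)) (.node (.leaf 0x1f7b003302) (.leaf 0x0)))) (.node (.node (.node (.leaf 0x3000b3d) (.leaf 0x4b3d0042fb)) (.node (.leaf 0x1f71002b3d) (.leaf 0x68e9000001))) (.node (.node (.leaf 0x2001b3d) (.leaf 0x1b0e000003)) (.node (.leaf 0x2c1300097e) (.leaf 0x0))))) (.node (.node (.node (.node (.leaf 0x200073d) (.leaf 0x473d0042b0)) (.node (.leaf 0xbcc000003) (.leaf 0x64e9000001))) (.node (.node (.leaf 0x100173d) (.leaf 0x430000573d)) (.node (.leaf 0x30a300213a) (.leaf 0x0)))) (.node (.node (.node (.leaf 0x61b000001) (.leaf 0x20004f3d)) (.node (.leaf 0x2f3d001f72) (.leaf 0x6e17000003))) (.node (.node (.leaf 0x2001f3d) (.leaf 0x5e03000003)) (.node (.leaf 0x33aa000fd9) (.leaf 0x0)))))))) (.node (.node (.node (.node (.node (.node (.node (.leaf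 0x10000bd) (.leaf 0x2fe20023f4)) (.node (.leaf 0x200204f) (.leaf 0x5f2d000003))) (.node (.node (.leaf 0x20010bd) (.leaf 0x43680043f5)) (.node (.leaf 0x2a38002120) (.leaf 0x7027000003)))) (.node (.node (.node (.leaf 0x10008bd) (.leaf 0x42ec0048bd)) (.node (.leaf 0x1002815) (.leaf 0x2006656))) (.node (.node (.leaf 0x30018bd) (.leaf 0x42ee0058bd)) (.node (.leaf 0x22c50032f0) (.leaf 0x0))))) (.node (.node (.node (.node (.leaf 0x10004bd) (.leaf 0x44bd0042e9)) (.node (.leaf 0x10023ab) (.leaf 0x62ab000003))) (.node (.node (.leaf 0x14bd000003) (.leaf 0x436c0043b8)) (.node (.leaf 0x1f7100344e) (.leaf 0x0)))) (.node (.node (.node (.leaf 0xcbd000003) (.leaf 0x4499004325)) (.node (.leaf 0x2cbd001f72) (.leaf 0x6aa5000003))) (.node (.node (.leaf 0x1cbd000001) (.leaf 0x5c15000003)) (.node (.leaf 0x328700244c) (.leaf 0x0)))))) (.node (.node (.node (.node (.node (.leaf 0x2bd000003) (.leaf 0x42b900428b)) (.node (.leaf 0x2000fdb) (.leaf 0x60c9000003))) (.node (.node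 (.leaf 0x12bd000001) (.leaf 0x4756004423)) (.node (.leaf 0x32bd000968) (.leaf 0x0)))) (.node (.node (.node (.leaf 0x2000abd) (.leaf 0x4274004abd)) (.node (.leaf 0x1f71002abd) (.leaf 0x686c000003))) (.node (.node (.leaf 0x1001abd) (.leaf 0x5abd000001)) (.node (.leaf 0x2b9a0023f0) (.leaf 0x0))))) (.node (.node (.node (.node (.leaf 0x20006bd) (.leaf 0x46bd004427)) (.node (.leaf 0x10025c3) (.leaf 0x6475000001))) (.node (.node (.leaf 0x10016bd) (.leaf 0x56bd0043e3)) (.node (.leaf 0x24b10036bd) (.leaf 0x0)))) (.node (.node (.node (.leaf 0xebd000003) (.leaf 0x4438004ebd)) (.node (.leaf 0x1f71002ebd) (.leaf 0x6d4b000001))) (.node (.node (.leaf 0x1001ebd) (.leaf 0x2005da0)) (.node (.leaf 0x29c000227d) (.leaf 0x0))))))) (.node (.node (.node (.node (.node (.node (.leaf 0x1bd000003) (.leaf 0x3572000a0a)) (.node (.leaf 0x2002115) (.leaf 0x5ff7000003))) (.node (.node (.leaf 0x11bd000001) (.leaf 0x51bd0043db)) (.node (.leaf 0x265d0030ef) (.leaf 0x0)))) (.node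 (.node (.node (.leaf 0x9bd000001) (.leaf 0x44a50043ed)) (.node (.leaf 0x1f710029bd) (.leaf 0x6761000003))) (.node (.node (.leaf 0x20019bd) (.leaf 0x59bd0042e9)) (.node (.leaf 0x213b002c02) (.leaf 0x0))))) (.node (.node (.node (.node (.leaf 0x20005bd) (.leaf 0x45bd00003c)) (.node (.leaf 0x2000880) (.leaf 0x625c000001))) (.node (.node (.leaf 0x15bd000003) (.leaf 0x55bd0043d9)) (.node (.leaf 0x250033af) (.leaf 0x0)))) (.node (.node (.node (.leaf 0xdbd000003) (.leaf 0x4dbd00442f)) (.node (.leaf 0x2dbd001f7b) (.leaf 0x6be9000003))) (.node (.node (.leaf 0x3001dbd) (.leaf 0x5cdd000001)) (.node (.leaf 0x2af30028f6) (.leaf 0x0)))))) (.node (.node (.node (.node (.node (.leaf 0x10003bd) (.leaf 0x43270043b4)) (.node (.leaf 0x10022d1) (.leaf 0x61b5000001))) (.node (.node (.leaf 0x13bd000002) (.leaf 0x42cc0053bd)) (.node (.leaf 0x1f7b002c8a) (.leaf 0x0)))) (.node (.node (.node (.leaf 0x1000bbd) (.leaf 0x4bbd0042fb)) (.node (.leaf 0x2bbd001f72) (.leaf 0x6985000003)))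 (.node (.node (.leaf 0x1001bbd) (.leaf 0x5b65000001)) (.node (.leaf 0x2fa20022e4) (.leaf 0x0))))) (.node (.node (.node (.node (.leaf 0x10007bd) (.leaf 0x43700044fd)) (.node (.leaf 0x10026f7) (.leaf 0x200655e))) (.node (.node (.leaf 0x10017bd) (.leaf 0x42fa0057bd)) (.node (.leaf 0x3067002408) (.leaf 0x0)))) (.node (.node (.node (.leaf 0xfbd000001) (.leaf 0x4fbd00428c)) (.node (.leaf 0x20cb002fbd) (.leaf 0x6d24000003))) (.node (.node (.leaf 0x1001fa5) (.leaf 0x5e62000001)) (.node (.leaf 0x2be9002154) (.leaf 0x0)))))))))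

/-- part -/
def slpT_127 : Tr Nat := (.node (.node (.node (.node (.node (.node (.node (.node (.leaf 0x200007d) (.leaf 0x30e400266c)) (.node (.leaf 0x2002025) (.leaf 0x5ef5000003))) (.node (.node (.leaf 0x100107d) (.leaf 0x43a700507d)) (.node (.leaf 0x307d001f7b) (.leaf 0x6fc9000003)))) (.node (.node (.node (.leaf 0x100087d) (.leaf 0x429c00487d)) (.node (.leaf 0x10027cd) (.leaf 0x1006618))) (.node (.node (.leaf 0x200187d) (.leaf 0x587d0043d9)) (.node (.leaf 0x23c30035cb) (.leaf 0x0))))) (.node (.node (.node (.node (.leaf 0x300047d) (.leaf 0x447d004327)) (.node (.leaf 0x100236f) (.leaf 0x6279000003))) (.node (.node (.leaf 0x147d000001) (.leaf 0x42f800547d)) (.node (.leaf 0x2e30001f7b) (.leaf 0x0)))) (.node (.node (.node (.leaf 0xc7d000002) (.leaf 0x71004c7d)) (.node (.leaf 0x2ab0001f72) (.leaf 0x6a5b000003))) (.node (.node (.leaf 0x1c7d000001) (.leaf 0x5be1000003)) (.node (.leaf 0x2c17002184) (.leaf 0x0)))))) (.node (.node (.node (.node (.node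 (.leaf 0x27d000002) (.leaf 0x4279000003)) (.node (.leaf 0x21b2000003) (.leaf 0x6093000003))) (.node (.node (.leaf 0x127d000003) (.leaf 0x42af00527e)) (.node (.leaf 0x1f7100313d) (.leaf 0x0)))) (.node (.node (.node (.leaf 0x2000a7d) (.leaf 0x42b1004588)) (.node (.leaf 0x1f71002a7d) (.leaf 0x1f5f000003))) (.node (.node (.leaf 0x3001a7d) (.leaf 0x43c40043d1)) (.node (.leaf 0x345b0020b5) (.leaf 0x0))))) (.node (.node (.node (.node (.leaf 0x200067d) (.leaf 0x467d0043d7)) (.node (.leaf 0x1002579) (.leaf 0x643b000001))) (.node (.node (.leaf 0x200167d) (.leaf 0x567d004398)) (.node (.leaf 0x4d002d32) (.leaf 0x0)))) (.node (.node (.node (.leaf 0xe7d000002) (.leaf 0x4e7d00429b)) (.node (.leaf 0x2199002e7d) (.leaf 0x6cf7000003))) (.node (.node (.leaf 0x3001e7d) (.leaf 0x5d65000003)) (.node (.leaf 0x31fc0027ba) (.leaf 0x0))))))) (.node (.node (.node (.node (.node (.node (.leaf 0x17d000003) (.leaf 0x33d300285c)) (.node (.leaf 0x10020f3) (.leaf 0x5fc1000003)))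 (.node (.node (.leaf 0x117d000001) (.leaf 0x10e800517d)) (.node (.leaf 0x1f7b00317d) (.leaf 0x0)))) (.node (.node (.node (.leaf 0x97d000001) (.leaf 0x42af00497d)) (.node (.leaf 0x2002943) (.leaf 0x671b000003))) (.node (.node (.leaf 0x200197d) (.leaf 0x597d0042e7)) (.node (.leaf 0x22c9002f93) (.leaf 0x0))))) (.node (.node (.node (.node (.leaf 0x300057d) (.leaf 0x457d0043e1)) (.node (.leaf 0x1002465) (.leaf 0x635f000001))) (.node (.node (.leaf 0x157d000003) (.leaf 0x557d004329)) (.node (.leaf 0x26d9002ba3) (.leaf 0x0)))) (.node (.node (.node (.leaf 0xd7d000001) (.leaf 0x45f9004400)) (.node (.leaf 0x1f7b002d7d) (.leaf 0x6b9d000001))) (.node (.node (.leaf 0x20005ab) (.leaf 0x5cb1000003)) (.node (.leaf 0x2baf00268c) (.leaf 0x0)))))) (.node (.node (.node (.node (.node (.leaf 0x100037d) (.leaf 0x4366004377)) (.node (.leaf 0x200229c) (.leaf 0x6175000001))) (.node (.node (.leaf 0x137d000003) (.leaf 0x438500537d)) (.node (.leaf 0x1f7b002b08) (.leaf 0x0))))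 (.node (.node (.node (.leaf 0x1000b7d) (.leaf 0x441e0043c3)) (.node (.leaf 0x1f7b002b7d) (.leaf 0x693b000001))) (.node (.node (.leaf 0x1001b7d) (.leaf 0x5b35000001)) (.node (.leaf 0x2f3500018f) (.leaf 0x0))))) (.node (.node (.node (.node (.leaf 0x100077d) (.leaf 0x45a50043c9)) (.node (.leaf 0x26ac000003) (.leaf 0x6525000001))) (.node (.node (.leaf 0x300177d) (.leaf 0x42b300577d)) (.node (.leaf 0x319a001f72) (.leaf 0x0)))) (.node (.node (.node (.leaf 0xf7d000003) (.leaf 0x4f7d000072)) (.node (.leaf 0x1f71002bb6) (.leaf 0x6e59000003))) (.node (.node (.leaf 0x2001f7d) (.leaf 0x5e30000001)) (.node (.leaf 0x2b9a00286e) (.leaf 0x0)))))))) (.node (.node (.node (.node (.node (.node (.node (.leaf 0x20000fd) (.leaf 0x3966000187)) (.node (.leaf 0x2002087) (.leaf 0x5f61000001))) (.node (.node (.leaf 0x30010fd) (.leaf 0x50fd0042f1)) (.node (.leaf 0x30fd001f7b) (.leaf 0x70c1000003)))) (.node (.node (.node (.leaf 0x10008fd) (.leaf 0x43970048fd)) (.node (.leaf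 0x200286f) (.leaf 0x66a1000001))) (.node (.node (.leaf 0x20018fd) (.leaf 0x439b0058fd)) (.node (.leaf 0x21c7003549) (.leaf 0x0))))) (.node (.node (.node (.node (.leaf 0x20004fd) (.leaf 0x44fd004326)) (.node (.leaf 0x10023e5) (.leaf 0x62e9000003))) (.node (.node (.leaf 0x963000003) (.leaf 0x43a90054fd)) (.node (.leaf 0x1f71003442) (.leaf 0x0)))) (.node (.node (.node (.leaf 0xcfd000003) (.leaf 0x4cfd000072)) (.node (.leaf 0x2b8e0028d2) (.leaf 0x6af5000001))) (.node (.node (.leaf 0x1cfd000002) (.leaf 0x19e0000003)) (.node (.leaf 0x335e00233c) (.leaf 0x0)))))) (.node (.node (.node (.node (.node (.leaf 0x2fd000003) (.leaf 0x42f9000021)) (.node (.leaf 0x2002226) (.leaf 0x60fd000003))) (.node (.node (.leaf 0x12fd000001) (.leaf 0x52fd004400)) (.node (.leaf 0x32fd001f7b) (.leaf 0x0)))) (.node (.node (.node (.leaf 0x1000afd) (.leaf 0x4348004afd)) (.node (.leaf 0x2afd001f7b) (.leaf 0x68aa000001))) (.node (.node (.leaf 0x2001afd) (.leaf 0x1005ae5)) (.node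 (.leaf 0x2df9001f7b) (.leaf 0x0))))) (.node (.node (.node (.node (.leaf 0x30006fd) (.leaf 0x4419004373)) (.node (.leaf 0x2002611) (.leaf 0x64a9000001))) (.node (.node (.leaf 0x200128a) (.leaf 0x4aa40043d9)) (.node (.leaf 0x1f7100331c) (.leaf 0x0)))) (.node (.node (.node (.leaf 0xefd000003) (.leaf 0x4387004efd)) (.node (.leaf 0x2aef001f72) (.leaf 0x6dc1000003))) (.node (.node (.leaf 0x1001efd) (.leaf 0x5dcd000003)) (.node (.leaf 0x2c3d0027e2) (.leaf 0x0))))))) (.node (.node (.node (.node (.node (.node (.leaf 0x20001fd) (.leaf 0x2a4f002773)) (.node (.leaf 0x100213f) (.leaf 0x602d000003))) (.node (.node (.leaf 0x11fd000003) (.leaf 0x42ac00436a)) (.node (.leaf 0x1f71002ae8) (.leaf 0x0)))) (.node (.node (.node (.leaf 0x9fd000003) (.leaf 0x43000049fd)) (.node (.leaf 0x29fd001f72) (.leaf 0x67a4000003))) (.node (.node (.leaf 0x20019fd) (.leaf 0x436e004429)) (.node (.leaf 0x218b002a1a) (.leaf 0x0))))) (.node (.node (.node (.node (.leaf 0x20005fd) (.leaf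 0x43da0045fd)) (.node (.leaf 0x20024e9) (.leaf 0x63cb000001))) (.node (.node (.leaf 0x15fd000001) (.leaf 0x476c0043d3)) (.node (.leaf 0xc330031cb) (.leaf 0x0)))) (.node (.node (.node (.leaf 0xdfd000001) (.leaf 0x4dfd0043d9)) (.node (.leaf 0x2dfd00247e) (.leaf 0x6c4b000003))) (.node (.node (.leaf 0x2001dfd) (.leaf 0x5d03000001)) (.node (.leaf 0x31820021b9) (.leaf 0x0)))))) (.node (.node (.node (.node (.node (.leaf 0x3fd000003) (.leaf 0x43ee0042ad)) (.node (.leaf 0x2002307) (.leaf 0x61f5000003))) (.node (.node (.leaf 0x13fd000003) (.leaf 0x428a0053fd)) (.node (.leaf 0x29ef002636) (.leaf 0x0)))) (.node (.node (.node (.leaf 0xbfd000003) (.leaf 0x4bfd0042ed)) (.node (.leaf 0x2bfd001f72) (.leaf 0x69cd000003))) (.node (.node (.leaf 0x2001bfd) (.leaf 0x5b97000003)) (.node (.leaf 0x2bfb002950) (.leaf 0x0))))) (.node (.node (.node (.node (.leaf 0x20007fd) (.leaf 0x43d80047fd)) (.node (.leaf 0x1002744) (.leaf 0x100659e))) (.node (.node (.leaf 0x30017fd)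 (.leaf 0x57fd00442d)) (.node (.leaf 0x2719002c0c) (.leaf 0x0)))) (.node (.node (.node (.leaf 0x2000ffd) (.leaf 0x4ffd004429)) (.node (.leaf 0x2047002e4d) (.leaf 0x6f1d000001))) (.node (.node (.leaf 0x100007f) (.leaf 0x5e8e000003)) (.node (.leaf 0x35640024a6) (.leaf 0x0)))))))))

/-- the table -/
def slpT : Tr Nat := (.node (.node (.node (.node (.node (.node (.node slpT_0 slpT_1) (.node slpT_2 slpT_3)) (.node (.node slpT_4 slpT_5) (.node slpT_6 slpT_7))) (.node (.node (.node slpT_8 slpT_9) (.node slpT_10 slpT_11)) (.node (.node slpT_12 slpT_13) (.node slpT_14 slpT_15)))) (.node (.node (.node (.node slpT_16 slpT_17) (.node slpT_18 slpT_19)) (.node (.node slpT_20 slpT_21) (.node slpT_22 slpT_23))) (.node (.node (.node slpT_24 slpT_25) (.node slpT_26 slpT_27)) (.node (.node slpT_28 slpT_29) (.node slpT_30 slpT_31))))) (.node (.node (.node (.node (.node slpT_32 slpT_33) (.node slpT_34 slpT_35)) (.node (.node slpT_36 slpT_37) (.node slpT_38 slpT_39)))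 (.node (.node (.node slpT_40 slpT_41) (.node slpT_42 slpT_43)) (.node (.node slpT_44 slpT_45) (.node slpT_46 slpT_47)))) (.node (.node (.node (.node slpT_48 slpT_49) (.node slpT_50 slpT_51)) (.node (.node slpT_52 slpT_53) (.node slpT_54 slpT_55))) (.node (.node (.node slpT_56 slpT_57) (.node slpT_58 slpT_59)) (.node (.node slpT_60 slpT_61) (.node slpT_62 slpT_63)))))) (.node (.node (.node (.node (.node (.node slpT_64 slpT_65) (.node slpT_66 slpT_67)) (.node (.node slpT_68 slpT_69) (.node slpT_70 slpT_71))) (.node (.node (.node slpT_72 slpT_73) (.node slpT_74 slpT_75)) (.node (.node slpT_76 slpT_77) (.node slpT_78 slpT_79)))) (.node (.node (.node (.node slpT_80 slpT_81) (.node slpT_82 slpT_83)) (.node (.node slpT_84 slpT_85) (.node slpT_86 slpT_87))) (.node (.node (.node slpT_88 slpT_89) (.node slpT_90 slpT_91)) (.node (.node slpT_92 slpT_93) (.node slpT_94 slpT_95))))) (.node (.node (.node (.node (.node slpT_96 slpT_97) (.node slpT_98 slpT_99))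 (.node (.node slpT_100 slpT_101) (.node slpT_102 slpT_103))) (.node (.node (.node slpT_104 slpT_105) (.node slpT_106 slpT_107)) (.node (.node slpT_108 slpT_109) (.node slpT_110 slpT_111)))) (.node (.node (.node (.node slpT_112 slpT_113) (.node slpT_114 slpT_115)) (.node (.node slpT_116 slpT_117) (.node slpT_118 slpT_119))) (.node (.node (.node slpT_120 slpT_121) (.node slpT_122 slpT_123)) (.node (.node slpT_124 slpT_125) (.node slpT_126 slpT_127)))))))

end CfsgLib.Coset.J4.Dat
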