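import Cfsg.Agent.Coset.Prim

set_option autoImplicit false
set_option maxRecDepth 100000
set_option Elab.async false

namespace CfsgLib.Coset.J4.Dat

open CfsgLib.Coset (Tr)

/-- part -/
def trioRankT_0 : Tr Nat := (.node (.node (.node (.node (.node (.node (.node (.node (.leaf 0xbc000b0f) (.leaf 0xbdc00053a)) (.node (.leaf 0x966000978) (.leaf 0xc1b00008c))) (.node (.node (.leaf 0x61e00040f) (.leaf 0x37e0002a4)) (.node (.leaf 0xb8a000d5f) (.leaf 0xd15000bcb)))) (.node (.node (.node (.leaf 0x2ee000526) (.leaf 0x1630005f8)) (.node (.leaf 0x576000ebe) (.leaf 0x9ee000786))) (.node (.node (.leaf 0xcc40003d8) (.leaf 0x5ec000480)) (.node (.leaf 0x50b0001eb) (.leaf 0xbc000b0f))))) (.node (.node (.node (.node (.leaf 0x7d800050f) (.leaf 0x5c3000661)) (.node (.leaf 0xb00000727) (.leaf 0xe7a000a8f))) (.node (.node (.leaf 0x3c7000e07) (.leaf 0xbdd000030)) (.node (.leaf 0x47e00038b) (.leaf 0xcaf000bbe)))) (.node (.node (.node (.leaf 0xe1d000cdd)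 (.leaf 0x992000e81)) (.node (.leaf 0x961000590) (.leaf 0x9c2000dfc))) (.node (.node (.leaf 0xd5d000a08) (.leaf 0x8f600014f)) (.node (.leaf 0xc52000791) (.leaf 0xbc000b0f)))))) (.node (.node (.node (.node (.node (.leaf 0xe33000c81) (.leaf 0xb9500039a)) (.node (.leaf 0x54000c6a) (.leaf 0x76c0002f2))) (.node (.node (.leaf 0x105000670) (.leaf 0x44c0006cc)) (.node (.leaf 0xbc000019e) (.leaf 0xc350001c1)))) (.node (.node (.node (.leaf 0x6af0006db) (.leaf 0xe95000e2b)) (.node (.leaf 0xe3c000559) (.leaf 0xfe000723))) (.node (.node (.leaf 0xe44000187) (.leaf 0xc57000c35)) (.node (.leaf 0x5890007ae) (.leaf 0xbc000b0f))))) (.node (.node (.node (.node (.leaf 0x66200000d) (.leaf 0x9b700012a)) (.node (.leaf 0x7df000d71) (.leaf 0xb09000e65))) (.node (.node (.leaf 0x58800022b) (.leaf 0x8ac000c6b)) (.node (.leaf 0x39000010b) (.leaf 0x7e10003d1)))) (.node (.node (.node (.leaf 0xa1e000add) (.leaf 0x8e000d11)) (.node (.leaf 0x7c0000196) (.leaf 0xb2200098d)))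 (.node (.node (.leaf 0x174000468) (.leaf 0xd8d000640)) (.node (.leaf 0xd720005c0) (.leaf 0xbc000b0f))))))) (.node (.node (.node (.node (.node (.node (.leaf 0xd140002f8) (.leaf 0x8b4000d22)) (.node (.leaf 0x8cc00053e) (.leaf 0xe6e000663))) (.node (.node (.leaf 0x5970004f8) (.leaf 0x1e0000348)) (.node (.leaf 0x7a200033f) (.leaf 0x2960003fd)))) (.node (.node (.node (.leaf 0x99b0002ee) (.leaf 0xd2a00039b)) (.node (.leaf 0x943000a31) (.leaf 0x47f0003a4))) (.node (.node (.leaf 0xeca000497) (.leaf 0xdc200016e)) (.node (.leaf 0xc71000260) (.leaf 0xbc000b0f))))) (.node (.node (.node (.node (.leaf 0xbe9000605) (.leaf 0xa870004ba)) (.node (.leaf 0xe13000753) (.leaf 0xd4c0009c5))) (.node (.node (.leaf 0x53e000059) (.leaf 0x713000a27)) (.node (.leaf 0xaaa000cc3) (.leaf 0x71b000313)))) (.node (.node (.node (.leaf 0xe990008c5) (.leaf 0x11d00072f)) (.node (.leaf 0xdab000ea7) (.leaf 0xe6000548))) (.node (.node (.leaf 0xc5b0000f6) (.leaf 0xe4c000d10))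 (.node (.leaf 0xcd0000af0) (.leaf 0xbc000b0f)))))) (.node (.node (.node (.node (.node (.leaf 0x8f80001b6) (.leaf 0x638000807)) (.node (.leaf 0xb3a000c24) (.leaf 0xa8b000c46))) (.node (.node (.leaf 0x72000067e) (.leaf 0x815000ca3)) (.node (.leaf 0x6a2000039) (.leaf 0x48f0001b7)))) (.node (.node (.node (.leaf 0x6990002c6) (.leaf 0x3080006d4)) (.node (.leaf 0xa4e00005e) (.leaf 0x13e000b7e))) (.node (.node (.leaf 0xbfd0006ed) (.leaf 0x18900017f)) (.node (.leaf 0x96d000aea) (.leaf 0xbc000b0f))))) (.node (.node (.node (.node (.leaf 0x67f0002d3) (.leaf 0xd940008be)) (.node (.leaf 0x38d00047d) (.leaf 0x43f000e0d))) (.node (.node (.leaf 0xcfc000103) (.leaf 0x26000d25)) (.node (.leaf 0x7a8000a76) (.leaf 0xbc000b0f)))) (.node (.node (.node (.leaf 0x52c000a20) (.leaf 0xc0900015f)) (.node (.leaf 0xbac00061e) (.leaf 0xd7d000662))) (.node (.node (.leaf 0xd4f0004a7) (.leaf 0x1be000c56)) (.node (.leaf 0x1060005af) (.leaf 0xbc000b0f)))))))) (.node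 (.node (.node (.node (.node (.node (.node (.leaf 0xb7f000b14) (.leaf 0x548000267)) (.node (.leaf 0x3c9000b3b) (.leaf 0xdde000a1b))) (.node (.node (.leaf 0x4240005e1) (.leaf 0xdb6000891)) (.node (.leaf 0xd03000691) (.leaf 0xa6300060b)))) (.node (.node (.node (.leaf 0x52f0008b3) (.leaf 0x16d00076f)) (.node (.leaf 0xb8f000c37) (.leaf 0xba000000e))) (.node (.node (.leaf 0x42c000e31) (.leaf 0xde2000341)) (.node (.leaf 0xe240004b0) (.leaf 0xbc000b0f))))) (.node (.node (.node (.node (.leaf 0xd370006cb) (.leaf 0xc76000bd7)) (.node (.leaf 0xb5500068c) (.leaf 0x21b000856))) (.node (.node (.leaf 0x5c4000dbd) (.leaf 0x3b0000e88)) (.node (.leaf 0xc91000643) (.leaf 0x84000567)))) (.node (.node (.node (.leaf 0xc6e0007e3) (.leaf 0x9420008f2)) (.node (.leaf 0x580000192) (.leaf 0xab0002f9))) (.node (.node (.leaf 0x1490006c0) (.leaf 0x17c000d31)) (.node (.leaf 0xa560004a1) (.leaf 0xbc000b0f)))))) (.node (.node (.node (.node (.node (.leaf 0x17000e5a)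 (.leaf 0xb5d0004fb)) (.node (.leaf 0x3dc00074a) (.leaf 0x30e000e3b))) (.node (.node (.leaf 0xa0400037e) (.leaf 0x7810003b0)) (.node (.leaf 0x5750002e9) (.leaf 0xb0d00028d)))) (.node (.node (.node (.leaf 0x7ce000462) (.leaf 0x3d1000e67)) (.node (.leaf 0xb85000176) (.leaf 0x842000bc6))) (.node (.node (.leaf 0xe480009b5) (.leaf 0x1c9000682)) (.node (.leaf 0x7c0001fe) (.leaf 0xbc000b0f))))) (.node (.node (.node (.node (.leaf 0x2c6000317) (.leaf 0x605000adf)) (.node (.leaf 0x4a600094f) (.leaf 0xa60007a0))) (.node (.node (.leaf 0x6e00093f) (.leaf 0x3aa000b9d)) (.node (.leaf 0xf40002fa) (.leaf 0x2e8000314)))) (.node (.node (.node (.leaf 0x4ce0008cc) (.leaf 0x8a000889)) (.node (.leaf 0x67800098a) (.leaf 0x3fd000453))) (.node (.node (.leaf 0x3970003e9) (.leaf 0x9e70007cb)) (.node (.leaf 0xa85000a01) (.leaf 0xbc000b0f))))))) (.node (.node (.node (.node (.node (.node (.leaf 0xa800003c5) (.leaf 0x1cd00054d)) (.node (.leaf 0xe7b000ce2) (.leaf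 0x5dc000522))) (.node (.node (.leaf 0x904000b67) (.leaf 0x9000091)) (.node (.leaf 0xa690007bb) (.leaf 0xea2000b43)))) (.node (.node (.node (.leaf 0x3f8000055) (.leaf 0xbca0004fa)) (.node (.leaf 0x553000606) (.leaf 0xded00001d))) (.node (.node (.leaf 0x48c00084b) (.leaf 0x8a4000779)) (.node (.leaf 0x78d000937) (.leaf 0xbc000b0f))))) (.node (.node (.node (.node (.leaf 0x970000871) (.leaf 0x66d000ab4)) (.node (.leaf 0x710000b85) (.leaf 0x457000984))) (.node (.node (.leaf 0xb4500003a) (.leaf 0x243000864)) (.node (.leaf 0x853000c3b) (.leaf 0xdf0004fe)))) (.node (.node (.node (.leaf 0x5f000781) (.leaf 0x905000e47)) (.node (.leaf 0x38c0008ab) (.leaf 0x411000422))) (.node (.node (.leaf 0xa50000a90) (.leaf 0xde900039c)) (.node (.leaf 0x2bd000d35) (.leaf 0xbc000b0f)))))) (.node (.node (.node (.node (.node (.leaf 0x1960004c4) (.leaf 0x53000b4d)) (.node (.leaf 0xc5a0006f2) (.leaf 0xf600059b))) (.node (.node (.leaf 0xc4500031c) (.leaf 0x3e4000a1a))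 (.node (.leaf 0x24000094e) (.leaf 0xc30008fa)))) (.node (.node (.node (.leaf 0x197000763) (.leaf 0xadf0000b0)) (.node (.leaf 0x84900013d) (.leaf 0xc1d000264))) (.node (.node (.leaf 0x606000cea) (.leaf 0x5e900079a)) (.node (.leaf 0x883000a5d) (.leaf 0xbc000b0f))))) (.node (.node (.node (.node (.leaf 0x85f000ab1) (.leaf 0xa180008fc)) (.node (.leaf 0x7240000f7) (.leaf 0x51000e2e))) (.node (.node (.leaf 0x89e0004d4) (.leaf 0x7a00004f2)) (.node (.leaf 0xe5d000bf7) (.leaf 0xbc000b0f)))) (.node (.node (.node (.leaf 0xbfa0004e9) (.leaf 0xa14000747)) (.node (.leaf 0x3bf000304) (.leaf 0xaa1000905))) (.node (.node (.leaf 0x84e00024c) (.leaf 0x2ef0006e1)) (.node (.leaf 0x5540008e3) (.leaf 0xbc000b0f)))))))))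

/-- part -/
def trioRankT_1 : Tr Nat := (.node (.node (.node (.node (.node (.node (.node (.node (.leaf 0x28f0001b2) (.leaf 0xd5a000385)) (.node (.leaf 0xe94000117) (.leaf 0xd1d0002cf))) (.node (.node (.leaf 0x965000aa5) (.leaf 0x380000754)) (.node (.leaf 0xa020002e7) (.leaf 0xa44000c4b)))) (.node (.node (.node (.leaf 0x7bf000205) (.leaf 0x171000aae)) (.node (.leaf 0x6da000704) (.leaf 0x66c0003a7))) (.node (.node (.leaf 0xd56000960) (.leaf 0xa47000e1b)) (.node (.leaf 0xb7c00097d) (.leaf 0xbc000b0f))))) (.node (.node (.node (.node (.leaf 0x4200038c) (.leaf 0x6a8000825)) (.node (.leaf 0x71f0003b7) (.leaf 0xba2000bfd))) (.node (.node (.leaf 0x441000931) (.leaf 0x7ea0009f5)) (.node (.leaf 0x8d7000634) (.leaf 0xa90000214)))) (.node (.node (.node (.leaf 0xdc000e38) (.leaf 0xd76000833)) (.node (.leaf 0x4060002c0) (.leaf 0xb4e000a91))) (.node (.node (.leaf 0xa79000204) (.leaf 0xdec000d13)) (.node (.leaf 0x4620001e3) (.leaf 0xbc000b0f))))))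 (.node (.node (.node (.node (.node (.leaf 0x43a000d37) (.leaf 0xa3000409)) (.node (.leaf 0x5aa000819) (.leaf 0xa350000bc))) (.node (.node (.leaf 0xd960004d7) (.leaf 0x4c40007af)) (.node (.leaf 0xb1400007b) (.leaf 0x89f000350)))) (.node (.node (.node (.leaf 0x351000df3) (.leaf 0x535000798)) (.node (.leaf 0xda0000810) (.leaf 0x1de000645))) (.node (.node (.leaf 0xa200007ba) (.leaf 0xc1a000953)) (.node (.leaf 0x27d000686) (.leaf 0xbc000b0f))))) (.node (.node (.node (.node (.leaf 0xc360009d3) (.leaf 0x3cb00080d)) (.node (.leaf 0x68700031d) (.leaf 0xcbe0008cb))) (.node (.node (.leaf 0xb690006fa) (.leaf 0xb40007fd)) (.node (.leaf 0x89b000733) (.leaf 0x652000697)))) (.node (.node (.node (.leaf 0xaf7000395) (.leaf 0xbbb00057a)) (.node (.leaf 0x8d20006f3) (.leaf 0x3eb0000ec))) (.node (.node (.leaf 0x27c000cef) (.leaf 0x7c7000b33)) (.node (.leaf 0xc000ce3) (.leaf 0xbc000b0f))))))) (.node (.node (.node (.node (.node (.node (.leaf 0x701000104)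 (.leaf 0x5810005cc)) (.node (.leaf 0x4d30001d9) (.leaf 0x65600074d))) (.node (.node (.leaf 0xd95000dac) (.leaf 0x65300014b)) (.node (.leaf 0xe0f000bd9) (.leaf 0x6f2000476)))) (.node (.node (.node (.leaf 0x61100036f) (.leaf 0x3dd0007a5)) (.node (.leaf 0x5740003b8) (.leaf 0xb010005fd))) (.node (.node (.leaf 0x68a000094) (.leaf 0x912000626)) (.node (.leaf 0xe5c000b06) (.leaf 0xbc000b0f))))) (.node (.node (.node (.node (.leaf 0x95a00007e) (.leaf 0xdc3000aa9)) (.node (.leaf 0x166000e04) (.leaf 0x41e000ec7))) (.node (.node (.leaf 0x8430006df) (.leaf 0x4940002a5)) (.node (.leaf 0x80a000888) (.leaf 0xeb8000c45)))) (.node (.node (.node (.leaf 0x6650009e7) (.leaf 0xa99000278)) (.node (.leaf 0xc39000ac5) (.leaf 0x26700006f))) (.node (.node (.leaf 0xdf3000b42) (.leaf 0xe50005c5)) (.node (.leaf 0x94e0006e0) (.leaf 0xbc000b0f)))))) (.node (.node (.node (.node (.node (.leaf 0xd5e0007a3) (.leaf 0x6b0009f8)) (.node (.leaf 0x3c000070a) (.leaf 0xa05000731)))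 (.node (.node (.leaf 0xa130006ec) (.leaf 0x635000168)) (.node (.leaf 0x7d2000d06) (.leaf 0xc2d000ac7)))) (.node (.node (.node (.leaf 0xa68000252) (.leaf 0x27a000601)) (.node (.leaf 0xb8d000c22) (.leaf 0xff000a7c))) (.node (.node (.leaf 0xa810005ad) (.leaf 0x7e900082e)) (.node (.leaf 0xed2000e93) (.leaf 0xbc000b0f))))) (.node (.node (.node (.node (.leaf 0xc5c000da9) (.leaf 0x6fc000637)) (.node (.leaf 0x44e000cac) (.leaf 0x6ac000e57))) (.node (.node (.leaf 0x21f000ed0) (.leaf 0xd850004ad)) (.node (.leaf 0xa9f00003d) (.leaf 0xbc000b0f)))) (.node (.node (.node (.leaf 0xc06000a7e) (.leaf 0x7f1000de2)) (.node (.leaf 0x1d100009d) (.leaf 0x1af00098f))) (.node (.node (.leaf 0x1f5000e37) (.leaf 0xc3b00039e)) (.node (.leaf 0x822000b32) (.leaf 0xbc000b0f)))))))) (.node (.node (.node (.node (.node (.node (.node (.leaf 0x4be000191) (.leaf 0x954000064)) (.node (.leaf 0xb84000a2c) (.leaf 0x8d60003bf))) (.node (.node (.leaf 0x13b000d7b) (.leaf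 0x9250008f0)) (.node (.leaf 0xf2000356) (.leaf 0x7250001b4)))) (.node (.node (.node (.leaf 0xa030009c2) (.leaf 0x9cf0003d3)) (.node (.leaf 0xac5000633) (.leaf 0xdff000e45))) (.node (.node (.leaf 0x8de000ab7) (.leaf 0xbdb00082a)) (.node (.leaf 0xd920008bf) (.leaf 0xbc000b0f))))) (.node (.node (.node (.node (.leaf 0x37c0003ae) (.leaf 0x6f60009c7)) (.node (.leaf 0xc190006b9) (.leaf 0xa11000c3e))) (.node (.node (.leaf 0x96a0004ea) (.leaf 0x952000e79)) (.node (.leaf 0x315000134) (.leaf 0x1a00048a)))) (.node (.node (.node (.leaf 0x532000b5a) (.leaf 0x56900034e)) (.node (.leaf 0x62f000355) (.leaf 0xac2000983))) (.node (.node (.leaf 0x82a0005d1) (.leaf 0xd7f00004f)) (.node (.leaf 0x948000872) (.leaf 0xbc000b0f)))))) (.node (.node (.node (.node (.node (.leaf 0xe3100036b) (.leaf 0xc4200045a)) (.node (.leaf 0x91400088d) (.leaf 0x3c50004b6))) (.node (.node (.leaf 0x42d0002c5) (.leaf 0x79600011c)) (.node (.leaf 0x1f1000129) (.leaf 0x8d40000ab))))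 (.node (.node (.node (.leaf 0x1ac00095a) (.leaf 0x7a9000159)) (.node (.leaf 0xc6c000ebd) (.leaf 0x353000515))) (.node (.node (.leaf 0x80e000689) (.leaf 0x3e6000435)) (.node (.leaf 0x14c00088c) (.leaf 0xbc000b0f))))) (.node (.node (.node (.node (.leaf 0xe2e000b15) (.leaf 0xd93000da7)) (.node (.leaf 0x28e0007a6) (.leaf 0x39d000739))) (.node (.node (.leaf 0x60e00089e) (.leaf 0xc23000c8e)) (.node (.leaf 0x61000207) (.leaf 0xbc000b0f)))) (.node (.node (.node (.leaf 0xcfb00030a) (.leaf 0x4cf000577)) (.node (.leaf 0xad90006c9) (.leaf 0xb0e0009f7))) (.node (.node (.leaf 0x3000006c3) (.leaf 0xb890007c5)) (.node (.leaf 0x735000080) (.leaf 0xbc000b0f))))))) (.node (.node (.node (.node (.node (.node (.leaf 0x75f000dcc) (.leaf 0x50a000233)) (.node (.leaf 0x2750007ed) (.leaf 0x5d7000b31))) (.node (.node (.leaf 0xa260008a4) (.leaf 0x9ea000297)) (.node (.leaf 0xea1000860) (.leaf 0x188000bb1)))) (.node (.node (.node (.leaf 0x3de000199) (.leaf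 0x8a50003ab)) (.node (.leaf 0x41a000b66) (.leaf 0x797000125))) (.node (.node (.leaf 0xe3d000339) (.leaf 0xcf90003c9)) (.node (.leaf 0x2f7000c3d) (.leaf 0xbc000b0f))))) (.node (.node (.node (.node (.leaf 0x4ac000e1c) (.leaf 0x8c1000da6)) (.node (.leaf 0xc4f00051d) (.leaf 0x1b00097b))) (.node (.node (.leaf 0x7c20002c7) (.leaf 0x17e00032d)) (.node (.leaf 0x266000879) (.leaf 0x391000ea8)))) (.node (.node (.node (.leaf 0x1bd000144) (.leaf 0x3df000e5f)) (.node (.leaf 0x5d10004bd) (.leaf 0x9e40001c2))) (.node (.node (.leaf 0x5280003e7) (.leaf 0xc7000c62)) (.node (.leaf 0x7d0004df) (.leaf 0xbc000b0f)))))) (.node (.node (.node (.node (.node (.leaf 0x2ff000c69) (.leaf 0xd04000363)) (.node (.leaf 0xe17000b46) (.leaf 0x59500065d))) (.node (.node (.leaf 0x9a80001cd) (.leaf 0x49b000775)) (.node (.leaf 0xc0d0005d0) (.leaf 0xca400055f)))) (.node (.node (.node (.leaf 0xd590002cd) (.leaf 0x400000dad)) (.node (.leaf 0x1d4000642) (.leaf 0x5250002df)))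 (.node (.node (.leaf 0x6320002a6) (.leaf 0x41d000913)) (.node (.leaf 0x121000947) (.leaf 0xbc000b0f))))) (.node (.node (.node (.node (.leaf 0x3e000e3f) (.leaf 0x3bd000060)) (.node (.leaf 0x2200008ed) (.leaf 0x57b00096e))) (.node (.node (.leaf 0x200004e3) (.leaf 0xe7700004d)) (.node (.leaf 0x8ec000387) (.leaf 0xbc000b0f)))) (.node (.node (.node (.leaf 0x1090003cd) (.leaf 0x86800042a)) (.node (.leaf 0x900000b6d) (.leaf 0xea6000bfb))) (.node (.node (.leaf 0x4bf000130) (.leaf 0x53a0008f3)) (.node (.leaf 0xbb4000452) (.leaf 0xbc000b0f)))))))))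

/-- part -/
def trioRankT_2 : Tr Nat := (.node (.node (.node (.node (.node (.node (.node (.node (.leaf 0x757000abe) (.leaf 0xb91000213)) (.node (.leaf 0xd87000511) (.leaf 0x5a3000aa1))) (.node (.node (.leaf 0x388000b87) (.leaf 0x107000250)) (.node (.leaf 0x181000ab5) (.leaf 0x4a80007ee)))) (.node (.node (.node (.leaf 0x28000be2) (.leaf 0x31e000230)) (.node (.leaf 0xe2200081f) (.leaf 0x472000878))) (.node (.node (.leaf 0x5f000072e) (.leaf 0xace0003f2)) (.node (.leaf 0x508000672) (.leaf 0xbc000b0f))))) (.node (.node (.node (.node (.leaf 0x55f000e90) (.leaf 0x4d00041b)) (.node (.leaf 0x69e000813) (.leaf 0x61c00083e))) (.node (.node (.leaf 0x15f000247) (.leaf 0xcb5000a34)) (.node (.leaf 0xce6000665) (.leaf 0x6bd0006f9)))) (.node (.node (.node (.leaf 0xdb000ae7) (.leaf 0xcb0000dcb)) (.node (.leaf 0x9eb000a0d) (.leaf 0x502000619))) (.node (.node (.leaf 0x113000a6e) (.leaf 0xc43000418)) (.node (.leaf 0x52d0005d3) (.leaf 0xbc000b0f))))))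 (.node (.node (.node (.node (.node (.leaf 0x352000062) (.leaf 0xc850009de)) (.node (.leaf 0x3ba00067b) (.leaf 0xacf000603))) (.node (.node (.leaf 0x17b0007cc) (.leaf 0xcbf000e08)) (.node (.leaf 0x727000cbf) (.leaf 0x4af000340)))) (.node (.node (.node (.leaf 0x1b8000c8a) (.leaf 0x4b3000a71)) (.node (.leaf 0x13a000812) (.leaf 0xdcd000e64))) (.node (.node (.leaf 0xdbb000b9f) (.leaf 0xa3900020b)) (.node (.leaf 0xab700040b) (.leaf 0xbc000b0f))))) (.node (.node (.node (.node (.leaf 0xa24000241) (.leaf 0x43d000397)) (.node (.leaf 0x70000a48) (.leaf 0x147000300))) (.node (.node (.leaf 0x82b00030f) (.leaf 0x7f5000deb)) (.node (.leaf 0xee00049c) (.leaf 0x23500013f)))) (.node (.node (.node (.leaf 0xb66000631) (.leaf 0xb81000d5c)) (.node (.leaf 0xdf2000290) (.leaf 0xbda0003ea))) (.node (.node (.leaf 0xe69000067) (.leaf 0xd3d000331)) (.node (.leaf 0x3810004e4) (.leaf 0xbc000b0f))))))) (.node (.node (.node (.node (.node (.node (.leaf 0x3870007aa)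 (.leaf 0xea9000e69)) (.node (.leaf 0x192000210) (.leaf 0x4600001c6))) (.node (.node (.leaf 0xe93000305) (.leaf 0x2120000c4)) (.node (.leaf 0x7a400010a) (.leaf 0xd81000710)))) (.node (.node (.node (.leaf 0xe25000b6a) (.leaf 0x9a90007b7)) (.node (.leaf 0x79300058c) (.leaf 0xda2000c95))) (.node (.node (.leaf 0xb11000932) (.leaf 0x94000be5)) (.node (.leaf 0x82c0004f0) (.leaf 0xbc000b0f))))) (.node (.node (.node (.node (.leaf 0x2460000ca) (.leaf 0x238000b30)) (.node (.leaf 0x234000583) (.leaf 0xba000e78))) (.node (.node (.leaf 0xa000000ee) (.leaf 0x7e5000322)) (.node (.leaf 0x567000249) (.leaf 0x39500063d)))) (.node (.node (.node (.leaf 0x62100095e) (.leaf 0x2e20009da)) (.node (.leaf 0xe420008e4) (.leaf 0xc0b0000bb))) (.node (.node (.leaf 0xd20000321) (.leaf 0xa3d00020f)) (.node (.leaf 0x5cc000624) (.leaf 0xbc000b0f)))))) (.node (.node (.node (.node (.node (.leaf 0x8180002dc) (.leaf 0xab0000235)) (.node (.leaf 0xdd3000613) (.leaf 0x64e000a6d)))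 (.node (.node (.leaf 0xd70000cc6) (.leaf 0x6cb000254)) (.node (.leaf 0x1e500034b) (.leaf 0xd44000e75)))) (.node (.node (.node (.leaf 0x7a6000d73) (.leaf 0x1000e7d)) (.node (.leaf 0x37500050c) (.leaf 0x8df0001ea))) (.node (.node (.leaf 0xe8d000ccf) (.leaf 0xabc000b97)) (.node (.leaf 0x3c000d1c) (.leaf 0xbc000b0f))))) (.node (.node (.node (.node (.leaf 0x2cf0007b2) (.leaf 0x5a40001c7)) (.node (.leaf 0x7c40002c3) (.leaf 0xc81000611))) (.node (.node (.leaf 0x897000054) (.leaf 0x15c000602)) (.node (.leaf 0xc150009a6) (.leaf 0xbc000b0f)))) (.node (.node (.node (.leaf 0x92b00056f) (.leaf 0xd1c000db8)) (.node (.leaf 0xcfe000787) (.leaf 0x71600050e))) (.node (.node (.leaf 0xb2a000a70) (.leaf 0x89d0002be)) (.node (.leaf 0xde50006ca) (.leaf 0xbc000b0f)))))))) (.node (.node (.node (.node (.node (.node (.node (.leaf 0x2150009aa) (.leaf 0x985000d87)) (.node (.leaf 0xaf4000cbb) (.leaf 0xb490001da))) (.node (.node (.leaf 0xe880009be) (.leaf 0x2030009f0))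 (.node (.leaf 0x5ba000afc) (.leaf 0x734000295)))) (.node (.node (.node (.leaf 0x5c5000b0b) (.leaf 0x841000458)) (.node (.leaf 0xe56000bf9) (.leaf 0x433000020))) (.node (.node (.leaf 0xed00005bf) (.leaf 0x10000648)) (.node (.leaf 0xe47000251) (.leaf 0xbc000b0f))))) (.node (.node (.node (.node (.leaf 0x328000b24) (.leaf 0x25e000de5)) (.node (.leaf 0xe4f000aa8) (.leaf 0x6e3000a6f))) (.node (.node (.leaf 0x85b000419) (.leaf 0xcac000d3a)) (.node (.leaf 0xe54000553) (.leaf 0xd2d000408)))) (.node (.node (.node (.leaf 0xddf0006ff) (.leaf 0x2ea000e41)) (.node (.leaf 0x6a5000d56) (.leaf 0x4e0008e0))) (.node (.node (.leaf 0x27b000cb3) (.leaf 0x16a000d17)) (.node (.leaf 0x495000521) (.leaf 0xbc000b0f)))))) (.node (.node (.node (.node (.node (.leaf 0x2e4000440) (.leaf 0xb0a000e3e)) (.node (.leaf 0xd100041c) (.leaf 0xbfc000c4d))) (.node (.node (.leaf 0xa64000019) (.leaf 0x1760000ce)) (.node (.leaf 0x6e1000967) (.leaf 0xad4000694)))) (.node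 (.node (.node (.leaf 0x711000dc9) (.leaf 0xa8f000818)) (.node (.leaf 0xec20007f0) (.leaf 0xa000002))) (.node (.node (.leaf 0x9ec0008b6) (.leaf 0xaff000d9f)) (.node (.leaf 0xa080004ed) (.leaf 0xbc000b0f))))) (.node (.node (.node (.node (.leaf 0x8650005d5) (.leaf 0xd51000e58)) (.node (.leaf 0x2f000045d) (.leaf 0x56000832))) (.node (.node (.leaf 0xc6000e8e) (.leaf 0x35000e54)) (.node (.leaf 0x960000052) (.leaf 0xbc000b0f)))) (.node (.node (.node (.leaf 0x90f000578) (.leaf 0x49a0003fe)) (.node (.leaf 0xe89000225) (.leaf 0x6a70000e7))) (.node (.node (.leaf 0x73d00050b) (.leaf 0x77c000cce)) (.node (.leaf 0x467000406) (.leaf 0xbc000b0f))))))) (.node (.node (.node (.node (.node (.node (.leaf 0x6d5000bdf) (.leaf 0x5ce000d72)) (.node (.leaf 0x70300096d) (.leaf 0xc2e0006ba))) (.node (.node (.leaf 0x1860004a4) (.leaf 0xa84000bea)) (.node (.leaf 0x688000146) (.leaf 0xaae000767)))) (.node (.node (.node (.leaf 0x6980005f5) (.leaf 0xcce000e36))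 (.node (.leaf 0x77900097a) (.leaf 0xb20002eb))) (.node (.node (.leaf 0x206000131) (.leaf 0x15100089f)) (.node (.leaf 0xac9000e14) (.leaf 0xbc000b0f))))) (.node (.node (.node (.node (.leaf 0x932000ac8) (.leaf 0x291000820)) (.node (.leaf 0xb92000c01) (.leaf 0x24200073a))) (.node (.node (.leaf 0x74900001b) (.leaf 0x8b00004a2)) (.node (.leaf 0x6bb0007df) (.leaf 0x57a0005d9)))) (.node (.node (.node (.leaf 0xe18000186) (.leaf 0xbe6000e7e)) (.node (.leaf 0x879000a85) (.leaf 0xd0b000421))) (.node (.node (.leaf 0x96c00021f) (.leaf 0xb1f0007f8)) (.node (.leaf 0xe430007fc) (.leaf 0xbc000b0f)))))) (.node (.node (.node (.node (.node (.leaf 0x5f2000902) (.leaf 0x8d00081c)) (.node (.leaf 0xce700029c) (.leaf 0x6ff0003bc))) (.node (.node (.leaf 0x6b300010f) (.leaf 0xc65000e55)) (.node (.leaf 0xe9c000a3a) (.leaf 0x777000883)))) (.node (.node (.node (.leaf 0x45a0003c0) (.leaf 0x974000974)) (.node (.leaf 0x872000528) (.leaf 0xbe3000607))) (.node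 (.node (.leaf 0x90100034c) (.leaf 0x11000c2f)) (.node (.leaf 0xe76000636) (.leaf 0xbc000b0f))))) (.node (.node (.node (.node (.leaf 0x1cb0006d0) (.leaf 0xc050000cd)) (.node (.leaf 0xd17000227) (.leaf 0xb3700071f))) (.node (.node (.leaf 0xa9d00040a) (.leaf 0x616000414)) (.node (.leaf 0x95d000e13) (.leaf 0xbc000b0f)))) (.node (.node (.node (.leaf 0x737000c96) (.leaf 0x24f00018f)) (.node (.leaf 0xd79000843) (.leaf 0xc3c000513))) (.node (.node (.leaf 0x2b6000679) (.leaf 0xc62000c42)) (.node (.leaf 0x4f60009e3) (.leaf 0xbc000b0f)))))))))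

/-- part -/
def trioRankT_3 : Tr Nat := (.node (.node (.node (.node (.node (.node (.node (.node (.leaf 0xcde0007c8) (.leaf 0x6be0009ed)) (.node (.leaf 0x54b000b2b) (.leaf 0x6aa0004ac))) (.node (.node (.leaf 0x4f100022d) (.leaf 0xd89000c59)) (.node (.leaf 0xe32000da3) (.leaf 0xbf1000caf)))) (.node (.node (.node (.leaf 0x14a000096) (.leaf 0x3a300008b)) (.node (.leaf 0x564000bae) (.leaf 0x8ad000b35))) (.node (.node (.leaf 0x663000d89) (.leaf 0x8e90005be)) (.node (.leaf 0x9ca00048e) (.leaf 0xbc000b0f))))) (.node (.node (.node (.node (.leaf 0xc00000849) (.leaf 0x758000956)) (.node (.leaf 0x95b000330) (.leaf 0xd01000a8a))) (.node (.node (.leaf 0x133000db1) (.leaf 0x4cb000719)) (.node (.leaf 0x490000927) (.leaf 0x51f000bda)))) (.node (.node (.node (.leaf 0xdae00015e) (.leaf 0xe2f000a41)) (.node (.leaf 0x524000ea5) (.leaf 0x14600078e))) (.node (.node (.leaf 0x880005b0) (.leaf 0x466000506)) (.node (.leaf 0x3110003b1) (.leaf 0xbc000b0f))))))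 (.node (.node (.node (.node (.node (.leaf 0x453000859) (.leaf 0x4d2000c4f)) (.node (.leaf 0xecb000a40) (.leaf 0x801000b89))) (.node (.node (.leaf 0x3f0000557) (.leaf 0xc7c0002d9)) (.node (.leaf 0x999000b9b) (.leaf 0xe5b000ba0)))) (.node (.node (.node (.leaf 0xd21000758) (.leaf 0xb62000d1e)) (.node (.leaf 0x6db000562) (.leaf 0x5f5000ca0))) (.node (.node (.leaf 0x374000ea3) (.leaf 0x10d000b62)) (.node (.leaf 0x6330004d3) (.leaf 0xbc000b0f))))) (.node (.node (.node (.node (.leaf 0xb4b00054a) (.leaf 0x1d0000420)) (.node (.leaf 0x94f00026d) (.leaf 0x926000799))) (.node (.node (.leaf 0x657000926) (.leaf 0xc1e00048d)) (.node (.leaf 0xa400002c1) (.leaf 0xda300046f)))) (.node (.node (.node (.leaf 0x8ee000eaf) (.leaf 0xc77000082)) (.node (.leaf 0x8280007a4) (.leaf 0x38000be7))) (.node (.node (.leaf 0xe8b000797) (.leaf 0xbb000b8d)) (.node (.leaf 0x24400002a) (.leaf 0xbc000b0f))))))) (.node (.node (.node (.node (.node (.node (.leaf 0x9b10008ca)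 (.leaf 0x8dc000724)) (.node (.leaf 0xba6000310) (.leaf 0x17f000a9f))) (.node (.node (.leaf 0x3a600087c) (.leaf 0x41800083c)) (.node (.leaf 0x38600077c) (.leaf 0x556000af2)))) (.node (.node (.node (.leaf 0x2c500024b) (.leaf 0xc8b00026a)) (.node (.leaf 0x8070001e0) (.leaf 0xeb0009c1))) (.node (.node (.leaf 0xa5500073c) (.leaf 0x6c100004a)) (.node (.leaf 0x1ca000c07) (.leaf 0xbc000b0f))))) (.node (.node (.node (.node (.leaf 0xd5500015d) (.leaf 0xabf000ac0)) (.node (.leaf 0xc0c0000b8) (.leaf 0x4e8000a94))) (.node (.node (.leaf 0x6b600064b) (.leaf 0x9f1000bab)) (.node (.leaf 0x691000ce8) (.leaf 0x27f0007f7)))) (.node (.node (.node (.leaf 0x3b7000158) (.leaf 0x5fa0007d1)) (.node (.leaf 0x6c300018a) (.leaf 0x228000e9c))) (.node (.node (.leaf 0xa2d000c86) (.leaf 0xdd20005e0)) (.node (.leaf 0x377000ae2) (.leaf 0xbc000b0f)))))) (.node (.node (.node (.node (.node (.leaf 0x8b200036d) (.leaf 0x4a20002ff)) (.node (.leaf 0xea000139) (.leaf 0xa73000558)))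 (.node (.node (.leaf 0x99a000593) (.leaf 0x9930005a9)) (.node (.leaf 0xa06000d08) (.leaf 0xcf50005ba)))) (.node (.node (.node (.leaf 0x1ea000492) (.leaf 0xc070003b4)) (.node (.leaf 0x70b00029f) (.leaf 0x3e20005dc))) (.node (.node (.leaf 0xd3a000e15) (.leaf 0x20b0007e5)) (.node (.leaf 0x6df000c40) (.leaf 0xbc000b0f))))) (.node (.node (.node (.node (.leaf 0xdc8000137) (.leaf 0x46d0006f8)) (.node (.leaf 0xa9c000ae9) (.leaf 0xc0300093c))) (.node (.node (.leaf 0xce2000ba9) (.leaf 0xe620004dd)) (.node (.leaf 0x2680005ef) (.leaf 0xbc000b0f)))) (.node (.node (.node (.leaf 0x37d000a0e) (.leaf 0xcc5000354)) (.node (.leaf 0x7ca000b00) (.leaf 0xb2f000b88))) (.node (.node (.leaf 0x36a000c1a) (.leaf 0xec10008a9)) (.node (.leaf 0x1df000c7d) (.leaf 0xbc000b0f)))))))) (.node (.node (.node (.node (.node (.node (.node (.leaf 0xe5a00023a) (.leaf 0x87400076a)) (.node (.leaf 0x4540009e1) (.leaf 0x83a000cfe))) (.node (.node (.leaf 0x1ae000cfa) (.leaf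 0xbc7000245)) (.node (.leaf 0xaab000c84) (.leaf 0xb8000461)))) (.node (.node (.node (.leaf 0xa58000e9f) (.leaf 0x2fd0001dc)) (.node (.leaf 0x61f000851) (.leaf 0x7640009e4))) (.node (.node (.leaf 0x270000451) (.leaf 0xe070004fc)) (.node (.leaf 0x136000817) (.leaf 0xbc000b0f))))) (.node (.node (.node (.node (.leaf 0xdbe000e1e) (.leaf 0xe120001a1)) (.node (.leaf 0x6c400007a) (.leaf 0xc8f000066))) (.node (.node (.leaf 0x474000627) (.leaf 0x8fd0004ec)) (.node (.leaf 0xd9d000d4b) (.leaf 0xdac000674)))) (.node (.node (.node (.leaf 0x161000803) (.leaf 0x25f000543)) (.node (.leaf 0x7a1000ca5) (.leaf 0xbff000aa7))) (.node (.node (.leaf 0xbb00003dd) (.leaf 0x76e0008a6)) (.node (.leaf 0x5b5000703) (.leaf 0xbc000b0f)))))) (.node (.node (.node (.node (.node (.leaf 0x1b60006f1) (.leaf 0xd990009b9)) (.node (.leaf 0x9570006d6) (.leaf 0x3da0000e8))) (.node (.node (.leaf 0x5e10005df) (.leaf 0x6a90009dd)) (.node (.leaf 0x533000d9e) (.leaf 0x4d6000728))))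 (.node (.node (.node (.leaf 0x8b9000ae4) (.leaf 0xb2e000c02)) (.node (.leaf 0xd57000897) (.leaf 0x9c40001ca))) (.node (.node (.leaf 0xdb30000b9) (.leaf 0x2000ab2)) (.node (.leaf 0x81d000792) (.leaf 0xbc000b0f))))) (.node (.node (.node (.node (.leaf 0x1b5000188) (.leaf 0xc3300082c)) (.node (.leaf 0xaa30000aa) (.leaf 0xe030005cd))) (.node (.node (.leaf 0x640004b9) (.leaf 0x32d000eb3)) (.node (.leaf 0x696000d41) (.leaf 0xbc000b0f)))) (.node (.node (.node (.leaf 0x91c000229) (.leaf 0x9c30003c6)) (.node (.leaf 0xd6c000c30) (.leaf 0x3db000cd7))) (.node (.node (.leaf 0x4de000450) (.leaf 0x66f000800)) (.node (.leaf 0xd070008cf) (.leaf 0xbc000b0f))))))) (.node (.node (.node (.node (.node (.node (.leaf 0x9f3000764) (.leaf 0xa2c000e1d)) (.node (.leaf 0x1e3000579) (.leaf 0x1f6000df4))) (.node (.node (.leaf 0x9aa00089d) (.leaf 0xa65000371)) (.node (.leaf 0xa620000fc) (.leaf 0x53c000540)))) (.node (.node (.node (.leaf 0x50d0009ce) (.leaf 0xcec000ca1))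 (.node (.leaf 0xc86000e3c) (.leaf 0xc55000dd3))) (.node (.node (.leaf 0x46a0001c3) (.leaf 0x49f000af6)) (.node (.leaf 0x32c00000f) (.leaf 0xbc000b0f))))) (.node (.node (.node (.node (.leaf 0xc48000000) (.leaf 0x57700071d)) (.node (.leaf 0x13000d4f) (.leaf 0x74d000741))) (.node (.node (.leaf 0xa43000126) (.leaf 0xe96000b64)) (.node (.leaf 0x69f000021) (.leaf 0xa82000e5e)))) (.node (.node (.node (.leaf 0x869000535) (.leaf 0xd5000475)) (.node (.leaf 0x8ab000641) (.leaf 0x6950002f3))) (.node (.node (.leaf 0xc740002ea) (.leaf 0x5a1000806)) (.node (.leaf 0xd26000a61) (.leaf 0xbc000b0f)))))) (.node (.node (.node (.node (.node (.leaf 0xd8b000750) (.leaf 0x22c000835)) (.node (.leaf 0xb1d00086d) (.leaf 0x282000a4c))) (.node (.node (.leaf 0x97f0003c8) (.leaf 0xd68000721)) (.node (.leaf 0xb0600093e) (.leaf 0x19e000a55)))) (.node (.node (.node (.leaf 0xe37000b90) (.leaf 0x56b000881)) (.node (.leaf 0xf70004f9) (.leaf 0x9da00099d))) (.node (.node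 (.leaf 0xdb1000098) (.leaf 0x54f000708)) (.node (.leaf 0x62c000bd4) (.leaf 0xbc000b0f))))) (.node (.node (.node (.node (.leaf 0x63c0009ab) (.leaf 0x8f000011f)) (.node (.leaf 0xb1c000bfc) (.leaf 0x79d0002e0))) (.node (.node (.leaf 0x5e6000e63) (.leaf 0x614000c9e)) (.node (.leaf 0xd8e0008e8) (.leaf 0xbc000b0f)))) (.node (.node (.node (.leaf 0x673000e7b) (.leaf 0xce1000b61)) (.node (.leaf 0xfa000529) (.leaf 0xd80000206))) (.node (.node (.leaf 0xbeb000b03) (.leaf 0x4fc000c54)) (.node (.leaf 0x7b4000459) (.leaf 0xbc000b0f)))))))))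

/-- part -/
def trioRankT_4 : Tr Nat := (.node (.node (.node (.node (.node (.node (.node (.node (.leaf 0xd54000b5c) (.leaf 0xc6b0002a9)) (.node (.leaf 0x636000e35) (.leaf 0x95c000d0a))) (.node (.node (.leaf 0xebd00071b) (.leaf 0xb9f000608)) (.node (.leaf 0xae40002bd) (.leaf 0x9290005eb)))) (.node (.node (.node (.leaf 0x9c60005cb) (.leaf 0x74000685)) (.node (.leaf 0x81f000d84) (.leaf 0x3720003fa))) (.node (.node (.leaf 0x3f1000ba5) (.leaf 0xab5000e0e)) (.node (.leaf 0x3a2000903) (.leaf 0xbc000b0f))))) (.node (.node (.node (.node (.leaf 0x9cc0001a3) (.leaf 0xdaf0009ca)) (.node (.leaf 0xd390006fe) (.leaf 0xcff000b56))) (.node (.node (.leaf 0x991000c7c) (.leaf 0x836000ebc)) (.node (.leaf 0xb50000292) (.leaf 0x5ed000c4a)))) (.node (.node (.node (.leaf 0x19a000381) (.leaf 0x9b000cd9)) (.node (.leaf 0xa4200084a) (.leaf 0xeae000e26))) (.node (.node (.leaf 0x809000aca) (.leaf 0x297000e59)) (.node (.leaf 0xb60004eb) (.leaf 0xbc000b0f))))))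 (.node (.node (.node (.node (.node (.leaf 0x15000088) (.leaf 0xb73000d50)) (.node (.leaf 0x8c6000d5e) (.leaf 0xbf4000858))) (.node (.node (.leaf 0x9a3000cb4) (.leaf 0x651000582)) (.node (.leaf 0x578000e43) (.leaf 0x4290005a4)))) (.node (.node (.node (.leaf 0x6cf000c4e) (.leaf 0xe01000990)) (.node (.leaf 0x9fb0001ce) (.leaf 0x7e60003b9))) (.node (.node (.leaf 0xa6700023f) (.leaf 0x3a8000ccd)) (.node (.leaf 0x3b2000823) (.leaf 0xbc000b0f))))) (.node (.node (.node (.node (.leaf 0xa2a000ce5) (.leaf 0x9e60000d5)) (.node (.leaf 0xb160007c9) (.leaf 0x57000045))) (.node (.node (.leaf 0xaa000099) (.leaf 0x329000d98)) (.node (.leaf 0x436000beb) (.leaf 0x29e000554)))) (.node (.node (.node (.leaf 0xdb800032b) (.leaf 0x118000d80)) (.node (.leaf 0x2270007d9) (.leaf 0xda9000b20))) (.node (.node (.leaf 0x35900096b) (.leaf 0x93f0006dd)) (.node (.leaf 0x5060002b8) (.leaf 0xbc000b0f))))))) (.node (.node (.node (.node (.node (.node (.leaf 0xd0f00061b)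 (.leaf 0x6a30007e8)) (.node (.leaf 0xdb0000007) (.leaf 0x5680007e6))) (.node (.node (.leaf 0x62b000c77) (.leaf 0xa36000921)) (.node (.leaf 0x2aa000dcf) (.leaf 0x852000504)))) (.node (.node (.node (.leaf 0x4e20001db) (.leaf 0x2b5000ac6)) (.node (.leaf 0xc3000012f) (.leaf 0x820000afe))) (.node (.node (.leaf 0xaa4000c1d) (.leaf 0x5f6000dc0)) (.node (.leaf 0xdfd0005a1) (.leaf 0xbc000b0f))))) (.node (.node (.node (.node (.leaf 0xa0b0001e5) (.leaf 0x641000cb2)) (.node (.leaf 0xab400086c) (.leaf 0x4a1000987))) (.node (.node (.leaf 0x3a7000dc6) (.leaf 0x4bd0009bf)) (.node (.leaf 0x78e000660) (.leaf 0xacb000e30)))) (.node (.node (.node (.leaf 0xa2100047e) (.leaf 0xbab000291)) (.node (.leaf 0x7190000b3) (.leaf 0x2d3000d24))) (.node (.node (.leaf 0x2d9000702) (.leaf 0xd13000c88)) (.node (.leaf 0x503000620) (.leaf 0xbc000b0f)))))) (.node (.node (.node (.node (.node (.leaf 0x440005fa) (.leaf 0x847000b2e)) (.node (.leaf 0x150000788) (.leaf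 0xbb8000bf4))) (.node (.node (.leaf 0x837000ddd) (.leaf 0x38b00063c)) (.node (.leaf 0xde00000c0) (.leaf 0xad1000aec)))) (.node (.node (.node (.leaf 0x1d7000999) (.leaf 0x951000c03)) (.node (.leaf 0x54c000081) (.leaf 0xa27000243))) (.node (.node (.leaf 0xb6f000c61) (.leaf 0xb4c00094c)) (.node (.leaf 0x36000b49) (.leaf 0xbc000b0f))))) (.node (.node (.node (.node (.leaf 0x4b7000003) (.leaf 0x68f000745)) (.node (.leaf 0xd0d000122) (.leaf 0x4300002ec))) (.node (.node (.leaf 0x16f0009a4) (.leaf 0x7ac0001ab)) (.node (.leaf 0x160004d2) (.leaf 0xbc000b0f)))) (.node (.node (.node (.leaf 0xe2a000d86) (.leaf 0x53100059a)) (.node (.leaf 0xcca000b0d) (.leaf 0x9e8000b10))) (.node (.node (.leaf 0x10e000d6c) (.leaf 0x1040004bb)) (.node (.leaf 0x7d9000e96) (.leaf 0xbc000b0f)))))))) (.node (.node (.node (.node (.node (.node (.node (.leaf 0x5c9000793) (.leaf 0x54400074b)) (.node (.leaf 0xa410006d5) (.leaf 0x8b000732))) (.node (.node (.leaf 0x8bf000a24)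 (.leaf 0xa5b00016f)) (.node (.leaf 0x9b90005dd) (.leaf 0x10b00089c)))) (.node (.node (.node (.leaf 0x1770000fa) (.leaf 0x4ca000b28)) (.node (.leaf 0x6430005fe) (.leaf 0xece0008b1))) (.node (.node (.leaf 0xa7000d1f) (.leaf 0x7cb000d69)) (.node (.leaf 0x1fe000296) (.leaf 0xbc000b0f))))) (.node (.node (.node (.node (.leaf 0x34100037a) (.leaf 0x49300039f)) (.node (.leaf 0x16c00050a) (.leaf 0xc6f000bb2))) (.node (.node (.leaf 0x682000281) (.leaf 0x829000a7d)) (.node (.leaf 0x85000086) (.leaf 0x28b000b11)))) (.node (.node (.node (.leaf 0x590000424) (.leaf 0x249000980)) (.node (.leaf 0xcd5000037) (.leaf 0xe5f000718))) (.node (.node (.leaf 0xe9d0002ab) (.leaf 0xc90004b4)) (.node (.leaf 0x75c000132) (.leaf 0xbc000b0f)))))) (.node (.node (.node (.node (.node (.leaf 0x6d40004e1) (.leaf 0xb8e000e22)) (.node (.leaf 0x7f80002aa) (.leaf 0x24d000780))) (.node (.node (.leaf 0x1680006b2) (.leaf 0xd250001b9)) (.node (.leaf 0x885000ec8) (.leaf 0x65b000466))))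 (.node (.node (.node (.leaf 0xbef000783) (.leaf 0x989000a98)) (.node (.leaf 0x62e00034d) (.leaf 0x583000499))) (.node (.node (.leaf 0xdf5000044) (.leaf 0x74f000166)) (.node (.leaf 0xd3e00031a) (.leaf 0xbc000b0f))))) (.node (.node (.node (.node (.leaf 0x906000c11) (.leaf 0x1f70005c8)) (.node (.leaf 0x6e200084c) (.leaf 0xe9000c87))) (.node (.node (.leaf 0x356000ad3) (.leaf 0xec90006b1)) (.node (.leaf 0x11b000b3d) (.leaf 0x4fb000768)))) (.node (.node (.node (.leaf 0xd63000a93) (.leaf 0x15700027a)) (.node (.leaf 0xbe0003a6) (.leaf 0x9ce000bac))) (.node (.node (.leaf 0x56500092e) (.leaf 0xc27000c66)) (.node (.leaf 0x87000668) (.leaf 0xbc000b0f))))))) (.node (.node (.node (.node (.node (.node (.leaf 0xdda000afb) (.leaf 0xcd40003aa)) (.node (.leaf 0xbe10001b1) (.leaf 0x545000379))) (.node (.node (.leaf 0x499000e8f) (.leaf 0x9f600001e)) (.node (.leaf 0x74e000378) (.leaf 0x51900060c)))) (.node (.node (.node (.leaf 0x79200092f) (.leaf 0x3240000b4))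 (.node (.leaf 0x6c7000198) (.leaf 0xd9000221))) (.node (.node (.leaf 0x2b3000969) (.leaf 0x7e8000415)) (.node (.leaf 0xc12000d7e) (.leaf 0xbc000b0f))))) (.node (.node (.node (.node (.leaf 0xae6000d34) (.leaf 0x77300006c)) (.node (.leaf 0x71500089b) (.leaf 0x8a2000e39))) (.node (.node (.leaf 0x4ae00008a) (.leaf 0xb5c000e7f)) (.node (.leaf 0x252000163) (.leaf 0xa53000db5)))) (.node (.node (.node (.leaf 0x8000c13) (.leaf 0xb7000989)) (.node (.leaf 0x913000203) (.leaf 0x57e0009d9))) (.node (.node (.leaf 0x4c1000742) (.leaf 0xc92000e72)) (.node (.leaf 0xe4000b1b) (.leaf 0xbc000b0f)))))) (.node (.node (.node (.node (.node (.leaf 0xced000a83) (.leaf 0x798000574)) (.node (.leaf 0x83000d04) (.leaf 0x45b000df2))) (.node (.node (.leaf 0x8ba00056e) (.leaf 0x8160001ee)) (.node (.leaf 0x704000923) (.leaf 0xbb2000e27)))) (.node (.node (.node (.leaf 0x675000b93) (.leaf 0x769000c2b)) (.node (.leaf 0x99f0000a9) (.leaf 0x8340007c0))) (.node (.node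 (.leaf 0x7eb000d02) (.leaf 0xda70004de)) (.node (.leaf 0x7ed0006ab) (.leaf 0xbc000b0f))))) (.node (.node (.node (.node (.leaf 0x717000618) (.leaf 0x990000666)) (.node (.leaf 0xaf000087d) (.leaf 0xd310005e7))) (.node (.node (.leaf 0xc4000042e) (.leaf 0xe2c000785)) (.node (.leaf 0x470000e28) (.leaf 0xbc000b0f)))) (.node (.node (.node (.leaf 0x299000257) (.leaf 0x2d000857)) (.node (.leaf 0x487000074) (.leaf 0xc720005c4))) (.node (.node (.leaf 0xb04000089) (.leaf 0xa5a000646)) (.node (.leaf 0x37600029e) (.leaf 0xbc000b0f)))))))))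

/-- part -/
def trioRankT_5 : Tr Nat := (.node (.node (.node (.node (.node (.node (.node (.node (.leaf 0x679000d54) (.leaf 0xb590006a8)) (.node (.leaf 0x2f400069d) (.leaf 0xcd700003f))) (.node (.node (.leaf 0xbad00005b) (.leaf 0xeb70005a3)) (.node (.leaf 0x660009a3) (.leaf 0xe1b000c67)))) (.node (.node (.node (.leaf 0x624000026) (.leaf 0x753000d4e)) (.node (.leaf 0x492000838) (.leaf 0xc02000eb6))) (.node (.node (.leaf 0x1d8000027) (.leaf 0x451000854)) (.node (.leaf 0x468000639) (.leaf 0xbc000b0f))))) (.node (.node (.node (.node (.leaf 0x2b20009d0) (.leaf 0xdaa000aee)) (.node (.leaf 0xe980006a3) (.leaf 0x144000759))) (.node (.node (.leaf 0x5b7000507) (.leaf 0xc8c000c9a)) (.node (.leaf 0x31000328) (.leaf 0x3e30004e6)))) (.node (.node (.node (.leaf 0x5ac000991) (.leaf 0x5d00002de)) (.node (.leaf 0xb36000af9) (.leaf 0xafe000cf1))) (.node (.node (.leaf 0xc4700016b) (.leaf 0x7f6000600)) (.node (.leaf 0x86600046a) (.leaf 0xbc000b0f))))))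 (.node (.node (.node (.node (.node (.leaf 0xb2c000a4d) (.leaf 0x582000e16)) (.node (.leaf 0x5b30006fd) (.leaf 0xe820000ad))) (.node (.node (.leaf 0x64b000076) (.leaf 0xaeb000ccb)) (.node (.leaf 0x490000da) (.leaf 0x34b00059e)))) (.node (.node (.node (.leaf 0x87d00010c) (.leaf 0x5ab000eb9)) (.node (.leaf 0xcc00058b) (.leaf 0x8f1000669))) (.node (.node (.leaf 0x916000c16) (.leaf 0xce30000c7)) (.node (.leaf 0x450000e3d) (.leaf 0xbc000b0f))))) (.node (.node (.node (.node (.leaf 0xa40004bf) (.leaf 0x2c000dce)) (.node (.leaf 0x479000912) (.leaf 0xda10005e2))) (.node (.node (.leaf 0x4d7000413) (.leaf 0x3820005a5)) (.node (.leaf 0x7e40005ae) (.leaf 0xbe7000320)))) (.node (.node (.node (.leaf 0xd5c00072c) (.leaf 0x88200070c)) (.node (.leaf 0x7ee00051a) (.leaf 0x99600008d))) (.node (.node (.leaf 0x12d0006af) (.leaf 0x47000930)) (.node (.leaf 0x68d0005ec) (.leaf 0xbc000b0f))))))) (.node (.node (.node (.node (.node (.node (.leaf 0x7cc000383)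 (.leaf 0xb18000398)) (.node (.leaf 0x9f8000bf3) (.leaf 0x917000c5d))) (.node (.node (.leaf 0x6ef0007d7) (.leaf 0x8990000c2)) (.node (.leaf 0x7b7000263) (.leaf 0xd160001e2)))) (.node (.node (.node (.leaf 0x8c0000d15) (.leaf 0xeb9000d16)) (.node (.leaf 0x9d60000f1) (.leaf 0x3b1000920))) (.node (.node (.leaf 0x2ae000b1d) (.leaf 0x7f30003e4)) (.node (.leaf 0x38900032e) (.leaf 0xbc000b0f))))) (.node (.node (.node (.node (.leaf 0x4dc0002c2) (.leaf 0xebe0003ef)) (.node (.leaf 0xafa0004a9) (.leaf 0x1d300040e))) (.node (.node (.leaf 0x452000622) (.leaf 0x7510006a0)) (.node (.leaf 0x8ea000c0c) (.leaf 0x6d000a95)))) (.node (.node (.node (.leaf 0x4b9000e46) (.leaf 0x1400023c)) (.node (.leaf 0x22e000448) (.leaf 0x23600088a))) (.node (.node (.leaf 0x832000ad0) (.leaf 0xa6b000a8b)) (.node (.leaf 0x2400027f) (.leaf 0xbc000b0f)))))) (.node (.node (.node (.node (.node (.leaf 0x9bd000481) (.leaf 0x36d000b3e)) (.node (.leaf 0x78a00033c) (.leaf 0x440000469)))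 (.node (.node (.leaf 0x92c000743) (.leaf 0x81700025b)) (.node (.leaf 0x11a000ec5) (.leaf 0x36e000283)))) (.node (.node (.node (.leaf 0x1f000b94) (.leaf 0xbc9000298)) (.node (.leaf 0x1fd000d77) (.leaf 0x3550000c3))) (.node (.node (.leaf 0x9330003ec) (.leaf 0x1240001ff)) (.node (.leaf 0x81c000965) (.leaf 0xbc000b0f))))) (.node (.node (.node (.node (.leaf 0xc7300046c) (.leaf 0xcdb0006aa)) (.node (.leaf 0x298000d6b) (.leaf 0x370000d2f))) (.node (.node (.leaf 0x3bc000994) (.leaf 0x760000805)) (.node (.leaf 0x139000bbd) (.leaf 0xbc000b0f)))) (.node (.node (.node (.leaf 0xd6400016c) (.leaf 0x77f000a38)) (.node (.leaf 0x2bb00062e) (.leaf 0x9d500012b))) (.node (.node (.leaf 0xdc40000d9) (.leaf 0xa34000d49)) (.node (.leaf 0xab6000a88) (.leaf 0xbc000b0f)))))))) (.node (.node (.node (.node (.node (.node (.node (.leaf 0xdc7000e98) (.leaf 0xeaf0000b6)) (.node (.leaf 0x469000538) (.leaf 0x3ec000b48))) (.node (.node (.leaf 0x6bf000323) (.leaf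 0xa700007a1)) (.node (.leaf 0x705000e4b) (.leaf 0xc3a00070f)))) (.node (.node (.node (.leaf 0x3ae00066a) (.leaf 0xbc100075a)) (.node (.leaf 0x5ca0004c9) (.leaf 0x726000cae))) (.node (.node (.leaf 0x7520004c5) (.leaf 0x3ef000c8d)) (.node (.leaf 0x90e000943) (.leaf 0xbc000b0f))))) (.node (.node (.node (.node (.leaf 0x8a700052b) (.leaf 0x4e6000933)) (.node (.leaf 0x750009d4) (.leaf 0xa8a000b57))) (.node (.node (.leaf 0x7090003d6) (.leaf 0x93600037f)) (.node (.leaf 0x9c9000571) (.leaf 0x9ff0001d7)))) (.node (.node (.node (.leaf 0x2f9000182) (.leaf 0x15b00026c)) (.node (.leaf 0x9e2000a16) (.leaf 0xa7d000eb7))) (.node (.node (.leaf 0x840000261) (.leaf 0x40b000516)) (.node (.leaf 0xb70000c71) (.leaf 0xbc000b0f)))))) (.node (.node (.node (.node (.node (.leaf 0xa17000a0f) (.leaf 0x5e7000a9b)) (.node (.leaf 0x858000174) (.leaf 0x86b000470))) (.node (.node (.leaf 0x3b6000ec9) (.leaf 0x201000bf2)) (.node (.leaf 0xd360000ed) (.leaf 0x5000001c))))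 (.node (.node (.node (.leaf 0x9ba000316) (.leaf 0x1580000a8)) (.node (.leaf 0xd33000047) (.leaf 0x1c5000808))) (.node (.node (.leaf 0xc21000b2d) (.leaf 0x1980009f9)) (.node (.leaf 0x91a000cf3) (.leaf 0xbc000b0f))))) (.node (.node (.node (.node (.leaf 0x64a000901) (.leaf 0x685000e1f)) (.node (.leaf 0xcd9000595) (.leaf 0x53d0005b3))) (.node (.node (.leaf 0xa1d0004f7) (.leaf 0x2250004db)) (.node (.leaf 0xaaf000508) (.leaf 0xbc000b0f)))) (.node (.node (.node (.leaf 0xc140004d5) (.leaf 0x9a4000d7c)) (.node (.leaf 0x117000437) (.leaf 0xb33000032))) (.node (.node (.leaf 0x7b9000c5c) (.leaf 0xe8c000dc4)) (.node (.leaf 0x8350002fe) (.leaf 0xbc000b0f))))))) (.node (.node (.node (.node (.node (.node (.leaf 0x2b0000c3a) (.leaf 0x46f000c1c)) (.node (.leaf 0x131000048) (.leaf 0x3a000e1a))) (.node (.node (.leaf 0x1c000a8e) (.leaf 0x67400058f)) (.node (.leaf 0x3f9000a73) (.leaf 0xb6b0006b6)))) (.node (.node (.node (.leaf 0x1ba000544) (.leaf 0xbde000c6d))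 (.node (.leaf 0x800000bf8) (.leaf 0xa9400036c))) (.node (.node (.leaf 0xb6d000919) (.leaf 0xca7000460)) (.node (.leaf 0xcb4000b55) (.leaf 0xbc000b0f))))) (.node (.node (.node (.node (.leaf 0x6e5000ca4) (.leaf 0xc53000272)) (.node (.leaf 0x8a0000dfa) (.leaf 0xe8e000185))) (.node (.node (.leaf 0x23e0000d7) (.leaf 0xbb600083b)) (.node (.leaf 0xc340003e3) (.leaf 0x11500077f)))) (.node (.node (.node (.leaf 0x94d00013a) (.leaf 0x88b00015a)) (.node (.leaf 0xe6c000614) (.leaf 0x46e000c9d))) (.node (.node (.leaf 0x2a7000444) (.leaf 0xd09000b5f)) (.node (.leaf 0x3480006de) (.leaf 0xbc000b0f)))))) (.node (.node (.node (.node (.node (.leaf 0x49c0003de) (.leaf 0xe1f0009e9)) (.node (.leaf 0x1bb0001f7) (.leaf 0x153000845))) (.node (.node (.leaf 0x9d2000968) (.leaf 0xe9e00097e)) (.node (.leaf 0xd47000111) (.leaf 0xbbd000c80)))) (.node (.node (.node (.leaf 0xd61000e17) (.leaf 0x53400064f)) (.node (.leaf 0x9c8000eb4) (.leaf 0x29000c9b))) (.node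 (.node (.leaf 0x9200044e) (.leaf 0x32f00080f)) (.node (.leaf 0x231000bb3) (.leaf 0xbc000b0f))))) (.node (.node (.node (.node (.leaf 0x1120005fc) (.leaf 0xe7000022f)) (.node (.leaf 0x930000915) (.leaf 0x21c000a25))) (.node (.node (.leaf 0x6d00002e5) (.leaf 0x730004aa)) (.node (.leaf 0x2c80006e3) (.leaf 0xbc000b0f)))) (.node (.node (.node (.leaf 0xcf6000867) (.leaf 0x8d10005e5)) (.node (.leaf 0x620009ac) (.leaf 0x4ba000391))) (.node (.node (.leaf 0xd0200000b) (.leaf 0x2d60001f0)) (.node (.leaf 0x365000cde) (.leaf 0xbc000b0f)))))))))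

/-- part -/
def trioRankT_6 : Tr Nat := (.node (.node (.node (.node (.node (.node (.node (.node (.leaf 0xa0d0000a5) (.leaf 0xbbc000073)) (.node (.leaf 0x7d4000588) (.leaf 0xcb0001e8))) (.node (.node (.leaf 0xdfc000334) (.leaf 0xba500066c)) (.node (.leaf 0x530000370) (.leaf 0x1a50009bb)))) (.node (.node (.node (.leaf 0xd1e0007e0) (.leaf 0xd430000d2)) (.node (.leaf 0xb8c0007c2) (.leaf 0x668000a89))) (.node (.node (.leaf 0x75900073b) (.leaf 0x72800067c)) (.node (.leaf 0xe46000266) (.leaf 0xbc000b0f))))) (.node (.node (.node (.node (.leaf 0x6920009d5) (.leaf 0x30d000546)) (.node (.leaf 0x2950000c1) (.leaf 0x3ac00053c))) (.node (.node (.leaf 0xce5000eae) (.leaf 0xb5e000a36)) (.node (.leaf 0x748000755) (.leaf 0x8cb000ec6)))) (.node (.node (.node (.leaf 0x1b4000234) (.leaf 0x4f000e4e)) (.node (.leaf 0xd0e000de9) (.leaf 0x1e2000de6))) (.node (.node (.leaf 0x6f00062c) (.leaf 0x955000d26)) (.node (.leaf 0xd0000091b) (.leaf 0xbc000b0f))))))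 (.node (.node (.node (.node (.node (.leaf 0x9fe00051e) (.leaf 0xcab000c43)) (.node (.leaf 0x2c90005ff) (.leaf 0xc60000d4d))) (.node (.node (.leaf 0x3a50000a4) (.leaf 0x23f00076e)) (.node (.leaf 0xbf2000b36) (.leaf 0x1aa000706)))) (.node (.node (.node (.leaf 0x634000d8c) (.leaf 0xa5e0000ff)) (.node (.leaf 0x886000b76) (.leaf 0x33e000287))) (.node (.node (.leaf 0x6c6000329) (.leaf 0x478000211)) (.node (.leaf 0xd19000a63) (.leaf 0xbc000b0f))))) (.node (.node (.node (.node (.leaf 0x5360002d4) (.leaf 0x91d000442)) (.node (.leaf 0xac70007ab) (.leaf 0x2640005cf))) (.node (.node (.leaf 0x1600000d0) (.leaf 0x922000a0b)) (.node (.leaf 0xc87000346) (.leaf 0xe86000b7d)))) (.node (.node (.node (.leaf 0xc24000725) (.leaf 0x10f000102)) (.node (.leaf 0x5bd0007f3) (.leaf 0x2a200052f))) (.node (.node (.leaf 0x9dc0009ae) (.leaf 0xd50000e85)) (.node (.leaf 0xc170006a5) (.leaf 0xbc000b0f))))))) (.node (.node (.node (.node (.node (.node (.leaf 0x10a000ae0)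 (.leaf 0x426000da5)) (.node (.leaf 0x44d000826) (.leaf 0x1e600059d))) (.node (.node (.leaf 0xabe00068d) (.leaf 0xaad000238)) (.node (.leaf 0xb28000365) (.leaf 0xd82000b8e)))) (.node (.node (.node (.leaf 0x2bc00030e) (.leaf 0x2cc000ccc)) (.node (.leaf 0x10000096f) (.leaf 0xb860007bc))) (.node (.node (.leaf 0x7a5000d3e) (.leaf 0x811000b95)) (.node (.leaf 0x1a9000d1a) (.leaf 0xbc000b0f))))) (.node (.node (.node (.node (.leaf 0x5ef000cd0) (.leaf 0xb9c00069b)) (.node (.leaf 0x7210004d0) (.leaf 0xc99000985))) (.node (.node (.leaf 0x37800074e) (.leaf 0x9be0001cb)) (.node (.leaf 0x29b000b71) (.leaf 0x7c5000df8)))) (.node (.node (.node (.leaf 0x4b60003ee) (.leaf 0x6e4000d36)) (.node (.leaf 0xceb00090b) (.leaf 0x8b8000771))) (.node (.node (.leaf 0x5d200022c) (.leaf 0xe3e00042c)) (.node (.leaf 0x4d8000164) (.leaf 0xbc000b0f)))))) (.node (.node (.node (.node (.node (.leaf 0xc9c00060a) (.leaf 0x5cd00078a)) (.node (.leaf 0xe52000b8c) (.leaf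 0xbd200095d))) (.node (.node (.leaf 0x7060006b8) (.leaf 0x6dd000c15)) (.node (.leaf 0x8f2000a29) (.leaf 0x3a900079b)))) (.node (.node (.node (.leaf 0xb520004a8) (.leaf 0x9b5000400)) (.node (.leaf 0x4d1000916) (.leaf 0x9e900021d))) (.node (.node (.leaf 0x6010000f9) (.leaf 0x5380001c4)) (.node (.leaf 0x76d000dd1) (.leaf 0xbc000b0f))))) (.node (.node (.node (.node (.leaf 0xddd000da0) (.leaf 0x11e00092b)) (.node (.leaf 0xe8a00089a) (.leaf 0x255000684))) (.node (.node (.leaf 0x7f9000a77) (.leaf 0x7d30000b2)) (.node (.leaf 0x6d7000537) (.leaf 0xbc000b0f)))) (.node (.node (.node (.leaf 0x12b000c26) (.leaf 0xeb30008c2)) (.node (.leaf 0x7360002fc) (.leaf 0xd860004b7))) (.node (.node (.leaf 0xb07000b58) (.leaf 0x32b0009b4)) (.node (.leaf 0xc22000d42) (.leaf 0xbc000b0f)))))))) (.node (.node (.node (.node (.node (.node (.node (.leaf 0x72b0006e2) (.leaf 0xa76000a72)) (.node (.leaf 0xec30009b3) (.leaf 0x34a000735))) (.node (.node (.leaf 0x73b000b96)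 (.leaf 0x59a000049)) (.node (.leaf 0xcc7000af4) (.leaf 0x84a000e73)))) (.node (.node (.node (.leaf 0x95900062b) (.leaf 0x56600034a)) (.node (.leaf 0xb9a000587) (.leaf 0x92a000e2a))) (.node (.node (.leaf 0x15a000b91) (.leaf 0xf10004c2)) (.node (.leaf 0x34e000de4) (.leaf 0xbc000b0f))))) (.node (.node (.node (.node (.leaf 0x10c00007d) (.leaf 0x12f0000f3)) (.node (.leaf 0xa07000b5d) (.leaf 0x1f4000337))) (.node (.node (.leaf 0x712000e20) (.leaf 0x12900024f)) (.node (.leaf 0xf90006dc) (.leaf 0x7e2000abc)))) (.node (.node (.node (.leaf 0x5c0000070) (.leaf 0x587000dca)) (.node (.leaf 0xa4b00006d) (.leaf 0x2ce000248))) (.node (.node (.leaf 0x7b3000ddf) (.leaf 0x2160006cf)) (.node (.leaf 0xe63000a58) (.leaf 0xbc000b0f)))))) (.node (.node (.node (.node (.node (.leaf 0xb3e000cd4) (.leaf 0xc900003ff)) (.node (.leaf 0x2d100050d) (.leaf 0xbe0000de1))) (.node (.node (.leaf 0x337000071) (.leaf 0x96b000790)) (.node (.leaf 0x30f000c28) (.leaf 0xa91000514))))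 (.node (.node (.node (.leaf 0x63d000ae3) (.leaf 0x88c000973)) (.node (.leaf 0x747000e2c) (.leaf 0x594000308))) (.node (.node (.leaf 0x6180002d2) (.leaf 0xc82000c7f)) (.node (.leaf 0x889000d1d) (.leaf 0xbc000b0f))))) (.node (.node (.node (.node (.leaf 0x393000737) (.leaf 0x35f000c18)) (.node (.leaf 0x6d3000e5c) (.leaf 0x29d000517))) (.node (.node (.leaf 0x3c3000bfa) (.leaf 0xeb1000757)) (.node (.leaf 0x45c000d61) (.leaf 0xbc000b0f)))) (.node (.node (.node (.leaf 0x481000585) (.leaf 0xdef00052a)) (.node (.leaf 0x9530008e7) (.leaf 0x78f00013e))) (.node (.node (.leaf 0x29a000d2d) (.leaf 0x9e000e6d)) (.node (.leaf 0xb4d000217) (.leaf 0xbc000b0f))))))) (.node (.node (.node (.node (.node (.node (.leaf 0x7ff000762) (.leaf 0x79e000a82)) (.node (.leaf 0xba10006c2) (.leaf 0xe7d0000c8))) (.node (.node (.leaf 0xa29000daa) (.leaf 0xa86000a22)) (.node (.leaf 0x774000402) (.leaf 0x934000bf5)))) (.node (.node (.node (.leaf 0x44500071c) (.leaf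 0x1a1000a9a)) (.node (.leaf 0x8dd0000c6) (.leaf 0x9a600065a))) (.node (.node (.leaf 0x97d0002f1) (.leaf 0x64600058a)) (.node (.leaf 0x24e0005e6) (.leaf 0xbc000b0f))))) (.node (.node (.node (.node (.leaf 0x81a000782) (.leaf 0x354000c0f)) (.node (.leaf 0xc580001a6) (.leaf 0xae7000d09))) (.node (.node (.leaf 0x37b0003f4) (.leaf 0xb30007ea)) (.node (.leaf 0xe3a0002ac) (.leaf 0xd0a000c47)))) (.node (.node (.node (.leaf 0x6000005c) (.leaf 0x6f1000671)) (.node (.leaf 0x41b000171) (.leaf 0xa95000a10))) (.node (.node (.leaf 0x59d00025a) (.leaf 0x561000aba)) (.node (.leaf 0x693000ba1) (.leaf 0xbc000b0f)))))) (.node (.node (.node (.node (.node (.leaf 0x24a000951) (.leaf 0x9c700044f)) (.node (.leaf 0xe280005bb) (.leaf 0x99000890))) (.node (.node (.leaf 0x2b7000bbb) (.leaf 0x6e0000816)) (.node (.leaf 0x5b0008a5) (.leaf 0x4b000774)))) (.node (.node (.node (.leaf 0x550000a54) (.leaf 0x8c7000e05)) (.node (.leaf 0x92d000500) (.leaf 0x173000988)))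 (.node (.node (.leaf 0x9310007f2) (.leaf 0x546000d67)) (.node (.leaf 0x7750000c5) (.leaf 0xbc000b0f))))) (.node (.node (.node (.node (.leaf 0x3a0000c70) (.leaf 0x887000b80)) (.node (.leaf 0x35e0007f4) (.leaf 0x3d30001fa))) (.node (.node (.leaf 0x97e000467) (.leaf 0xb3c0001f5)) (.node (.leaf 0x21e000898) (.leaf 0xbc000b0f)))) (.node (.node (.node (.leaf 0xc01000c3c) (.leaf 0x1e000a32)) (.node (.leaf 0x863000b22) (.leaf 0x9cb000d19))) (.node (.node (.leaf 0x5ee000b47) (.leaf 0xd730005b7)) (.node (.leaf 0xcd3000b8a) (.leaf 0xbc000b0f)))))))))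

/-- part -/
def trioRankT_7 : Tr Nat := (.node (.node (.node (.node (.node (.node (.node (.node (.leaf 0xd100005c1) (.leaf 0xe35000358)) (.node (.leaf 0xcaa000bcd) (.leaf 0x269000863))) (.node (.node (.leaf 0x770009b7) (.leaf 0x1ec000d83)) (.node (.leaf 0x47d0002d8) (.leaf 0xb02000e5b)))) (.node (.node (.node (.leaf 0x4070003e2) (.leaf 0x21d00071a)) (.node (.leaf 0xde400078d) (.leaf 0x331000586))) (.node (.node (.leaf 0x126000c50) (.leaf 0x56d000dd8)) (.node (.leaf 0x463000471) (.leaf 0xbc000b0f))))) (.node (.node (.node (.node (.leaf 0xdd10009c0) (.leaf 0x4ff0004e7)) (.node (.leaf 0x70c00085f) (.leaf 0xad800093b))) (.node (.node (.leaf 0x85e0004d8) (.leaf 0x23a000e8d)) (.node (.leaf 0xb030003bd) (.leaf 0x2d4000cba)))) (.node (.node (.node (.leaf 0x435000b63) (.leaf 0xde70003a1)) (.node (.leaf 0x455000d75) (.leaf 0x20d0006fc))) (.node (.node (.leaf 0x799000401) (.leaf 0xe26000852)) (.node (.leaf 0xd8c0006a2) (.leaf 0xbc000b0f))))))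 (.node (.node (.node (.node (.node (.leaf 0x54d000d94) (.leaf 0x190003f0)) (.node (.leaf 0x37a0004e8) (.leaf 0x142000231))) (.node (.node (.leaf 0x93b000736) (.leaf 0xc7e000560)) (.node (.leaf 0x5bf000c64) (.leaf 0x986000345)))) (.node (.node (.node (.leaf 0x12700051f) (.leaf 0x6700007a8)) (.node (.leaf 0xd2f000daf) (.leaf 0x90a00086b))) (.node (.node (.leaf 0x998000716) (.leaf 0xa97000d88)) (.node (.leaf 0x2a6000632) (.leaf 0xbc000b0f))))) (.node (.node (.node (.node (.leaf 0xa54000adb) (.leaf 0x5a7000ab9)) (.node (.leaf 0x7cf0001d0) (.leaf 0xbd4000934))) (.node (.node (.leaf 0xdf7000d96) (.leaf 0x523000b04)) (.node (.leaf 0x9700019b) (.leaf 0xca1000d12)))) (.node (.node (.node (.leaf 0x542000407) (.leaf 0x13c000dd2)) (.node (.leaf 0xc75000834) (.leaf 0x8ca00025d))) (.node (.node (.leaf 0x6c90005ab) (.leaf 0xe0d000e9d)) (.node (.leaf 0xe6f000150) (.leaf 0xbc000b0f))))))) (.node (.node (.node (.node (.node (.node (.leaf 0x6670004af)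 (.leaf 0xb6800047f)) (.node (.leaf 0x2f2000189) (.leaf 0x8fe000c34))) (.node (.node (.leaf 0x39b0005aa) (.leaf 0xe1e00002b)) (.node (.leaf 0x5ea000552) (.leaf 0xcf00000d8)))) (.node (.node (.node (.leaf 0xa15000285) (.leaf 0x3d2000d57)) (.node (.leaf 0x9d90007e9) (.leaf 0x40f000427))) (.node (.node (.leaf 0x72a000e33) (.leaf 0x86200095c)) (.node (.leaf 0x304000215) (.leaf 0xbc000b0f))))) (.node (.node (.node (.node (.leaf 0x1430006a1) (.leaf 0xc25000a07)) (.node (.leaf 0xeb50002b2) (.leaf 0xd1a000c53))) (.node (.node (.leaf 0x6c500032a) (.leaf 0x908000e34)) (.node (.leaf 0x1230000a1) (.leaf 0x286000d82)))) (.node (.node (.node (.leaf 0xc9500021c) (.leaf 0x3c60006be)) (.node (.leaf 0x6ca0002ef) (.leaf 0x94100018c))) (.node (.node (.leaf 0x9800011a) (.leaf 0x50c00082b)) (.node (.leaf 0x7400004d1) (.leaf 0xbc000b0f)))))) (.node (.node (.node (.node (.node (.leaf 0x3d90002d0) (.leaf 0x8d9000a33)) (.node (.leaf 0x53f000dba) (.leaf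 0x229000190))) (.node (.node (.leaf 0xc41000a45) (.leaf 0x384000eb5)) (.node (.leaf 0xce9000bdd) (.leaf 0x937000c20)))) (.node (.node (.node (.leaf 0xb20000677) (.leaf 0xcf800018d)) (.node (.leaf 0x272000809) (.leaf 0x330009db))) (.node (.node (.leaf 0xaed000e6a) (.leaf 0xb6e000b6e)) (.node (.leaf 0xa46000b9c) (.leaf 0xbc000b0f))))) (.node (.node (.node (.node (.leaf 0x2a40006c4) (.leaf 0x4d90001cc)) (.node (.leaf 0xae9000a21) (.leaf 0xadb00026b))) (.node (.node (.leaf 0x120000100) (.leaf 0x88a000429)) (.node (.leaf 0x5ad000193) (.leaf 0xbc000b0f)))) (.node (.node (.node (.leaf 0xa72000e91) (.leaf 0x1c1000d00)) (.node (.leaf 0xe3f0003f6) (.leaf 0xbd7000035))) (.node (.node (.leaf 0x1a6000a15) (.leaf 0x84f00080b)) (.node (.leaf 0xe040005ca) (.leaf 0xbc000b0f)))))))) (.node (.node (.node (.node (.node (.node (.node (.leaf 0xa320009f6) (.leaf 0xa6d000cd5)) (.node (.leaf 0xe57000ca8) (.leaf 0xe19000acc))) (.node (.node (.leaf 0x2af0006f6)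 (.leaf 0x8ff0001c0)) (.node (.leaf 0x5e0000200) (.leaf 0x9c000a2e)))) (.node (.node (.node (.leaf 0xbaf0008e6) (.leaf 0x213000359)) (.node (.leaf 0x46000161) (.leaf 0x94c000106))) (.node (.node (.leaf 0x4a9000904) (.leaf 0x78900003e)) (.node (.leaf 0x891000343) (.leaf 0xbc000b0f))))) (.node (.node (.node (.node (.leaf 0xb25000bd6) (.leaf 0x2d80002f0)) (.node (.leaf 0x8c30006cd) (.leaf 0xafc000839))) (.node (.node (.leaf 0x7f2000ec2) (.leaf 0x32100013b)) (.node (.leaf 0x7000484) (.leaf 0x963000a7a)))) (.node (.node (.node (.leaf 0x640000e7c) (.leaf 0x50700043b)) (.node (.leaf 0xe4a000bb5) (.leaf 0x65c000ca9))) (.node (.node (.leaf 0xbe8000e61) (.leaf 0x9090002ed)) (.node (.leaf 0x98f000836) (.leaf 0xbc000b0f)))))) (.node (.node (.node (.node (.node (.leaf 0x560000681) (.leaf 0x27900028e)) (.node (.leaf 0x80d000309) (.leaf 0x7bb0001c9))) (.node (.node (.leaf 0xecf000894) (.leaf 0x8b3000946)) (.node (.leaf 0xcb1000be3) (.leaf 0xebc000afd))))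 (.node (.node (.node (.leaf 0x18c000cf7) (.leaf 0x1a40001f9)) (.node (.leaf 0x517000bc9) (.leaf 0x442000068))) (.node (.node (.leaf 0xebf0004f6) (.leaf 0x8b5000a86)) (.node (.leaf 0x6170002b7) (.leaf 0xbc000b0f))))) (.node (.node (.node (.node (.leaf 0x550001c5) (.leaf 0x8cf000318)) (.node (.leaf 0xb720003dc) (.leaf 0x7fa00000c))) (.node (.node (.leaf 0x98a000549) (.leaf 0x14b0003c3)) (.node (.leaf 0x7ba00027b) (.leaf 0xbc000b0f)))) (.node (.node (.node (.leaf 0x175000d48) (.leaf 0x844000d39)) (.node (.leaf 0xc1000be9) (.leaf 0x5d5000c10))) (.node (.node (.leaf 0x7a000138) (.leaf 0x87e00093a)) (.node (.leaf 0xb17000219) (.leaf 0xbc000b0f))))))) (.node (.node (.node (.node (.node (.node (.leaf 0xb1e0000f8) (.leaf 0xc840009a9)) (.node (.leaf 0x309000829) (.leaf 0xc98000445))) (.node (.node (.leaf 0x5710002ba) (.leaf 0xbcf0002f5)) (.node (.leaf 0xdb500066d) (.leaf 0x854000ba6)))) (.node (.node (.node (.leaf 0xdd6000d60) (.leaf 0x67c00076b))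 (.node (.leaf 0x4200002a0) (.leaf 0x326000752))) (.node (.node (.leaf 0x1a7000d46) (.leaf 0x86a000056)) (.node (.leaf 0x34300094b) (.leaf 0xbc000b0f))))) (.node (.node (.node (.node (.leaf 0x91b0005d2) (.leaf 0x8e000031f)) (.node (.leaf 0xd4d000018) (.leaf 0xd2b000cc8))) (.node (.node (.leaf 0xbe4000c29) (.leaf 0x4000226)) (.node (.leaf 0x9ae00080c) (.leaf 0x5000008aa)))) (.node (.node (.node (.leaf 0x257000be0) (.leaf 0x214000aa6)) (.node (.leaf 0xb0c000dfe) (.leaf 0x9df00009c))) (.node (.node (.leaf 0x6ed000447) (.leaf 0xe80000525)) (.node (.leaf 0x1f9000443) (.leaf 0xbc000b0f)))))) (.node (.node (.node (.node (.node (.leaf 0xa80006d3) (.leaf 0x3e5000bde)) (.node (.leaf 0x1a2000680) (.leaf 0x30b000a4e))) (.node (.node (.leaf 0x8db000d6f) (.leaf 0x1e8000d65)) (.node (.leaf 0x260000ad7) (.leaf 0x9b40004f3)))) (.node (.node (.node (.leaf 0xbd9000ab8) (.leaf 0xa7a0002f6)) (.node (.leaf 0x76b000db2) (.leaf 0x732000875))) (.node (.node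 (.leaf 0x250000a00) (.leaf 0xd60000123)) (.node (.leaf 0x2cb000ebf) (.leaf 0xbc000b0f))))) (.node (.node (.node (.node (.leaf 0x465000d40) (.leaf 0x8b7000c2e)) (.node (.leaf 0xeb0000aab) (.leaf 0xc1c0005e4))) (.node (.node (.leaf 0x7da0004f5) (.leaf 0xd22000d8a)) (.node (.leaf 0x482000c49) (.leaf 0xbc000b0f)))) (.node (.node (.node (.leaf 0x750000712) (.leaf 0xbf7000046)) (.node (.leaf 0x512000271) (.leaf 0x5be0007b5))) (.node (.node (.leaf 0x9d400056b) (.leaf 0x987000c89)) (.node (.leaf 0x3bb0008c1) (.leaf 0xbc000b0f)))))))))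

/-- part -/
def trioRankT_8 : Tr Nat := (.node (.node (.node (.node (.node (.node (.node (.node (.leaf 0xe55000964) (.leaf 0x923000c4c)) (.node (.leaf 0x38e0001b3) (.leaf 0x4b40001f6))) (.node (.node (.leaf 0xacd000a5a) (.leaf 0x7d0000667)) (.node (.leaf 0x968000366) (.leaf 0x857000942)))) (.node (.node (.node (.leaf 0x54300060d) (.leaf 0xda000374)) (.node (.leaf 0x28900023d) (.leaf 0xbb7000c8c))) (.node (.node (.leaf 0xa190003a5) (.leaf 0x3ed000d28)) (.node (.leaf 0x307000028) (.leaf 0xbc000b0f))))) (.node (.node (.node (.node (.leaf 0x562000c93) (.leaf 0x97c000b37)) (.node (.leaf 0x6a0001d6) (.leaf 0x40000ce4))) (.node (.node (.leaf 0x2920008a3) (.leaf 0x2b1000368)) (.node (.leaf 0x5e000abd) (.leaf 0x980000cdb)))) (.node (.node (.node (.leaf 0x1e7000604) (.leaf 0xc2f000ebb)) (.node (.leaf 0xdc9000828) (.leaf 0x4c7000e24))) (.node (.node (.leaf 0x1820007c4) (.leaf 0x8230009c4)) (.node (.leaf 0x1b0000a50) (.leaf 0xbc000b0f))))))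 (.node (.node (.node (.node (.node (.leaf 0x3cd000b77) (.leaf 0xd9b000914)) (.node (.leaf 0xa5d000288) (.leaf 0x4b100026e))) (.node (.node (.leaf 0xc40007c7) (.leaf 0x98c000412)) (.node (.leaf 0x5bc0008a2) (.leaf 0x994000cc1)))) (.node (.node (.node (.leaf 0x6b10000b1) (.leaf 0xe7f000dae)) (.node (.leaf 0x6e70009cb) (.leaf 0x6dc000673))) (.node (.node (.leaf 0xb10000092) (.leaf 0x67b0006a7)) (.node (.leaf 0xcbc000179) (.leaf 0xbc000b0f))))) (.node (.node (.node (.node (.leaf 0x4860005de) (.leaf 0x7fe0008b8)) (.node (.leaf 0x5f30003b2) (.leaf 0xe410001bf))) (.node (.node (.leaf 0x6cc000a4f) (.leaf 0x71d00081d)) (.node (.leaf 0xbbf000b2c) (.leaf 0xae5000bec)))) (.node (.node (.node (.leaf 0xe400009ee) (.leaf 0xd2c0002b3)) (.node (.leaf 0xe0001d3) (.leaf 0x42700044b))) (.node (.node (.leaf 0x137000ceb) (.leaf 0x48b00091a)) (.node (.leaf 0x8d5000df7) (.leaf 0xbc000b0f))))))) (.node (.node (.node (.node (.node (.node (.leaf 0x6bc000683)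 (.leaf 0xab3000d27)) (.node (.leaf 0xdb4000b7f) (.leaf 0xba700035a))) (.node (.node (.leaf 0xd32000597) (.leaf 0x4ee0001a2)) (.node (.leaf 0x4730001a4) (.leaf 0x193000479)))) (.node (.node (.node (.leaf 0xd23000778) (.leaf 0xa2200092d)) (.node (.leaf 0x794000b79) (.leaf 0xafd00014c))) (.node (.node (.leaf 0x3a4000a9e) (.leaf 0xa590005d7)) (.node (.leaf 0xa7c0004a6) (.leaf 0xbc000b0f))))) (.node (.node (.node (.node (.leaf 0x6ae00028b) (.leaf 0x839000c05)) (.node (.leaf 0x790000ca2) (.leaf 0x93c000ece))) (.node (.node (.leaf 0x4e500081b) (.leaf 0xc04000df0)) (.node (.leaf 0xae0004d9) (.leaf 0x3ab000638)))) (.node (.node (.node (.leaf 0x89c000936) (.leaf 0x7390001e9)) (.node (.leaf 0x722000bbc) (.leaf 0x511000cca))) (.node (.node (.leaf 0x98e000ba3) (.leaf 0x7b6000436)) (.node (.leaf 0xa1a00059c) (.leaf 0xbc000b0f)))))) (.node (.node (.node (.node (.node (.leaf 0xd690006d8) (.leaf 0x661000a05)) (.node (.leaf 0xe1c000bdb) (.leaf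 0x362000a6b))) (.node (.node (.leaf 0x39a0001ef) (.leaf 0x7bc00033b)) (.node (.leaf 0x880000861) (.leaf 0x39e0003fb)))) (.node (.node (.node (.leaf 0x51e00019c) (.leaf 0x205000580)) (.node (.leaf 0x893000bb6) (.leaf 0x6d600017a))) (.node (.node (.leaf 0xc11000a47) (.leaf 0x9fc00029d)) (.node (.leaf 0x4df000e49) (.leaf 0xbc000b0f))))) (.node (.node (.node (.node (.leaf 0xe9b0002e1) (.leaf 0xb10004ef)) (.node (.leaf 0x5200070b) (.leaf 0xea70009fc))) (.node (.node (.leaf 0xe10004b5) (.leaf 0x425000dcd)) (.node (.leaf 0xbf0000654) (.leaf 0xbc000b0f)))) (.node (.node (.node (.leaf 0xa33000069) (.leaf 0x41c000a7f)) (.node (.leaf 0x21000025c) (.leaf 0xc5600053f))) (.node (.node (.leaf 0x2b00063f) (.leaf 0x2c3000432)) (.node (.leaf 0x935000ec0) (.leaf 0xbc000b0f)))))))) (.node (.node (.node (.node (.node (.node (.node (.leaf 0xa1f000b74) (.leaf 0x4c5000b26)) (.node (.leaf 0x5b9000db0) (.leaf 0xd2000361))) (.node (.node (.leaf 0xb460009f3)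 (.leaf 0x8e3000c98)) (.node (.leaf 0xce4000128) (.leaf 0x94b0005c3)))) (.node (.node (.node (.leaf 0x67a000a37) (.leaf 0x7910003cb)) (.node (.leaf 0x404000da1) (.leaf 0x9c0000e2d))) (.node (.node (.leaf 0x27300078c) (.leaf 0xe92000324)) (.node (.leaf 0xf000154) (.leaf 0xbc000b0f))))) (.node (.node (.node (.node (.leaf 0xa30000d97) (.leaf 0xa1000071e)) (.node (.leaf 0x44f0007b1) (.leaf 0x84d000690))) (.node (.node (.leaf 0x9a20008b4) (.leaf 0xd88000e56)) (.node (.leaf 0x6100006ac) (.leaf 0x1ee000909)))) (.node (.node (.node (.leaf 0x180006b7) (.leaf 0x18a000282)) (.node (.leaf 0x9830008e9) (.leaf 0x3d00010d))) (.node (.node (.leaf 0xdfa000eb8) (.leaf 0x316000804)) (.node (.leaf 0x780000911) (.leaf 0xbc000b0f)))))) (.node (.node (.node (.node (.node (.leaf 0x36f000cf0) (.leaf 0x51c000d9d)) (.node (.leaf 0x31c000b0a) (.leaf 0xd9f000a65))) (.node (.node (.leaf 0x714000375) (.leaf 0x585000649)) (.node (.leaf 0xf5000a42) (.leaf 0x7cd000495))))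 (.node (.node (.node (.leaf 0x979000b34) (.leaf 0x76000962)) (.node (.leaf 0x89500077d) (.leaf 0x3b30008d4))) (.node (.node (.leaf 0xcf1000148) (.leaf 0xb4700003b)) (.node (.leaf 0x947000aaa) (.leaf 0xbc000b0f))))) (.node (.node (.node (.node (.leaf 0x9ef000454) (.leaf 0x22f0009fa)) (.node (.leaf 0x7ae000566) (.leaf 0x7bd000157))) (.node (.node (.leaf 0x7ad000456) (.leaf 0xe0b000e62)) (.node (.leaf 0x3ff000e8b) (.leaf 0xc3f000a3d)))) (.node (.node (.node (.leaf 0x2470005e8) (.leaf 0x5630005db)) (.node (.leaf 0x3980005b8) (.leaf 0x76600008e))) (.node (.node (.leaf 0xec0000950) (.leaf 0x19d0006d7)) (.node (.leaf 0x9ac000b65) (.leaf 0xbc000b0f))))))) (.node (.node (.node (.node (.node (.node (.leaf 0x41700068a) (.leaf 0x33300054f)) (.node (.leaf 0x549000127) (.leaf 0x8f7000a79))) (.node (.node (.leaf 0xc4e00077a) (.leaf 0x5200000a3)) (.node (.leaf 0x1c4000d8f) (.leaf 0x310000058)))) (.node (.node (.node (.leaf 0x33400043a) (.leaf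 0x288000376)) (.node (.leaf 0x2e90009e2) (.leaf 0xb90000cf2))) (.node (.node (.leaf 0xbc4000d0e) (.leaf 0xc38000713)) (.node (.leaf 0xc6800061d) (.leaf 0xbc000b0f))))) (.node (.node (.node (.node (.leaf 0x1410008e1) (.leaf 0xd12000237)) (.node (.leaf 0xd1b000c41) (.leaf 0x65d00065e))) (.node (.node (.leaf 0x6e9000a81) (.leaf 0xf0000657)) (.node (.leaf 0xad2000141) (.leaf 0x845000ad6)))) (.node (.node (.node (.leaf 0x4320002e3) (.leaf 0x73f00002c)) (.node (.leaf 0x903000db9) (.leaf 0x28c00037c))) (.node (.node (.leaf 0x78c000d2a) (.leaf 0xe38000a2d)) (.node (.leaf 0x491000b6b) (.leaf 0xbc000b0f)))))) (.node (.node (.node (.node (.node (.leaf 0x256000635) (.leaf 0xb0000ad5)) (.node (.leaf 0x70e000955) (.leaf 0x79a000720))) (.node (.node (.leaf 0x5fe00085d) (.leaf 0x944000029)) (.node (.leaf 0x9b600033d) (.leaf 0x2ad000279)))) (.node (.node (.node (.leaf 0x5b6000908) (.leaf 0xa57000457)) (.node (.leaf 0x69a00023e) (.leaf 0x4c0000bef)))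 (.node (.node (.leaf 0xa3c000253) (.leaf 0x6a6000335)) (.node (.leaf 0xda60009fd) (.leaf 0xbc000b0f))))) (.node (.node (.node (.node (.leaf 0x52a000b16) (.leaf 0x485000d4a)) (.node (.leaf 0x9f700020c) (.leaf 0xd8a000351))) (.node (.node (.leaf 0x336000c63) (.leaf 0xe45000a3b)) (.node (.leaf 0x5c0009b6) (.leaf 0xbc000b0f)))) (.node (.node (.node (.leaf 0x625000658) (.leaf 0xa5000aac)) (.node (.leaf 0x475000d0b) (.leaf 0x527000b23))) (.node (.node (.leaf 0x155000302) (.leaf 0xbd000e0c)) (.node (.leaf 0x8270009e8) (.leaf 0xbc000b0f)))))))))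

/-- part -/
def trioRankT_9 : Tr Nat := (.node (.node (.node (.node (.node (.node (.node (.node (.leaf 0x8af000a30) (.leaf 0x56e000382)) (.node (.leaf 0x84800011d) (.leaf 0x87b0009e0))) (.node (.node (.leaf 0x995000d03) (.leaf 0x4190001af)) (.node (.leaf 0x69d000dc3) (.leaf 0xa93000ecf)))) (.node (.node (.node (.leaf 0x31d0001f8) (.leaf 0xe91000b9e)) (.node (.leaf 0x75500090f) (.leaf 0xcb6000bba))) (.node (.node (.leaf 0x45e00043e) (.leaf 0x195000cc0)) (.node (.leaf 0x4ef00029a) (.leaf 0xbc000b0f))))) (.node (.node (.node (.node (.leaf 0x3f2000083) (.leaf 0x9d0000756)) (.node (.leaf 0x90b0008eb) (.leaf 0xbfe00015b))) (.node (.node (.leaf 0xd5b000501) (.leaf 0xd06000077)) (.node (.leaf 0x358000ba7) (.leaf 0xa7f0005d4)))) (.node (.node (.node (.leaf 0x42e000b60) (.leaf 0x9b2000952)) (.node (.leaf 0xb99000740) (.leaf 0x30c000a0c))) (.node (.node (.leaf 0xd9700072a) (.leaf 0xc4c000bd8)) (.node (.leaf 0x4f9000b1e) (.leaf 0xbc000b0f))))))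 (.node (.node (.node (.node (.node (.leaf 0xa1600064a) (.leaf 0x8c000570)) (.node (.leaf 0x8cd000a69) (.leaf 0x6fe000837))) (.node (.node (.leaf 0x6a4000992) (.leaf 0x939000795)) (.node (.leaf 0xa510004cf) (.leaf 0x761000d29)))) (.node (.node (.node (.leaf 0xa4d000390) (.leaf 0x16900082d)) (.node (.leaf 0x2de000431) (.leaf 0xbea00018b))) (.node (.node (.leaf 0x68b000dc7) (.leaf 0x762000c14)) (.node (.leaf 0xb90002b4) (.leaf 0xbc000b0f))))) (.node (.node (.node (.node (.leaf 0x66b000b92) (.leaf 0x70f000519)) (.node (.leaf 0x51a000ead) (.leaf 0x2c7000bd3))) (.node (.node (.leaf 0x317000446) (.leaf 0x1c3000734)) (.node (.leaf 0x5d80003ce) (.leaf 0x25a000ad2)))) (.node (.node (.node (.leaf 0xc5e000b50) (.leaf 0x78700069a)) (.node (.leaf 0x4e7000012) (.leaf 0x154000581))) (.node (.node (.leaf 0xb38000410) (.leaf 0x55e00096a)) (.node (.leaf 0x4c2000d79) (.leaf 0xbc000b0f))))))) (.node (.node (.node (.node (.node (.node (.leaf 0xa71000d7a)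 (.leaf 0x43e000a92)) (.node (.leaf 0xaee000e42) (.leaf 0x2be000ce7))) (.node (.node (.leaf 0x1dc000c6e) (.leaf 0x666000236)) (.node (.leaf 0x4a5000153) (.leaf 0x99d000c65)))) (.node (.node (.node (.leaf 0x658000a96) (.leaf 0x7db000e02)) (.node (.leaf 0x5fc00073d) (.leaf 0xe490003f5))) (.node (.node (.leaf 0x346000ac2) (.leaf 0x2650008c3)) (.node (.leaf 0xb3d000cab) (.leaf 0xbc000b0f))))) (.node (.node (.node (.node (.leaf 0x572000bb9) (.leaf 0xbec000277)) (.node (.leaf 0x4aa00031e) (.leaf 0xd9e000325))) (.node (.node (.leaf 0x802000cbd) (.leaf 0x8a8000079)) (.node (.leaf 0x9cd000a5c) (.leaf 0x1bf000824)))) (.node (.node (.node (.leaf 0x50f000726) (.leaf 0x83e000924)) (.node (.leaf 0xa6c000aed) (.leaf 0xe8000dc2))) (.node (.node (.leaf 0xde3000e66) (.leaf 0x2ec000017)) (.node (.leaf 0x513000958) (.leaf 0xbc000b0f)))))) (.node (.node (.node (.node (.node (.leaf 0x1e1000d33) (.leaf 0xc8d0001bc)) (.node (.leaf 0xc6a00041a) (.leaf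 0x78000bad))) (.node (.node (.leaf 0x335000c0e) (.leaf 0x449000630)) (.node (.leaf 0xd4a000dd7) (.leaf 0x8240003c4)))) (.node (.node (.node (.leaf 0xdd000949) (.leaf 0x332000d59)) (.node (.leaf 0xc7d000998) (.leaf 0xb12000061))) (.node (.node (.leaf 0x26d000a2f) (.leaf 0xbf30002c8)) (.node (.leaf 0x6f9000972) (.leaf 0xbc000b0f))))) (.node (.node (.node (.node (.leaf 0x61d000cd2) (.leaf 0x591000b0c)) (.node (.leaf 0x1f0000877) (.leaf 0xb1300066e))) (.node (.node (.leaf 0x650000531) (.leaf 0x4ec0004ee)) (.node (.leaf 0x9f0002b1) (.leaf 0xbc000b0f)))) (.node (.node (.node (.leaf 0x9a1000c33) (.leaf 0x87a000d66)) (.node (.leaf 0x217000b70) (.leaf 0x586000bb0))) (.node (.node (.leaf 0x3d000011b) (.leaf 0x5de0000a0)) (.node (.leaf 0x52e000b68) (.leaf 0xbc000b0f)))))))) (.node (.node (.node (.node (.node (.node (.node (.leaf 0x25400084e) (.leaf 0x4480000e5)) (.node (.leaf 0x294000a09) (.leaf 0x6f7000498))) (.node (.node (.leaf 0x7de000ab3)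 (.leaf 0xebb000301)) (.node (.leaf 0xd8400043f) (.leaf 0x81b000c1e)))) (.node (.node (.node (.leaf 0x59b000b17) (.leaf 0x33a00030d)) (.node (.leaf 0x8c9000e32) (.leaf 0xdf6000746))) (.node (.node (.leaf 0x5e5000473) (.leaf 0x64d000197)) (.node (.leaf 0xa8c0005a2) (.leaf 0xbc000b0f))))) (.node (.node (.node (.node (.leaf 0x2c2000c76) (.leaf 0x975000a2a)) (.node (.leaf 0xd52000232) (.leaf 0x67d000ca6))) (.node (.node (.leaf 0x4430001f2) (.leaf 0xe870009a8)) (.node (.leaf 0x83b000160) (.leaf 0x3450001a0)))) (.node (.node (.node (.leaf 0x138000135) (.leaf 0x16200064c)) (.node (.leaf 0x79f0008fb) (.leaf 0x59f00085c))) (.node (.node (.leaf 0x855000a67) (.leaf 0x85d000589)) (.node (.leaf 0xccc00038e) (.leaf 0xbc000b0f)))))) (.node (.node (.node (.node (.node (.leaf 0x2a0000477) (.leaf 0x4c0001d5)) (.node (.leaf 0x7fc0003f7) (.leaf 0xa0c0003d5))) (.node (.node (.leaf 0x165000ddb) (.leaf 0x43000b21)) (.node (.leaf 0xa3f000979) (.leaf 0xb8200079d))))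 (.node (.node (.node (.leaf 0x958000d6d) (.leaf 0x1b7000116)) (.node (.leaf 0x540000995) (.leaf 0x969000178))) (.node (.node (.leaf 0x91e0003c2) (.leaf 0x7ef00080a)) (.node (.leaf 0xc8a000306) (.leaf 0xbc000b0f))))) (.node (.node (.node (.node (.leaf 0x3ea000d32) (.leaf 0x48d00086e)) (.node (.leaf 0x6a10008ee) (.leaf 0x9820004da))) (.node (.node (.leaf 0xa4c0003a2) (.leaf 0xcb90005d8)) (.node (.leaf 0xbf000c2d) (.leaf 0xbc000b0f)))) (.node (.node (.node (.leaf 0x428000af3) (.leaf 0xdb200052e)) (.node (.leaf 0xeb4000c9f) (.leaf 0xb0b000023))) (.node (.node (.leaf 0x45f00006e) (.leaf 0x62800017e)) (.node (.leaf 0x5c20007e2) (.leaf 0xbc000b0f))))))) (.node (.node (.node (.node (.node (.node (.leaf 0x66000067f) (.leaf 0xc9e0008a1)) (.node (.leaf 0x325000617) (.leaf 0x3470005a8))) (.node (.node (.leaf 0x79000273) (.leaf 0x763000b44)) (.node (.leaf 0x70a00004b) (.leaf 0xcb2000013)))) (.node (.node (.node (.leaf 0x46c0006ea) (.leaf 0x82f000a49))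 (.node (.leaf 0xc3d0007d5) (.leaf 0x9de000482))) (.node (.node (.leaf 0x338000e23) (.leaf 0x22d000d55)) (.node (.leaf 0xcd80009a1) (.leaf 0xbc000b0f))))) (.node (.node (.node (.node (.leaf 0x35c000749) (.leaf 0x3cf00015c)) (.node (.leaf 0x2dc0001aa) (.leaf 0x24b000ad9))) (.node (.node (.leaf 0xbdf000765) (.leaf 0x8ce00002f)) (.node (.leaf 0x4980008d5) (.leaf 0x94a00092a)))) (.node (.node (.node (.leaf 0xa520005ed) (.leaf 0x85c000612)) (.node (.leaf 0x9db000411) (.leaf 0x5b1000abf))) (.node (.node (.leaf 0xd4200053d) (.leaf 0xa9000cdf)) (.node (.leaf 0x4f30003da) (.leaf 0xbc000b0f)))))) (.node (.node (.node (.node (.node (.leaf 0xaa9000239) (.leaf 0x6b80005b4)) (.node (.leaf 0xe210004ca) (.leaf 0x4130006bb))) (.node (.node (.leaf 0xe7100085e) (.leaf 0xc31000388)) (.node (.leaf 0x3f400000a) (.leaf 0xa980009ef)))) (.node (.node (.node (.leaf 0x741000575) (.leaf 0x659000151)) (.node (.leaf 0x43c00087f) (.leaf 0x7c90005f4))) (.node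 (.node (.leaf 0xc32000df9) (.leaf 0x521000c75)) (.node (.leaf 0xb30000534) (.leaf 0xbc000b0f))))) (.node (.node (.node (.node (.leaf 0x366000696) (.leaf 0x3af0005f3)) (.node (.leaf 0x57c000789) (.leaf 0xcef000b38))) (.node (.node (.leaf 0xd9000019a) (.leaf 0x58a00019d)) (.node (.leaf 0xe84000769) (.leaf 0xbc000b0f)))) (.node (.node (.node (.leaf 0x95e0007be) (.leaf 0xb5a0001e7)) (.node (.leaf 0xe83000cad) (.leaf 0x379000133))) (.node (.node (.leaf 0xb9700063a) (.leaf 0x5140009ff)) (.node (.leaf 0x60f0002e6) (.leaf 0xbc000b0f)))))))))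

/-- part -/
def trioRankT_10 : Tr Nat := (.node (.node (.node (.node (.node (.node (.node (.node (.leaf 0x9fd000e6f) (.leaf 0xaea000565)) (.node (.leaf 0x4d5000aef) (.leaf 0x8a10008f4))) (.node (.node (.leaf 0x108000961) (.leaf 0x861000c68)) (.node (.leaf 0xa00008d0) (.leaf 0x97600088b)))) (.node (.node (.node (.leaf 0x19b000240) (.leaf 0xdf00009b0)) (.node (.leaf 0xc63000b4f) (.leaf 0x5cf000957))) (.node (.node (.leaf 0x224000183) (.leaf 0x31f000b5b)) (.node (.leaf 0x73300061a) (.leaf 0xbc000b0f))))) (.node (.node (.node (.node (.leaf 0x2bf000692) (.leaf 0x42b000652)) (.node (.leaf 0x2f50008f1) (.leaf 0xe7000844))) (.node (.node (.leaf 0x12e000165) (.leaf 0x5b40007d0)) (.node (.leaf 0x9020008da) (.leaf 0xbc6000e95)))) (.node (.node (.node (.leaf 0xcba0006ef) (.leaf 0xca6000814)) (.node (.leaf 0x1d6000a51) (.leaf 0xb2b000ae8))) (.node (.node (.leaf 0x8080000b7) (.leaf 0x4b0000550)) (.node (.leaf 0xaf2000cb5) (.leaf 0xbc000b0f))))))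 (.node (.node (.node (.node (.node (.leaf 0xcc20005c7) (.leaf 0xc7a000eb1)) (.node (.leaf 0xc3e000136) (.leaf 0xea8000270))) (.node (.node (.leaf 0xa1c00005f) (.leaf 0x26e000b25)) (.node (.leaf 0xd480009a7) (.leaf 0xd18000af1)))) (.node (.node (.node (.leaf 0xb67000623) (.leaf 0xf3000815)) (.node (.leaf 0x39f000c32) (.leaf 0xad7000527))) (.node (.node (.leaf 0xe4e000e99) (.leaf 0xdd50002b0)) (.node (.leaf 0x8e2000b8b) (.leaf 0xbc000b0f))))) (.node (.node (.node (.node (.leaf 0x776000c3f) (.leaf 0x1a0000a87)) (.node (.leaf 0x31a000811) (.leaf 0xd830009ec))) (.node (.node (.leaf 0x25800012c) (.leaf 0x5a8000518)) (.node (.leaf 0x77d0002ae) (.leaf 0x66a00008f)))) (.node (.node (.node (.leaf 0xde000d5a) (.leaf 0xca000046d)) (.node (.leaf 0xba8000114) (.leaf 0xccd0000bd))) (.node (.node (.leaf 0x30000c58) (.leaf 0x16b0005f7)) (.node (.leaf 0xbd8000ea6) (.leaf 0xbc000b0f))))))) (.node (.node (.node (.node (.node (.node (.leaf 0x87700048b)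 (.leaf 0x888000a97)) (.node (.leaf 0xd3b000ae1) (.leaf 0xabd0008ae))) (.node (.node (.leaf 0x5d4000ada) (.leaf 0xcfa0002af)) (.node (.leaf 0xcfd0001f1) (.leaf 0x627000124)))) (.node (.node (.node (.leaf 0xd380001dd) (.leaf 0xaef000a18)) (.node (.leaf 0xbbe000d78) (.leaf 0xae0000a52))) (.node (.node (.leaf 0xca9000439) (.leaf 0xa4500009e)) (.node (.leaf 0x1c6000e18) (.leaf 0xbc000b0f))))) (.node (.node (.node (.node (.leaf 0x60009f1) (.leaf 0x676000938)) (.node (.leaf 0x38f000629) (.leaf 0x59c000b6f))) (.node (.node (.leaf 0xaa8000095) (.leaf 0x2080001fb)) (.node (.leaf 0x7c6000594) (.leaf 0x58c00068f)))) (.node (.node (.node (.leaf 0xbfb000e06) (.leaf 0xba3000db3)) (.node (.leaf 0xaca0002bf) (.leaf 0x8260009cf))) (.node (.node (.leaf 0x301000246) (.leaf 0x302000a06)) (.node (.leaf 0x928000326) (.leaf 0xbc000b0f)))))) (.node (.node (.node (.node (.node (.leaf 0xb23000cf5) (.leaf 0x34f0000d4)) (.node (.leaf 0xeab0000fe) (.leaf 0xe29000a74)))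 (.node (.node (.leaf 0x4fd000b29) (.leaf 0xc51000a3c)) (.node (.leaf 0x6840001a8) (.leaf 0xcc0000cb7)))) (.node (.node (.node (.leaf 0x285000259) (.leaf 0x76a000208)) (.node (.leaf 0x8050003d2) (.leaf 0xa7e00078f))) (.node (.node (.leaf 0x6260007fa) (.leaf 0x7d100088f)) (.node (.leaf 0x2b90009cd) (.leaf 0xbc000b0f))))) (.node (.node (.node (.node (.leaf 0x819000ba8) (.leaf 0xb83000307)) (.node (.leaf 0x44b0002a1) (.leaf 0xc2000286))) (.node (.node (.leaf 0x2fa0008bb) (.leaf 0x56f000ec1)) (.node (.leaf 0x6fd0000ba) (.leaf 0xbc000b0f)))) (.node (.node (.node (.leaf 0xa2000664) (.leaf 0x83f00070d)) (.node (.leaf 0x9fa000319) (.leaf 0x8940007e4))) (.node (.node (.leaf 0x2fb00087e) (.leaf 0xb24000367)) (.node (.leaf 0xb6c000aa4) (.leaf 0xbc000b0f)))))))) (.node (.node (.node (.node (.node (.node (.node (.leaf 0x8ed000042) (.leaf 0x945000a60)) (.node (.leaf 0xb32000327) (.leaf 0xa660006e4))) (.node (.node (.leaf 0x72e000014) (.leaf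 0x3ee00012e)) (.node (.leaf 0x60b000aa3) (.leaf 0x36c0007eb)))) (.node (.node (.node (.leaf 0x63f000eba) (.leaf 0x4fa0005a7)) (.node (.leaf 0xd58000a4b) (.leaf 0x12a000e00))) (.node (.node (.leaf 0x3f000698) (.leaf 0xd800044d)) (.node (.leaf 0x57f0004b2) (.leaf 0xbc000b0f))))) (.node (.node (.node (.node (.leaf 0x2a5000b27) (.leaf 0xa5f000551)) (.node (.leaf 0xe51000794) (.leaf 0xd240001ae))) (.node (.node (.leaf 0xe14000486) (.leaf 0xeaa000db6)) (.node (.leaf 0x3b5000dbc) (.leaf 0xe85000940)))) (.node (.node (.node (.leaf 0xd4b000b09) (.leaf 0x559000209)) (.node (.leaf 0x4da000c78) (.leaf 0x26b000228))) (.node (.node (.leaf 0x1c8000ea4) (.leaf 0xb26000840)) (.node (.leaf 0xa49000a57) (.leaf 0xbc000b0f)))))) (.node (.node (.node (.node (.node (.leaf 0x1300000de) (.leaf 0x6f3000399)) (.node (.leaf 0xe5300058e) (.leaf 0x5cb000d3c))) (.node (.node (.leaf 0xc5d000ce6) (.leaf 0xe7c00032c)) (.node (.leaf 0x23b000d43) (.leaf 0xa74000001))))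 (.node (.node (.node (.leaf 0x62d0003f1) (.leaf 0x471000b86)) (.node (.leaf 0x58f00066f) (.leaf 0xb390000ac))) (.node (.node (.leaf 0x598000d6a) (.leaf 0x73a000490)) (.node (.leaf 0x686000509) (.leaf 0xbc000b0f))))) (.node (.node (.node (.node (.leaf 0x8c20009bc) (.leaf 0x6b90007c1)) (.node (.leaf 0x1da000405) (.leaf 0x81e000592))) (.node (.node (.leaf 0x88f000853) (.leaf 0x871000bff)) (.node (.leaf 0x412000034) (.leaf 0xbc000b0f)))) (.node (.node (.node (.leaf 0x85900078b) (.leaf 0x86000dea)) (.node (.leaf 0xd4000dde) (.leaf 0x7dd000b45))) (.node (.node (.leaf 0xc5900009f) (.leaf 0x29f00009b)) (.node (.leaf 0x539000d7f) (.leaf 0xbc000b0f))))))) (.node (.node (.node (.node (.node (.node (.leaf 0xdee000ad4) (.leaf 0x87c0007da)) (.node (.leaf 0xb5800018e) (.leaf 0xb40000e40))) (.node (.node (.leaf 0x864000ec4) (.leaf 0x357000c48)) (.node (.leaf 0x71000a68) (.leaf 0x40200080e)))) (.node (.node (.node (.leaf 0x1990003d7) (.leaf 0x7830007e1))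 (.node (.leaf 0x1bc000948) (.leaf 0x7b0000177))) (.node (.node (.leaf 0xb71000269) (.leaf 0xd0c00027d)) (.node (.leaf 0xc160007d8) (.leaf 0xbc000b0f))))) (.node (.node (.node (.node (.leaf 0x3fb0009af) (.leaf 0xdbf000b5e)) (.node (.leaf 0x2e100094d) (.leaf 0x785000a84))) (.node (.node (.leaf 0xe27000922) (.leaf 0x604000b02)) (.node (.leaf 0xb7b000a03) (.leaf 0xa6e0004ae)))) (.node (.node (.node (.leaf 0xfd0000dc) (.leaf 0x350000966)) (.node (.leaf 0x25d00079c) (.leaf 0xeb200063e))) (.node (.node (.leaf 0xd6d000695) (.leaf 0x59e0006fb)) (.node (.leaf 0xdfe0003cf) (.leaf 0xbc000b0f)))))) (.node (.node (.node (.node (.node (.leaf 0xe2300049a) (.leaf 0xd7e000cfb)) (.node (.leaf 0x9bc0005f1) (.leaf 0xb790005ce))) (.node (.node (.leaf 0x9af000438) (.leaf 0xdfb00054b)) (.node (.leaf 0x4a3000172) (.leaf 0xe6400006b)))) (.node (.node (.node (.leaf 0xaf50001de) (.leaf 0x557000899)) (.node (.leaf 0x179000650) (.leaf 0x58e0008b7))) (.node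 (.node (.leaf 0x251000564) (.leaf 0x2330008ad)) (.node (.leaf 0xa78000776) (.leaf 0xbc000b0f))))) (.node (.node (.node (.node (.leaf 0x607000651) (.leaf 0x1cf00034f)) (.node (.leaf 0x2fe00049d) (.leaf 0x65000e6c))) (.node (.node (.leaf 0xa3e000485) (.leaf 0x9d7000175)) (.node (.leaf 0xd7b000143) (.leaf 0xbc000b0f)))) (.node (.node (.node (.leaf 0xaf60003e8) (.leaf 0xa88000993)) (.node (.leaf 0x134000d4c) (.leaf 0x537000352))) (.node (.node (.leaf 0xd2900055d) (.leaf 0xe360004cb)) (.node (.leaf 0x61b000ac4) (.leaf 0xbc000b0f)))))))))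

/-- part -/
def trioRankT_11 : Tr Nat := (.node (.node (.node (.node (.node (.node (.node (.node (.leaf 0xc0000997) (.leaf 0x8c800045e)) (.node (.leaf 0xb9d00083f) (.leaf 0x4ad000678))) (.node (.node (.leaf 0x8f000d8e) (.leaf 0x584000006)) (.node (.leaf 0x1010007e7) (.leaf 0xce0000bce)))) (.node (.node (.node (.leaf 0xd91000b4c) (.leaf 0x7d70008a7)) (.node (.leaf 0x45600013c) (.leaf 0x43b0004e2))) (.node (.node (.leaf 0x919000886) (.leaf 0x5e2000e50)) (.node (.leaf 0x9e5000e5d) (.leaf 0xbc000b0f))))) (.node (.node (.node (.node (.leaf 0xdca000874) (.leaf 0x4580006ad)) (.node (.leaf 0xacc0008d9) (.leaf 0xb1a000869))) (.node (.node (.leaf 0xe500000a7) (.leaf 0x4eb0000af)) (.node (.leaf 0x2260007ca) (.leaf 0xa8e000364)))) (.node (.node (.node (.leaf 0x96e0007cf) (.leaf 0xdc000085b)) (.node (.leaf 0x5470004cd) (.leaf 0x80b000bc0))) (.node (.node (.leaf 0x35d0004e0) (.leaf 0xbcc000568)) (.node (.leaf 0x50e000730) (.leaf 0xbc000b0f))))))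 (.node (.node (.node (.node (.node (.leaf 0xaf8000884) (.leaf 0x19f000c91)) (.node (.leaf 0xb15000426) (.leaf 0xc54000873))) (.node (.node (.leaf 0x15d000c52) (.leaf 0x4a000149)) (.node (.leaf 0xcbb000b19) (.leaf 0x18b00002d)))) (.node (.node (.node (.leaf 0x8fb00084f) (.leaf 0x4b50001ba)) (.node (.leaf 0x83000004e) (.leaf 0xc460004be))) (.node (.node (.leaf 0x5520004c7) (.leaf 0x8700007d6)) (.node (.leaf 0xc28000cbc) (.leaf 0xbc000b0f))))) (.node (.node (.node (.node (.leaf 0x8f400097f) (.leaf 0x313000449)) (.node (.leaf 0x58d00035d) (.leaf 0xb42000dc5))) (.node (.node (.leaf 0x1780003df) (.leaf 0x93d000201)) (.node (.leaf 0x49e000c97) (.leaf 0x2300037d)))) (.node (.node (.node (.leaf 0x278000830) (.leaf 0x7650006a9)) (.node (.leaf 0xcdc000866) (.leaf 0xae1000d44))) (.node (.node (.leaf 0x1f8000041) (.leaf 0x40e000907)) (.node (.leaf 0x9bf000e51) (.leaf 0xbc000b0f))))))) (.node (.node (.node (.node (.node (.node (.leaf 0xe4d0009f2)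 (.leaf 0x9490006eb)) (.node (.leaf 0x31b000258) (.leaf 0x6d9000e68))) (.node (.node (.leaf 0x20c000b39) (.leaf 0xbb10003ac)) (.node (.leaf 0x92f000155) (.leaf 0xd11000223)))) (.node (.node (.node (.leaf 0xad30003ca) (.leaf 0x921000576)) (.node (.leaf 0x1d000784) (.leaf 0x3d6000e94))) (.node (.node (.leaf 0xab8000adc) (.leaf 0x35a000d93)) (.node (.leaf 0xd8f000717) (.leaf 0xbc000b0f))))) (.node (.node (.node (.node (.leaf 0xc4a000ced) (.leaf 0xb75000d0c)) (.node (.leaf 0xae8000c0d) (.leaf 0x5f9000c5b))) (.node (.node (.leaf 0xb93000e71) (.leaf 0xc9b000a26)) (.node (.leaf 0x88d000c17) (.leaf 0x4c90004b3)))) (.node (.node (.node (.leaf 0x45d00063b) (.leaf 0x4a70007ef)) (.node (.leaf 0x3680006ee) (.leaf 0x978000093))) (.node (.node (.leaf 0x57d0008d7) (.leaf 0xc6900020a)) (.node (.leaf 0x1830002d1) (.leaf 0xbc000b0f)))))) (.node (.node (.node (.node (.node (.leaf 0x596000eaa) (.leaf 0x47c000063)) (.node (.leaf 0x9c50008ec) (.leaf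 0x93a000cff))) (.node (.node (.leaf 0x4cc000369) (.leaf 0xc6400081e)) (.node (.leaf 0x63e0008b0) (.leaf 0xbd600030b)))) (.node (.node (.node (.leaf 0xd53000910) (.leaf 0x434000760)) (.node (.leaf 0x223000b0e) (.leaf 0x1590003b5))) (.node (.node (.leaf 0x6c00086a) (.leaf 0x5f800033a)) (.node (.leaf 0xaa7000766) (.leaf 0xbc000b0f))))) (.node (.node (.node (.node (.leaf 0x65a000ded) (.leaf 0x4f8000015)) (.node (.leaf 0x754000653) (.leaf 0xad000072))) (.node (.node (.leaf 0xb9e000acb) (.leaf 0x5a900036e)) (.node (.leaf 0x3600003be) (.leaf 0xbc000b0f)))) (.node (.node (.node (.leaf 0xa4f000def) (.leaf 0x80c0003a3)) (.node (.leaf 0x1b9000e82) (.leaf 0xed000d30))) (.node (.node (.leaf 0xb4f000b01) (.leaf 0xfb000a9d)) (.node (.leaf 0x438000772) (.leaf 0xbc000b0f)))))))) (.node (.node (.node (.node (.node (.node (.node (.leaf 0xd3000052d) (.leaf 0xac100075c)) (.node (.leaf 0xdcb000b78) (.leaf 0x322000d70))) (.node (.node (.leaf 0xd6600090e)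 (.leaf 0x7fd0002da)) (.node (.leaf 0x7310000e9) (.leaf 0x83c000180)))) (.node (.node (.node (.leaf 0x4090009a0) (.leaf 0x69b0008c6)) (.node (.leaf 0x4b8000d3f) (.leaf 0x756000c08))) (.node (.node (.leaf 0x4c8000109) (.leaf 0x32a00047c)) (.node (.leaf 0x8bc000ac1) (.leaf 0xbc000b0f))))) (.node (.node (.node (.node (.leaf 0x5e800062f) (.leaf 0x23c000be4)) (.node (.leaf 0x4f500061f) (.leaf 0xdba000b8f))) (.node (.node (.leaf 0xb61000cd6) (.leaf 0xbed0002f4)) (.node (.leaf 0x40a000609) (.leaf 0xbce000392)))) (.node (.node (.node (.leaf 0xaf9000bd1) (.leaf 0xd7c000e29)) (.node (.leaf 0xc260003b6) (.leaf 0x85100069c))) (.node (.node (.leaf 0xe3b000cd8) (.leaf 0xad000040d)) (.node (.leaf 0xe59000cfc) (.leaf 0xbc000b0f)))))) (.node (.node (.node (.node (.node (.leaf 0x1c7000547) (.leaf 0x271000b99)) (.node (.leaf 0x4d40001ad) (.leaf 0xc2a000255))) (.node (.node (.leaf 0xdce0005b5) (.leaf 0x770000441)) (.node (.leaf 0xc78000cb1) (.leaf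 0x70d0006f0)))) (.node (.node (.node (.leaf 0xac00024d) (.leaf 0xc660006f4)) (.node (.leaf 0x3f50007dd) (.leaf 0x483000380))) (.node (.node (.leaf 0x4cd00038d) (.leaf 0x496000850)) (.node (.leaf 0x9070008c7) (.leaf 0xbc000b0f))))) (.node (.node (.node (.node (.leaf 0x80f000169) (.leaf 0x7e7000536)) (.node (.leaf 0xaec0008af) (.leaf 0x180000b4b))) (.node (.node (.leaf 0x77b000ac3) (.leaf 0x1c00000ef)) (.node (.leaf 0xbc2000a66) (.leaf 0xbc000b0f)))) (.node (.node (.node (.leaf 0x125000ecb) (.leaf 0xa5c000a7b)) (.node (.leaf 0x612000303) (.leaf 0x2620000e6))) (.node (.node (.leaf 0x39c000928) (.leaf 0x66e000a80)) (.node (.leaf 0x55d000dd5) (.leaf 0xbc000b0f))))))) (.node (.node (.node (.node (.node (.node (.leaf 0x6e8000d91) (.leaf 0x767000b3f)) (.node (.leaf 0x2930008c4) (.leaf 0x738000539))) (.node (.node (.leaf 0x501000dbb) (.leaf 0xed1000ba4)) (.node (.leaf 0xea4000156) (.leaf 0x74a000338)))) (.node (.node (.node (.leaf 0x570000423)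 (.leaf 0xccf000acd)) (.node (.leaf 0x3b9000cda) (.leaf 0x9b3000bc4))) (.node (.node (.leaf 0x671000a5b) (.leaf 0x6d2000729)) (.node (.leaf 0x5290003d4) (.leaf 0xbc000b0f))))) (.node (.node (.node (.node (.leaf 0xdc5000bf1) (.leaf 0x8a300086f)) (.node (.leaf 0x5b8000aa2) (.leaf 0x2a9000bb7))) (.node (.node (.leaf 0x6020007b0) (.leaf 0x681000c25)) (.node (.leaf 0xd27000e84) (.leaf 0x558000202)))) (.node (.node (.node (.leaf 0x8670001b8) (.leaf 0x26f00006a)) (.node (.leaf 0x3670005c6) (.leaf 0x2900007ff))) (.node (.node (.leaf 0x68e0008f8) (.leaf 0x6ea000e7a)) (.node (.leaf 0x5af000cd1) (.leaf 0xbc000b0f)))))) (.node (.node (.node (.node (.node (.leaf 0x960007b8) (.leaf 0x4f200014a)) (.node (.leaf 0x4e000060e) (.leaf 0x7ec000569))) (.node (.node (.leaf 0xb35000748) (.leaf 0xa92000d9a)) (.node (.leaf 0x8d3000c99) (.leaf 0x964000c36)))) (.node (.node (.node (.leaf 0xb5f000b83) (.leaf 0x708000336)) (.node (.leaf 0x35b0003ad) (.leaf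 0x74b000de0))) (.node (.node (.leaf 0xecd0001ec) (.leaf 0xec600073f)) (.node (.leaf 0x5510006c5) (.leaf 0xbc000b0f))))) (.node (.node (.node (.node (.leaf 0xb5b0001b5) (.leaf 0x997000a9c)) (.node (.leaf 0x593000265) (.leaf 0x2d7000625))) (.node (.node (.leaf 0x3700091c) (.leaf 0xe5e000d21)) (.node (.leaf 0x44a0006e5) (.leaf 0xbc000b0f)))) (.node (.node (.node (.leaf 0x33f00056a) (.leaf 0x771000005)) (.node (.leaf 0xd2800077b) (.leaf 0x84b000722))) (.node (.node (.leaf 0xe20000dd0) (.leaf 0xc88000360)) (.node (.leaf 0xac8000a1d) (.leaf 0xbc000b0f)))))))))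

/-- part -/
def trioRankT_12 : Tr Nat := (.node (.node (.node (.node (.node (.node (.node (.node (.leaf 0xe20005fb) (.leaf 0x19c000d5b)) (.node (.leaf 0x37f000d8b) (.leaf 0x962000cec))) (.node (.node (.leaf 0x5b2000a14) (.leaf 0x6b5000118)) (.node (.leaf 0xc440002d7) (.leaf 0x7ab000cdc)))) (.node (.node (.node (.leaf 0x2e000057b) (.leaf 0x7020005b1)) (.node (.leaf 0xdb70007a2) (.leaf 0x209000610))) (.node (.node (.leaf 0x5dd0002fb) (.leaf 0x3fc00068e)) (.node (.leaf 0x79c000434) (.leaf 0xbc000b0f))))) (.node (.node (.node (.node (.leaf 0x89000472) (.leaf 0xe74000770)) (.node (.leaf 0x46b000d5d) (.leaf 0x2a300075f))) (.node (.node (.leaf 0xe6a000647) (.leaf 0x72000aff)) (.node (.leaf 0x21000417) (.leaf 0xcb70005f9)))) (.node (.node (.node (.leaf 0x3050007ad) (.leaf 0xd98000591)) (.node (.leaf 0x4a4000d52) (.leaf 0xa0e000cc5))) (.node (.node (.leaf 0x2a00026f) (.leaf 0x17d0008e5)) (.node (.leaf 0x152000935) (.leaf 0xbc000b0f))))))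 (.node (.node (.node (.node (.node (.leaf 0xaf000a59) (.leaf 0x5f40002a8)) (.node (.leaf 0x7be000299) (.leaf 0x846000b84))) (.node (.node (.leaf 0xd62000ab0) (.leaf 0x5e30002bc)) (.node (.leaf 0x690000512) (.leaf 0x6420007b4)))) (.node (.node (.node (.leaf 0x6f50000ae) (.leaf 0x71a000520)) (.node (.leaf 0x99c000101) (.leaf 0x655000906))) (.node (.node (.leaf 0x71e00073e) (.leaf 0xe3000059f)) (.node (.leaf 0x26a0001f3) (.leaf 0xbc000b0f))))) (.node (.node (.node (.node (.leaf 0xd6a000e70) (.leaf 0xb2900049e)) (.node (.leaf 0x75b0003db) (.leaf 0x6a00004ff))) (.node (.node (.leaf 0x4e4000be1) (.leaf 0x2dd000d3b)) (.node (.leaf 0x3d80005ac) (.leaf 0x927000416)))) (.node (.node (.node (.leaf 0x33c000ac9) (.leaf 0x8330009dc)) (.node (.leaf 0xe11000880) (.leaf 0x6090008a8))) (.node (.node (.leaf 0xade0002d6) (.leaf 0xb9b000e97)) (.node (.leaf 0xa2f0002cb) (.leaf 0xbc000b0f))))))) (.node (.node (.node (.node (.node (.node (.leaf 0xdd9000ecd)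 (.leaf 0x742000b81)) (.node (.leaf 0x13d00051b) (.leaf 0x1db000ad8))) (.node (.node (.leaf 0xe2d00056d) (.leaf 0xa77000097)) (.node (.leaf 0x145000bbf) (.leaf 0x339000075)))) (.node (.node (.node (.leaf 0xb7e0006ae) (.leaf 0x672000801)) (.node (.leaf 0xd3f000ace) (.leaf 0x1fb000121))) (.node (.node (.leaf 0x21a000d1b) (.leaf 0xdf1000065)) (.node (.leaf 0xd400004ab) (.leaf 0xbc000b0f))))) (.node (.node (.node (.node (.leaf 0xa31000848) (.leaf 0x2810008bd)) (.node (.leaf 0x8bb000675) (.leaf 0xa6000072b))) (.node (.node (.leaf 0x2ab000c83) (.leaf 0x6150004dc)) (.node (.leaf 0x48a000822) (.leaf 0x34c0007a7)))) (.node (.node (.node (.leaf 0x82000de3) (.leaf 0x60a000242)) (.node (.leaf 0xa0a000c04) (.leaf 0x60c000ecc))) (.node (.node (.leaf 0x9ed00090c) (.leaf 0x3a10009a5)) (.node (.leaf 0x68000c73) (.leaf 0xbc000b0f)))))) (.node (.node (.node (.node (.node (.leaf 0x86d0008f7) (.leaf 0xc0e0005f6)) (.node (.leaf 0x64f00070e) (.leaf 0x2f1000505)))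 (.node (.node (.leaf 0x62a0006e7) (.leaf 0x746000e10)) (.node (.leaf 0xc2000030c) (.leaf 0x2fc000796)))) (.node (.node (.node (.leaf 0x6b2000900) (.leaf 0xc67000e9e)) (.node (.leaf 0x1eb0009d1) (.leaf 0xc130001d2))) (.node (.node (.leaf 0x878000d2b) (.leaf 0x18e00082f)) (.node (.leaf 0x170000a39) (.leaf 0xbc000b0f))))) (.node (.node (.node (.node (.leaf 0x6eb00042f) (.leaf 0x7f0000a11)) (.node (.leaf 0x2f80003b3) (.leaf 0x7c8000b4a))) (.node (.node (.leaf 0x1b10008d3) (.leaf 0x1560008df)) (.node (.leaf 0x6fa000c94) (.leaf 0xbc000b0f)))) (.node (.node (.node (.leaf 0x78800043c) (.leaf 0x7f4000acf)) (.node (.leaf 0xa37000a43) (.leaf 0x1a30003a9))) (.node (.node (.leaf 0x6ba000e8a) (.leaf 0x65e000d74)) (.node (.leaf 0x190000c6f) (.leaf 0xbc000b0f)))))))) (.node (.node (.node (.node (.node (.node (.node (.leaf 0xe390004bc) (.leaf 0x4840000fb)) (.node (.leaf 0x2ca000c79) (.leaf 0x1b2000d63))) (.node (.node (.leaf 0x80400091e) (.leaf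 0x7f7000268)) (.node (.leaf 0x46400045f) (.leaf 0x6f40004a0)))) (.node (.node (.node (.leaf 0x5c7000384) (.leaf 0xb780005b2)) (.node (.leaf 0xdf40007a9) (.leaf 0xb88000ba2))) (.node (.node (.leaf 0xea00008cd) (.leaf 0x4ab000ce9)) (.node (.leaf 0xb31000aa0) (.leaf 0xbc000b0f))))) (.node (.node (.node (.node (.leaf 0xdad00045b) (.leaf 0xc2b000561)) (.node (.leaf 0x5fb000892) (.leaf 0x81000a2b))) (.node (.node (.leaf 0x13f00043d) (.leaf 0x1d2000e09)) (.node (.leaf 0xd30007b6) (.leaf 0x768000224)))) (.node (.node (.node (.leaf 0x6ee000e21) (.leaf 0x9f5000a6c)) (.node (.leaf 0x26c0004fd) (.leaf 0xb2d0008d8))) (.node (.node (.leaf 0x7a70000d6) (.leaf 0x1720002ad)) (.node (.leaf 0x12000524) (.leaf 0xbc000b0f)))))) (.node (.node (.node (.node (.node (.leaf 0xd6b000870) (.leaf 0x2d50006b0)) (.node (.leaf 0xdd000004c) (.leaf 0xcae0008ba))) (.node (.node (.leaf 0x371000887) (.leaf 0x47b000eb2)) (.node (.leaf 0x4ed000a28) (.leaf 0x96f000455))))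 (.node (.node (.node (.leaf 0x629000c7a) (.leaf 0xb480005d6)) (.node (.leaf 0x694000530) (.leaf 0x8eb00016d))) (.node (.node (.leaf 0xc7f000d58) (.leaf 0x237000c8b)) (.node (.leaf 0x4a000090a) (.leaf 0xbc000b0f))))) (.node (.node (.node (.node (.leaf 0xd77000693) (.leaf 0x2e300067d)) (.node (.leaf 0x74c000428) (.leaf 0xabb0007f6))) (.node (.node (.leaf 0xe0000da2) (.leaf 0x2d200012d)) (.node (.leaf 0x7e0004d6) (.leaf 0xbc000b0f)))) (.node (.node (.node (.leaf 0x5c1000caa) (.leaf 0xc8000533)) (.node (.leaf 0x78400041f) (.leaf 0xd3c000464))) (.node (.node (.leaf 0x918000cf6) (.leaf 0xcc900098b)) (.node (.leaf 0xb57000ae6) (.leaf 0xbc000b0f))))))) (.node (.node (.node (.node (.node (.node (.leaf 0x2f000d6e) (.leaf 0x9880009c3)) (.node (.leaf 0x1ff000d14) (.leaf 0x1e90008dc))) (.node (.node (.leaf 0x838000b75) (.leaf 0x86e0001e1)) (.node (.leaf 0x51800074c) (.leaf 0x32e000040)))) (.node (.node (.node (.leaf 0xdf900028c) (.leaf 0x89a00036a))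 (.node (.leaf 0x9d300065c) (.leaf 0x6900055a))) (.node (.node (.leaf 0x5ff000831) (.leaf 0xbc8000dda)) (.node (.leaf 0x6c8000705) (.leaf 0xbc000b0f))))) (.node (.node (.node (.node (.leaf 0x5a2000ab6) (.leaf 0x110000a5e)) (.node (.leaf 0xead000944) (.leaf 0x3940001bb))) (.node (.node (.leaf 0x9c1000332) (.leaf 0x219000821)) (.node (.leaf 0xb3f000274) (.leaf 0xadc0009e6)))) (.node (.node (.node (.leaf 0x40100095f) (.leaf 0x416000d3d)) (.node (.leaf 0xcda00044a) (.leaf 0x9a500035c))) (.node (.node (.leaf 0x4e3000d51) (.leaf 0x77a00028f)) (.node (.leaf 0x58b000396) (.leaf 0xbc000b0f)))))) (.node (.node (.node (.node (.node (.leaf 0x806000afa) (.leaf 0xc4d000d07)) (.node (.leaf 0x319000621) (.leaf 0x7a30000ea))) (.node (.node (.leaf 0x239000311) (.leaf 0x63a000c6c)) (.node (.leaf 0xd410001fc) (.leaf 0xe1600017b)))) (.node (.node (.node (.leaf 0x6b7000d76) (.leaf 0x956000977)) (.node (.leaf 0x25b00074f) (.leaf 0x164000bf6))) (.node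 (.node (.leaf 0x51b000773) (.leaf 0xa0f000842)) (.node (.leaf 0x3730008b2) (.leaf 0xbc000b0f))))) (.node (.node (.node (.node (.leaf 0x896000945) (.leaf 0xbf8000687)) (.node (.leaf 0xe7e0007b9) (.leaf 0x75a000dbf))) (.node (.node (.leaf 0xdbc00068b) (.leaf 0x1d900021b)) (.node (.leaf 0x5c8000855) (.leaf 0xbc000b0f)))) (.node (.node (.node (.leaf 0x74300029b) (.leaf 0x21100003c)) (.node (.leaf 0x8f90004c1) (.leaf 0x1480003a8))) (.node (.node (.leaf 0xc0f000c57) (.leaf 0x42a000b69)) (.node (.leaf 0x5c6000b2a) (.leaf 0xbc000b0f)))))))))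

/-- part -/
def trioRankT_13 : Tr Nat := (.node (.node (.node (.node (.node (.node (.node (.node (.leaf 0x3fa00049b) (.leaf 0xbee000d8d)) (.node (.leaf 0x744000b9a) (.leaf 0x707000da4))) (.node (.node (.leaf 0xb44000b6c) (.leaf 0xac60000a2)) (.node (.leaf 0xe10000615) (.leaf 0x8e7000ad1)))) (.node (.node (.node (.leaf 0x6c0000e12) (.leaf 0x5a6000489)) (.node (.leaf 0x3d4000700) (.leaf 0x5f1000db4))) (.node (.node (.leaf 0xe6d000c7e) (.leaf 0x114000dd9)) (.node (.leaf 0x4e100056c) (.leaf 0xbc000b0f))))) (.node (.node (.node (.node (.leaf 0x90c000c12) (.leaf 0xe050009ba)) (.node (.leaf 0x25000bc1) (.leaf 0xb5300092c))) (.node (.node (.leaf 0xa1000e92) (.leaf 0xbaa000c60)) (.node (.leaf 0x2f3000349) (.leaf 0x6d10003cc)))) (.node (.node (.node (.leaf 0xd49000e4d) (.leaf 0xbd3000e2f)) (.node (.leaf 0x54a0007b3) (.leaf 0x40300007c))) (.node (.node (.leaf 0x680000a62) (.leaf 0x745000d0f)) (.node (.leaf 0x1d500037b) (.leaf 0xbc000b0f))))))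 (.node (.node (.node (.node (.node (.leaf 0x639000e76) (.leaf 0x330000dfd)) (.node (.leaf 0xdc10004e5) (.leaf 0xe0800001f))) (.node (.node (.leaf 0x12c000cb9) (.leaf 0x515000596)) (.node (.leaf 0x2ac00024a) (.leaf 0x61a000e0f)))) (.node (.node (.node (.leaf 0xa28000ade) (.leaf 0x73e000e11)) (.node (.leaf 0xa7500040c) (.leaf 0x69c000195))) (.node (.node (.leaf 0x664000e4a) (.leaf 0xcdd0000cc)) (.node (.leaf 0x812000d7d) (.leaf 0xbc000b0f))))) (.node (.node (.node (.node (.leaf 0x3e7000c06) (.leaf 0xcc8000e86)) (.node (.leaf 0xbf5000a8c) (.leaf 0xa4a0008ef))) (.node (.node (.leaf 0x7c300077e) (.leaf 0x2ed000ea2)) (.node (.leaf 0x90000a64) (.leaf 0x1dd00044c)))) (.node (.node (.node (.leaf 0xaa60000f4) (.leaf 0x541000df6)) (.node (.leaf 0x102000c55) (.leaf 0x98400041d))) (.node (.node (.leaf 0x9110008c8) (.leaf 0xe000002db)) (.node (.leaf 0xbd0000b12) (.leaf 0xbc000b0f))))))) (.node (.node (.node (.node (.node (.node (.leaf 0xa2e0003e1)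 (.leaf 0xbae0002c4)) (.node (.leaf 0x7af000885) (.leaf 0x972000893))) (.node (.node (.leaf 0x2c0000917) (.leaf 0xc9300035f)) (.node (.leaf 0x116000222) (.leaf 0x9400003eb)))) (.node (.node (.node (.leaf 0xdea0001e6) (.leaf 0x8e60001e4)) (.node (.leaf 0x9a00023b) (.leaf 0x363000cbe))) (.node (.node (.leaf 0x1c2000be6) (.leaf 0x40c000d85)) (.node (.leaf 0xca3000016) (.leaf 0xbc000b0f))))) (.node (.node (.node (.node (.leaf 0xe58000d90) (.leaf 0x5b00005bc)) (.node (.leaf 0x723000b13) (.leaf 0x729000846))) (.node (.node (.leaf 0x3920002a3) (.leaf 0x4fe00061c)) (.node (.leaf 0x772000dab) (.leaf 0x36b000465)))) (.node (.node (.node (.leaf 0xae2000b1f) (.leaf 0xfc0002a7)) (.node (.leaf 0x3ce00094a) (.leaf 0x6ab0005a0))) (.node (.node (.leaf 0x938000ea1) (.leaf 0xaac0009a2)) (.node (.leaf 0x4c6000e03) (.leaf 0xbc000b0f)))))) (.node (.node (.node (.node (.node (.leaf 0xe75000868) (.leaf 0xd4e000c5a)) (.node (.leaf 0x63b000483) (.leaf 0xac0000802)))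 (.node (.node (.leaf 0xcee000d95) (.leaf 0xc61000baa)) (.node (.leaf 0x1ef0000c9) (.leaf 0xddb000b07)))) (.node (.node (.node (.leaf 0x38a000bc5) (.leaf 0x3c2000a56)) (.node (.leaf 0x3fe00097c) (.leaf 0x4ea000053))) (.node (.node (.leaf 0x58000eab) (.leaf 0x7b1000e3a)) (.node (.leaf 0x93e00057e) (.leaf 0xbc000b0f))))) (.node (.node (.node (.node (.leaf 0x9a7000d2c) (.leaf 0x489000d53)) (.node (.leaf 0x782000a8d) (.leaf 0x3c10005a6))) (.node (.node (.leaf 0xd34000c27) (.leaf 0x72f000a4a)) (.node (.leaf 0x82d0000e3) (.leaf 0xbc000b0f)))) (.node (.node (.node (.leaf 0x700000563) (.leaf 0x647000584)) (.node (.leaf 0xe02000c7b) (.leaf 0xac4000e4f))) (.node (.node (.leaf 0xe2b000dc8) (.leaf 0x6c20003fc)) (.node (.leaf 0xe15000372) (.leaf 0xbc000b0f)))))))) (.node (.node (.node (.node (.node (.node (.node (.leaf 0x2b4000cb8) (.leaf 0x2a1000e19)) (.node (.leaf 0x8840005b6) (.leaf 0x447000c00))) (.node (.node (.leaf 0xaf3000c90) (.leaf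 0xc1000053b)) (.node (.leaf 0x220007f5) (.leaf 0xb08000e0a)))) (.node (.node (.node (.leaf 0x3e90006d2) (.leaf 0x7860000be)) (.node (.leaf 0x423000373) (.leaf 0x3230004b1))) (.node (.node (.leaf 0xb2700042d) (.leaf 0x7b20009d7)) (.node (.leaf 0x202000ea0) (.leaf 0xbc000b0f))))) (.node (.node (.node (.node (.leaf 0xbd5000982) (.leaf 0x4b20006c8)) (.node (.leaf 0xb000a78) (.leaf 0xd7a000aad))) (.node (.node (.leaf 0x1f30006a6) (.leaf 0x85a00099f)) (.node (.leaf 0x8a600091d) (.leaf 0x42f0000e1)))) (.node (.node (.node (.leaf 0x6ce000105) (.leaf 0x33b000120)) (.node (.leaf 0xc70000119) (.leaf 0x4db000841))) (.node (.node (.leaf 0x92000022e) (.leaf 0x64c000bc3)) (.node (.leaf 0xe6600057f) (.leaf 0xbc000b0f)))))) (.node (.node (.node (.node (.node (.leaf 0x20a000676) (.leaf 0x98d000294)) (.node (.leaf 0x93000c72) (.leaf 0xcad0003a0))) (.node (.node (.leaf 0xa6a000573) (.leaf 0x33d000a12)) (.node (.leaf 0x27000e52) (.leaf 0xe0e000e4c))))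 (.node (.node (.node (.leaf 0xc8900099a) (.leaf 0x76f00048c)) (.node (.leaf 0x677000dfb) (.leaf 0x803000289))) (.node (.node (.leaf 0xef00057d) (.leaf 0xb050000fd)) (.node (.leaf 0xe8f0004c3) (.leaf 0xbc000b0f))))) (.node (.node (.node (.node (.leaf 0xc7b000184) (.leaf 0x5bb00027e)) (.node (.leaf 0xada000d9b) (.leaf 0xe810008ea))) (.node (.node (.leaf 0xbcb00069f) (.leaf 0xce000cee)) (.node (.leaf 0x14000054c) (.leaf 0xbc000b0f)))) (.node (.node (.node (.leaf 0x122000c23) (.leaf 0xd6e0005b9)) (.node (.leaf 0x9d1000107) (.leaf 0x259000e6b))) (.node (.node (.leaf 0x4c3000ddc) (.leaf 0x461000b18)) (.node (.leaf 0x2df000929) (.leaf 0xbc000b0f))))))) (.node (.node (.node (.node (.node (.node (.leaf 0xb510000df) (.leaf 0xaba000699)) (.node (.leaf 0x99e000d0d) (.leaf 0x6b0000be8))) (.node (.node (.leaf 0x52b000655) (.leaf 0xaf1000377)) (.node (.leaf 0x1ad00046b) (.leaf 0xc5000039d)))) (.node (.node (.node (.leaf 0xa9e000218) (.leaf 0xc8e00024e))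 (.node (.leaf 0xa1b00048f) (.leaf 0xac3000425))) (.node (.node (.leaf 0xa6100099b) (.leaf 0x410000a5f)) (.node (.leaf 0x306000216) (.leaf 0xbc000b0f))))) (.node (.node (.node (.node (.leaf 0xda4000bcc) (.leaf 0x2e50004a3)) (.node (.leaf 0xbe200038f) (.leaf 0x41400064d))) (.node (.node (.leaf 0xa6f0005ea) (.leaf 0xc5f000cd3)) (.node (.leaf 0xc790006b4) (.leaf 0x981000a19)))) (.node (.node (.node (.leaf 0xcb300047a) (.leaf 0xe06000827)) (.node (.leaf 0x4760008db) (.leaf 0x23d000344))) (.node (.node (.leaf 0xe9f0007fe) (.leaf 0x2760009c8)) (.node (.leaf 0x630000c5e) (.leaf 0xbc000b0f)))))) (.node (.node (.node (.node (.node (.leaf 0x648000e77) (.leaf 0x18f000c09)) (.node (.leaf 0x477000a53) (.leaf 0x5eb0000db))) (.node (.node (.leaf 0x6de000394) (.leaf 0x9dd000a3f)) (.node (.leaf 0x444000b41) (.leaf 0x1fc000430)))) (.node (.node (.node (.leaf 0xe73000244) (.leaf 0xcb80009df)) (.node (.leaf 0x103000cf8) (.leaf 0x2180006f5))) (.node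 (.node (.leaf 0x78b0002b6) (.leaf 0xb770006b5)) (.node (.leaf 0x5fd0002dd) (.leaf 0xbc000b0f))))) (.node (.node (.node (.node (.leaf 0x813000bed) (.leaf 0x59900014d)) (.node (.leaf 0x850000ed2) (.leaf 0x8750001d8))) (.node (.node (.leaf 0x3030003e5) (.leaf 0x32000707)) (.node (.leaf 0xbb50001df) (.leaf 0xbc000b0f)))) (.node (.node (.node (.leaf 0xaa5000d23) (.leaf 0x2e7000542)) (.node (.leaf 0x3000493) (.leaf 0x55b000a75))) (.node (.node (.leaf 0xe610000b5) (.leaf 0xdf80001a5)) (.node (.leaf 0x167000baf) (.leaf 0xbc000b0f)))))))))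

/-- part -/
def trioRankT_14 : Tr Nat := (.node (.node (.node (.node (.node (.node (.node (.node (.leaf 0x42200069e) (.leaf 0x86000052c)) (.node (.leaf 0x1ce00010e) (.leaf 0x72c00096c))) (.node (.node (.leaf 0x6d800049f) (.leaf 0x8ae000496)) (.node (.leaf 0xd740000f5) (.leaf 0x280000b1c)))) (.node (.node (.node (.leaf 0x5db000a04) (.leaf 0xbcd00075d)) (.node (.leaf 0x28a00099e) (.leaf 0x8730007dc))) (.node (.node (.leaf 0x8e5000701) (.leaf 0xe6b0003e6)) (.node (.leaf 0xafb000c0b) (.leaf 0xbc000b0f))))) (.node (.node (.node (.node (.leaf 0xec70007d2) (.leaf 0x2530008f6)) (.node (.leaf 0x86f0005f2) (.leaf 0xcd20006c6))) (.node (.node (.leaf 0xd4600091f) (.leaf 0x8c50008a0)) (.node (.leaf 0x8f30004c8) (.leaf 0x437000a99)))) (.node (.node (.node (.leaf 0x340000de7) (.leaf 0xca2000bfe)) (.node (.leaf 0x516000996) (.leaf 0x814000404))) (.node (.node (.leaf 0x6f8000024) (.leaf 0x2040003af)) (.node (.leaf 0x5e40009c9) (.leaf 0xbc000b0f))))))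 (.node (.node (.node (.node (.node (.leaf 0x55a000bca) (.leaf 0x277000862)) (.node (.leaf 0x3be000c1b) (.leaf 0xeb600038a))) (.node (.node (.leaf 0x2840001d1) (.leaf 0x361000b08)) (.node (.leaf 0x2830009eb) (.leaf 0x9b0000714)))) (.node (.node (.node (.leaf 0x637000cc4) (.leaf 0x778000751)) (.node (.leaf 0x5d00058d) (.leaf 0xcf00067a))) (.node (.node (.leaf 0xd67000c39) (.leaf 0x3f6000b51)) (.node (.leaf 0x9f0000556) (.leaf 0xbc000b0f))))) (.node (.node (.node (.node (.leaf 0xb4a000bb8) (.leaf 0x75d000976)) (.node (.leaf 0x34d000d81) (.leaf 0x3d7000616))) (.node (.node (.leaf 0x2b8000cc9) (.leaf 0xe680004c6)) (.node (.leaf 0xe67000532) (.leaf 0xca8000087)))) (.node (.node (.node (.leaf 0x8e400005d) (.leaf 0x898000876)) (.node (.leaf 0x45000113) (.leaf 0x34900001a))) (.node (.node (.leaf 0xb0f000280) (.leaf 0x327000a1c)) (.node (.leaf 0x241000bc8) (.leaf 0xbc000b0f))))))) (.node (.node (.node (.node (.node (.node (.leaf 0x30a00065b)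 (.leaf 0x9bb0007f1)) (.node (.leaf 0xd2e000dc1) (.leaf 0x2eb000bd2))) (.node (.node (.leaf 0x4f40005c2) (.leaf 0xaa0000d62)) (.node (.leaf 0x29c000e25) (.leaf 0xe720002b5)))) (.node (.node (.node (.leaf 0x43100014e) (.leaf 0x68c000ec3)) (.node (.leaf 0xd45000df1) (.leaf 0x8210006bd))) (.node (.node (.leaf 0x415000bc7) (.leaf 0x9500031b)) (.node (.leaf 0x480000644) (.leaf 0xbc000b0f))))) (.node (.node (.node (.node (.leaf 0x28d000312) (.leaf 0x90d00009a)) (.node (.leaf 0x3e00009ad) (.leaf 0xd7000b3a))) (.node (.node (.leaf 0x9ab0003ba) (.leaf 0xd9c00076d)) (.node (.leaf 0xb41000dd4) (.leaf 0x5a0000ce1)))) (.node (.node (.node (.leaf 0x69700033e) (.leaf 0x6450000eb)) (.node (.leaf 0x9150008ce) (.leaf 0x8d8000b72))) (.node (.node (.leaf 0xd080002a2) (.leaf 0x689000c21)) (.node (.leaf 0xea3000393) (.leaf 0xbc000b0f)))))) (.node (.node (.node (.node (.node (.leaf 0x3c40008ff) (.leaf 0x1fa0001bd)) (.node (.leaf 0x2f60007d4) (.leaf 0xe0a000963)))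 (.node (.node (.leaf 0x810000da8) (.leaf 0x399000342)) (.node (.leaf 0xa0100002e) (.leaf 0x9500006c7)))) (.node (.node (.node (.leaf 0x14f0007fb) (.leaf 0x654000357)) (.node (.leaf 0xe900006a4) (.leaf 0xb76000347))) (.node (.node (.leaf 0xbe50005bd) (.leaf 0x230000145)) (.node (.leaf 0xe3400083d) (.leaf 0xbc000b0f))))) (.node (.node (.node (.node (.leaf 0xdd4000c85) (.leaf 0x5d6000e0b)) (.node (.leaf 0x88e0005c9) (.leaf 0xc29000474))) (.node (.node (.leaf 0x6080009fb) (.leaf 0x184000cb6)) (.node (.leaf 0x263000541) (.leaf 0xbc000b0f)))) (.node (.node (.node (.leaf 0x9f9000181) (.leaf 0x1a8000bd0)) (.node (.leaf 0xcf200085a) (.leaf 0x18700098e))) (.node (.node (.leaf 0x3b80000cb) (.leaf 0xdcc000eca)) (.node (.leaf 0x60d0008dd) (.leaf 0xbc000b0f)))))))) (.node (.node (.node (.node (.node (.node (.node (.leaf 0xba9000050) (.leaf 0x71c000a6a)) (.node (.leaf 0x683000031) (.leaf 0x6ad0007c6))) (.node (.node (.leaf 0x7d60005e9) (.leaf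 0x8ef00005a)) (.node (.leaf 0x43900075e) (.leaf 0x17a000478)))) (.node (.node (.node (.leaf 0x4080005da) (.leaf 0x22b000c2a)) (.node (.leaf 0xcd600055e) (.leaf 0xb940004f4))) (.node (.node (.leaf 0xd00002c9) (.leaf 0x1190007de)) (.node (.leaf 0x72d0000f2) (.leaf 0xbc000b0f))))) (.node (.node (.node (.node (.leaf 0xa230006ce) (.leaf 0x55c0002e4)) (.node (.leaf 0x32000025f) (.leaf 0x6cd0001cf))) (.node (.node (.leaf 0xa38000b82) (.leaf 0x825000b4e)) (.node (.leaf 0xec80001a7) (.leaf 0xbc300019f)))) (.node (.node (.node (.leaf 0xb19000170) (.leaf 0xd0008fd)) (.node (.leaf 0x221000220) (.leaf 0x91000389))) (.node (.node (.leaf 0x8c40003d0) (.leaf 0xb640003f9)) (.node (.leaf 0x3cc000d38) (.leaf 0xbc000b0f)))))) (.node (.node (.node (.node (.node (.leaf 0x87f000cc2) (.leaf 0x9f2000e01)) (.node (.leaf 0x971000cb0) (.leaf 0x3f3000b40))) (.node (.node (.leaf 0x1f20001be) (.leaf 0x795000971)) (.node (.leaf 0xab10002cc) (.leaf 0xce800041e))))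 (.node (.node (.node (.leaf 0xcd10009d2) (.leaf 0xd0500045c)) (.node (.leaf 0x24c000975) (.leaf 0x92e00055c))) (.node (.node (.leaf 0x967000a35) (.leaf 0xc9a0007d3)) (.node (.leaf 0xad6000004) (.leaf 0xbc000b0f))))) (.node (.node (.node (.node (.leaf 0x2ba000ca7) (.leaf 0x3ad000688)) (.node (.leaf 0x2480002ca) (.leaf 0xddc000c0a))) (.node (.node (.leaf 0x603000cfd) (.leaf 0x67e000d45)) (.node (.leaf 0xbd10006e6) (.leaf 0xbc000b0f)))) (.node (.node (.node (.leaf 0xe9a000162) (.leaf 0xb1b000af5)) (.node (.leaf 0xb21000c38) (.leaf 0x66900060f))) (.node (.node (.leaf 0x135000cc7) (.leaf 0x890000dee)) (.node (.leaf 0x22a00090d) (.leaf 0xbc000b0f))))))) (.node (.node (.node (.node (.node (.node (.leaf 0x5920002fd) (.leaf 0xc49000262)) (.node (.leaf 0x5da000e87) (.leaf 0x510000dff))) (.node (.node (.leaf 0x8b1000b53) (.leaf 0x1110005e3)) (.node (.leaf 0x8e8000147) (.leaf 0x3e800017c)))) (.node (.node (.node (.leaf 0xec0003c1) (.leaf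 0x730000e6e)) (.node (.leaf 0x6e6000df5) (.leaf 0x48000090))) (.node (.node (.leaf 0xc96000256) (.leaf 0x881000cf4)) (.node (.leaf 0xd60001f4) (.leaf 0xbc000b0f))))) (.node (.node (.node (.node (.leaf 0x3850009b2) (.leaf 0xd750008fe)) (.node (.leaf 0xde60000e2) (.leaf 0xe65000e83))) (.node (.node (.leaf 0x75e000276) (.leaf 0x318000744)) (.node (.leaf 0x191000173) (.leaf 0xd9a000a0a)))) (.node (.node (.node (.leaf 0xe60000959) (.leaf 0x20e0008c0)) (.node (.leaf 0xbf600028a) (.leaf 0xdcf000503))) (.node (.node (.leaf 0x4880001ac) (.leaf 0xcbd000d01)) (.node (.leaf 0x92400062a) (.leaf 0xbc000b0f)))))) (.node (.node (.node (.node (.node (.leaf 0xa8900020e) (.leaf 0x4e9000025)) (.node (.leaf 0x5900047b) (.leaf 0x2220009cc))) (.node (.node (.leaf 0x8a9000847) (.leaf 0x2e6000a23)) (.node (.leaf 0x16e00055b) (.leaf 0x7b000af8)))) (.node (.node (.node (.leaf 0xd35000112) (.leaf 0x973000c1f)) (.node (.leaf 0x9d80008bc) (.leaf 0x56a0000d3)))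 (.node (.node (.leaf 0xa3b0007ac) (.leaf 0x41000b7b)) (.node (.leaf 0x20f000e74) (.leaf 0xbc000b0f))))) (.node (.node (.node (.node (.leaf 0x4f000057c) (.leaf 0x63000c31)) (.node (.leaf 0x2da000c8f) (.leaf 0x15e00079f))) (.node (.node (.leaf 0x5f7000738) (.leaf 0x95f0001c8)) (.node (.leaf 0x11f000c19) (.leaf 0xbc000b0f)))) (.node (.node (.node (.leaf 0x47a0008d2) (.leaf 0xdd80004f1)) (.node (.leaf 0xbc50002f7) (.leaf 0x7c10002ce))) (.node (.node (.leaf 0x459000b2f) (.leaf 0x6f00009fe)) (.node (.leaf 0xeac000a13) (.leaf 0xbc000b0f)))))))))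

/-- part -/
def trioRankT_15 : Tr Nat := (.node (.node (.node (.node (.node (.node (.node (.node (.leaf 0x73c000711) (.leaf 0xb7a0000dd)) (.node (.leaf 0x200000d2e) (.leaf 0x8b60003f3))) (.node (.node (.leaf 0xba4000777) (.leaf 0x5a000b73)) (.node (.leaf 0xdd70007f9) (.leaf 0xe4b000628)))) (.node (.node (.node (.leaf 0x2740009c6) (.leaf 0x5090001d4)) (.node (.leaf 0x800001a9) (.leaf 0xb8b000022))) (.node (.node (.leaf 0x2c4000656) (.leaf 0x3c7)) (.node (.leaf 0xe1a0008c9) (.leaf 0xbc000b0f))))) (.node (.node (.node (.node (.leaf 0xec500020d) (.leaf 0xb650002d5)) (.node (.leaf 0x53b000e60) (.leaf 0x4f7000c9c))) (.node (.node (.leaf 0xbb3000008) (.leaf 0xc80000954)) (.node (.leaf 0xea50008e2) (.leaf 0x23200075b)))) (.node (.node (.node (.leaf 0x9f400087b) (.leaf 0xde800079e)) (.node (.leaf 0xa3a000555) (.leaf 0x63100072d))) (.node (.node (.leaf 0x4bb0004a5) (.leaf 0xc9d000510)) (.node (.leaf 0xd65000dd6) (.leaf 0xbc000b0f))))))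 (.node (.node (.node (.node (.node (.leaf 0xb98000986) (.leaf 0x14d000bee)) (.node (.leaf 0x876000491) (.leaf 0x84c0004b8))) (.node (.node (.leaf 0xa960009f4) (.leaf 0x2c10001ed)) (.node (.leaf 0x97a000463) (.leaf 0xdeb000494)))) (.node (.node (.node (.leaf 0xb80000167) (.leaf 0x4d00004cc)) (.node (.leaf 0x831000b7c) (.leaf 0x4bc0003e0))) (.node (.node (.leaf 0x8f5000865) (.leaf 0x5050003ed)) (.node (.leaf 0x573000b52) (.leaf 0xbc000b0f))))) (.node (.node (.node (.node (.leaf 0x5df000d47) (.leaf 0x7dc0008de)) (.node (.leaf 0x6490009d8) (.leaf 0x36400093d))) (.node (.node (.leaf 0xc080000e4) (.leaf 0x9e3000c44)) (.node (.leaf 0xb96000142) (.leaf 0xe0900025e)))) (.node (.node (.node (.leaf 0xc970008f5) (.leaf 0xda5000918)) (.node (.leaf 0xcc6000d05) (.leaf 0x622000db7))) (.node (.node (.leaf 0x7b50008b9) (.leaf 0x65f000a3e)) (.node (.leaf 0x18d0004ce) (.leaf 0xbc000b0f))))))) (.node (.node (.node (.node (.node (.node (.leaf 0xab9000033)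 (.leaf 0xb63000939)) (.node (.leaf 0xe3000e9b) (.leaf 0xb74000981))) (.node (.node (.leaf 0x8fa0008d1) (.leaf 0x3690007c3)) (.node (.leaf 0x9d000598) (.leaf 0x98b00098c)))) (.node (.node (.node (.leaf 0x522000896) (.leaf 0x13200062d)) (.node (.leaf 0xdc6000110) (.leaf 0xcea00054e))) (.node (.node (.leaf 0xc9f000b7a) (.leaf 0x3f7000dec)) (.node (.leaf 0x9a0000aeb) (.leaf 0xbc000b0f))))) (.node (.node (.node (.node (.leaf 0xa8d000043) (.leaf 0x4dd000009)) (.node (.leaf 0x2e000e44) (.leaf 0xe0c000e80))) (.node (.node (.leaf 0xa2500021e) (.leaf 0x7f0006da)) (.node (.leaf 0x3ca000140) (.leaf 0x1cc00081a)))) (.node (.node (.node (.leaf 0xa09000de8) (.leaf 0xb5000275)) (.node (.leaf 0x7e00007bd) (.leaf 0x54e000882))) (.node (.node (.leaf 0xb870008f9) (.leaf 0x7fb00011e)) (.node (.leaf 0xa4800042b) (.leaf 0xbc000b0f)))))) (.node (.node (.node (.node (.node (.leaf 0xda8000386) (.leaf 0x8bd000487)) (.node (.leaf 0xecc00083a) (.leaf 0x7e3000c92)))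 (.node (.node (.leaf 0x3830009bd) (.leaf 0xc940002bb)) (.node (.leaf 0x555000bdc) (.leaf 0x50007ce)))) (.node (.node (.node (.leaf 0xa120002e2) (.leaf 0x526000e53)) (.node (.leaf 0x1e4000ae5) (.leaf 0x27e00065f))) (.node (.node (.leaf 0x128000051) (.leaf 0xca5000362)) (.node (.leaf 0x91000095b) (.leaf 0xbc000b0f))))) (.node (.node (.node (.node (.leaf 0xadd00035b) (.leaf 0xccb000a17)) (.node (.leaf 0x8e1000709) (.leaf 0x3c8000cf9))) (.node (.node (.leaf 0x5ae000bf0) (.leaf 0x405000925)) (.node (.leaf 0x18500022a) (.leaf 0xbc000b0f)))) (.node (.node (.node (.leaf 0x26100066b) (.leaf 0xe790000d1)) (.node (.leaf 0x6ec0000a6) (.leaf 0x1ed0009d6))) (.node (.node (.leaf 0x8aa000b1a) (.leaf 0xd71000152)) (.node (.leaf 0x9ad000b59) (.leaf 0xbc000b0f)))))))) (.node (.node (.node (.node (.node (.node (.node (.leaf 0xc4b00016a) (.leaf 0x504000502)) (.node (.leaf 0x5d30006bf) (.leaf 0x977000c5f))) (.node (.node (.leaf 0x3b40002e8) (.leaf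 0xcdf000011)) (.node (.leaf 0x49d00051c) (.leaf 0x8da00087a)))) (.node (.node (.node (.leaf 0x8fc0006f7) (.leaf 0x2870007bf)) (.node (.leaf 0x14e000e8c) (.leaf 0x31200007f))) (.node (.node (.leaf 0x8be000b05) (.leaf 0x1ab000bb4)) (.node (.leaf 0xcf4000488) (.leaf 0xbc000b0f))))) (.node (.node (.node (.node (.leaf 0x3d50006e9) (.leaf 0xb34000e48)) (.node (.leaf 0x207000b3c) (.leaf 0x5d900032f))) (.node (.node (.leaf 0x56c000bd5) (.leaf 0xc2c0006e8)) (.node (.leaf 0x2db0006bc) (.leaf 0x11c0003bb)))) (.node (.node (.node (.leaf 0xe9700084d) (.leaf 0xa9b000572)) (.node (.leaf 0xb43000d99) (.leaf 0xb54000c51))) (.node (.node (.leaf 0x892000545) (.leaf 0x344000a02)) (.node (.leaf 0xcf7000599) (.leaf 0xbc000b0f)))))) (.node (.node (.node (.node (.node (.leaf 0x2450001b0) (.leaf 0x48e0000f0)) (.node (.leaf 0x6130003d9) (.leaf 0xc1f000abb))) (.node (.node (.leaf 0x49700099c) (.leaf 0xb3b000895)) (.node (.leaf 0xd6f000bcf) (.leaf 0x9b8000d92))))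 (.node (.node (.node (.leaf 0x9e0000284) (.leaf 0x1b3000af7)) (.node (.leaf 0xe78000084) (.leaf 0x6000000bf))) (.node (.node (.leaf 0xa2b0008d6) (.leaf 0xbba00017d)) (.node (.leaf 0xc83000038) (.leaf 0xbc000b0f))))) (.node (.node (.node (.node (.leaf 0x3b000eb0) (.leaf 0xae3000d64)) (.node (.leaf 0x7b8000761) (.leaf 0xbb9000a1f))) (.node (.node (.leaf 0xd780007db) (.leaf 0x8d0000970)) (.node (.leaf 0x2a800076c) (.leaf 0xbc000b0f)))) (.node (.node (.node (.leaf 0x6fb0007ec) (.leaf 0x97b000dbe)) (.node (.leaf 0x25c0000cf) (.leaf 0x396000194))) (.node (.node (.leaf 0x2cd0009b8) (.leaf 0x340002b9)) (.node (.leaf 0x6b40004c0) (.leaf 0xbc000b0f))))))) (.node (.node (.node (.node (.node (.node (.leaf 0xc0a000315) (.leaf 0x40d0009e5)) (.node (.leaf 0x619000ce0) (.leaf 0xc5000ed1))) (.node (.node (.leaf 0x342000a46) (.leaf 0xa7b000659)) (.node (.leaf 0x3e1000115) (.leaf 0xf80005ee)))) (.node (.node (.node (.leaf 0xec4000293) (.leaf 0x2d0000bc2))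 (.node (.leaf 0xde100046e) (.leaf 0x51d000523))) (.node (.node (.leaf 0x6200001fd) (.leaf 0x83d0006b3)) (.node (.leaf 0xb7d0009b1) (.leaf 0xbc000b0f))))) (.node (.node (.node (.node (.leaf 0xd5f0006d9) (.leaf 0x718000212)) (.node (.leaf 0xca0003f8) (.leaf 0x644000a44))) (.node (.node (.leaf 0x5a5000085) (.leaf 0xdb90008ac)) (.node (.leaf 0x41f00021a) (.leaf 0x77e00035e)))) (.node (.node (.node (.leaf 0xcc1000ea9) (.leaf 0xaa20007cd)) (.node (.leaf 0x31400064e) (.leaf 0xcf30008b5))) (.node (.node (.leaf 0xc180005f0) (.leaf 0x6230006c1)) (.node (.leaf 0x91f000108) (.leaf 0xbc000b0f)))))) (.node (.node (.node (.node (.node (.leaf 0xd1f000aaf) (.leaf 0x579000057)) (.node (.leaf 0x82e000d20) (.leaf 0xb56000353))) (.node (.node (.leaf 0x7aa000eac) (.leaf 0x9e1000e89)) (.node (.leaf 0x390000e0) (.leaf 0xab2000941)))) (.node (.node (.node (.leaf 0xb60000c2c) (.leaf 0xcd00027c)) (.node (.leaf 0x79b000715) (.leaf 0x7d5000b98))) (.node (.node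 (.leaf 0xa9a000403) (.leaf 0x421000010)) (.node (.leaf 0xeba0009ea) (.leaf 0xbc000b0f))))) (.node (.node (.node (.node (.leaf 0x946000d68) (.leaf 0x67000a1e)) (.node (.leaf 0xcc300088e) (.leaf 0xc6d000c82))) (.node (.node (.leaf 0x86c000078) (.leaf 0xa83000b54)) (.node (.leaf 0x194000c74) (.leaf 0xbc000b0f)))) (.node (.node (.node (.leaf 0xb6a000433) (.leaf 0xbf9000e9a)) (.node (.leaf 0x446000333) (.leaf 0xc37000d18))) (.node (.node (.leaf 0x8560006d1) (.leaf 0xad5000d9c)) (.node (.leaf 0xdbd000036) (.leaf 0xbc000b0f)))))))))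

/-- the table -/
def trioRankT : Tr Nat := (.node (.node (.node (.node trioRankT_0 trioRankT_1) (.node trioRankT_2 trioRankT_3)) (.node (.node trioRankT_4 trioRankT_5) (.node trioRankT_6 trioRankT_7))) (.node (.node (.node trioRankT_8 trioRankT_9) (.node trioRankT_10 trioRankT_11)) (.node (.node trioRankT_12 trioRankT_13) (.node trioRankT_14 trioRankT_15))))

end CfsgLib.Coset.J4.Dat
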