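import Cfsg.Agent.Coset.J4.Mod

/-!
Deducing coset equalities of the subgroup `2^11:M24` from the relators, step by step.
-/

set_option autoImplicit false
set_option maxRecDepth 20000

namespace CfsgLib.Coset.J4

/-- A pair: the index of a permutation in the table and coordinates. -/
abbrev El : Type := Nat × Nat

/-- One step of a trace: the fact used, the stabilising elements, the rest. -/
structure TStep where
  f : Nat
  hw : List Nat
  k : El

/-- An entry of a derivation. `kind` is 0 for a traced fact, 1 for a reversed fact, 2 for a fact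
defining a node, 3 for a traced stabilising element, 4 and 5 for the given stabilising elements
of the first two nodes. -/
structure Ent where
  kind : Nat
  n : Nat
  a : El
  m : Nat
  b : El
  n0 : Nat
  h0 : El
  rel : Nat
  g : Nat
  gi : Nat
  fw : List TStep
  bw : List TStep
  hw : List Nat
  k : El

/-- The fixed data: the table of permutations, basis, functionals, relators (conjugators with
their inverses, value), pushes (bit, sextet, value), decompositions, nodes (parent, element). -/
structure Ctx where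
  P : PTab
  S : STab
  B : List Nat
  D : List Nat
  rels : List (List (Nat × Nat) × El)
  push : List (Nat × Nat × El)
  dec : Tr Nat
  nodes : List (Nat × El)
  ents : Tr Ent

section Kernel

/-- An index is in the table. -/
noncomputable def Ctx.okI (C : Ctx) (i : Nat) : Bool := Nat.ble (Nat.add i 1) C.P.1

/-- The pair of permutation and coordinates. -/
noncomputable def Ctx.el (C : Ctx) (e : El) : Nat × Nat := (C.P.2.get e.1, e.2)

/-- Equality of pairs. -/
noncomputable def eEq (e f : Nat × Nat) : Bool := cond (Nat.beq e.1 f.1) (Nat.beq e.2 f.2) false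

/-- Product in the context. -/
noncomputable def Ctx.mul (C : Ctx) (e f : Nat × Nat) : Nat × Nat := emul C.B C.D e f

/-- The coordinates chosen by a mask of pushes. -/
noncomputable def Ctx.wCo (C : Ctx) (d : Nat) : Nat :=
  List.rec 0 (fun e _ r => cond (Nat.testBit d e.1) (Nat.xor (sCo C.S e.2.1) r) r) C.push

/-- The image of the chosen sextets. -/
noncomputable def Ctx.wImg (C : Ctx) (d : Nat) : Nat × Nat :=
  List.rec (pone, 0) (fun e _ r => cond (Nat.testBit d e.1) (C.mul (C.el e.2.2) r) r) C.push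

/-- The element lies in the subgroup moved into itself by the involution. -/
noncomputable def Ctx.inK (C : Ctx) (k : Nat × Nat) : Bool :=
  cond (trioEq k.1 pone) (Nat.beq (C.wCo (C.dec.get k.2)) k.2) false

/-- Its image. -/
noncomputable def Ctx.phi (C : Ctx) (k : Nat × Nat) : Nat × Nat :=
  C.mul (k.1, 0) (C.wImg (C.dec.get k.2))

/-- The product of stabilising elements of node `n` among the first `ne` entries, then `e`. -/
noncomputable def Ctx.hmul (C : Ctx) (ne n : Nat) (ids : List Nat) (e : Nat × Nat)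
    (K : Nat × Nat → Bool) : Bool :=
  List.rec (motive := fun _ => (Nat × Nat → Bool) → Bool) (fun K => K e)
    (fun i _ ih K => cond (Nat.ble (Nat.add i 1) ne)
      (cond (Nat.ble 3 (C.ents.get i).kind) (cond (Nat.beq (C.ents.get i).n n)
        (cond (C.okI (C.ents.get i).a.1)
          (ih fun r => K (C.mul (C.el (C.ents.get i).a) r)) false) false) false) false) ids K

/-- Split `h` as stabilising elements, the point of a fact, and a rest in `inK`. -/
noncomputable def Ctx.split (C : Ctx) (ne n : Nat) (h : Nat × Nat) (a : El) (ids : List Nat)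
    (k : El) : Bool :=
  cond (C.okI k.1) (cond (C.okI a.1) (cond (C.inK (C.el k))
    (C.hmul ne n ids (C.mul (C.el a) (C.el k)) fun r => eEq h r) false) false) false

/-- Pass one conjugate of the involution. -/
noncomputable def Ctx.step (C : Ctx) (ne : Nat) (n : Nat) (h : Nat × Nat) (s si : Nat)
    (st : TStep) (K : Nat → Nat × Nat → Bool) : Bool :=
  cond (Nat.ble (Nat.add st.f 1) ne) (cond (Nat.ble (C.ents.get st.f).kind 2)
    (cond (Nat.beq (C.ents.get st.f).n n) (cond (C.okI (C.ents.get st.f).b.1)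
      (cond (C.split ne n (C.mul h (si, 0)) (C.ents.get st.f).a st.hw st.k)
        (K (C.ents.get st.f).m
          (C.mul (C.mul (C.el (C.ents.get st.f).b) (C.phi (C.el st.k))) (s, 0)))
        false) false) false) false) false

/-- Pass several. -/
noncomputable def Ctx.steps (C : Ctx) (ne : Nat) (ws : List (Nat × Nat)) :
    List TStep → Nat → Nat × Nat → (Nat → Nat × Nat → Bool) → Bool :=
  List.rec (motive := fun _ => List TStep → Nat → Nat × Nat → (Nat → Nat × Nat → Bool) → Bool)
    (fun sts n h K => List.rec (K n h) (fun _ _ _ => false) sts)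
    (fun w _ ih sts n h K => List.rec false
      (fun st sts' _ => C.step ne n h w.1 w.2 st fun m h' => ih sts' m h' K) sts) ws

/-- The conjugated relator word. -/
noncomputable def Ctx.relWord (C : Ctx) (ri g gi : Nat) : List (Nat × Nat) :=
  (C.rels.getD ri ([], (0, 0))).1.map fun w =>
    (pmul (C.P.2.get w.1) (C.P.2.get g), pmul (C.P.2.get gi) (C.P.2.get w.2))

/-- Its value. -/
noncomputable def Ctx.relVal (C : Ctx) (ri g gi : Nat) : Nat × Nat :=
  C.mul (C.mul (C.P.2.get gi, 0) (C.el (C.rels.getD ri ([], (0, 0))).2)) (C.P.2.get g, 0)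

/-- The two sides of a trace: forward to position `i`, backward to position `j`. -/
noncomputable def Ctx.trace (C : Ctx) (ne : Nat) (e : Ent) (i j : Nat)
    (K : Nat → Nat × Nat → Nat → Nat × Nat → Bool) : Bool :=
  cond (Nat.ble (Nat.add e.rel 1) C.rels.length) (cond (C.okI e.g) (cond (C.okI e.gi)
    (cond (C.okI e.h0.1) (cond (Nat.beq (pmul (C.P.2.get e.gi) (C.P.2.get e.g)) pone)
      (C.steps ne ((C.relWord e.rel e.g e.gi).take i) e.fw e.n0 (C.el e.h0) fun n h =>
        C.steps ne ((C.relWord e.rel e.g e.gi).drop j).reverse e.bw e.n0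
          (C.mul (C.el e.h0) (C.relVal e.rel e.g e.gi)) fun m h' => K n h m h')
      false) false) false) false) false

/-- One entry, given the first `ne`. -/
noncomputable def Ctx.checkEnt (C : Ctx) (ne : Nat) (e : Ent) : Bool :=
  cond (cond (C.okI e.a.1) (C.okI e.b.1) false)
    (cond (Nat.beq e.kind 0)
      (cond (Nat.beq (Nat.add (Nat.add e.fw.length e.bw.length) 1)
          (C.relWord e.rel e.g e.gi).length)
        (C.trace ne e e.fw.length (Nat.add e.fw.length 1) fun n h m h' =>
          cond (Nat.beq n e.n) (cond (Nat.beq m e.m)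
            (cond (C.split ne n (C.mul h
              ((((C.relWord e.rel e.g e.gi).getD e.fw.length (0, 0))).2, 0)) e.a e.hw e.k)
              (eEq (C.mul (C.mul (C.el e.b) (C.phi (C.el e.k)))
                ((((C.relWord e.rel e.g e.gi).getD e.fw.length (0, 0))).1, 0)) h') false)
            false) false)
        false)
      (cond (Nat.beq e.kind 1)
        (cond (Nat.ble (Nat.add e.n0 1) ne) (cond (Nat.ble (C.ents.get e.n0).kind 2)
          (cond (Nat.beq e.n (C.ents.get e.n0).m) (cond (Nat.beq e.m (C.ents.get e.n0).n)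
            (cond (C.okI (C.ents.get e.n0).a.1) (cond (C.okI (C.ents.get e.n0).b.1)
              (cond (C.split ne e.n (C.el (C.ents.get e.n0).b) e.a e.hw e.k)
                (eEq (C.mul (C.el e.b) (C.phi (C.el e.k))) (C.el (C.ents.get e.n0).a)) false)
              false) false) false) false) false) false)
        (cond (Nat.beq e.kind 2)
          (cond (Nat.ble (Nat.add e.m 1) C.nodes.length) (cond (Nat.ble 1 e.m)
            (cond (Nat.beq (C.nodes.getD e.m (0, 0, 0)).1 e.n)
              (cond (Nat.beq (C.nodes.getD e.m (0, 0, 0)).2.1 e.a.1)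
                (cond (Nat.beq (C.nodes.getD e.m (0, 0, 0)).2.2 e.a.2) (eEq (C.el e.b) (pone, 0))
                  false) false) false) false) false)
          (cond (Nat.beq e.kind 3)
            (cond (Nat.beq (Nat.add e.fw.length e.bw.length) (C.relWord e.rel e.g e.gi).length)
              (C.trace ne e e.fw.length e.fw.length fun n h m h' =>
                cond (Nat.beq n e.n) (cond (Nat.beq m e.n)
                  (eEq (C.mul (C.el e.a) h) h') false) false)
              false)
            (cond (Nat.beq e.kind 4) (Nat.beq e.n 0)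
              (cond (Nat.beq e.kind 5)
                (cond (Nat.beq e.n 1) (C.inK (C.el e.a)) false) false))))))
    false

/-- The relators come with inverses, the pushes are sextets and pairs of the table, the first node
comes from node zero by the base point. -/
noncomputable def Ctx.checkCtx (C : Ctx) : Bool :=
  cond (allList (fun r => cond (C.okI r.2.1) (allList (fun w =>
      cond (C.okI w.1) (cond (C.okI w.2)
        (Nat.beq (pmul (C.P.2.get w.2) (C.P.2.get w.1)) pone) false) false) r.1) false) C.rels)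
    (cond (allList (fun e => cond (Nat.ble (Nat.add e.2.1 1) C.S.1) (C.okI e.2.2.1) false) C.push)
      (cond (Nat.beq (C.nodes.getD 1 (0, 0, 0)).1 0)
        (eEq (C.el (C.nodes.getD 1 (0, 0, 0)).2) (pone, 0)) false) false) false

/-- All entries. -/
noncomputable def Ctx.checkAll (C : Ctx) (N : Nat) : Bool :=
  allBelow 9 N fun i => C.checkEnt i (C.ents.get i)

end Kernel

attribute [local irreducible] pmul pone pimg coordN emul

variable {G : Type*} [Group G] (F : UFrame G) (C : Ctx)

/-- The value of a pair of the context. -/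
noncomputable def UFrame.val (e : Nat × Nat) : G := F.ev C.B e

/-- The subgroup of all values. -/
noncomputable def UFrame.sub : Subgroup G :=
  Subgroup.closure {x | ∃ e : Nat × Nat, F.Val e.1 ∧ x = F.val C e}

/-- The node with the given number, built from its parent. -/
noncomputable def UFrame.nodeAux : Nat → Nat → G
  | 0, _ => 1
  | d + 1, n => if n = 0 then 1 else
      nodeAux d (C.nodes.getD n (0, 0, 0)).1 * F.val C (C.el (C.nodes.getD n (0, 0, 0)).2) * F.t

/-- The representative of a node. -/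
noncomputable def UFrame.node (n : Nat) : G := F.nodeAux C (n + 1) n

/-- The same right coset. -/
def UFrame.Rel (x y : G) : Prop := x * y⁻¹ ∈ F.sub C

/-- The verified context. -/
structure CData {R Q : Nat} : Prop where
  hd : UData F C.P C.S C.B C.D R Q
  ok : C.checkCtx = true
  parent : ∀ m, 1 ≤ m → m < C.nodes.length → (C.nodes.getD m (0, 0, 0)).1 < m
  rel : ∀ r ∈ C.rels, F.prodT (r.1.map fun w => C.P.2.get w.1) = F.val C (C.el r.2)
  push : ∀ e ∈ C.push, F.t * F.U (sPerm C.P C.S e.2.1) * F.t = F.val C (C.el e.2.2)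

variable {F} {C} {R Q : Nat}

theorem UFrame.sub_mem {e : Nat × Nat} (h : F.Val e.1) : F.val C e ∈ F.sub C :=
  Subgroup.subset_closure ⟨e, h, rfl⟩

theorem UFrame.rel_refl (x : G) : F.Rel C x x := by
  show x * x⁻¹ ∈ _
  rw [mul_inv_cancel]; exact one_mem _

theorem UFrame.Rel.symm {x y : G} (h : F.Rel C x y) : F.Rel C y x := by
  have := inv_mem (show x * y⁻¹ ∈ F.sub C from h)
  simpa [UFrame.Rel] using this

theorem UFrame.Rel.trans {x y z : G} (h : F.Rel C x y) (h' : F.Rel C y z) : F.Rel C x z := by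
  show x * z⁻¹ ∈ _
  rw [show x * z⁻¹ = (x * y⁻¹) * (y * z⁻¹) by group]
  exact mul_mem h h'

theorem UFrame.Rel.mul {x y : G} (h : F.Rel C x y) (g : G) : F.Rel C (x * g) (y * g) := by
  show x * g * (y * g)⁻¹ ∈ _
  rw [show x * g * (y * g)⁻¹ = x * y⁻¹ by group]
  exact h

theorem UFrame.Rel.cancel {x y : G} (g : G) (h : F.Rel C (x * g) (y * g)) : F.Rel C x y := by
  have := h.mul g⁻¹
  rwa [mul_inv_cancel_right, mul_inv_cancel_right] at this

theorem CData.node_zero : F.node C 0 = 1 := rfl

theorem CData.nodeAux_stable (hc : @CData G _ F C R Q) :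
    ∀ d n, n < C.nodes.length → n < d → F.nodeAux C d n = F.node C n := by
  intro d n
  induction n using Nat.strong_induction_on generalizing d with
  | _ n ih =>
    intro hn hd
    obtain ⟨d, rfl⟩ : ∃ d', d = d' + 1 := ⟨d - 1, (Nat.sub_add_cancel (by omega)).symm⟩
    rcases Nat.eq_zero_or_pos n with rfl | h0
    · rfl
    · have hp := hc.parent n h0 hn
      show (if n = 0 then 1 else _) = (if n = 0 then 1 else _)
      rw [if_neg (Nat.ne_of_gt h0), if_neg (Nat.ne_of_gt h0),
        ih _ hp d (lt_trans hp hn) (by omega), ih _ hp n (lt_trans hp hn) hp]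

theorem CData.node_step (hc : @CData G _ F C R Q) {n : Nat} (h0 : 1 ≤ n)
    (hn : n < C.nodes.length) :
    F.node C n = F.node C (C.nodes.getD n (0, 0, 0)).1 *
      F.val C (C.el (C.nodes.getD n (0, 0, 0)).2) * F.t := by
  show (if n = 0 then 1 else _) = _
  have hp := hc.parent n h0 hn
  rw [if_neg (Nat.ne_of_gt h0), hc.nodeAux_stable n _ (lt_trans hp hn) hp]

theorem CData.val_el (hc : @CData G _ F C R Q) {e : El} (h : C.okI e.1 = true) :
    F.Val (C.el e).1 := hc.hd.valP _ (Nat.ble_eq.mp h)

theorem CData.val_mul (hc : @CData G _ F C R Q) {e f : Nat × Nat} (he : F.Val e.1)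
    (hf : F.Val f.1) : F.Val (C.mul e f).1 ∧ F.val C (C.mul e f) = F.val C e * F.val C f :=
  ⟨UData.val_emul he hf, hc.hd.ev_emul he hf⟩

theorem UFrame.val_perm (p : Nat) : F.val C (p, 0) = F.ph p := by
  rw [UFrame.val, UFrame.ev, F.E_zero, mul_one]

theorem eEq_iff {e f : Nat × Nat} (h : eEq e f = true) : e = f := by
  unfold eEq at h
  rw [cond_false_eq_true] at h
  exact Prod.ext (Nat.eq_of_beq_eq_true h.1) (Nat.eq_of_beq_eq_true h.2)

theorem CData.ctx_rels (hc : @CData G _ F C R Q) : ∀ r ∈ C.rels, C.okI r.2.1 = true ∧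
    ∀ w ∈ r.1, C.okI w.1 = true ∧ C.okI w.2 = true ∧
      pmul (C.P.2.get w.2) (C.P.2.get w.1) = pone := by
  intro r hr
  have h := hc.ok
  unfold Ctx.checkCtx at h
  simp only [cond_false_eq_true] at h
  have h' := allList_iff.mp h.1 r hr
  rw [cond_false_eq_true] at h'
  refine ⟨h'.1, fun w hw => ?_⟩
  have h'' := allList_iff.mp h'.2 w hw
  simp only [cond_false_eq_true] at h''
  exact ⟨h''.1, h''.2.1, Nat.eq_of_beq_eq_true h''.2.2⟩

theorem CData.ctx_push (hc : @CData G _ F C R Q) : ∀ e ∈ C.push,
    e.2.1 < C.S.1 ∧ C.okI e.2.2.1 = true := by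
  intro e he
  have h := hc.ok
  unfold Ctx.checkCtx at h
  simp only [cond_false_eq_true] at h
  have h' := allList_iff.mp h.2.1 e he
  rw [cond_false_eq_true] at h'
  exact ⟨Nat.ble_eq.mp h'.1, h'.2⟩

theorem CData.wImg_sound (hc : @CData G _ F C R Q) (d : Nat) :
    F.Val (C.wImg d).1 ∧ F.val C (C.wImg d) = F.t * F.E C.B (C.wCo d) * F.t := by
  have key : ∀ L : List (Nat × Nat × El), (∀ e ∈ L, e ∈ C.push) →
      F.Val (List.rec (pone, 0) (fun e _ r => cond (Nat.testBit d e.1) (C.mul (C.el e.2.2) r) r) L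
        : Nat × Nat).1 ∧
      F.val C (List.rec (pone, 0)
        (fun e _ r => cond (Nat.testBit d e.1) (C.mul (C.el e.2.2) r) r) L : Nat × Nat) =
      F.t * F.E C.B (List.rec 0
        (fun e _ r => cond (Nat.testBit d e.1) (Nat.xor (sCo C.S e.2.1) r) r) L) * F.t := by
    intro L
    induction L with
    | nil =>
      intro _
      refine ⟨F.val_pone, ?_⟩
      show F.val C (pone, 0) = F.t * F.E C.B 0 * F.t
      rw [F.val_perm, F.ph_pone, F.E_zero, mul_one, F.tt]
    | cons e L ih =>
      intro hL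
      obtain ⟨ih1, ih2⟩ := ih fun x hx => hL x (List.mem_cons_of_mem _ hx)
      have he := hL e (by simp)
      show F.Val (cond (Nat.testBit d e.1) _ _ : Nat × Nat).1 ∧
        F.val C (cond (Nat.testBit d e.1) _ _) =
          F.t * F.E C.B (cond (Nat.testBit d e.1) _ _) * F.t
      cases Nat.testBit d e.1 with
      | false => exact ⟨ih1, ih2⟩
      | true =>
        obtain ⟨m1, m2⟩ := hc.val_mul (hc.val_el (hc.ctx_push e he).2) ih1
        refine ⟨m1, ?_⟩
        simp only [cond_true]
        rw [m2, ih2, ← hc.push e he, hc.hd.E_xor,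
          ← hc.hd.U_table _ (hc.ctx_push e he).1]
        simp only [mul_assoc]
        rw [← mul_assoc F.t F.t, F.tt, one_mul]
  exact key C.push fun e he => he

theorem CData.inK_sound (hc : @CData G _ F C R Q) {k : Nat × Nat} (hk : F.Val k.1)
    (h : C.inK k = true) :
    F.Val (C.phi k).1 ∧ F.t * F.val C k * F.t = F.val C (C.phi k) ∧
      F.val C k * F.t = F.t * F.val C (C.phi k) := by
  unfold Ctx.inK at h
  rw [cond_false_eq_true] at h
  obtain ⟨p, hp⟩ := hk
  obtain ⟨q, hq⟩ := F.val_pone
  have hone : F.φ q = 1 := by rw [← F.ph_eq hq, F.ph_pone]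
  have hc' : F.t * F.ph k.1 = F.ph k.1 * F.t := by
    have h1 := F.stab p q k.1 pone hp hq h.1
    rw [hone, inv_one, one_mul, mul_one] at h1
    rw [F.ph_eq hp]
    calc F.t * F.φ p = F.φ p * ((F.φ p)⁻¹ * F.t * F.φ p) := by group
      _ = F.φ p * F.t := by rw [h1]
  obtain ⟨w1, w2⟩ := hc.wImg_sound (C.dec.get k.2)
  rw [Nat.eq_of_beq_eq_true h.2] at w2
  obtain ⟨m1, m2⟩ := hc.val_mul (e := (k.1, 0)) ⟨p, hp⟩ w1
  have e1 : F.t * F.val C k * F.t = F.val C (C.phi k) := by
    rw [Ctx.phi, m2, w2, F.val_perm]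
    show F.t * (F.ph k.1 * F.E C.B k.2) * F.t = _
    rw [← mul_assoc F.t (F.ph k.1), hc']
    group
  refine ⟨m1, e1, ?_⟩
  rw [← e1, ← mul_assoc, ← mul_assoc, F.tt, one_mul]

/-- The facts and stabilising elements among the first `ne` entries hold. -/
structure Known (hc : @CData G _ F C R Q) (ne : Nat) : Prop where
  fact : ∀ i < ne, (C.ents.get i).kind ≤ 2 →
    C.okI (C.ents.get i).a.1 = true ∧ C.okI (C.ents.get i).b.1 = true ∧
    F.Rel C (F.node C (C.ents.get i).n * F.val C (C.el (C.ents.get i).a) * F.t)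
      (F.node C (C.ents.get i).m * F.val C (C.el (C.ents.get i).b))
  stab : ∀ i < ne, 3 ≤ (C.ents.get i).kind →
    C.okI (C.ents.get i).a.1 = true ∧
    F.Rel C (F.node C (C.ents.get i).n * F.val C (C.el (C.ents.get i).a))
      (F.node C (C.ents.get i).n)

variable {hc : @CData G _ F C R Q} {ne : Nat}

theorem Known.hmul_sound (hK : Known hc ne) {n : Nat} : ∀ {ids : List Nat} {e : Nat × Nat}
    {K : Nat × Nat → Bool}, F.Val e.1 → C.hmul ne n ids e K = true →
      ∃ r, F.Val r.1 ∧ K r = true ∧ F.Rel C (F.node C n * F.val C r) (F.node C n * F.val C e) := by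
  intro ids
  induction ids with
  | nil => exact fun he h => ⟨_, he, h, F.rel_refl _⟩
  | cons i ids ih =>
    intro e K he h
    change cond (Nat.ble (Nat.add i 1) ne) (cond (Nat.ble 3 (C.ents.get i).kind)
      (cond (Nat.beq (C.ents.get i).n n) (cond (C.okI (C.ents.get i).a.1)
        (C.hmul ne n ids e fun r => K (C.mul (C.el (C.ents.get i).a) r)) false) false) false)
      false = true at h
    simp only [cond_false_eq_true] at h
    obtain ⟨hi, hk, hn, ha, h'⟩ := h
    obtain ⟨r, hr, hK', hrel⟩ := ih he h'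
    obtain ⟨m1, m2⟩ := hc.val_mul (hc.val_el ha) hr
    refine ⟨_, m1, hK', ?_⟩
    obtain ⟨_, hs⟩ := hK.stab i (Nat.ble_eq.mp hi) (Nat.ble_eq.mp hk)
    rw [Nat.eq_of_beq_eq_true hn] at hs
    rw [m2, ← mul_assoc]
    exact (hs.mul _).trans hrel

theorem Known.split_sound (hK : Known hc ne) {n : Nat} {h : Nat × Nat} {a : El} {ids : List Nat}
    {k : El} (hs : C.split ne n h a ids k = true) :
    F.Val (C.phi (C.el k)).1 ∧ F.Rel C (F.node C n * F.val C h * F.t)
      (F.node C n * F.val C (C.el a) * F.t * F.val C (C.phi (C.el k))) := by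
  unfold Ctx.split at hs
  simp only [cond_false_eq_true] at hs
  obtain ⟨hk, ha, hin, hh⟩ := hs
  obtain ⟨m1, m2⟩ := hc.val_mul (hc.val_el ha) (hc.val_el hk)
  obtain ⟨r, _, he, hrel⟩ := hK.hmul_sound m1 hh
  obtain ⟨p1, _, p3⟩ := hc.inK_sound (hc.val_el hk) hin
  refine ⟨p1, ?_⟩
  rw [eEq_iff he]
  have := hrel.mul F.t
  rw [m2] at this
  rw [mul_assoc (F.node C n * F.val C (C.el a)) F.t, ← p3]
  simpa [mul_assoc] using this

theorem Known.step_sound (hK : Known hc ne) {n : Nat} {h : Nat × Nat} {s si : Nat} {st : TStep}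
    {K : Nat → Nat × Nat → Bool} (hh : F.Val h.1) (vs : F.Val s) (vsi : F.Val si)
    (he : pmul si s = pone) (hs : C.step ne n h s si st K = true) :
    ∃ m h', F.Val h'.1 ∧ K m h' = true ∧
      F.Rel C (F.node C n * F.val C h * F.T s) (F.node C m * F.val C h') := by
  unfold Ctx.step at hs
  simp only [cond_false_eq_true] at hs
  obtain ⟨hf, hkind, hn, hb, hsp, hK'⟩ := hs
  obtain ⟨p1, hrel⟩ := hK.split_sound hsp
  obtain ⟨m1, m2⟩ := hc.val_mul (hc.val_el hb) p1
  obtain ⟨m3, m4⟩ := hc.val_mul (f := (s, 0)) m1 vs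
  refine ⟨_, _, m3, hK', ?_⟩
  obtain ⟨_, _, hfact⟩ := hK.fact _ (Nat.ble_eq.mp hf) (Nat.ble_eq.mp hkind)
  rw [Nat.eq_of_beq_eq_true hn] at hfact
  have einv : F.ph si = (F.ph s)⁻¹ := by
    rw [eq_inv_iff_mul_eq_one, ← F.ph_pmul vsi vs, he, F.ph_pone]
  obtain ⟨_, m6⟩ := hc.val_mul (f := (si, 0)) hh vsi
  rw [m6, F.val_perm, einv] at hrel
  rw [m4, m2, F.val_perm]
  have h1 := (hrel.trans (hfact.mul _)).mul (F.ph s)
  simpa [TFrame.T, mul_assoc] using h1

theorem Known.steps_sound (hK : Known hc ne) : ∀ {ws : List (Nat × Nat)} {sts : List TStep}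
    {n : Nat} {h : Nat × Nat} {K : Nat → Nat × Nat → Bool},
    (∀ w ∈ ws, F.Val w.1 ∧ F.Val w.2 ∧ pmul w.2 w.1 = pone) → F.Val h.1 →
    C.steps ne ws sts n h K = true →
    sts.length = ws.length ∧ ∃ m h', F.Val h'.1 ∧ K m h' = true ∧
      F.Rel C (F.node C n * F.val C h * F.prodT (ws.map Prod.fst)) (F.node C m * F.val C h') := by
  intro ws
  induction ws with
  | nil =>
    intro sts n h K _ hh hs
    cases sts with
    | nil => exact ⟨rfl, n, h, hh, hs, by simpa [TFrame.prodT] using F.rel_refl _⟩
    | cons st sts => exact Bool.noConfusion hs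
  | cons w ws ih =>
    intro sts n h K hw hh hs
    cases sts with
    | nil => exact Bool.noConfusion hs
    | cons st sts =>
      change C.step ne n h w.1 w.2 st (fun m h' => C.steps ne ws sts m h' K) = true at hs
      obtain ⟨v1, v2, v3⟩ := hw w (by simp)
      obtain ⟨m, h1, vh1, hs1, r1⟩ := hK.step_sound hh v1 v2 v3 hs
      obtain ⟨el, m2, h2, vh2, hK2, r2⟩ :=
        ih (fun x hx => hw x (List.mem_cons_of_mem _ hx)) vh1 hs1
      refine ⟨by simp [el], m2, h2, vh2, hK2, ?_⟩
      have e : F.prodT ((w :: ws).map Prod.fst) = F.T w.1 * F.prodT (ws.map Prod.fst) := by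
        simp [TFrame.prodT]
      rw [e, ← mul_assoc]
      exact (r1.mul _).trans r2

theorem TFrame.prodT_reverse {G : Type*} [Group G] (F : TFrame G) (l : List Nat) :
    F.prodT l.reverse = (F.prodT l)⁻¹ := by
  induction l with
  | nil => simp [TFrame.prodT]
  | cons a l ih =>
    simp only [TFrame.prodT, List.reverse_cons, List.map_append, List.prod_append, List.map_cons,
      List.prod_cons, List.map_nil, List.prod_nil, mul_one, mul_inv_rev] at ih ⊢
    rw [ih, inv_eq_of_mul_eq_one_right (F.T_sq a)]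

theorem Known.trace_sound (hK : Known hc ne) {e : Ent} {i j : Nat}
    {K : Nat → Nat × Nat → Nat → Nat × Nat → Bool} (hij : i ≤ j)
    (h : C.trace ne e i j K = true) :
    ∃ n h1 m h2, F.Val h1.1 ∧ F.Val h2.1 ∧ K n h1 m h2 = true ∧
      (∀ w ∈ C.relWord e.rel e.g e.gi, F.Val w.1 ∧ F.Val w.2 ∧ pmul w.2 w.1 = pone) ∧
      F.Rel C (F.node C n * F.val C h1 *
        F.prodT ((((C.relWord e.rel e.g e.gi).take j).drop i).map Prod.fst))
        (F.node C m * F.val C h2) := by
  unfold Ctx.trace at h
  simp only [cond_false_eq_true] at h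
  obtain ⟨hr, hg, hgi, hh0, hone, hst⟩ := h
  have vg := hc.hd.valP _ (Nat.ble_eq.mp hg)
  have vgi := hc.hd.valP _ (Nat.ble_eq.mp hgi)
  set r := C.rels.getD e.rel ([], (0, 0)) with hr'
  have hmem : r ∈ C.rels := by
    rw [hr', List.getD_eq_getElem _ _ (Nat.ble_eq.mp hr)]; exact List.getElem_mem _
  obtain ⟨hv, hw⟩ := hc.ctx_rels r hmem
  have eg : F.ph (C.P.2.get e.gi) = (F.ph (C.P.2.get e.g))⁻¹ := by
    rw [eq_inv_iff_mul_eq_one, ← F.ph_pmul vgi vg, Nat.eq_of_beq_eq_true hone, F.ph_pone]
  have hws : ∀ w ∈ C.relWord e.rel e.g e.gi,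
      F.Val w.1 ∧ F.Val w.2 ∧ pmul w.2 w.1 = pone := by
    intro w hw'
    obtain ⟨x, hx, rfl⟩ := List.mem_map.mp hw'
    obtain ⟨o1, o2, o3⟩ := hw x hx
    have v1 := hc.hd.valP _ (Nat.ble_eq.mp o1)
    have v2 := hc.hd.valP _ (Nat.ble_eq.mp o2)
    refine ⟨F.val_pmul v1 vg, F.val_pmul vgi v2, ?_⟩
    obtain ⟨pg, hpg⟩ := vg
    obtain ⟨pgi, hpgi⟩ := vgi
    obtain ⟨p1, hp1⟩ := v1
    obtain ⟨p2, hp2⟩ := v2
    have e1 : (p2 : Equiv.Perm (Fin 24)) * p1 = 1 := (hp2.pmul hp1).unique (o3 ▸ repP_pone)
    have e2 : (pgi : Equiv.Perm (Fin 24)) * pg = 1 :=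
      (hpgi.pmul hpg).unique (Nat.eq_of_beq_eq_true hone ▸ repP_pone)
    have hrep := (hpgi.pmul hp2).pmul (hp1.pmul hpg)
    rw [show ((pgi : Equiv.Perm (Fin 24)) * p2) * (p1 * pg) = pgi * (p2 * p1) * pg by group, e1,
      mul_one, e2] at hrep
    exact pmul_eq_pone hrep
  have hval : F.prodT ((C.relWord e.rel e.g e.gi).map Prod.fst) =
      F.val C (C.relVal e.rel e.g e.gi) ∧ F.Val (C.relVal e.rel e.g e.gi).1 := by
    have hv1 : ∀ w ∈ r.1.map fun w => C.P.2.get w.1, F.Val w := by
      intro w hw'
      obtain ⟨x, hx, rfl⟩ := List.mem_map.mp hw'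
      exact hc.hd.valP _ (Nat.ble_eq.mp (hw x hx).1)
    obtain ⟨m1, m2⟩ := hc.val_mul (e := (C.P.2.get e.gi, 0)) vgi (hc.val_el hv)
    obtain ⟨m3, m4⟩ := hc.val_mul (f := (C.P.2.get e.g, 0)) m1 vg
    refine ⟨?_, m3⟩
    have e0 : (C.relWord e.rel e.g e.gi).map Prod.fst =
        (r.1.map fun w => C.P.2.get w.1).map fun a => pmul a (C.P.2.get e.g) := by
      simp [Ctx.relWord, hr', Function.comp_def]
    rw [e0, F.prodT_map hv1 vg, hc.rel r hmem, Ctx.relVal, ← hr', m4, m2, F.val_perm, F.val_perm, eg]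
  set ws := C.relWord e.rel e.g e.gi with hws'
  obtain ⟨_, n, h1, vh1, hs1, r1⟩ :=
    hK.steps_sound (fun w hw' => hws w (List.mem_of_mem_take hw')) (hc.val_el hh0) hst
  obtain ⟨m1, m2⟩ := hc.val_mul (hc.val_el hh0) hval.2
  obtain ⟨_, m, h2, vh2, hK2, r2⟩ := hK.steps_sound
    (fun w hw' => hws w (List.mem_of_mem_drop (List.mem_reverse.mp hw'))) m1 hs1
  refine ⟨n, h1, m, h2, vh1, vh2, hK2, hws, (UFrame.Rel.symm (r1.mul _)).trans ?_⟩
  rw [List.map_reverse, F.prodT_reverse] at r2
  have e3 : F.prodT (ws.map Prod.fst) = F.prodT ((ws.take i).map Prod.fst) *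
      F.prodT (((ws.take j).drop i).map Prod.fst) * F.prodT ((ws.drop j).map Prod.fst) := by
    conv_lhs => rw [← List.take_append_drop j ws, ← List.take_append_drop i (ws.take j)]
    rw [List.take_take, Nat.min_eq_left hij]
    simp [TFrame.prodT, mul_assoc]
  rw [m2, ← hval.1, e3] at r2
  simpa [mul_assoc] using r2

theorem Known.ent_sound (hK : Known hc ne) (h : C.checkEnt ne (C.ents.get ne) = true) :
    Known hc (ne + 1) := by
  unfold Ctx.checkEnt at h
  generalize he : C.ents.get ne = e at h
  simp only [cond_false_eq_true] at h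
  obtain ⟨⟨ha, hb⟩, h⟩ := h
  suffices hm : (e.kind ≤ 2 → F.Rel C (F.node C e.n * F.val C (C.el e.a) * F.t)
      (F.node C e.m * F.val C (C.el e.b))) ∧
      (3 ≤ e.kind → F.Rel C (F.node C e.n * F.val C (C.el e.a)) (F.node C e.n)) by
    constructor
    · intro i hi hk
      rcases Nat.lt_succ_iff_lt_or_eq.mp hi with hi | rfl
      · exact hK.fact i hi hk
      · subst he; exact ⟨ha, hb, hm.1 hk⟩
    · intro i hi hk
      rcases Nat.lt_succ_iff_lt_or_eq.mp hi with hi | rfl
      · exact hK.stab i hi hk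
      · subst he; exact ⟨ha, hm.2 hk⟩
  cases k0 : Nat.beq e.kind 0 with
  | true =>
    have hk := Nat.eq_of_beq_eq_true k0
    refine ⟨fun _ => ?_, fun h3 => absurd h3 (by omega)⟩
    rw [k0, cond_true, cond_false_eq_true] at h
    obtain ⟨n, h1, m, h2, vh1, vh2, hK2, hws, hrel⟩ :=
      hK.trace_sound (Nat.le_succ _) h.2
    simp only [cond_false_eq_true] at hK2
    obtain ⟨hn, hm, hsp, heq⟩ := hK2
    obtain rfl := Nat.eq_of_beq_eq_true hn
    obtain rfl := Nat.eq_of_beq_eq_true hm
    have hlen : e.fw.length < (C.relWord e.rel e.g e.gi).length := by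
      have hl := Nat.eq_of_beq_eq_true h.1
      simp only [Nat.add_eq] at hl
      omega
    generalize hws' : C.relWord e.rel e.g e.gi = ws at *
    have hseg : ((ws.take (e.fw.length + 1)).drop e.fw.length).map Prod.fst =
        [(ws.getD e.fw.length (0, 0)).1] := by
      rw [List.take_succ_eq_append_getElem hlen, List.drop_append_of_le_length (by simp; omega),
        List.getD_eq_getElem _ _ hlen]
      simp
    rw [hseg] at hrel
    generalize hw' : ws.getD e.fw.length (0, 0) = w at *
    obtain ⟨v1, v2, v3⟩ := hws w (by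
      rw [← hw', List.getD_eq_getElem _ _ hlen]; exact List.getElem_mem _)
    obtain ⟨p1, r1⟩ := hK.split_sound hsp
    obtain ⟨m1, m2⟩ := hc.val_mul (hc.val_el hb) p1
    obtain ⟨_, m4⟩ := hc.val_mul (f := (w.1, 0)) m1 v1
    obtain ⟨_, m6⟩ := hc.val_mul (f := (w.2, 0)) vh1 v2
    have einv : F.ph w.2 = (F.ph w.1)⁻¹ := by
      rw [eq_inv_iff_mul_eq_one, ← F.ph_pmul v2 v1, v3, F.ph_pone]
    rw [m6, F.val_perm, einv] at r1
    rw [← eEq_iff heq, m4, m2, F.val_perm] at hrel
    refine UFrame.Rel.cancel (F.val C (C.phi (C.el e.k)) * F.ph w.1) ?_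
    have r2 := r1.mul (F.ph w.1)
    simp only [TFrame.prodT, List.map_cons, List.map_nil, List.prod_cons, List.prod_nil, mul_one,
      TFrame.T] at hrel
    simp only [mul_assoc] at r2 hrel ⊢
    exact r2.symm.trans hrel
  | false =>
    rw [k0, cond_false] at h
    cases k1 : Nat.beq e.kind 1 with
    | true =>
      have hk := Nat.eq_of_beq_eq_true k1
      refine ⟨fun _ => ?_, fun h3 => absurd h3 (by omega)⟩
      rw [k1, cond_true] at h
      simp only [cond_false_eq_true] at h
      obtain ⟨hi, hkind, hn, hm, ha0, hb0, hsp, heq⟩ := h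
      obtain ⟨_, _, hf⟩ := hK.fact _ (Nat.ble_eq.mp hi) (Nat.ble_eq.mp hkind)
      obtain ⟨p1, r1⟩ := hK.split_sound hsp
      obtain ⟨_, m2⟩ := hc.val_mul (hc.val_el hb) p1
      rw [Nat.eq_of_beq_eq_true hn, Nat.eq_of_beq_eq_true hm]
      rw [Nat.eq_of_beq_eq_true hn] at r1
      refine UFrame.Rel.cancel (F.val C (C.phi (C.el e.k))) ?_
      rw [mul_assoc (F.node C (C.ents.get e.n0).n), ← m2, eEq_iff heq]
      refine r1.symm.trans ?_
      have h2 := hf.mul F.t
      rw [mul_assoc _ F.t F.t, F.tt, mul_one] at h2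
      exact h2.symm
    | false =>
      rw [k1, cond_false] at h
      cases k2 : Nat.beq e.kind 2 with
      | true =>
        have hk := Nat.eq_of_beq_eq_true k2
        refine ⟨fun _ => ?_, fun h3 => absurd h3 (by omega)⟩
        rw [k2, cond_true] at h
        simp only [cond_false_eq_true] at h
        obtain ⟨hm, hm1, hn, he1, he2, heq⟩ := h
        have hstep := hc.node_step (Nat.ble_eq.mp hm1) (Nat.ble_eq.mp hm)
        rw [Nat.eq_of_beq_eq_true hn, show (C.nodes.getD e.m (0, 0, 0)).2 = e.a from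
          Prod.ext (Nat.eq_of_beq_eq_true he1) (Nat.eq_of_beq_eq_true he2)] at hstep
        rw [eEq_iff heq, F.val_perm, F.ph_pone, mul_one, hstep]
        exact F.rel_refl _
      | false =>
        rw [k2, cond_false] at h
        cases k3 : Nat.beq e.kind 3 with
        | true =>
          have hk := Nat.eq_of_beq_eq_true k3
          refine ⟨fun h3 => absurd h3 (by omega), fun _ => ?_⟩
          rw [k3, cond_true, cond_false_eq_true] at h
          obtain ⟨n, h1, m, h2, vh1, vh2, hK2, hws, hrel⟩ := hK.trace_sound le_rfl h.2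
          simp only [cond_false_eq_true] at hK2
          obtain ⟨hn, hm, heq⟩ := hK2
          obtain rfl := Nat.eq_of_beq_eq_true hn
          obtain rfl := Nat.eq_of_beq_eq_true hm
          obtain ⟨_, m2⟩ := hc.val_mul (hc.val_el ha) vh1
          rw [← eEq_iff heq, m2] at hrel
          refine UFrame.Rel.cancel (F.val C h1) ?_
          have : ((C.relWord e.rel e.g e.gi).take e.fw.length).drop e.fw.length = [] := by
            simp
          rw [this] at hrel
          simpa [TFrame.prodT, mul_assoc] using hrel.symm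
        | false =>
          rw [k3, cond_false] at h
          cases k4 : Nat.beq e.kind 4 with
          | true =>
            have hk := Nat.eq_of_beq_eq_true k4
            refine ⟨fun h3 => absurd h3 (by omega), fun _ => ?_⟩
            rw [k4, cond_true] at h
            rw [Nat.eq_of_beq_eq_true h, CData.node_zero]
            show _ * _ ∈ F.sub C
            rw [one_mul, inv_one, mul_one]
            exact F.sub_mem (hc.val_el ha)
          | false =>
            rw [k4, cond_false] at h
            simp only [cond_false_eq_true] at h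
            obtain ⟨h5, hn, hin⟩ := h
            have hk := Nat.eq_of_beq_eq_true h5
            refine ⟨fun h3 => absurd h3 (by omega), fun _ => ?_⟩
            obtain ⟨p1, p2, p3⟩ := hc.inK_sound (hc.val_el ha) hin
            rw [Nat.eq_of_beq_eq_true hn]
            have hok := hc.ok
            unfold Ctx.checkCtx at hok
            simp only [cond_false_eq_true] at hok
            have hnode : F.node C 1 = F.t := by
              rw [UFrame.node, UFrame.nodeAux]
              rw [if_neg one_ne_zero, Nat.eq_of_beq_eq_true hok.2.2.1, eEq_iff hok.2.2.2,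
                F.val_perm, F.ph_pone, mul_one]
              rw [UFrame.nodeAux]
              simp
            rw [hnode]
            show _ * _ ∈ F.sub C
            rw [show F.t⁻¹ = F.t from inv_eq_of_mul_eq_one_right F.tt, p2]
            exact F.sub_mem p1

/-- The derivation. -/
theorem CData.known (hc : @CData G _ F C R Q) {N : Nat} (h : C.checkAll N = true) :
    ∀ ne ≤ N, Known hc ne := by
  intro ne
  induction ne with
  | zero =>
    exact fun _ => ⟨fun i hi => absurd hi (Nat.not_lt_zero i),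
      fun i hi => absurd hi (Nat.not_lt_zero i)⟩
  | succ ne ih => exact fun hne => (ih (Nat.le_of_succ_le hne)).ent_sound (of_allBelow h ne hne)

end CfsgLib.Coset.J4
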