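import Cfsg.Agent.Coset.J4.Main
import Cfsg.Prelude.Def_Transfer

/-!
The elementary abelian group `2^11` below `2^11:M24` in the presented group of the fourth Janko type.
-/

set_option autoImplicit false
set_option maxRecDepth 100000

namespace CfsgLib.Coset.J4

open Cfsg

/-- The normal subgroup `2^11` of `2^11:M24`. -/
noncomputable def V24 : Subgroup Spor.J4 := (udata gensJ).vSub

theorem isElementaryAbelian_V24 : IsElementaryAbelian 2 V24 := by
  refine ⟨⟨⟨fun a b => Subtype.ext ((udata gensJ).v_comm a.2 b.2)⟩⟩, ?_⟩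
  rintro _ ⟨c, rfl⟩
  rw [pow_two]
  nth_rw 1 [← (udata gensJ).E_inv c]
  exact inv_mul_cancel _

theorem card_V24 : Nat.card V24 = 2 ^ 11 := by
  have key : ∀ c, gensJ.UF.E ctxJ.B (c % 2048) = gensJ.UF.E ctxJ.B c := fun c => gensJ.UF.E_mod _ c
  let f : Fin (2 ^ 11) → V24 := fun c => ⟨gensJ.UF.E ctxJ.B c.1, (udata gensJ).E_mem c.1⟩
  have hf : Function.Bijective f := by
    refine ⟨fun a b h => Fin.ext ?_, ?_⟩
    · exact (udata gensJ).E_inj u_ne_one hirrJ a.2 b.2 (congrArg Subtype.val h)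
    · rintro ⟨_, c, rfl⟩
      exact ⟨⟨c % 2 ^ 11, Nat.mod_lt _ (by norm_num)⟩, Subtype.ext (key c)⟩
  rw [← Nat.card_congr (Equiv.ofBijective f hf), Nat.card_fin]

theorem H24_le_normalizer : H24 ≤ Subgroup.normalizer (V24 : Set Spor.J4) := by
  intro h hh
  rw [Subgroup.mem_normalizer_iff]
  refine fun v => ⟨fun hv => (udata gensJ).conj_hSub hh hv, fun hv => ?_⟩
  have := (udata gensJ).conj_hSub (inv_mem hh) hv
  rw [show v = h⁻¹ * (h * v * h⁻¹) * h⁻¹⁻¹ by group]
  exact this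

end CfsgLib.Coset.J4
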