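import Cfsg.Agent.Coset.J4.Derive

/-!
Faster evaluation of the action on coordinates and of the test of the base trio.
-/

set_option autoImplicit false
set_option maxRecDepth 20000

namespace CfsgLib.Coset.J4

section Kernel

/-- The points of the base trio, octad by octad. -/
def trioPts : List (List Nat) :=
  [[0, 2, 4, 7, 8, 11, 19, 22], [1, 5, 9, 12, 14, 15, 18, 23], [3, 6, 10, 13, 16, 17, 20, 21]]

/-- The image of a listed set. -/
noncomputable def pimgL (a : Nat) (l : List Nat) : Nat :=
  List.rec 0 (fun i _ r => Nat.lor (Nat.shiftLeft 1 (pget a i)) r) l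

/-- The permutation fixes the base trio. -/
noncomputable def trioFast (a : Nat) : Bool :=
  allList (fun l => memB (pimgL a l) trio0) trioPts

/-- The coordinates of a point. -/
noncomputable def pointCo (PV x : Nat) : Nat := Nat.land (Nat.shiftRight PV (Nat.mul 11 x)) 2047

/-- The action, from the points of the basis tetrads and the coordinates of points. -/
noncomputable def actF (TL : List (List Nat)) (PV π c : Nat) : Nat :=
  List.rec 0 (fun k _ r => cond (Nat.testBit c k)
    (Nat.xor (List.rec 0 (fun p _ s => Nat.xor (pointCo PV (pget π p)) s) (TL.getD k [])) r) r) pts11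

/-- The tables of points agree with the basis and the functionals. -/
noncomputable def fastOK (B D : List Nat) (TL : List (List Nat)) (PV : Nat) : Bool :=
  cond (allList (fun k => cond (allList (fun p => Nat.ble (Nat.add p 1) 24) (TL.getD k []))
      (cond (Nat.beq (pimgL pone (TL.getD k [])) (pimg (B.getD k 0) (sext0.getD 0 0)))
        (List.rec true (fun p t r => cond (memB p t) false r) (TL.getD k [])) false) false) pts11)
    (allList (fun x => Nat.beq (pointCo PV x) (coordN D (Nat.shiftLeft 1 x))) pts24) false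

end Kernel

theorem par32_xor (x y : Nat) : par32 (Nat.xor x y) = Nat.xor (par32 x) (par32 y) := by
  have key : ∀ (s a b : Nat), Nat.xor (Nat.xor a b) (Nat.shiftRight (Nat.xor a b) s) =
      Nat.xor (Nat.xor a (Nat.shiftRight a s)) (Nat.xor b (Nat.shiftRight b s)) := by
    intro s a b
    show (a ^^^ b) ^^^ ((a ^^^ b) >>> s) = (a ^^^ (a >>> s)) ^^^ (b ^^^ (b >>> s))
    rw [Nat.shiftRight_xor_distrib]
    simp only [Nat.xor_assoc]
    congr 1
    rw [← Nat.xor_assoc, Nat.xor_comm b, Nat.xor_assoc]
  unfold par32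
  simp only [key]
  show 1 &&& (_ ^^^ _) = (1 &&& _) ^^^ (1 &&& _)
  rw [Nat.and_xor_distrib_left]

theorem double_xor (a b p q : Nat) (hp : p < 2) (hq : q < 2) :
    2 * (a ^^^ b) + (p ^^^ q) = (2 * a + p) ^^^ (2 * b + q) := by
  refine Nat.eq_of_testBit_eq fun j => ?_
  have hpq : p ^^^ q < 2 ^ 1 := Nat.xor_lt_two_pow (by simpa using hp) (by simpa using hq)
  rw [Nat.testBit_xor]
  cases j with
  | zero =>
    simp only [Nat.testBit_zero, Nat.mul_add_mod_self_left]
    interval_cases p <;> interval_cases q <;> decide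
  | succ j =>
    simp only [Nat.testBit_succ]
    rw [show (2 * (a ^^^ b) + (p ^^^ q)) / 2 = a ^^^ b by omega,
      show (2 * a + p) / 2 = a by omega, show (2 * b + q) / 2 = b by omega, Nat.testBit_xor]

theorem par32_lt (x : Nat) : par32 x < 2 := by
  unfold par32
  exact Nat.lt_of_le_of_lt Nat.and_le_left (by norm_num)

theorem coordN_xor : ∀ (D : List Nat) (x y : Nat),
    coordN D (Nat.xor x y) = Nat.xor (coordN D x) (coordN D y) := by
  intro D
  induction D with
  | nil => intro x y; simp [coordN]
  | cons d D ih =>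
    intro x y
    have e : Nat.land (Nat.xor x y) d = Nat.xor (Nat.land x d) (Nat.land y d) :=
      Nat.and_xor_distrib_right (a := x) (b := y) (c := d)
    show Nat.add (Nat.mul 2 (coordN D (Nat.xor x y))) (par32 (Nat.land (Nat.xor x y) d)) =
      Nat.xor (Nat.add (Nat.mul 2 (coordN D x)) (par32 (Nat.land x d)))
        (Nat.add (Nat.mul 2 (coordN D y)) (par32 (Nat.land y d)))
    rw [ih, e, par32_xor]
    exact double_xor _ _ _ _ (par32_lt _) (par32_lt _)

theorem testBit_pimgL (a : Nat) (j : Nat) : ∀ l : List Nat,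
    (pimgL a l).testBit j = true ↔ ∃ i ∈ l, pget a i = j := by
  intro l
  induction l with
  | nil => simp [pimgL]
  | cons i l ih =>
    show (1 <<< pget a i ||| pimgL a l).testBit j = true ↔ _
    rw [Nat.testBit_or, Bool.or_eq_true, Nat.shiftLeft_eq, one_mul, Nat.testBit_two_pow,
      decide_eq_true_eq, ih]
    constructor
    · rintro (h | ⟨k, hk, h⟩)
      · exact ⟨i, by simp, h⟩
      · exact ⟨k, List.mem_cons_of_mem _ hk, h⟩
    · rintro ⟨k, hk, h⟩
      rcases List.mem_cons.mp hk with rfl | hk
      · exact Or.inl h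
      · exact Or.inr ⟨k, hk, h⟩

theorem pget_pone {i : Nat} (hi : i < 24) : pget pone i = i :=
  ppack_get _ (fun _ h => by omega) _ hi

theorem pimgL_pone {l : List Nat} (hl : ∀ i ∈ l, i < 24) (a : Nat) :
    pimg a (pimgL pone l) = pimgL a l := by
  refine Nat.eq_of_testBit_eq fun j => ?_
  rw [Bool.eq_iff_iff, testBit_pimg, testBit_pimgL]
  constructor
  · rintro ⟨i, _, hm, e⟩
    obtain ⟨k, hk, ek⟩ := (testBit_pimgL pone i l).mp hm
    rw [pget_pone (hl k hk)] at ek
    exact ⟨i, ek ▸ hk, e⟩
  · rintro ⟨i, hi, e⟩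
    exact ⟨i, hl i hi, (testBit_pimgL pone i l).mpr ⟨i, hi, pget_pone (hl i hi)⟩, e⟩

theorem trioFast_sound {a : Nat} (h : trioFast a = true) : trioEq a pone = true := by
  have h0 : trioPts.map (pimgL pone) = trio0 ∧ trio0.map (fun o => pimg pone o) = trio0 ∧
      ∀ l ∈ trioPts, ∀ i ∈ l, i < 24 := by decide +kernel
  rw [trioEq, allList_iff]
  intro o ho
  rw [← h0.1, List.mem_map] at ho
  obtain ⟨l, hl, rfl⟩ := ho
  rw [pimgL_pone (h0.2.2 l hl)]
  rw [trioFast, allList_iff] at h
  rw [h0.2.1]
  exact h l hl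

theorem coordN_pimgL {D : List Nat} {PV a : Nat}
    (hPV : ∀ x < 24, pointCo PV x = coordN D (Nat.shiftLeft 1 x))
    (hlt : ∀ i < 24, pget a i < 24) (hinj : ∀ i < 24, ∀ k < 24, pget a i = pget a k → i = k) :
    ∀ l : List Nat, l.Nodup → (∀ i ∈ l, i < 24) →
      (List.rec 0 (fun p _ s => Nat.xor (pointCo PV (pget a p)) s) l : Nat) =
        coordN D (pimgL a l) := by
  intro l
  induction l with
  | nil =>
    intro _ _
    show 0 = coordN D 0
    have := coordN_xor D 0 0
    simpa using this.symm ▸ (Nat.xor_self (coordN D 0)).symm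
  | cons i l ih =>
    intro hnd hl
    obtain ⟨hni, hnd'⟩ := List.nodup_cons.mp hnd
    show Nat.xor (pointCo PV (pget a i)) _ = coordN D (Nat.lor (Nat.shiftLeft 1 (pget a i)) _)
    rw [hPV _ (hlt i (hl i (by simp))), ih hnd' fun x hx => hl x (List.mem_cons_of_mem _ hx),
      ← coordN_xor]
    congr 1
    show (1 <<< pget a i) ^^^ pimgL a l = (1 <<< pget a i) ||| pimgL a l
    refine Nat.eq_of_testBit_eq fun j => ?_
    rw [Nat.testBit_or, Nat.testBit_xor, Nat.shiftLeft_eq, one_mul, Nat.testBit_two_pow]
    by_cases hj : pget a i = j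
    · have : (pimgL a l).testBit j = false := by
        rw [← Bool.not_eq_true, testBit_pimgL]
        rintro ⟨k, hk, e⟩
        exact hni (hinj k (hl k (List.mem_cons_of_mem _ hk)) i (hl i (by simp))
          (e.trans hj.symm) ▸ hk)
      simp [hj, this]
    · simp [hj]

theorem nodup_rec : ∀ l : List Nat,
    (List.rec true (fun p t r => cond (memB p t) false r) l : Bool) = true → l.Nodup := by
  intro l
  induction l with
  | nil => intro _; exact List.nodup_nil
  | cons p l ih =>
    intro h
    change cond (memB p l) false _ = true at h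
    cases hm : memB p l with
    | true => rw [hm] at h; exact Bool.noConfusion h
    | false =>
      rw [hm, cond_false] at h
      exact List.nodup_cons.mpr ⟨fun hp => by rw [memB_iff.mpr hp] at hm; exact Bool.noConfusion hm,
        ih h⟩

theorem actF_eq {B D : List Nat} {TL : List (List Nat)} {PV a : Nat}
    {p : Equiv.Perm (Fin 24)} (ha : RepP a p) (h : fastOK B D TL PV = true) (c : Nat) :
    actF TL PV a c = actN B D a c := by
  unfold fastOK at h
  rw [cond_false_eq_true] at h
  obtain ⟨h1, h2⟩ := h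
  have hPV : ∀ x < 24, pointCo PV x = coordN D (Nat.shiftLeft 1 x) := fun x hx =>
    Nat.eq_of_beq_eq_true (allList_iff.mp h2 x (mem_pts24.mpr hx))
  have hinj : ∀ i < 24, ∀ k < 24, pget a i = pget a k → i = k := fun i hi k hk e => by
    rw [ha ⟨i, hi⟩, ha ⟨k, hk⟩] at e
    exact congrArg Fin.val (p⁻¹.injective (Fin.ext e))
  have key : ∀ l : List Nat, (∀ k ∈ l, k ∈ pts11) →
      (List.rec 0 (fun k _ r => cond (Nat.testBit c k) (Nat.xor
        (List.rec 0 (fun p _ s => Nat.xor (pointCo PV (pget a p)) s) (TL.getD k [])) r) r) l : Nat) =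
      List.rec 0 (fun k _ r => cond (Nat.testBit c k)
        (Nat.xor (coordN D (pimg a (pimg (B.getD k 0) (sext0.getD 0 0)))) r) r) l := by
    intro l
    induction l with
    | nil => intro _; rfl
    | cons k l ih =>
      intro hl
      show cond _ _ _ = cond _ _ _
      rw [ih fun x hx => hl x (List.mem_cons_of_mem _ hx)]
      have hk := allList_iff.mp h1 k (hl k (by simp))
      simp only [cond_false_eq_true] at hk
      obtain ⟨hb, he, hn⟩ := hk
      have hlt : ∀ i ∈ TL.getD k [], i < 24 := fun i hi => Nat.ble_eq.mp (allList_iff.mp hb i hi)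
      rw [← Nat.eq_of_beq_eq_true he, pimgL_pone hlt,
        coordN_pimgL hPV (fun i hi => ha.lt hi) hinj _ (nodup_rec _ hn) hlt]
  exact key pts11 fun k hk => hk

end CfsgLib.Coset.J4
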