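import Cfsg.Agent.Coset.J4.Perm
import Mathlib.Algebra.Group.Subgroup.Basic
import Mathlib.Algebra.BigOperators.Group.List.Basic
import Mathlib.Tactic.Group

/-!
A group with an image of a permutation group on twenty-four points and an involution whose
conjugates depend only on a trio; the words in these conjugates and a checker for rewriting them.
-/

set_option autoImplicit false
set_option maxRecDepth 20000

namespace CfsgLib.Coset.J4

section Kernel

/-- The base trio as three masks. -/
def trio0 : List Nat := [4721045, 8704546, 3351624]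

/-- A number occurs in a list. -/
noncomputable def memB (x : Nat) (l : List Nat) : Bool :=
  List.rec false (fun y _ r => cond (Nat.beq x y) true r) l

/-- Two permutations move the base trio to the same trio. -/
noncomputable def trioEq (a b : Nat) : Bool :=
  allList (fun o => memB (pimg a o) (trio0.map fun o' => pimg b o')) trio0

/-- Two lists name the same trios. -/
noncomputable def triosEq (l : List Nat) : List Nat → Bool :=
  List.rec (fun m => List.rec true (fun _ _ _ => false) m)
    (fun a _ ih m => List.rec false (fun b m' _ => cond (trioEq a b) (ih m') false) m) l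

/-- A state: a permutation followed by a word in conjugates. -/
abbrev St : Type := Nat × List Nat

/-- A rule: a word equals a permutation times a word. -/
abbrev Rule : Type := List Nat × List Nat × Nat

/-- An operation: position, rule, conjugating element, its inverse (both in the table). -/
abbrev Op : Type := Nat × Nat × Nat × Nat

/-- A table of permutations: its length and its entries. -/
abbrev PTab : Type := Nat × Tr Nat

/-- One operation. -/
noncomputable def applyOp (R : List Rule) (P : PTab) (o : Op) (s : St)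
    (K : St → Bool) : Bool :=
  cond (Nat.beq o.2.1 R.length)
    (cond (Nat.beq ((s.2.drop o.1).take 2).length 2)
      (cond (trioEq (((s.2.drop o.1).take 2).getD 0 0) (((s.2.drop o.1).take 2).getD 1 0))
        (K (s.1, s.2.take o.1 ++ (s.2.drop o.1).drop 2)) false) false)
    (cond (Nat.ble (Nat.add o.2.1 1) R.length)
      (cond (Nat.ble (Nat.add o.2.2.1 1) P.1) (cond (Nat.ble (Nat.add o.2.2.2 1) P.1)
        (cond (Nat.beq (pmul (P.2.get o.2.2.2) (P.2.get o.2.2.1)) pone)
          (cond (triosEq ((s.2.drop o.1).take (R.getD o.2.1 ([], [], 0)).1.length)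
              ((R.getD o.2.1 ([], [], 0)).1.map fun a => pmul a (P.2.get o.2.2.1)))
            (K (pmul s.1 (pmul (pmul (P.2.get o.2.2.2) (R.getD o.2.1 ([], [], 0)).2.2)
                (P.2.get o.2.2.1)),
              (s.2.take o.1).map (fun a => pmul a (pmul (pmul (P.2.get o.2.2.2)
                  (R.getD o.2.1 ([], [], 0)).2.2) (P.2.get o.2.2.1))) ++
                (R.getD o.2.1 ([], [], 0)).2.1.map (fun a => pmul a (P.2.get o.2.2.1)) ++
                (s.2.drop o.1).drop (R.getD o.2.1 ([], [], 0)).1.length))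
            false) false) false) false) false)

/-- A list of operations. -/
noncomputable def runOps (R : List Rule) (P : PTab) (ops : List Op) :
    St → (St → Bool) → Bool :=
  List.rec (fun s K => K s) (fun o _ ih s K => applyOp R P o s fun s' => ih s' K) ops

/-- Both states are rewritten to the same one. -/
noncomputable def checkEq (R : List Rule) (P : PTab) (A B : St) (oA oB : List Op) : Bool :=
  runOps R P oA A fun a => runOps R P oB B fun b =>
    cond (Nat.beq a.1 b.1) (triosEq a.2 b.2) false

/-- Every entry of the table after the first `k` is a product of two earlier ones, which are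
packed in twenty-four bits each. -/
noncomputable def checkProds (P : PTab) (S : Tr Nat) (k : Nat) : Bool :=
  allBelow 17 P.1 fun j => cond (Nat.ble (Nat.add j 1) k) true
    (cond (Nat.ble (Nat.add (field (S.get j) 0) 1) j)
      (cond (Nat.ble (Nat.add (field (S.get j) 1) 1) j)
        (Nat.beq (P.2.get j) (pmul (P.2.get (field (S.get j) 0)) (P.2.get (field (S.get j) 1))))
        false) false)

end Kernel

/-- The data. -/
structure TFrame (G : Type*) [Group G] where
  M : Subgroup (Equiv.Perm (Fin 24))
  φ : M →* G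
  t : G
  tt : t * t = 1
  stab : ∀ (p q : M) (a b : Nat), RepP a p → RepP b q → trioEq a b = true →
    (φ p)⁻¹ * t * φ p = (φ q)⁻¹ * t * φ q

attribute [local irreducible] pmul pone

variable {G : Type*} [Group G] (F : TFrame G)

/-- The packed number stands for a member of the group. -/
def TFrame.Val (a : Nat) : Prop := ∃ p : F.M, RepP a p

/-- The image of a packed permutation. -/
noncomputable def TFrame.ph (a : Nat) : G :=
  open Classical in if h : F.Val a then F.φ h.choose else 1

/-- The conjugate of the involution of a packed permutation. -/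
noncomputable def TFrame.T (a : Nat) : G := (F.ph a)⁻¹ * F.t * F.ph a

/-- The product of a word in conjugates. -/
noncomputable def TFrame.prodT (w : List Nat) : G := (w.map F.T).prod

/-- The value of a state. -/
noncomputable def TFrame.sval (s : St) : G := F.ph s.1 * F.prodT s.2

/-- A state of valid permutations. -/
def TFrame.Good (s : St) : Prop := F.Val s.1 ∧ ∀ a ∈ s.2, F.Val a

/-- A rule is true. -/
def TFrame.Holds (r : Rule) : Prop :=
  F.Val r.2.2 ∧ (∀ a ∈ r.1, F.Val a) ∧ (∀ a ∈ r.2.1, F.Val a) ∧
    F.prodT r.1 = F.ph r.2.2 * F.prodT r.2.1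

variable {F}

theorem TFrame.ph_eq {a : Nat} {p : F.M} (h : RepP a p) : F.ph a = F.φ p := by
  have hv : F.Val a := ⟨p, h⟩
  rw [TFrame.ph, dif_pos hv]
  congr 1
  exact Subtype.ext (hv.choose_spec.unique h)

theorem TFrame.val_pone : F.Val pone := ⟨1, repP_pone⟩

theorem TFrame.ph_pone : F.ph pone = 1 := by
  rw [F.ph_eq (p := 1) repP_pone, map_one]

theorem TFrame.val_pmul {a b : Nat} (ha : F.Val a) (hb : F.Val b) : F.Val (pmul a b) := by
  obtain ⟨p, hp⟩ := ha
  obtain ⟨q, hq⟩ := hb
  exact ⟨p * q, hp.pmul hq⟩

theorem TFrame.ph_pmul {a b : Nat} (ha : F.Val a) (hb : F.Val b) :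
    F.ph (pmul a b) = F.ph a * F.ph b := by
  obtain ⟨p, hp⟩ := ha
  obtain ⟨q, hq⟩ := hb
  rw [F.ph_eq hp, F.ph_eq hq, F.ph_eq (p := p * q) (hp.pmul hq), map_mul]

theorem TFrame.T_eq {a b : Nat} (ha : F.Val a) (hb : F.Val b) (h : trioEq a b = true) :
    F.T a = F.T b := by
  obtain ⟨p, hp⟩ := ha
  obtain ⟨q, hq⟩ := hb
  rw [TFrame.T, TFrame.T, F.ph_eq hp, F.ph_eq hq]
  exact F.stab p q a b hp hq h

theorem TFrame.T_sq (a : Nat) : F.T a * F.T a = 1 := by
  rw [TFrame.T, show (F.ph a)⁻¹ * F.t * F.ph a * ((F.ph a)⁻¹ * F.t * F.ph a) =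
    (F.ph a)⁻¹ * (F.t * F.t) * F.ph a by group, F.tt]
  group

theorem TFrame.T_pmul {a g : Nat} (ha : F.Val a) (hg : F.Val g) :
    F.T (pmul a g) = (F.ph g)⁻¹ * F.T a * F.ph g := by
  rw [TFrame.T, TFrame.T, F.ph_pmul ha hg]
  group

theorem TFrame.prodT_map {w : List Nat} {g : Nat} (hw : ∀ a ∈ w, F.Val a) (hg : F.Val g) :
    F.prodT (w.map fun a => pmul a g) = (F.ph g)⁻¹ * F.prodT w * F.ph g := by
  induction w with
  | nil => simp [TFrame.prodT]
  | cons a w ih =>
    have ih' := ih fun b hb => hw b (List.mem_cons_of_mem _ hb)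
    simp only [TFrame.prodT, List.map_cons, List.prod_cons] at ih' ⊢
    rw [ih', F.T_pmul (hw a (by simp)) hg]
    group

theorem TFrame.prodT_append (v w : List Nat) : F.prodT (v ++ w) = F.prodT v * F.prodT w := by
  simp [TFrame.prodT]

theorem TFrame.triosEq_sound : ∀ {v w : List Nat}, (∀ a ∈ v, F.Val a) → (∀ a ∈ w, F.Val a) →
    triosEq v w = true → F.prodT v = F.prodT w := by
  intro v
  induction v with
  | nil =>
    intro w _ _ h
    cases w with
    | nil => rfl
    | cons b w => exact Bool.noConfusion h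
  | cons a v ih =>
    intro w hv hw h
    cases w with
    | nil => exact Bool.noConfusion h
    | cons b w =>
      change cond (trioEq a b) (triosEq v w) false = true at h
      rw [cond_false_eq_true] at h
      have := ih (fun x hx => hv x (List.mem_cons_of_mem _ hx))
        (fun x hx => hw x (List.mem_cons_of_mem _ hx)) h.2
      simp only [TFrame.prodT, List.map_cons, List.prod_cons] at this ⊢
      rw [this, F.T_eq (hv a (by simp)) (hw b (by simp)) h.1]

theorem TFrame.applyOp_sound {R : List Rule} {P : PTab} (hR : ∀ r ∈ R, F.Holds r)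
    (hP : ∀ g < P.1, F.Val (P.2.get g)) {o : Op} {s : St} {K : St → Bool} (hs : F.Good s)
    (h : applyOp R P o s K = true) :
    ∃ s', F.Good s' ∧ F.sval s = F.sval s' ∧ K s' = true := by
  obtain ⟨i, r, g, gi⟩ := o
  obtain ⟨π, ws⟩ := s
  obtain ⟨hπ, hws⟩ := hs
  change F.Val π at hπ
  change ∀ a ∈ ws, F.Val a at hws
  have hsplit : ws = ws.take i ++ ws.drop i := (List.take_append_drop i ws).symm
  have htk : ∀ a ∈ ws.take i, F.Val a := fun a ha => hws a (List.mem_of_mem_take ha)
  have hdp : ∀ a ∈ ws.drop i, F.Val a := fun a ha => hws a (List.mem_of_mem_drop ha)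
  unfold applyOp at h
  cases hb : Nat.beq r R.length with
  | true =>
    simp only [hb, cond_true, cond_false_eq_true] at h
    obtain ⟨hlen, he, hK⟩ := h
    have hlen' := Nat.eq_of_beq_eq_true hlen
    refine ⟨(π, ws.take i ++ (ws.drop i).drop 2), ⟨hπ, fun a ha => ?_⟩, ?_, hK⟩
    · rcases List.mem_append.mp ha with ha | ha
      · exact htk a ha
      · exact hdp a (List.mem_of_mem_drop ha)
    obtain ⟨a, b, hab⟩ := List.length_eq_two.mp hlen'
    rw [hab] at he
    have hmem : ∀ c ∈ [a, b], F.Val c := fun c hc =>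
      hdp c (List.mem_of_mem_take (hab ▸ hc))
    have e := F.T_eq (hmem a (by simp)) (hmem b (by simp)) (by simpa using he)
    have e2 : F.prodT ((ws.drop i).take 2) = 1 := by
      rw [hab]; simp [TFrame.prodT, e, F.T_sq]
    show F.ph π * F.prodT ws = F.ph π * _
    conv_lhs => rw [hsplit, ← List.take_append_drop 2 (ws.drop i)]
    rw [F.prodT_append, F.prodT_append, F.prodT_append, e2, one_mul]
  | false =>
    simp only [hb, cond_false, cond_false_eq_true] at h
    obtain ⟨hr, hg, hgi, hone, he, hK⟩ := h
    have hr' : r < R.length := Nat.ble_eq.mp hr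
    set S := R.getD r ([], [], 0) with hS
    obtain ⟨hc, h1, h2, hrule⟩ := hR S (by
      rw [hS, List.getD_eq_getElem R _ hr']; exact List.getElem_mem hr')
    have vg : F.Val (P.2.get g) := hP _ (Nat.ble_eq.mp hg)
    have vgi : F.Val (P.2.get gi) := hP _ (Nat.ble_eq.mp hgi)
    have einv : F.ph (P.2.get gi) = (F.ph (P.2.get g))⁻¹ := by
      rw [eq_inv_iff_mul_eq_one, ← F.ph_pmul vgi vg, Nat.eq_of_beq_eq_true hone, F.ph_pone]
    have vc : F.Val (pmul (pmul (P.2.get gi) S.2.2) (P.2.get g)) :=
      F.val_pmul (F.val_pmul vgi hc) vg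
    have ec : F.ph (pmul (pmul (P.2.get gi) S.2.2) (P.2.get g)) =
        (F.ph (P.2.get g))⁻¹ * F.ph S.2.2 * F.ph (P.2.get g) := by
      rw [F.ph_pmul (F.val_pmul vgi hc) vg, F.ph_pmul vgi hc, einv]
    generalize hgg : P.2.get g = gg at *
    generalize hcc : pmul (pmul (P.2.get gi) S.2.2) gg = cc at *
    generalize hπ2 : pmul π cc = π2 at *
    refine ⟨(π2, (ws.take i).map (fun a => pmul a cc) ++
        S.2.1.map (fun a => pmul a gg) ++ (ws.drop i).drop S.1.length),
      ⟨by subst hπ2; exact F.val_pmul hπ vc, fun a ha => ?_⟩, ?_, hK⟩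
    · simp only at ha
      rcases List.mem_append.mp ha with ha | ha
      · rcases List.mem_append.mp ha with ha | ha
        · obtain ⟨b, hb', rfl⟩ := List.mem_map.mp ha
          exact F.val_pmul (htk b hb') vc
        · obtain ⟨b, hb', rfl⟩ := List.mem_map.mp ha
          exact F.val_pmul (h2 b hb') vg
      · exact hdp a (List.mem_of_mem_drop ha)
    have eseg := F.triosEq_sound (fun a ha => hdp a (List.mem_of_mem_take ha))
      (fun a ha => by
        obtain ⟨b, hb', rfl⟩ := List.mem_map.mp ha
        exact F.val_pmul (h1 b hb') vg) he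
    rw [F.prodT_map h1 vg, hrule] at eseg
    show F.ph π * F.prodT ws = _
    conv_lhs => rw [hsplit, ← List.take_append_drop S.1.length (ws.drop i)]
    rw [TFrame.sval, F.prodT_append, F.prodT_append, F.prodT_append, F.prodT_append, eseg,
      F.prodT_map htk vc, F.prodT_map h2 vg, ← hπ2, F.ph_pmul hπ vc, ec]
    group

theorem TFrame.runOps_sound {R : List Rule} {P : PTab} (hR : ∀ r ∈ R, F.Holds r)
    (hP : ∀ g < P.1, F.Val (P.2.get g)) : ∀ {ops : List Op} {s : St} {K : St → Bool}, F.Good s →
    runOps R P ops s K = true → ∃ s', F.Good s' ∧ F.sval s = F.sval s' ∧ K s' = true := by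
  intro ops
  induction ops with
  | nil => exact fun hs h => ⟨_, hs, rfl, h⟩
  | cons o ops ih =>
    intro s K hs h
    change applyOp R P o s (fun s' => runOps R P ops s' K) = true at h
    obtain ⟨s1, hs1, e1, h1⟩ := F.applyOp_sound hR hP hs h
    obtain ⟨s2, hs2, e2, h2⟩ := ih hs1 h1
    exact ⟨s2, hs2, e1.trans e2, h2⟩

/-- A checked equality of two states. -/
theorem TFrame.checkEq_sound {R : List Rule} {P : PTab} (hR : ∀ r ∈ R, F.Holds r)
    (hP : ∀ g < P.1, F.Val (P.2.get g)) {A B : St} {oA oB : List Op} (hA : F.Good A) (hB : F.Good B)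
    (h : checkEq R P A B oA oB = true) : F.sval A = F.sval B := by
  obtain ⟨a, ha, ea, h1⟩ := F.runOps_sound hR hP hA h
  obtain ⟨b, hb, eb, h2⟩ := F.runOps_sound hR hP hB h1
  rw [cond_false_eq_true] at h2
  rw [ea, eb, TFrame.sval, TFrame.sval, Nat.eq_of_beq_eq_true h2.1,
    F.triosEq_sound ha.2 hb.2 h2.2]

theorem TFrame.checkProds_sound {P : PTab} {S : Tr Nat} {k : Nat}
    (h : checkProds P S k = true) (h0 : ∀ j < k, F.Val (P.2.get j)) :
    ∀ g < P.1, F.Val (P.2.get g) := by
  intro g
  induction g using Nat.strong_induction_on with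
  | _ g ih =>
    intro hg
    rcases Nat.lt_or_ge g k with hk | hk
    · exact h0 g hk
    · have hj := of_allBelow h g hg
      have hf : Nat.ble (Nat.add g 1) k = false := by
        rw [← Bool.not_eq_true, Nat.ble_eq]; exact Nat.not_le.mpr (Nat.lt_succ_of_le hk)
      simp only [hf, cond_false, cond_false_eq_true] at hj
      obtain ⟨ha, hb, he⟩ := hj
      rw [Nat.eq_of_beq_eq_true he]
      exact F.val_pmul (ih _ (Nat.ble_eq.mp ha) (lt_trans (Nat.ble_eq.mp ha) hg))
        (ih _ (Nat.ble_eq.mp hb) (lt_trans (Nat.ble_eq.mp hb) hg))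

end CfsgLib.Coset.J4
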