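import Cfsg.Agent.Coset.J4.Relations
import Cfsg.Agent.Coset.J4.Derive
import Cfsg.Agent.Coset.J4.DataSext
import Cfsg.Agent.Coset.J4.DataClosure

/-!
The identities of the sextet element checked by the certificates, and the context of the
derivation.
-/

set_option autoImplicit false
set_option maxRecDepth 100000
set_option Elab.async false

namespace CfsgLib.Coset.J4

variable {G : Type*} [Group G] (E : Gens G)

/-- The sextet word. -/
noncomputable def uWv : List Nat := tW Dat.uWL

/-- The sextet element. -/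
noncomputable def Gens.u : G := E.TF.prodT uWv

/-- The state of an optional permutation index and word. -/
noncomputable def stI (w : List Nat) : St := (pone, w)

/-- The context of the derivation. -/
def ctxJ : Ctx where
  P := pTab
  S := (1771, Dat.sextT)
  B := Dat.basisL
  D := Dat.funcL
  rels := Dat.relL
  push := Dat.pushL
  dec := Dat.decT
  nodes := Dat.nodeL
  ents := Dat.entT

/-- The number of an index below the table length. -/
noncomputable def okL (l : List Nat) : Bool := allList (fun i => Nat.ble (Nat.add i 1) pTab.1) l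

theorem val_tW {l : List Nat} (h : okL l = true) : ∀ a ∈ tW l, E.TF.Val a := by
  intro a ha
  obtain ⟨i, hi, rfl⟩ := List.mem_map.mp ha
  exact val_gP E i (Nat.ble_eq.mp (allList_iff.mp h i hi))

theorem val_uW : ∀ a ∈ uWv, E.TF.Val a := val_tW E (by decide +kernel)

theorem val_map {l : List Nat} (h : ∀ a ∈ l, E.TF.Val a) {g : Nat} (hg : E.TF.Val g) :
    ∀ a ∈ l.map (fun a => pmul a g), E.TF.Val a := by
  intro a ha
  obtain ⟨b, hb, rfl⟩ := List.mem_map.mp ha
  exact E.TF.val_pmul (h b hb) hg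

theorem eq_of_cert {v w : List Nat} (hv : ∀ a ∈ v, E.TF.Val a) (hw : ∀ a ∈ w, E.TF.Val a)
    {oA oB : List Op} (h : checkEq rules pTab (pone, v) (pone, w) oA oB = true) :
    E.TF.prodT v = E.TF.prodT w := by
  have e := E.TF.checkEq_sound (rules_hold E) (val_gP E) (A := (pone, v)) (B := (pone, w))
    ⟨E.TF.val_pone, hv⟩ ⟨E.TF.val_pone, hw⟩ h
  simpa [TFrame.sval, E.TF.ph_pone] using e

theorem u_def : E.u = (E.y * (((E.y * E.x) ^ 4 * E.y⁻¹ * E.x)⁻¹ * E.t *
    ((E.y * E.x) ^ 4 * E.y⁻¹ * E.x))) ^ 3 := by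
  have h5 : gP (ix 5) = wordP [1,0,1,0,1,0,1,0,2,0] := named_words.2.2.2.2.2.2.1
  have hu : uWv = [pmul (pmul (gP (ix 5)) cY) cY, pmul (gP (ix 5)) cY, gP (ix 5)] := by
    decide +kernel
  obtain ⟨vY, eY⟩ := val_cs E 1 (by norm_num)
  have v5 : E.TF.Val (gP (ix 5)) := val_gP E _ (by decide +kernel)
  have e5 := ph_word E h5 (by decide)
  simp only [List.map_cons, List.map_nil, List.prod_cons, List.prod_nil, List.getD_cons_zero,
    List.getD_cons_succ, mul_one] at e5
  have e1 : (E.y * E.x) ^ 4 * E.y⁻¹ * E.x = E.TF.ph (gP (ix 5)) := by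
    rw [e5]; simp only [pow_succ, pow_zero, one_mul, mul_assoc]
  have eY' : E.TF.ph cY = E.y := eY
  have vY' : E.TF.Val cY := vY
  rw [Gens.u, hu, e1]
  simp only [TFrame.prodT, List.map_cons, List.map_nil, List.prod_cons, List.prod_nil, mul_one,
    E.TF.T_pmul (E.TF.val_pmul v5 vY') vY', E.TF.T_pmul v5 vY', eY']
  set c := E.TF.T (gP (ix 5)) with hc
  rw [show (E.TF.ph (gP (ix 5)))⁻¹ * E.t * E.TF.ph (gP (ix 5)) = c from rfl, pow_succ, pow_two]
  calc E.y⁻¹ * (E.y⁻¹ * c * E.y) * E.y * (E.y⁻¹ * c * E.y * c)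
      = (E.y * E.y * E.y)⁻¹ * (E.y * c * (E.y * c) * (E.y * c)) := by group
    _ = _ := by rw [yyy E, inv_one, one_mul]

theorem u_sq : E.u * E.u = 1 := by
  have h := eq_of_cert E (val_uW E) (w := uWv.reverse)
    (fun a ha => val_uW E a (List.mem_reverse.mp ha))
    (oA := Dat.opsA_usq) (oB := Dat.opsB_usq) (by decide +kernel)
  rw [TFrame.prodT_reverse] at h
  exact mul_eq_one_iff_eq_inv.mpr h

theorem u_stab {k : Nat} {w : List Nat} (hk : k = wordP w) (hw : ∀ l ∈ w, l < 3) {p : M24m}
    (hp : RepP k p) {oA oB : List Op}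
    (h : checkEq rules pTab (pone, uWv.map fun a => pmul a k) (pone, uWv) oA oB = true) :
    E.u * E.φ p = E.φ p * E.u := by
  have vk : E.TF.Val k := hk ▸ (val_word E w hw).1
  have e := eq_of_cert E (val_map E (val_uW E) vk) (val_uW E) h
  rw [E.TF.prodT_map (val_uW E) vk] at e
  have ek : E.TF.ph k = E.φ p := E.TF.ph_eq (p := p) hp
  rw [ek] at e
  calc E.u * E.φ p = E.φ p * ((E.φ p)⁻¹ * E.u * E.φ p) := by group
    _ = E.φ p * E.u := by rw [show (E.φ p)⁻¹ * E.u * E.φ p = E.u from e]

theorem rep_g1 : RepP (gP (ix 7)) g1p := by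
  intro i
  revert i
  decide +kernel

theorem rep_g2 : RepP (gP (ix 8)) g2p := by
  intro i
  revert i
  decide +kernel

/-- The frame of the sextets. -/
noncomputable def Gens.UF (E : Gens G) : UFrame G where
  toTFrame := E.TF
  u := E.u
  uu := u_sq E
  stabU p q a b hp hq h := by
    refine conj_eq_of_fix E.φ E.u S0 {g1p, g2p} (fun hr hm => stab_sextet hr hm) mem_S0_lt ?_ p q ?_
    · rintro g (rfl | rfl)
      · exact ⟨g1p_mem, u_stab E named_words.2.2.2.2.2.2.2.1 (by decide) rep_g1
          (oA := Dat.opsA_g1) (oB := Dat.opsB_g1) (by decide +kernel)⟩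
      · exact ⟨g2p_mem, u_stab E named_words.2.2.2.2.2.2.2.2 (by decide) rep_g2
          (oA := Dat.opsA_g2) (oB := Dat.opsB_g2) (by decide +kernel)⟩
    · intro m hm
      obtain ⟨m', hm', e⟩ := (sextEq_iff.mp h) m ((sext0_eq m).mp hm)
      exact ⟨m', (sext0_eq m').mpr hm', by rw [← pimg_eq_imgP hp, ← pimg_eq_imgP hq, e]⟩

theorem prodT_uW {g : Nat} (hg : E.TF.Val g) :
    E.TF.prodT (uWv.map fun a => pmul a g) = E.UF.U g := by
  rw [E.TF.prodT_map (val_uW E) hg]; rfl

theorem u_base : E.UF.u * E.UF.U (gP (ix 9)) = E.UF.U (gP (ix 10)) := by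
  have v9 : E.TF.Val (gP (ix 9)) := val_gP E _ (by decide +kernel)
  have v10 : E.TF.Val (gP (ix 10)) := val_gP E _ (by decide +kernel)
  have va := val_tW E (l := Dat.faL) (by decide +kernel)
  have vb := val_tW E (l := Dat.fbL) (by decide +kernel)
  have vq := val_tW E (l := Dat.qwL) (by decide +kernel)
  have h1 := eq_of_cert E (val_uW E) va (oA := Dat.opsA_fa) (oB := Dat.opsB_fa) (by decide +kernel)
  have h2 := eq_of_cert E (val_map E (val_uW E) v9) vb (oA := Dat.opsA_fb) (oB := Dat.opsB_fb)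
    (by decide +kernel)
  have h3 := eq_of_cert E (v := tW Dat.faL ++ tW Dat.fbL)
    (fun a ha => (List.mem_append.mp ha).elim (va a) (vb a)) vq
    (oA := Dat.opsA_sum) (oB := Dat.opsB_sum) (by decide +kernel)
  have h4 := eq_of_cert E vq (val_map E (val_uW E) v10) (oA := Dat.opsA_fq) (oB := Dat.opsB_fq)
    (by decide +kernel)
  rw [← prodT_uW E v9, ← prodT_uW E v10, show E.UF.u = E.TF.prodT uWv from rfl, h1, h2,
    ← E.TF.prodT_append, h3, h4]

theorem udata : UData E.UF ctxJ.P ctxJ.S ctxJ.B ctxJ.D (ix 9) (ix 10) where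
  valP := val_gP E
  hR := by decide +kernel
  hQ := by decide +kernel
  base := u_base E
  sums := ⟨Dat.sumT, by decide +kernel⟩
  pairs := ⟨Dat.pairL, by decide +kernel⟩
  tab := by decide +kernel
  gens := by
    intro p
    have hp : (p : Equiv.Perm (Fin 24)) ∈ M24m := p.2
    refine Subgroup.closure_mono ?_ hp
    have h : pTab.2.get 1 = cX ∧ pTab.2.get 2 = cY := by decide +kernel
    intro g hg
    simp only [Set.mem_insert_iff, Set.mem_singleton_iff] at hg
    rcases hg with rfl | rfl
    · exact ⟨_, List.mem_cons_self, by rw [show ctxJ.P.2.get 1 = cX from h.1]; exact repX⟩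
    · exact ⟨_, List.mem_cons_of_mem _ List.mem_cons_self,
        by rw [show ctxJ.P.2.get 2 = cY from h.2]; exact repY⟩
  hX := by decide +kernel
  hY := by decide +kernel

/-- The check of one push against the table and the certificate. -/
noncomputable def pushOK (e : Nat × Nat × El) (p : Nat × Nat × Nat × Nat) (oA oB : List Op) : Bool :=
  cond (Nat.ble (Nat.add p.1 1) pTab.1) (cond (Nat.ble (Nat.add p.2.1 1) pTab.1)
    (cond (Nat.ble (Nat.add p.2.2.1 1) pTab.1) (cond (Nat.ble (Nat.add p.2.2.2 1) ctxJ.S.1)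
      (cond (Nat.ble (Nat.add e.2.1 1) ctxJ.S.1)
      (cond (sextEq (gP p.1) (sPerm pTab ctxJ.S e.2.1))
        (cond (sextEq (gP p.2.1) (sPerm pTab ctxJ.S p.2.2.2))
          (cond (Nat.beq e.2.2.1 p.2.2.1) (cond (Nat.beq e.2.2.2 (sCo ctxJ.S p.2.2.2))
            (checkEq rules pTab (pone, pone :: (uWv.map fun a => pmul a (gP p.1)) ++ [pone])
              (gP p.2.2.1, uWv.map fun a => pmul a (gP p.2.1)) oA oB) false) false) false) false)
      false) false) false) false) false

theorem push_sound {e : Nat × Nat × El} {p : Nat × Nat × Nat × Nat} {oA oB : List Op}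
    (h : pushOK e p oA oB = true) :
    E.UF.t * E.UF.U (sPerm ctxJ.P ctxJ.S e.2.1) * E.UF.t = E.UF.val ctxJ (ctxJ.el e.2.2) := by
  unfold pushOK at h
  simp only [cond_false_eq_true] at h
  obtain ⟨h0, h1, h2, h3, h4, h5, h6, h7, h8, hc⟩ := h
  have hd := udata E
  have vg := val_gP E _ (Nat.ble_eq.mp h0)
  have vg' := val_gP E _ (Nat.ble_eq.mp h1)
  have vp := val_gP E _ (Nat.ble_eq.mp h2)
  have vl : ∀ a ∈ pone :: (uWv.map fun a => pmul a (gP p.1)) ++ [pone], E.TF.Val a := by
    intro a ha
    rcases List.mem_append.mp ha with ha | ha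
    · rcases List.mem_cons.mp ha with rfl | ha
      · exact E.TF.val_pone
      · exact val_map E (val_uW E) vg a ha
    · obtain rfl := List.mem_singleton.mp ha
      exact E.TF.val_pone
  have e1 := E.TF.checkEq_sound (rules_hold E) (val_gP E)
    (A := (pone, pone :: (uWv.map fun a => pmul a (gP p.1)) ++ [pone]))
    (B := (gP p.2.2.1, uWv.map fun a => pmul a (gP p.2.1)))
    ⟨E.TF.val_pone, vl⟩ ⟨vp, val_map E (val_uW E) vg'⟩ hc
  have et : E.TF.T pone = E.t := by rw [TFrame.T, E.TF.ph_pone]; simp [Gens.TF]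
  simp only [TFrame.sval, E.TF.ph_pone, one_mul, E.TF.prodT_append, prodT_uW E vg'] at e1
  have e2 : E.TF.prodT (pone :: uWv.map fun a => pmul a (gP p.1)) = E.t * E.UF.U (gP p.1) := by
    rw [← prodT_uW E vg]
    simp [TFrame.prodT, et]
  have e3 : E.TF.prodT [pone] = E.t := by simp [TFrame.prodT, et]
  rw [e2, e3] at e1
  have k1 : E.UF.U (sPerm ctxJ.P ctxJ.S e.2.1) = E.UF.U (gP p.1) :=
    (E.UF.U_eq vg (hd.val_s (Nat.ble_eq.mp h4)) h5).symm
  have k2 : E.UF.U (gP p.2.1) = E.UF.E ctxJ.B (sCo ctxJ.S p.2.2.2) :=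
    (E.UF.U_eq vg' (hd.val_s (Nat.ble_eq.mp h3)) h6).trans (hd.U_table _ (Nat.ble_eq.mp h3))
  rw [k1]
  refine e1.trans ?_
  rw [k2, ← Nat.eq_of_beq_eq_true h8, ← Nat.eq_of_beq_eq_true h7]
  rfl

/-- The nine certificates. -/
def pushOps : List (List Op × List Op) :=
  [(Dat.opsA_push9, Dat.opsB_push9), (Dat.opsA_push12, Dat.opsB_push12),
   (Dat.opsA_push16, Dat.opsB_push16), (Dat.opsA_push21, Dat.opsB_push21),
   (Dat.opsA_push27, Dat.opsB_push27), (Dat.opsA_push36, Dat.opsB_push36),
   (Dat.opsA_push41, Dat.opsB_push41), (Dat.opsA_push49, Dat.opsB_push49),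
   (Dat.opsA_push54, Dat.opsB_push54)]

theorem push_all : ∀ i < 9, pushOK (Dat.pushL.getD i (0, 0, 0, 0)) (Dat.puL.getD i (0, 0, 0, 0))
    (pushOps.getD i ([], [])).1 (pushOps.getD i ([], [])).2 = true := by
  decide +kernel

theorem rel_values :
    Dat.relL.map (fun r => r.1.map fun w => gP w.1) =
      [[pmul (pmul (gP (ix 2)) cY) cY, pmul (gP (ix 2)) cY, gP (ix 2)],
       [pone, gP (ix 4), pone, gP (ix 3)], uWv] ∧
    Dat.relL.map (fun r => ctxJ.el r.2) = [(pone, 0), (gP (ix 1), 0), (pone, 1)] := by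
  decide +kernel

theorem cdata : @CData G _ E.UF ctxJ (ix 9) (ix 10) where
  hd := udata E
  ok := by decide +kernel
  parent := by
    have h : ∀ m < Dat.nodeL.length, 1 ≤ m → (Dat.nodeL.getD m (0, 0, 0)).1 < m := by decide +kernel
    exact fun m hm hlt => h m hlt hm
  rel := by
    intro r hr0
    have hd := udata E
    have hr : r ∈ Dat.relL := hr0
    clear hr0
    obtain ⟨h1, h2⟩ := rel_values
    obtain ⟨i, hi, rfl⟩ := List.getElem_of_mem hr
    have h1' := congrArg (·.getD i []) h1
    have h2' := congrArg (·.getD i (0, 0)) h2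
    have hi' : i < Dat.relL.length := hi
    simp only [List.getD_eq_getElem?_getD, List.getElem?_map, List.getElem?_eq_getElem hi',
      Option.map_some, Option.getD_some] at h1' h2'
    show E.TF.prodT (Dat.relL[i].1.map fun w => gP w.1) = E.UF.val ctxJ (ctxJ.el Dat.relL[i].2)
    rw [h1', h2']
    have hlen : Dat.relL.length = 3 := by decide +kernel
    have et : E.TF.T pone = E.t := by rw [TFrame.T, E.TF.ph_pone]; simp [Gens.TF]
    have hrule : ∀ k < 14, E.TF.Holds (rules.getD k ([], [], 0)) := fun k hk => by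
      have hk' : k < rules.length := by rw [rules_eq]; exact hk
      rw [List.getD_eq_getElem rules _ hk']
      exact rules_hold E _ (List.getElem_mem hk')
    have hi3 : i < 3 := hlen ▸ hi'
    clear hi hr
    interval_cases i
    · have h := (hrule 0 (by norm_num)).2.2.2
      rw [rules_eq] at h
      simp only [List.getD_cons_zero, TFrame.prodT, List.map_cons, List.map_nil, List.prod_cons,
        List.prod_nil, mul_one, E.TF.ph_pone, one_mul] at h
      show _ = E.UF.val ctxJ (pone, 0)
      rw [E.UF.val_perm]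
      show _ = E.TF.ph pone
      rw [E.TF.ph_pone]
      simp only [List.getElem?_cons_zero, Option.getD_some, TFrame.prodT, List.map_cons,
        List.map_nil, List.prod_cons, List.prod_nil, mul_one]
      rw [← mul_assoc, h, E.TF.T_sq]
    · have h := (hrule 12 (by norm_num)).2.2.2
      rw [rules_eq] at h
      simp only [List.getD_cons_succ, List.getD_cons_zero, TFrame.prodT, List.map_cons,
        List.map_nil, List.prod_cons, List.prod_nil, mul_one] at h
      show _ = E.UF.val ctxJ (gP (ix 1), 0)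
      rw [E.UF.val_perm]
      show _ = E.TF.ph (gP (ix 1))
      simp only [List.getElem?_cons_succ, List.getElem?_cons_zero, Option.getD_some, TFrame.prodT,
        List.map_cons, List.map_nil, List.prod_cons, List.prod_nil, mul_one]
      rw [← mul_assoc, h]
      simp only [mul_assoc]
      rw [← mul_assoc (E.TF.T pone) (E.TF.T pone), E.TF.T_sq, one_mul, E.TF.T_sq, mul_one]
    · show _ = E.UF.val ctxJ (pone, 1)
      have hB : ctxJ.B.getD 0 0 = pone := by decide +kernel
      rw [UFrame.val, UFrame.ev, show (1 : Nat) = Nat.shiftLeft 1 0 from rfl,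
        E.UF.E_two_pow _ (by norm_num), hB, E.UF.U_pone]
      show _ = E.TF.ph pone * E.u
      rw [E.TF.ph_pone, one_mul]
      rfl
  push := by
    intro e he
    obtain ⟨i, hi, rfl⟩ := List.getElem_of_mem he
    have hlen : Dat.pushL.length = 9 := by decide +kernel
    have hi' : i < Dat.pushL.length := hi
    have h := push_all i (hlen ▸ hi')
    rw [List.getD_eq_getElem Dat.pushL _ hi'] at h
    exact push_sound E h

theorem closure_ok : ctxJ.checkAll Dat.entN = true := by decide +kernel

/-- All facts of the derivation. -/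
theorem known_all : Known (cdata E) Dat.entN := (cdata E).known closure_ok _ le_rfl

end CfsgLib.Coset.J4
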