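import Cfsg.Agent.Coset.J4.Mod
import Cfsg.Agent.Coset.J4.Model
import Cfsg.Agent.Coset.J4.Count
import Cfsg.Agent.Golay.Mathieu

/-!
The subgroup `2^11:M24` of the presented Janko group: injectivity, its order, and the hypotheses
of the simplicity criterion.
-/

set_option autoImplicit false
set_option maxRecDepth 20000

namespace CfsgLib.Coset.J4

section Kernel

/-- Every nonzero vector is a table coordinate (second field zero) or becomes one after adding its
image under an entry of the permutation table (the second field less one). -/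
noncomputable def checkIrr (P : PTab) (S : STab) (B D : List Nat) (J : Tr Nat) : Bool :=
  allBelow 11 2048 fun c => cond (Nat.beq c 0) true
    (cond (Nat.ble (Nat.add (field (J.get c) 0) 1) S.1)
      (cond (Nat.beq (field (J.get c) 1) 0) (Nat.beq (sCo S (field (J.get c) 0)) c)
        (cond (Nat.ble (field (J.get c) 1) P.1)
          (Nat.beq (sCo S (field (J.get c) 0))
            (Nat.xor c (actN B D (P.2.get (Nat.sub (field (J.get c) 1) 1)) c))) false)) false)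

end Kernel

/-- The model group is simple. -/
theorem M24m_simple : IsSimpleGroup M24m := by
  have e : M24m.map ePhi.permCongrHom.toMonoidHom = Cfsg.M24 :=
    Subgroup.eq_of_le_of_card_ge map_le (by
      rw [Subgroup.card_map_of_injective (K := M24m)
        (show Function.Injective ePhi.permCongrHom.toMonoidHom from ePhi.permCongrHom.injective),
        card_M24m, CfsgLib.Golay.card_M24])
  haveI := CfsgLib.Golay.m24_simple
  haveI : Nontrivial M24m := by
    rw [← Finite.one_lt_card_iff_nontrivial, card_M24m]; norm_num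
  exact ((Subgroup.equivMapOfInjective M24m ePhi.permCongrHom.toMonoidHom
    ePhi.permCongrHom.injective).trans (MulEquiv.subgroupCongr e)).isSimpleGroup

attribute [local irreducible] pmul pone pimg coordN

variable {G : Type*} [Group G] {F : UFrame G}

/-- An element outside the eleven-dimensional part that is reached from it by `t`. -/
def UFrame.Push (F : UFrame G) (P : PTab) (S : STab) (B : List Nat) : Prop :=
  ∃ π c s, F.Val π ∧ s < S.1 ∧ (∃ i < 24, pget π i ≠ i) ∧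
    F.t * F.U (sPerm P S s) * F.t = F.ev B (π, c)

theorem UFrame.E_mod (B : List Nat) (c : Nat) : F.E B (c % 2048) = F.E B c := by
  unfold UFrame.E
  refine congrArg List.prod (List.map_congr_left fun k hk => ?_)
  have hk' : k < 11 := (by decide : ∀ j ∈ pts11, j < 11) k hk
  unfold UFrame.bitU
  rw [show c % 2048 = c % 2 ^ 11 from rfl, Nat.testBit_mod_two_pow]
  simp [hk']

variable {P : PTab} {S : STab} {B D : List Nat} {R Q : Nat}

theorem UData.E_inv (hd : UData F P S B D R Q) (c : Nat) : (F.E B c)⁻¹ = F.E B c := by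
  refine inv_eq_of_mul_eq_one_right ?_
  rw [← hd.E_xor, show Nat.xor c c = 0 from Nat.xor_self c, F.E_zero]

theorem UData.E_comm (hd : UData F P S B D R Q) (c d : Nat) :
    F.E B c * F.E B d = F.E B d * F.E B c := by
  rw [← hd.E_xor, ← hd.E_xor, show Nat.xor c d = Nat.xor d c from Nat.xor_comm c d]

/-- The eleven-dimensional part. -/
def UData.vSub (hd : UData F P S B D R Q) : Subgroup G where
  carrier := Set.range (F.E B)
  one_mem' := ⟨0, F.E_zero B⟩
  mul_mem' := by rintro _ _ ⟨c, rfl⟩ ⟨d, rfl⟩; exact ⟨Nat.xor c d, hd.E_xor c d⟩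
  inv_mem' := by rintro _ ⟨c, rfl⟩; exact ⟨c, (hd.E_inv c).symm⟩

theorem UData.E_mem (hd : UData F P S B D R Q) (c : Nat) : F.E B c ∈ hd.vSub := ⟨c, rfl⟩

theorem UData.v_comm (hd : UData F P S B D R Q) {v w : G} (hv : v ∈ hd.vSub) (hw : w ∈ hd.vSub) :
    v * w = w * v := by
  obtain ⟨c, rfl⟩ := hv
  obtain ⟨d, rfl⟩ := hw
  exact hd.E_comm c d

theorem UData.conj_phi (hd : UData F P S B D R Q) (p : F.M) {v : G} (hv : v ∈ hd.vSub) :
    F.φ p * v * (F.φ p)⁻¹ ∈ hd.vSub := by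
  obtain ⟨c, rfl⟩ := hv
  obtain ⟨a, ha⟩ := exists_repP ((p⁻¹ : F.M) : Equiv.Perm (Fin 24))
  have h := hd.conj_E (g := a) ⟨p⁻¹, ha⟩ c
  rw [F.ph_eq (p := p⁻¹) ha, map_inv, inv_inv] at h
  exact ⟨_, h.symm⟩

theorem UData.u_eq (hd : UData F P S B D R Q) : F.E B 1 = F.u := by
  have h0 : 0 < S.1 := lt_of_lt_of_le (by norm_num) hd.eleven_le
  have h := hd.tab
  unfold checkTab at h
  simp only [cond_false_eq_true] at h
  have e := F.E_two_pow B (k := 0) (by norm_num)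
  rw [show Nat.shiftLeft 1 0 = 1 from rfl, (hd.tab_at h0).2.2.2.2.2.2 (by norm_num),
    Nat.eq_of_beq_eq_true h.2.1, F.U_pone] at e
  exact e

theorem UData.u_mem (hd : UData F P S B D R Q) : F.u ∈ hd.vSub := ⟨1, hd.u_eq⟩

/-- The subgroup `2^11:M24`. -/
def UData.hSub (hd : UData F P S B D R Q) : Subgroup G where
  carrier := {g | ∃ p : F.M, ∃ v ∈ hd.vSub, F.φ p * v = g}
  one_mem' := ⟨1, 1, one_mem _, by rw [map_one, one_mul]⟩
  mul_mem' := by
    rintro _ _ ⟨p, v, hv, rfl⟩ ⟨q, w, hw, rfl⟩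
    refine ⟨p * q, F.φ q⁻¹ * v * (F.φ q⁻¹)⁻¹ * w, mul_mem (hd.conj_phi q⁻¹ hv) hw, ?_⟩
    simp only [map_mul, map_inv]
    group
  inv_mem' := by
    rintro _ ⟨p, v, hv, rfl⟩
    refine ⟨p⁻¹, F.φ p * v⁻¹ * (F.φ p)⁻¹, hd.conj_phi p (inv_mem hv), ?_⟩
    simp only [map_inv]
    group

theorem UData.vSub_le (hd : UData F P S B D R Q) : hd.vSub ≤ hd.hSub :=
  fun v hv => ⟨1, v, hv, by rw [map_one, one_mul]⟩

theorem UData.phi_mem (hd : UData F P S B D R Q) (p : F.M) : F.φ p ∈ hd.hSub :=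
  ⟨p, 1, one_mem _, mul_one _⟩

theorem UData.ph_mem (hd : UData F P S B D R Q) {a : Nat} (ha : F.Val a) :
    F.ph a ∈ hd.hSub := by
  obtain ⟨p, hp⟩ := ha
  rw [F.ph_eq hp]
  exact hd.phi_mem p

theorem UData.E_mem_hSub (hd : UData F P S B D R Q) (c : Nat) : F.E B c ∈ hd.hSub :=
  hd.vSub_le (hd.E_mem c)

theorem UData.ev_mem (hd : UData F P S B D R Q) {a : Nat} (ha : F.Val a) (c : Nat) :
    F.ev B (a, c) ∈ hd.hSub := mul_mem (hd.ph_mem ha) (hd.E_mem_hSub c)

theorem UData.u_mem_hSub (hd : UData F P S B D R Q) : F.u ∈ hd.hSub := hd.vSub_le hd.u_mem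

theorem UData.U_mem (hd : UData F P S B D R Q) {a : Nat} (ha : F.Val a) :
    F.U a ∈ hd.hSub :=
  mul_mem (mul_mem (inv_mem (hd.ph_mem ha)) hd.u_mem_hSub) (hd.ph_mem ha)

theorem UData.mem_hSub_iff (hd : UData F P S B D R Q) {g : G} :
    g ∈ hd.hSub ↔ ∃ a c, F.Val a ∧ c < 2048 ∧ g = F.ev B (a, c) := by
  constructor
  · rintro ⟨p, v, ⟨c, rfl⟩, rfl⟩
    obtain ⟨a, ha⟩ := exists_repP (p : Equiv.Perm (Fin 24))
    refine ⟨a, c % 2048, ⟨p, ha⟩, Nat.mod_lt _ (by norm_num), ?_⟩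
    show _ = F.ph a * F.E B (c % 2048)
    rw [F.ph_eq ha, F.E_mod]
  · rintro ⟨a, c, ha, -, rfl⟩
    exact hd.ev_mem ha c

theorem UData.conj_hSub (hd : UData F P S B D R Q) {h v : G} (hh : h ∈ hd.hSub)
    (hv : v ∈ hd.vSub) : h * v * h⁻¹ ∈ hd.vSub := by
  obtain ⟨p, w, hw, rfl⟩ := hh
  have := hd.conj_phi p (mul_mem (mul_mem hw hv) (inv_mem hw))
  simpa [mul_inv_rev, mul_assoc] using this

theorem UData.M_cases (hd : UData F P S B D R Q) (hM : F.M = M24m) (N : Subgroup G)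
    (hN : ∀ p : F.M, ∀ x ∈ N, F.φ p * x * (F.φ p)⁻¹ ∈ N) :
    (∀ p : F.M, F.φ p ∈ N → p = 1) ∨ ∀ p : F.M, F.φ p ∈ N := by
  haveI : IsSimpleGroup F.M := hM ▸ M24m_simple
  have hn : (N.comap F.φ).Normal := ⟨fun n hn g => by
    show F.φ (g * n * g⁻¹) ∈ N
    rw [map_mul, map_mul, map_inv]
    exact hN g _ hn⟩
  rcases hn.eq_bot_or_eq_top with h | h
  · exact Or.inl fun p hp => Subgroup.mem_bot.mp (h ▸ (hp : p ∈ N.comap F.φ))
  · exact Or.inr fun p => (h ▸ Subgroup.mem_top p : p ∈ N.comap F.φ)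

theorem UData.not_central (hd : UData F P S B D R Q) (hu : F.u ≠ 1) :
    ¬ ∀ p : F.M, F.φ p * F.u = F.u * F.φ p := by
  intro h
  have key : ∀ a, F.Val a → F.U a = F.u := by
    rintro a ⟨p, hp⟩
    rw [UFrame.U, F.ph_eq hp, mul_assoc, ← h p, inv_mul_cancel_left]
  have e := hd.base
  rw [key _ (hd.valP _ hd.hR), key _ (hd.valP _ hd.hQ), F.uu] at e
  exact hu e.symm

theorem UData.phi_inj (hd : UData F P S B D R Q) (hM : F.M = M24m) (hu : F.u ≠ 1) :
    Function.Injective F.φ := by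
  rw [injective_iff_map_eq_one]
  rcases hd.M_cases hM ⊥ (fun p x hx => by rw [Subgroup.mem_bot.mp hx]; simp) with h | h
  · exact fun p hp => h p (Subgroup.mem_bot.mpr hp)
  · exact absurd (fun p => by rw [Subgroup.mem_bot.mp (h p)]; simp) (hd.not_central hu)

theorem UData.vSub_le_of_E (hd : UData F P S B D R Q) (hirr : ∃ J, checkIrr P S B D J = true)
    (N : Subgroup G) (hN : ∀ p : F.M, ∀ x ∈ N, F.φ p * x * (F.φ p)⁻¹ ∈ N) {c : Nat}
    (hc : c < 2048) (h0 : c ≠ 0) (h : F.E B c ∈ N) : hd.vSub ≤ N := by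
  obtain ⟨J, hJ⟩ := hirr
  have hk := of_allBelow hJ c hc
  have hb : Nat.beq c 0 = false := by
    rw [← Bool.not_eq_true]; exact fun e => h0 (Nat.eq_of_beq_eq_true e)
  rw [hb, cond_false, cond_false_eq_true] at hk
  obtain ⟨hs, hk⟩ := hk
  have hs' : field (J.get c) 0 < S.1 := Nat.ble_eq.mp hs
  have hUs : F.U (sPerm P S (field (J.get c) 0)) ∈ N := by
    rw [hd.U_table _ hs']
    cases hg : Nat.beq (field (J.get c) 1) 0 with
    | true => rw [hg, cond_true] at hk; rwa [Nat.eq_of_beq_eq_true hk]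
    | false =>
      rw [hg, cond_false, cond_false_eq_true] at hk
      obtain ⟨hle, hk⟩ := hk
      have hne : field (J.get c) 1 ≠ 0 := fun e => by simp [e] at hg
      have hlt : Nat.sub (field (J.get c) 1) 1 < P.1 :=
        lt_of_lt_of_le (Nat.sub_lt (Nat.pos_of_ne_zero hne) one_pos) (Nat.ble_eq.mp hle)
      have vg := hd.valP _ hlt
      obtain ⟨p, hp⟩ := vg
      rw [Nat.eq_of_beq_eq_true hk, hd.E_xor, ← hd.conj_E ⟨p, hp⟩, F.ph_eq hp]
      refine mul_mem h ?_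
      have := hN p⁻¹ _ h
      rwa [map_inv, inv_inv] at this
  have hu : F.u ∈ N := by
    obtain ⟨p, hp⟩ := hd.val_s hs'
    rw [UFrame.U, F.ph_eq hp] at hUs
    have := hN p _ hUs
    rwa [show F.φ p * ((F.φ p)⁻¹ * F.u * F.φ p) * (F.φ p)⁻¹ = F.u by group] at this
  rintro _ ⟨d, rfl⟩
  refine Subgroup.list_prod_mem N fun x hx => ?_
  obtain ⟨k, hk11, rfl⟩ := List.mem_map.mp hx
  unfold UFrame.bitU
  split_ifs
  · obtain ⟨p, hp⟩ := hd.val_B ((by decide : ∀ j ∈ pts11, j < 11) k hk11)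
    rw [UFrame.U, F.ph_eq hp]
    have := hN p⁻¹ _ hu
    rwa [map_inv, inv_inv] at this
  · exact one_mem _

theorem UData.E_eq_one (hd : UData F P S B D R Q) (hu : F.u ≠ 1)
    (hirr : ∃ J, checkIrr P S B D J = true) {c : Nat} (hc : c < 2048) (h : F.E B c = 1) :
    c = 0 := by
  by_contra h0
  have := hd.vSub_le_of_E hirr ⊥ (fun p x hx => by rw [Subgroup.mem_bot.mp hx]; simp) hc h0
    (Subgroup.mem_bot.mpr h)
  exact hu (Subgroup.mem_bot.mp (this hd.u_mem))

theorem UData.E_inj (hd : UData F P S B D R Q) (hu : F.u ≠ 1)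
    (hirr : ∃ J, checkIrr P S B D J = true) {c d : Nat} (hc : c < 2048) (hd' : d < 2048)
    (h : F.E B c = F.E B d) : c = d := by
  have e := hd.E_eq_one hu hirr (c := Nat.xor c d) (Nat.xor_lt_two_pow (n := 11) hc hd')
    (by rw [hd.E_xor, h]; nth_rw 1 [← hd.E_inv d]; exact inv_mul_cancel _)
  have e' : (c ^^^ d) ^^^ d = 0 ^^^ d := congrArg (· ^^^ d) e
  simpa [Nat.xor_assoc] using e'

theorem UData.phi_mem_vSub (hd : UData F P S B D R Q) (hM : F.M = M24m) (hu : F.u ≠ 1)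
    {p : F.M} (hp : F.φ p ∈ hd.vSub) : p = 1 := by
  rcases hd.M_cases hM hd.vSub (fun p x hx => hd.conj_phi p hx) with h | h
  · exact h p hp
  · exact absurd (fun q => hd.v_comm (h q) hd.u_mem) (hd.not_central hu)

theorem UData.ev_inj (hd : UData F P S B D R Q) (hM : F.M = M24m) (hu : F.u ≠ 1)
    (hirr : ∃ J, checkIrr P S B D J = true) {a b c d : Nat} {p q : F.M} (ha : RepP a p)
    (hb : RepP b q) (hc : c < 2048) (hd' : d < 2048) (h : F.ev B (a, c) = F.ev B (b, d)) :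
    p = q ∧ c = d := by
  change F.ph a * F.E B c = F.ph b * F.E B d at h
  rw [F.ph_eq ha, F.ph_eq hb] at h
  have e : p = q := by
    refine inv_mul_eq_one.mp (hd.phi_mem_vSub hM hu (p := p⁻¹ * q) ?_)
    rw [map_mul, map_inv, show (F.φ p)⁻¹ * F.φ q = F.E B c * (F.E B d)⁻¹ by
      rw [eq_mul_inv_iff_mul_eq, mul_assoc, ← h, inv_mul_cancel_left]]
    exact mul_mem (hd.E_mem c) (inv_mem (hd.E_mem d))
  subst e
  exact ⟨rfl, hd.E_inj hu hirr hc hd' (mul_left_cancel h)⟩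

theorem UData.card_hSub (hd : UData F P S B D R Q) (hM : F.M = M24m) (hu : F.u ≠ 1)
    (hirr : ∃ J, checkIrr P S B D J = true) : Nat.card hd.hSub = 501397585920 := by
  let f : F.M × Fin 2048 → hd.hSub :=
    fun x => ⟨F.φ x.1 * F.E B x.2, mul_mem (hd.phi_mem x.1) (hd.E_mem_hSub _)⟩
  have hf : Function.Bijective f := by
    constructor
    · rintro ⟨p, c⟩ ⟨q, d⟩ h
      have h' : F.φ p * F.E B c = F.φ q * F.E B d := congrArg Subtype.val h
      obtain ⟨a, ha⟩ := exists_repP (p : Equiv.Perm (Fin 24))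
      obtain ⟨b, hb⟩ := exists_repP (q : Equiv.Perm (Fin 24))
      obtain ⟨e1, e2⟩ := hd.ev_inj hM hu hirr ha hb c.isLt d.isLt
        (show F.ph a * F.E B c = F.ph b * F.E B d by rw [F.ph_eq ha, F.ph_eq hb, h'])
      rw [e1, Fin.ext e2]
    · rintro ⟨_, p, v, ⟨c, rfl⟩, rfl⟩
      exact ⟨(p, ⟨c % 2048, Nat.mod_lt _ (by norm_num)⟩), Subtype.ext (by
        show F.φ p * F.E B (c % 2048) = _; rw [F.E_mod])⟩
  rw [← Nat.card_eq_of_bijective f hf, Nat.card_prod, Nat.card_fin, hM, card_M24m]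

theorem UData.finite_hSub (hd : UData F P S B D R Q) (hM : F.M = M24m) (hu : F.u ≠ 1)
    (hirr : ∃ J, checkIrr P S B D J = true) : Finite hd.hSub :=
  Nat.finite_of_card_ne_zero (by rw [hd.card_hSub hM hu hirr]; norm_num)

theorem UData.mem_vSub_of_comm (hd : UData F P S B D R Q) (hM : F.M = M24m) (hu : F.u ≠ 1)
    {g : G} (hg : g ∈ hd.hSub) (hc : ∀ v ∈ hd.vSub, v * g = g * v) : g ∈ hd.vSub := by
  obtain ⟨p, w, hw, rfl⟩ := hg
  let C := Subgroup.centralizer (hd.vSub : Set G)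
  have hC : ∀ q : F.M, ∀ x ∈ C, F.φ q * x * (F.φ q)⁻¹ ∈ C := fun q x hx v hv => by
    have h := hx _ (hd.conj_phi q⁻¹ hv)
    rw [map_inv, inv_inv] at h
    have := congrArg (fun y => F.φ q * y * (F.φ q)⁻¹) h
    simpa [mul_assoc] using this
  rcases hd.M_cases hM C hC with h | h
  · have hp : F.φ p ∈ C := by
      have : F.φ p * w * w⁻¹ ∈ C :=
        mul_mem (fun v hv => hc v hv) (inv_mem fun v hv => hd.v_comm hv hw)
      rwa [mul_inv_cancel_right] at this
    rw [h p hp, map_one, one_mul]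
    exact hw
  · exact absurd (fun q => (h q F.u hd.u_mem).symm) (hd.not_central hu)

/-- A subgroup of `2^11:M24` normalised by it is trivial or contains the normal part. -/
theorem UData.normal_cases (hd : UData F P S B D R Q) (hM : F.M = M24m) (hu : F.u ≠ 1)
    (hirr : ∃ J, checkIrr P S B D J = true) (N : Subgroup G) (hle : N ≤ hd.hSub)
    (hN : ∀ h ∈ hd.hSub, ∀ x ∈ N, h * x * h⁻¹ ∈ N) : N = ⊥ ∨ hd.vSub ≤ N := by
  by_cases h : ∃ c, c < 2048 ∧ c ≠ 0 ∧ F.E B c ∈ N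
  · obtain ⟨c, hc, h0, hm⟩ := h
    exact Or.inr (hd.vSub_le_of_E hirr N (fun p => hN _ (hd.phi_mem p)) hc h0 hm)
  · push Not at h
    have small : ∀ x ∈ N, x ∈ hd.vSub → x = 1 := by
      rintro x hx ⟨c, rfl⟩
      by_cases h0 : c % 2048 = 0
      · rw [← F.E_mod, h0, F.E_zero]
      · exact absurd (by rw [F.E_mod]; exact hx) (h _ (Nat.mod_lt _ (by norm_num)) h0)
    refine Or.inl ((Subgroup.eq_bot_iff_forall N).mpr fun x hx => small x hx ?_)
    refine hd.mem_vSub_of_comm hM hu (hle hx) fun v hv => ?_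
    have h1 : x * v * x⁻¹ * v⁻¹ ∈ hd.vSub := mul_mem (hd.conj_hSub (hle hx) hv) (inv_mem hv)
    have h2 : x * v * x⁻¹ * v⁻¹ ∈ N := by
      rw [show x * v * x⁻¹ * v⁻¹ = x * (v * x⁻¹ * v⁻¹) by group]
      exact mul_mem hx (hN v (hd.vSub_le hv) _ (inv_mem hx))
    exact (mul_inv_eq_iff_eq_mul.mp (mul_inv_eq_one.mp (small _ h2 h1))).symm

theorem UFrame.t_inv : F.t⁻¹ = F.t := inv_eq_of_mul_eq_one_left F.tt

theorem UData.push_not_mem (hd : UData F P S B D R Q) (hM : F.M = M24m) (hu : F.u ≠ 1)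
    {π c : Nat} (hπ : F.Val π) (hi : ∃ i < 24, pget π i ≠ i) : F.ev B (π, c) ∉ hd.vSub := by
  intro hm
  obtain ⟨p, hp⟩ := hπ
  change F.ph π * F.E B c ∈ hd.vSub at hm
  rw [F.ph_eq hp] at hm
  have := hd.phi_mem_vSub hM hu ((Subgroup.mul_mem_cancel_right _ (hd.E_mem c)).mp hm)
  subst this
  obtain ⟨i, hi, hne⟩ := hi
  exact hne (by simpa using hp ⟨i, hi⟩)

/-- The normal part and a push generate. -/
theorem UData.hSub_le_of_push (hd : UData F P S B D R Q) (hM : F.M = M24m) (hu : F.u ≠ 1)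
    {N : Subgroup G} (hV : hd.vSub ≤ N) (hN : ∀ p : F.M, ∀ x ∈ N, F.φ p * x * (F.φ p)⁻¹ ∈ N)
    {π c : Nat} (hπ : F.Val π) (hi : ∃ i < 24, pget π i ≠ i) (hm : F.ev B (π, c) ∈ N) :
    hd.hSub ≤ N := by
  obtain ⟨p, hp⟩ := id hπ
  change F.ph π * F.E B c ∈ N at hm
  rw [F.ph_eq hp] at hm
  have hpN := (Subgroup.mul_mem_cancel_right _ (hV (hd.E_mem c))).mp hm
  rcases hd.M_cases hM N hN with h | h
  · refine absurd ?_ (hd.push_not_mem hM hu (c := c) hπ hi)
    show F.ph π * F.E B c ∈ hd.vSub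
    rw [F.ph_eq hp, h p hpN, map_one, one_mul]
    exact hd.E_mem c
  · rintro _ ⟨q, v, hv, rfl⟩
    exact mul_mem (h q) (hV hv)

/-- The involution does not normalise `2^11:M24`. -/
theorem UData.not_normalize (hd : UData F P S B D R Q) (hM : F.M = M24m) (hu : F.u ≠ 1)
    (hirr : ∃ J, checkIrr P S B D J = true) (hpush : F.Push P S B) :
    ¬ ∀ h ∈ hd.hSub, F.t * h * F.t ∈ hd.hSub := by
  intro ht
  obtain ⟨π, c, s, hπ, hs, hi, he⟩ := hpush
  have tt' : ∀ x : G, F.t * (F.t * x) = x := fun x => by rw [← mul_assoc, F.tt, one_mul]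
  let W : Subgroup G := hd.vSub.comap (MulAut.conj F.t).toMonoidHom
  have hW : ∀ x, x ∈ W ↔ F.t * x * F.t ∈ hd.vSub := fun x => by
    simp [W, F.t_inv]
  have hWN : ∀ p : F.M, ∀ x ∈ W, F.φ p * x * (F.φ p)⁻¹ ∈ W := by
    intro p x hx
    rw [hW] at hx ⊢
    have := hd.conj_hSub (ht _ (hd.phi_mem p)) hx
    simpa [mul_inv_rev, F.t_inv, mul_assoc, tt'] using this
  have hVW : ¬ hd.vSub ≤ W := fun hle => hd.push_not_mem hM hu (c := c) hπ hi (by
    rw [← he, ← hW]
    exact hle (hd.U_table s hs ▸ hd.E_mem _))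
  have none' : ∀ k ∈ hd.vSub, k ∈ W → k = 1 := by
    rintro k ⟨d, rfl⟩ hk
    by_cases h0 : d % 2048 = 0
    · rw [← F.E_mod, h0, F.E_zero]
    · exact absurd (hd.vSub_le_of_E hirr W hWN (Nat.mod_lt _ (by norm_num)) h0
        (by rw [F.E_mod]; exact hk)) hVW
  have hx : F.t * F.u * F.t ∈ hd.vSub := by
    refine hd.mem_vSub_of_comm hM hu (ht _ hd.u_mem_hSub) fun w hw => ?_
    set x := F.t * F.u * F.t with hxdef
    have h1 : x * w * x⁻¹ * w⁻¹ ∈ hd.vSub :=
      mul_mem (hd.conj_hSub (ht _ hd.u_mem_hSub) hw) (inv_mem hw)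
    have h2 : x * w * x⁻¹ * w⁻¹ ∈ W := by
      rw [hW]
      have e : F.t * (x * w * x⁻¹ * w⁻¹) * F.t =
          F.u * ((F.t * w * F.t) * F.u⁻¹ * (F.t * w * F.t)⁻¹) := by
        simp [hxdef, mul_inv_rev, F.t_inv, mul_assoc, tt']
      rw [e]
      exact mul_mem hd.u_mem (hd.conj_hSub (ht _ (hd.vSub_le hw)) (inv_mem hd.u_mem))
    exact (mul_inv_eq_iff_eq_mul.mp (mul_inv_eq_one.mp (none' _ h1 h2))).symm
  exact hu (none' _ hd.u_mem ((hW _).mpr hx))

theorem UData.t_not_mem (hd : UData F P S B D R Q) (hM : F.M = M24m) (hu : F.u ≠ 1)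
    (hirr : ∃ J, checkIrr P S B D J = true) (hpush : F.Push P S B) : F.t ∉ hd.hSub :=
  fun h => hd.not_normalize hM hu hirr hpush fun _ hx => mul_mem (mul_mem h hx) h

/-- No normal subgroup lies inside `2^11:M24`. -/
theorem UData.hcore (hd : UData F P S B D R Q) (hM : F.M = M24m) (hu : F.u ≠ 1)
    (hirr : ∃ J, checkIrr P S B D J = true) (hpush : F.Push P S B) :
    ∀ N : Subgroup G, N.Normal → N ≤ hd.hSub → N = ⊥ := by
  intro N hN hle
  rcases hd.normal_cases hM hu hirr N hle (fun h _ x hx => hN.conj_mem x hx h) with h | h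
  · exact h
  · exfalso
    obtain ⟨π, c, s, hπ, hs, hi, he⟩ := id hpush
    have hm : F.ev B (π, c) ∈ N := by
      rw [← he]
      nth_rw 2 [← F.t_inv]
      exact hN.conj_mem _ (h (hd.U_table s hs ▸ hd.E_mem _)) _
    have heq := le_antisymm hle
      (hd.hSub_le_of_push hM hu h (fun p x hx => hN.conj_mem x hx _) hπ hi hm)
    refine hd.not_normalize hM hu hirr hpush fun x hx => ?_
    rw [← heq] at hx ⊢
    nth_rw 2 [← F.t_inv]
    exact hN.conj_mem x hx _

/-- No retraction to a proper quotient. -/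
theorem UData.hret (hd : UData F P S B D R Q) (hM : F.M = M24m) (hu : F.u ≠ 1)
    (hirr : ∃ J, checkIrr P S B D J = true) (hpush : F.Push P S B) (M : Subgroup hd.hSub)
    [hMn : M.Normal] (hM' : M ≠ ⊤) (f : G →* hd.hSub ⧸ M) :
    ¬ ∀ h : hd.hSub, f h = QuotientGroup.mk h := by
  intro hf
  obtain ⟨π, c, s, hπ, hs, hi, he⟩ := hpush
  have hUs : F.U (sPerm P S s) ∈ hd.vSub := hd.U_table s hs ▸ hd.E_mem _
  obtain ⟨T, hT⟩ := QuotientGroup.mk_surjective (f F.t)
  let e : hd.hSub := ⟨F.ev B (π, c), hd.ev_mem hπ c⟩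
  let U : hd.hSub := ⟨_, hd.vSub_le hUs⟩
  have hrel : (QuotientGroup.mk e : hd.hSub ⧸ M) = QuotientGroup.mk (T * U * T⁻¹) := by
    rw [← hf e, QuotientGroup.mk_mul, QuotientGroup.mk_mul, QuotientGroup.mk_inv, hT, ← hf U,
      ← map_inv, ← map_mul, ← map_mul, F.t_inv]
    exact congrArg f he.symm
  have hN : ∀ h ∈ hd.hSub, ∀ x ∈ M.map hd.hSub.subtype, h * x * h⁻¹ ∈ M.map hd.hSub.subtype := by
    rintro h hh _ ⟨y, hy, rfl⟩
    exact ⟨⟨h, hh⟩ * y * ⟨h, hh⟩⁻¹, hMn.conj_mem y hy _, rfl⟩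
  rcases hd.normal_cases hM hu hirr _ (Subgroup.map_subtype_le M) hN with h | h
  · have hbot : M = ⊥ :=
      (Subgroup.map_eq_bot_iff_of_injective _ (Subgroup.subtype_injective _)).mp h
    rw [QuotientGroup.eq, hbot, Subgroup.mem_bot, inv_mul_eq_one] at hrel
    refine hd.push_not_mem hM hu (c := c) hπ hi ?_
    have e2 := congrArg Subtype.val hrel
    simp only [e, U, Subgroup.coe_mul, Subgroup.coe_inv] at e2
    rw [e2]
    exact hd.conj_hSub T.2 hUs
  · obtain ⟨y, hy, ey⟩ := h hUs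
    have hyU : y = U := Subtype.ext ey
    subst hyU
    have hm : F.ev B (π, c) ∈ M.map hd.hSub.subtype := by
      refine ⟨e, (QuotientGroup.eq_one_iff e).mp ?_, rfl⟩
      rw [hrel, QuotientGroup.mk_mul, QuotientGroup.mk_mul, (QuotientGroup.eq_one_iff _).mpr hy,
        mul_one, QuotientGroup.mk_inv, mul_inv_cancel]
    have hall := hd.hSub_le_of_push hM hu h (fun p => hN _ (hd.phi_mem p)) hπ hi hm
    refine hM' (eq_top_iff.mpr fun x _ => ?_)
    obtain ⟨z, hz, ez⟩ := hall x.2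
    exact Subtype.ext ez ▸ hz

/-- The subgroup `2^11:M24` is the closure of all values of pairs. -/
theorem UData.hSub_eq (hd : UData F P S B D R Q) :
    hd.hSub = Subgroup.closure {x | ∃ e : Nat × Nat, F.Val e.1 ∧ x = F.ev B e} := by
  refine le_antisymm (fun g hg => ?_) ?_
  · obtain ⟨a, c, ha, -, rfl⟩ := hd.mem_hSub_iff.mp hg
    exact Subgroup.subset_closure ⟨(a, c), ha, rfl⟩
  · rw [Subgroup.closure_le]
    rintro _ ⟨⟨a, c⟩, ha, rfl⟩
    exact hd.ev_mem ha c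

/-- Simplicity from the double coset data. -/
theorem UData.isSimple (hd : UData F P S B D R Q) (hM : F.M = M24m) (hu : F.u ≠ 1)
    (hirr : ∃ J, checkIrr P S B D J = true) (hpush : F.Push P S B) (dc : DC hd.hSub) :
    IsSimpleGroup G :=
  dc.simple (hd.hcore hM hu hirr hpush) fun M _ hM' f => hd.hret hM hu hirr hpush M hM' f

/-- The order from the double coset data. -/
theorem UData.card_G (hd : UData F P S B D R Q) (hM : F.M = M24m) (hu : F.u ≠ 1)
    (hirr : ∃ J, checkIrr P S B D J = true) (dc : DC hd.hSub) :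
    Nat.card G = 86775571046077562880 := by
  rw [dc.card_G, hd.card_hSub hM hu hirr]

end CfsgLib.Coset.J4
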