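import Cfsg.Agent.Coset.J4.CosetTab
import Cfsg.Agent.Coset.J4.DataTrioRank

/-!
At most 64512 permutations of the group fix the base trio: it has 3795 images.
-/

set_option autoImplicit false
set_option maxRecDepth 100000

namespace CfsgLib.Coset.J4

section Kernel

/-- The sum of the squares of the images of the octads. -/
noncomputable def trioKey (a : Nat) : Nat :=
  List.rec 0 (fun l _ r => Nat.add (Nat.mul (pimgL a l) (pimgL a l)) r) trioPts

/-- The key of a trio of the table. -/
noncomputable def keyI (i : Nat) : Nat := trioKey (covCtx.rInv cosTab i)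

/-- The listed order is a strictly increasing enumeration by keys. -/
noncomputable def checkRank : Bool :=
  allBelow 12 3795 fun i =>
    cond (Nat.ble (Nat.add (field (Dat.trioRankT.get i) 1) 1) 3795)
      (cond (Nat.beq (field (Dat.trioRankT.get (field (Dat.trioRankT.get i) 1)) 0) i)
        (cond (Nat.ble 3795 (Nat.add i 1)) true
          (Nat.ble (Nat.add (keyI (field (Dat.trioRankT.get i) 0)) 1)
            (keyI (field (Dat.trioRankT.get (Nat.add i 1)) 0)))) false) false

end Kernel

theorem rank_ok : checkRank = true := by decide +kernel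

theorem keyI_injective : ∀ i < 3795, ∀ j < 3795, keyI i = keyI j → i = j := by
  have h : ∀ i < 3795, _ := of_allBelow rank_ok
  simp only [cond_false_eq_true] at h
  let o : Nat → Nat := fun k => field (Dat.trioRankT.get k) 0
  let r : Nat → Nat := fun i => field (Dat.trioRankT.get i) 1
  have hmono : ∀ b a, a < b → b < 3795 → keyI (o a) < keyI (o b) := by
    intro b
    induction b with
    | zero => intro a ha; omega
    | succ b ih =>
      intro a ha hb
      have h3 := (h b (by omega)).2.2
      have hf : Nat.ble 3795 (Nat.add b 1) = false := by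
        rw [← Bool.not_eq_true, Nat.ble_eq]; exact Nat.not_le.mpr hb
      rw [hf, cond_false] at h3
      have h4 : keyI (o b) < keyI (o (b + 1)) := Nat.ble_eq.mp h3
      rcases Nat.lt_succ_iff_lt_or_eq.mp ha with ha | rfl
      · exact lt_trans (ih a ha (by omega)) h4
      · exact h4
  intro i hi j hj e
  have ei : o (r i) = i := Nat.eq_of_beq_eq_true (h i hi).2.1
  have ej : o (r j) = j := Nat.eq_of_beq_eq_true (h j hj).2.1
  rw [← ei, ← ej] at e
  rcases lt_trichotomy (r i) (r j) with hlt | heq | hgt
  · exact absurd e (Nat.ne_of_lt (hmono _ _ hlt (Nat.ble_eq.mp (h j hj).1)))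
  · rw [← ei, ← ej, heq]
  · exact absurd e.symm (Nat.ne_of_lt (hmono _ _ hgt (Nat.ble_eq.mp (h i hi).1)))

variable {G : Type*} [Group G] {F : UFrame G} {R Q : Nat}

theorem card_fixT_le {hc : @CData G _ F covCtx R Q} (hT : CosData hc cosTab) (hM : F.M = M24m) :
    Nat.card {q : F.M // (q : Equiv.Perm (Fin 24)) ∈ F.fixT} ≤ 64512 := by
  classical
  choose pv hpv using fun i : Fin 3795 => (hT.row i.isLt).2.1
  have hpts : ∀ l ∈ trioPts, ∀ i ∈ l, i < 24 := by decide +kernel
  have himg : ∀ (p : Equiv.Perm (Fin 24)) (a : Nat), RepP a p → ∀ l ∈ trioPts,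
      pimgL a l = imgP p (pimgL pone l) := by
    intro p a ha l hl
    rw [← pimgL_pone (hpts l hl) a]
    refine Nat.eq_of_testBit_eq fun j => ?_
    rw [Bool.eq_iff_iff, testBit_imgP, testBit_pimg]
    exact ⟨fun ⟨i, hi, hm, he⟩ => ⟨⟨i, hi⟩, hm, (ha ⟨i, hi⟩).symm.trans he⟩,
      fun ⟨i, hm, he⟩ => ⟨i, i.isLt, hm, (ha i).trans he⟩⟩
  have hl0 : trioPts.map (pimgL pone) = trio0 ∧ trio0.Nodup ∧ T0.toFinset = trio0.toFinset ∧
      ∀ m ∈ trio0.toFinset, m < 2 ^ 24 := by decide +kernel
  have hkey : ∀ (s : F.M) (i : Fin 3795), (s : Equiv.Perm (Fin 24)) ∈ F.fixT →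
      (∑ x ∈ trio0.toFinset.image (imgP (s * pv i : F.M).1), x * x) = keyI i := by
    intro s i hs
    have hs2 : trio0.toFinset.image (imgP (s : Equiv.Perm (Fin 24))) = trio0.toFinset := by
      rw [← hl0.2.2.1]; exact hs.2
    rw [show ((s * pv i : F.M).1 : Equiv.Perm (Fin 24)) = s.1 * (pv i).1 from rfl,
      Finset.image_congr (g := imgP (pv i).1 ∘ imgP s.1) fun m _ => imgP_mul _ _ m,
      ← Finset.image_image, hs2, Finset.sum_image, List.sum_toFinset _ hl0.2.1, ← hl0.1,
      List.map_map]
    · show _ = trioKey _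
      have key : ∀ L : List (List Nat), (∀ l ∈ L, l ∈ trioPts) →
          (L.map fun l => imgP (pv i).1 (pimgL pone l) * imgP (pv i).1 (pimgL pone l)).sum =
            List.rec 0 (fun l _ r => Nat.add
              (Nat.mul (pimgL (covCtx.rInv cosTab i) l) (pimgL (covCtx.rInv cosTab i) l)) r) L := by
        intro L
        induction L with
        | nil => intro _; rfl
        | cons l L ih =>
          intro hL
          rw [List.map_cons, List.sum_cons, ih fun x hx => hL x (List.mem_cons_of_mem _ hx),
            ← himg _ _ (hpv i) l (hL l (by simp))]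
          rfl
      exact key trioPts fun l hl => hl
    · intro a ha b hb hab
      have := congrArg (imgP (pv i).1⁻¹) hab
      rwa [← imgP_mul, ← imgP_mul, mul_inv_cancel, imgP_one (hl0.2.2.2 a ha),
        imgP_one (hl0.2.2.2 b hb)] at this
  let f : Fin 3795 × {q : F.M // (q : Equiv.Perm (Fin 24)) ∈ F.fixT} → F.M := fun x => x.2.1 * pv x.1
  have hf : Function.Injective f := by
    rintro ⟨i, s⟩ ⟨j, r⟩ e
    have e' : s.1 * pv i = r.1 * pv j := e
    have hij : i = j := Fin.ext (keyI_injective _ i.isLt _ j.isLt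
      (by rw [← hkey s.1 i s.2, ← hkey r.1 j r.2, e']))
    subst hij
    exact Prod.ext rfl (Subtype.ext (mul_right_cancel e'))
  have h := Nat.card_le_card_of_injective f hf
  rw [Nat.card_prod, Nat.card_fin, show Nat.card F.M = 244823040 from hM ▸ card_M24m] at h
  omega

end CfsgLib.Coset.J4
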