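import Cfsg.Agent.Coset.J4.Idents
import Cfsg.Agent.Coset.J4.Inj
import Cfsg.Agent.Coset.J4.DataIrrCheck
import Cfsg.Agent.Coset.J4.CountLabels
import Cfsg.Agent.Coset.J4.CountData
import Cfsg.Agent.Coset.J4.TrioCount
import Cfsg.Agent.Coset.J4.CoverCheck1
import Cfsg.Agent.Coset.J4.CoverCheck2
import Cfsg.Agent.Coset.J4.CoverCheck3
import Cfsg.Agent.Coset.J4.CoverCheck4
import Cfsg.Agent.Coset.J4.CoverCheck5
import Cfsg.Agent.Coset.J4.CoverCheck6

/-!
The double coset data of a group generated by elements satisfying the printed relations.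
-/

set_option autoImplicit false
set_option maxRecDepth 100000
set_option Elab.async false

namespace CfsgLib.Coset.J4

theorem cos_ok : covCtx.checkCos cosTab = true := by decide +kernel

theorem ctxJ_eq : ctxJ = covCtx := rfl

variable {G : Type*} [Group G] (E : Gens G)

theorem cosData : CosData (cdata E) cosTab := ⟨cos_ok⟩

theorem sub_eq : E.UF.sub ctxJ = (udata E).hSub := (udata E).hSub_eq.symm

theorem hirrJ : ∃ J, checkIrr ctxJ.P ctxJ.S ctxJ.B ctxJ.D J = true := Dat.irr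

theorem hpushJ : E.UF.Push ctxJ.P ctxJ.S ctxJ.B := by
  have hlen : 0 < Dat.pushL.length := by decide +kernel
  obtain ⟨h1, h2⟩ := (cdata E).ctx_push _ (List.getElem_mem hlen : Dat.pushL[0] ∈ ctxJ.push)
  refine ⟨_, _, _, (cdata E).val_el h2, h1, ?_, (cdata E).push _ (List.getElem_mem hlen)⟩
  exact (by decide +kernel : ∃ i < 24, pget (ctxJ.el (Dat.pushL.getD 0 (0, 0, 0, 0)).2.2).1 i ≠ i)

theorem t_not_memJ (hu : E.u ≠ 1) : E.UF.t ∉ E.UF.sub ctxJ := by
  rw [sub_eq]
  exact (udata E).t_not_mem rfl hu hirrJ (hpushJ E)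

/-- The representatives of the double cosets. -/
noncomputable def gJ (n : Fin 7) : G := E.UF.node ctxJ n

theorem node_one : E.UF.node ctxJ 1 = E.UF.t := by
  have h := (cdata E).ok
  unfold Ctx.checkCtx at h
  simp only [cond_false_eq_true] at h
  have hlt : 1 < ctxJ.nodes.length := by decide +kernel
  rw [(cdata E).node_step le_rfl hlt, Nat.eq_of_beq_eq_true h.2.2.1, eEq_iff h.2.2.2,
    E.UF.val_perm, E.UF.toTFrame.ph_pone, CData.node_zero, one_mul, one_mul]

/-- The label of a point seen from a node. -/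
noncomputable def labJ (n p : Nat) : Nat := if n = 0 then 1 else labOf (covTab n) p

theorem cover_ok : ∀ n, 1 ≤ n → n < 7 → covCtx.checkCover cosTab Dat.entN n (covTab n) = true := by
  intro n h1 h7
  interval_cases n
  exacts [cover1, cover2, cover3, cover4, cover5, cover6]

theorem fact_of_label : ∀ n < 7, ∀ p < 15180, labJ n p < 7 ∧
    ∃ u ∈ E.UF.sub ctxJ, ∃ v ∈ E.UF.sub ctxJ,
      E.UF.node ctxJ n * E.UF.aG ctxJ cosTab p * E.UF.t = u * E.UF.node ctxJ (labJ n p) * v := by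
  intro n hn p hp
  rcases Nat.eq_zero_or_pos n with rfl | h0
  · refine ⟨by rw [labJ, if_pos rfl]; norm_num, E.UF.aG ctxJ cosTab p, (cosData E).aG_mem hp, 1,
      one_mem _, ?_⟩
    rw [labJ, if_pos rfl, node_one, CData.node_zero, one_mul, mul_one]
  · rw [labJ, if_neg (Nat.ne_of_gt h0)]
    exact cover_sound (cosData E) (known_all E) (cover_ok n h0 hn) p hp

theorem countC_eq : ∀ n : Fin 6, (∑ m : Fin 7, countC n.succ m * 2 ^ (16 * m.val)) =
    packedRows.getD (n.val + 1) 0 ∧ ∀ m, countC n.succ m ≤ 15180 := by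
  decide +kernel

theorem count_lab (n m : Fin 7) :
    Nat.card {p : Fin 15180 // labJ n p.val = m.val} = countC n m := by
  rcases Nat.eq_zero_or_pos n.val with h | h
  · have hn : n = 0 := Fin.ext h
    subst hn
    simp only [labJ, Fin.val_zero, if_pos]
    by_cases hm : m.val = 1
    · rw [show m = 1 from Fin.ext hm]
      simp only [show ((1 : Fin 7) : Nat) = 1 from rfl]
      rw [show countC 0 1 = 15180 from rfl]
      simp
    · have : IsEmpty {p : Fin 15180 // (1 : Nat) = m.val} := ⟨fun x => hm x.2.symm⟩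
      rw [Nat.card_of_isEmpty]
      fin_cases m <;> first | rfl | exact absurd rfl hm
  · obtain ⟨k, hk⟩ : ∃ k : Fin 6, n = k.succ := ⟨⟨n.val - 1, by omega⟩, Fin.ext (by simp; omega)⟩
    subst hk
    simp only [labJ, Fin.val_succ, Nat.succ_ne_zero, if_false]
    have hV : ∀ p < 15180, labOf (covTab (k.val + 1)) p < 7 := by
      intro p hp
      have := of_allBelow (cover_ok (k.val + 1) (by omega) (by omega)) p hp
      unfold Ctx.coverAt Ctx.coverRow at this
      simp only [forceN_eq, cond_false_eq_true] at this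
      exact Nat.ble_eq.mp this.2.2.1
    exact count_of_labelSum hV (countC_eq k).2
      ((labelSums k.val k.isLt).trans (countC_eq k).1.symm) m

theorem lab_eq_zero {p : Nat} (hp : p < 15180) (h : labJ 1 p = 0) : p = 0 := by
  have h' := of_allBelow lab10_ok p hp
  rw [labJ, if_neg one_ne_zero] at h
  have e : field (Dat.coverT1.get p) 3 = 0 := h
  rw [e] at h'
  exact Nat.eq_of_beq_eq_true h'

variable (hu : E.u ≠ 1)
include hu

theorem node_not_mem (n : Fin 7) (hn : n ≠ 0) : E.UF.node ctxJ n ∉ E.UF.sub ctxJ := by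
  intro hmem
  have hpos : 0 < Nat.card {p : Fin 15180 // labJ n p.val = n.val} := by
    rw [count_lab]; exact countC_self_pos n hn
  obtain ⟨⟨p, hp⟩⟩ := (Nat.card_pos_iff.mp hpos).1
  obtain ⟨-, u, hu', v, hv, e⟩ := fact_of_label E n n.isLt p p.isLt
  rw [hp] at e
  refine t_not_memJ E hu ?_
  have e' : E.UF.t = (E.UF.node ctxJ n * E.UF.aG ctxJ cosTab p)⁻¹ * (u * E.UF.node ctxJ n * v) :=
    eq_inv_mul_of_mul_eq e
  rw [e']
  exact mul_mem (inv_mem (mul_mem hmem ((cosData E).aG_mem p.isLt))) (mul_mem (mul_mem hu' hmem) hv)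

theorem point_zero {p : Nat} (hp : p < 15180) (h : E.UF.aG ctxJ cosTab p ∈ E.UF.kSub ctxJ) :
    p = 0 := by
  obtain ⟨hl, u, hu', v, hv, e⟩ := fact_of_label E 1 (by norm_num) p hp
  refine lab_eq_zero hp (by_contra fun hne => ?_)
  refine node_not_mem E hu ⟨labJ 1 p, hl⟩ (fun h0 => hne (congrArg Fin.val h0)) ?_
  have e' : E.UF.node ctxJ (labJ 1 p) =
      u⁻¹ * (E.UF.node ctxJ 1 * E.UF.aG ctxJ cosTab p * E.UF.t) * v⁻¹ := by rw [e]; group
  show E.UF.node ctxJ (labJ 1 p) ∈ _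
  rw [e', node_one]
  exact mul_mem (mul_mem (inv_mem hu') h.2) (inv_mem hv)

theorem card_kSub : Nat.card (E.UF.kSub ctxJ) ≤ 64512 * 512 := by
  haveI := (udata E).finite_hSub rfl hu hirrJ
  let S := E.UF.fixT
  let f : {q : E.UF.M // (q : Equiv.Perm (Fin 24)) ∈ S} × Fin 512 → G :=
    fun x => E.UF.E ctxJ.B (ctxJ.wCo x.2) * E.UF.φ x.1
  have hsub : (E.UF.kSub ctxJ : Set G) ⊆ Set.range f := by
    intro k hk
    have hk1 : k ∈ (udata E).hSub := sub_eq E ▸ hk.1
    obtain ⟨a, c, ha, -, rfl⟩ := (udata E).mem_hSub_iff.mp hk1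
    obtain ⟨p, hp, k', hk', e, hz⟩ := (cosData E).decomp_val (e := (a, c)) ha
    have hp0 : p = 0 := point_zero E hu hp (by
      have : E.UF.aG ctxJ cosTab p = E.UF.val ctxJ (a, c) * k'⁻¹ := by rw [e]; group
      rw [this]
      exact mul_mem hk (inv_mem hk'))
    obtain ⟨s, hs, d, ed⟩ := hz hp0
    have hlow : ∀ e ∈ ctxJ.push, e.1 < 9 := by decide +kernel
    have hd : ctxJ.wCo (d % 512) = ctxJ.wCo d := by
      have key : ∀ L : List (Nat × Nat × El), (∀ e ∈ L, e.1 < 9) →
          (List.rec 0 (fun e _ r => cond (Nat.testBit (d % 512) e.1)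
            (Nat.xor (sCo ctxJ.S e.2.1) r) r) L : Nat) =
          List.rec 0 (fun e _ r => cond (Nat.testBit d e.1) (Nat.xor (sCo ctxJ.S e.2.1) r) r) L := by
        intro L
        induction L with
        | nil => intro _; rfl
        | cons e L ih =>
          intro hL
          show cond _ _ _ = cond _ _ _
          rw [ih fun x hx => hL x (List.mem_cons_of_mem _ hx), show (512 : Nat) = 2 ^ 9 from rfl,
            Nat.testBit_mod_two_pow]
          simp [hL e (by simp)]
      exact key _ hlow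
    refine ⟨⟨⟨s, hs⟩, ⟨d % 512, Nat.mod_lt _ (by norm_num)⟩⟩, ?_⟩
    show E.UF.E ctxJ.B (ctxJ.wCo (d % 512)) * E.UF.φ s = _
    rw [hd]
    exact ed.symm
  have h64 : Nat.card {q : E.UF.M // (q : Equiv.Perm (Fin 24)) ∈ S} ≤ 64512 :=
    card_fixT_le (cosData E) rfl
  calc Nat.card (E.UF.kSub ctxJ) ≤ Nat.card (Set.range f) :=
        Nat.card_mono (Set.finite_range f) hsub
    _ ≤ Nat.card ({q : E.UF.M // (q : Equiv.Perm (Fin 24)) ∈ S} × Fin 512) :=
        Finite.card_range_le f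
    _ ≤ 64512 * 512 := by
        rw [Nat.card_prod, Nat.card_fin]
        exact Nat.mul_le_mul_right _ h64

theorem a_inj (p q : Fin 15180)
    (h : (E.UF.aG ctxJ cosTab p)⁻¹ * E.UF.aG ctxJ cosTab q ∈ E.UF.kSub ctxJ) : p = q := by
  haveI := (udata E).finite_hSub rfl hu hirrJ
  let K := E.UF.kSub ctxJ
  have hKle : K ≤ (udata E).hSub := fun k hk => sub_eq E ▸ hk.1
  haveI : Finite K := Finite.of_injective _ (Subgroup.inclusion_injective hKle)
  let f : Fin 15180 × K → (udata E).hSub := fun x =>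
    ⟨E.UF.aG ctxJ cosTab x.1 * x.2, mul_mem (sub_eq E ▸ (cosData E).aG_mem x.1.isLt) (hKle x.2.2)⟩
  have hs : Function.Surjective f := by
    rintro ⟨g, hg⟩
    obtain ⟨a, c, ha, -, rfl⟩ := (udata E).mem_hSub_iff.mp hg
    obtain ⟨p, hp, k, hk, e, -⟩ := (cosData E).decomp_val (e := (a, c)) ha
    exact ⟨⟨⟨p, hp⟩, ⟨k, hk⟩⟩, Subtype.ext e.symm⟩
  have hb := hs.bijective_of_nat_card_le (by
    rw [Nat.card_prod, Nat.card_fin, (udata E).card_hSub rfl hu hirrJ]
    have := card_kSub E hu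
    exact (Nat.mul_le_mul_left _ this).trans (by norm_num))
  have e : f (q, 1) = f (p, ⟨_, h⟩) := Subtype.ext (by simp [f])
  exact (congrArg Prod.fst (hb.1 e)).symm

/-- The double coset data. -/
noncomputable def dcJ (hgen : Subgroup.closure {E.x, E.y, E.t} = ⊤) : DC (udata E).hSub where
  t := E.UF.t
  K := E.UF.kSub ctxJ
  g := gJ E
  a p := E.UF.aG ctxJ cosTab p
  lab n p := ⟨labJ n p, (fact_of_label E n n.isLt p p.isLt).1⟩
  t_sq := E.tt
  t_not_mem := sub_eq E ▸ t_not_memJ E hu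
  gen := by
    refine top_le_iff.mp (hgen ▸ (Subgroup.closure_le _).mpr ?_)
    rintro g (rfl | rfl | rfl)
    · exact Subgroup.subset_closure (Or.inl (E.φX ▸ (udata E).phi_mem ⟨Xp, Xp_mem⟩))
    · exact Subgroup.subset_closure (Or.inl (E.φY ▸ (udata E).phi_mem ⟨Yp, Yp_mem⟩))
    · exact Subgroup.subset_closure (Or.inr rfl)
  finH := (udata E).finite_hSub rfl hu hirrJ
  K_le := fun _ hk => sub_eq E ▸ hk.1
  K_conj := fun _ hk => sub_eq E ▸ hk.2
  g_zero := rfl
  g_one := node_one E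
  a_mem p := sub_eq E ▸ (cosData E).aG_mem p.isLt
  a_zero := (cosData E).aG_zero
  decomp h hh := by
    obtain ⟨a, c, ha, -, rfl⟩ := (udata E).mem_hSub_iff.mp hh
    obtain ⟨p, hp, k, hk, e, -⟩ := (cosData E).decomp_val (e := (a, c)) ha
    exact ⟨⟨p, hp⟩, k, hk, e⟩
  a_inj := a_inj E hu
  fact n p := by
    obtain ⟨_, u, hu', v, hv, e⟩ := fact_of_label E n n.isLt p p.isLt
    exact ⟨u, sub_eq E ▸ hu', v, sub_eq E ▸ hv, e⟩
  count n m := by
    rw [← count_lab n m]
    simp only [Fin.ext_iff]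
  lab10 p h := Fin.ext (lab_eq_zero p.isLt (congrArg Fin.val h :))

end CfsgLib.Coset.J4
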