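/-
The seven relators on x and y present the degree 24 model: homomorphisms from the model.
-/
import Cfsg.Agent.Coset.J4.Model
import Cfsg.Agent.Coset.J4xy.Iso
import Cfsg.Agent.Coset.J4xy.Rep

set_option autoImplicit false
set_option maxRecDepth 100000
set_option linter.unusedSimpArgs false
set_option linter.style.haveILetI false

namespace CfsgLib.Coset.J4

open Cfsg

/-- The images of the letters in the model. -/
def LM24 : List M24m := [⟨Xp, Xp_mem⟩, ⟨Yp, Yp_mem⟩, (⟨Yp, Yp_mem⟩ : M24m)⁻¹]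

theorem coe_ev_LM24 : ∀ w : List Nat, ((ev LM24 w : M24m) : Equiv.Perm (Fin 24)) = ev GsM w
  | [] => rfl
  | l :: w => by
    rw [ev_cons, ev_cons, Subgroup.coe_mul, coe_ev_LM24 w]
    congr 1
    rcases lt_or_ge l 3 with h | h
    · interval_cases l <;> rfl
    · rw [fl_of_le _ h, fl_of_le _ h]; rfl

theorem ev_GsM_rels : ∀ w ∈ J4xy.relP, ∀ i : Fin 24, ev GsM w i = i := by decide +kernel

theorem LM24_rels : ∀ w ∈ J4xy.relP, ev LM24 w = 1 := fun w hw =>
  Subtype.ext ((coe_ev_LM24 w).trans (Equiv.ext (ev_GsM_rels w hw)))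

/-- The map of the presented group onto the model. -/
noncomputable def toModel : J4xy.PG →* M24m := numHom (L := LM24) rfl LM24_rels

theorem toModel_x : toModel (fl J4xy.L3 0) = ⟨Xp, Xp_mem⟩ := numHom_fl rfl LM24_rels 0

theorem toModel_y : toModel (fl J4xy.L3 1) = ⟨Yp, Yp_mem⟩ := numHom_fl rfl LM24_rels 1

theorem toModel_surjective : Function.Surjective toModel := by
  rw [← MonoidHom.range_eq_top, eq_top_iff]
  rintro ⟨g, hg⟩ -
  have hle : M24m ≤ toModel.range.map M24m.subtype := by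
    refine (Subgroup.closure_le _).mpr ?_
    rintro σ (rfl | rfl)
    · exact ⟨⟨Xp, Xp_mem⟩, ⟨_, toModel_x⟩, rfl⟩
    · exact ⟨⟨Yp, Yp_mem⟩, ⟨_, toModel_y⟩, rfl⟩
  obtain ⟨a, ha, hga⟩ := hle hg
  exact (show a = ⟨g, hg⟩ from Subtype.ext hga) ▸ ha

theorem toModel_bijective : Function.Bijective toModel := by
  haveI := J4xy.card_ker.1
  refine Function.Surjective.bijective_of_nat_card_le toModel_surjective ?_
  rw [Nat.card_congr J4xy.equivM24.toEquiv, CfsgLib.Golay.card_M24, card_M24m]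

/-- The model is the group presented by the seven relators. -/
noncomputable def equivModel : J4xy.PG ≃* M24m := MulEquiv.ofBijective toModel toModel_bijective

/-- The first seven relators of the presented group as words. -/
def sevenW : List (List Nat) := (Spor.J4.extra.take 7).map (J4xy.letters J4xy.cJ)

theorem relP_seven : (J4xy.relP.all fun w =>
    ([] :: sevenW).any fun u => J4xy.redW J4xy.iv3 u == J4xy.redW J4xy.iv3 w) = true := by decide +kernel

section Hom

variable {G : Type*} [Group G] {x y : G}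

theorem rels_of_seven (hx : x ^ 2 = 1) (hy : y ^ 3 = 1) (h23 : (x * y) ^ 23 = 1)
    (h12 : (x⁻¹ * y⁻¹ * x * y) ^ 12 = 1) (h5 : (x⁻¹ * (y * x * y)⁻¹ * x * (y * x * y)) ^ 5 = 1)
    (h4 : (x * y * ((x * y * x * (y⁻¹)) ^ 3)) ^ 4 = 1)
    (h33 : ((x * y * x * y * x * (y⁻¹)) ^ 3) * ((x * y * x * (y⁻¹) * x * (y⁻¹)) ^ 3) = 1) :
    ∀ w ∈ J4xy.relP, ev [x, y, y⁻¹] w = 1 := by
  have hxi : x⁻¹ = x := inv_eq_of_mul_eq_one_right (by rwa [← pow_two])
  have hiv : ∀ l, fl [x, y, y⁻¹] (J4xy.iv3 l) = (fl [x, y, y⁻¹] l)⁻¹ := by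
    intro l
    rcases lt_or_ge l 3 with hl | hl
    · interval_cases l
      · exact hxi.symm
      · rfl
      · exact (inv_inv y).symm
    · have e : J4xy.iv3 l = l := by
        simp only [J4xy.iv3]
        rw [show Nat.beq l 1 = false from by cases h : Nat.beq l 1 <;> simp_all [Nat.eq_of_beq_eq_true],
          show Nat.beq l 2 = false from by cases h : Nat.beq l 2 <;> simp_all [Nat.eq_of_beq_eq_true]]
        rfl
      rw [e, fl_of_le _ hl, inv_one]
  let f : Spor.J4.Gen → G := fun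
    | .x => x
    | .y => y
    | .t => 1
  have hfx : f .x = x := rfl
  have hfy : f .y = y := rfl
  have hseven : ∀ u ∈ sevenW, ev [x, y, y⁻¹] u = 1 := by
    intro u hu
    obtain ⟨r, hr, rfl⟩ := List.mem_map.mp hu
    rw [← J4xy.lift_eq_ev J4xy.cJ f ?_ r]
    · simp only [Spor.J4.extra, List.take_succ_cons, List.take_zero, List.mem_cons, List.not_mem_nil,
        or_false] at hr
      rcases hr with rfl | rfl | rfl | rfl | rfl | rfl | rfl <;>
        simp only [map_pow, map_mul, map_inv, FreeGroup.lift_apply_of, hfx, hfy] <;> assumption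
    · rintro (_ | _ | _) (_ | _) <;>
        first
          | rfl
          | exact hxi.symm
          | exact inv_one.symm
  intro w hw
  obtain ⟨u, hu, he⟩ := List.any_eq_true.mp (List.all_eq_true.mp relP_seven w hw)
  rw [← J4xy.ev_eq_of_redW hiv (eq_of_beq he)]
  rcases List.mem_cons.mp hu with rfl | hu
  · rfl
  · exact hseven u hu

/-- Two elements satisfying the seven relators are images of the generators of the model. -/
theorem exists_hom_model (hx : x ^ 2 = 1) (hy : y ^ 3 = 1) (h23 : (x * y) ^ 23 = 1)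
    (h12 : (x⁻¹ * y⁻¹ * x * y) ^ 12 = 1) (h5 : (x⁻¹ * (y * x * y)⁻¹ * x * (y * x * y)) ^ 5 = 1)
    (h4 : (x * y * ((x * y * x * (y⁻¹)) ^ 3)) ^ 4 = 1)
    (h33 : ((x * y * x * y * x * (y⁻¹)) ^ 3) * ((x * y * x * (y⁻¹) * x * (y⁻¹)) ^ 3) = 1) :
    ∃ φ : M24m →* G, φ ⟨Xp, Xp_mem⟩ = x ∧ φ ⟨Yp, Yp_mem⟩ = y := by
  refine ⟨(numHom (L := [x, y, y⁻¹]) rfl (rels_of_seven hx hy h23 h12 h5 h4 h33)).comp
    equivModel.symm.toMonoidHom, ?_, ?_⟩
  · rw [MonoidHom.comp_apply, MulEquiv.coe_toMonoidHom,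
      show equivModel.symm ⟨Xp, Xp_mem⟩ = fl J4xy.L3 0 from
        equivModel.symm_apply_eq.mpr toModel_x.symm]
    exact numHom_fl rfl _ 0
  · rw [MonoidHom.comp_apply, MulEquiv.coe_toMonoidHom,
      show equivModel.symm ⟨Yp, Yp_mem⟩ = fl J4xy.L3 1 from
        equivModel.symm_apply_eq.mpr toModel_y.symm]
    exact numHom_fl rfl _ 1

end Hom

/-- The model inside the presented J4. -/
theorem exists_hom_J4 : ∃ φ : M24m →* Spor.J4,
    φ ⟨Xp, Xp_mem⟩ = PresentedGroup.of Spor.J4.Gen.x ∧ φ ⟨Yp, Yp_mem⟩ = PresentedGroup.of Spor.J4.Gen.y := by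
  have h : ∀ r ∈ Spor.J4.extra, FreeGroup.lift (fun g => (PresentedGroup.of g : Spor.J4)) r = 1 := by
    intro r hr
    have h' : PresentedGroup.mk (Spor.coxRelators Spor.J4.edges ∪ {r | r ∈ Spor.J4.extra}) r = 1 :=
      PresentedGroup.one_of_mem (Or.inr hr)
    rw [← h']
    congr 1
    exact FreeGroup.ext_hom _ _ fun g => by rw [FreeGroup.lift_apply_of]; rfl
  simp only [Spor.J4.extra, List.forall_mem_cons, map_pow, map_mul, map_inv,
    FreeGroup.lift_apply_of] at h
  obtain ⟨h1, h2, h3, h4, h5, h6, h7, -⟩ := h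
  exact exists_hom_model h1 h2 h3 h4 h5 h6 h7

end CfsgLib.Coset.J4
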