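/-
The Schur multiplier of the presented Janko group of `Cfsg.Spor.J4` is trivial, given a map of the
degree 24 model onto the subgroup on the first two generators and three conjugacies between
involutions.

The model is perfect with trivial multiplier, so it lifts to every central extension. With an
involution above the third generator the remaining constants square to one, so the kernel of a stem
extension has exponent two; then squares of lifts of involutions are class functions and the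
conjugacies kill the constants.
-/
import Cfsg.Agent.Coset.J4.Model
import Cfsg.Agent.ExtCert.TrivM24
import Cfsg.Prelude.Def_Spor_J4
import Cfsg.Prelude.Def_KGroupFacts

set_option autoImplicit false
set_option maxRecDepth 100000

namespace CfsgLib.Coset.J4.MultJ

open Cfsg
open scoped commutatorElement

/-! ### The model -/

/-- The first generator in the model. -/
def xM : M24m := ⟨Xp, Xp_mem⟩

/-- The second generator in the model. -/
def yM : M24m := ⟨Yp, Yp_mem⟩

/-- The word centralised by the third generator. -/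
def wM : M24m := yM * xM * yM * (xM * yM⁻¹) ^ 2 * (xM * yM) ^ 3

theorem wM_val : (wM : Equiv.Perm (Fin 24)) = W0p := by
  simp [wM, W0p, xM, yM]

/-- The conjugating word of the eleventh relator. -/
def uM : M24m := yM * xM * yM⁻¹ * xM * yM * xM * yM⁻¹ * xM

/-- The conjugating word of the last relator. -/
def vM : M24m := (xM * yM) ^ 3 * yM * (xM * yM) ^ 6 * yM

/-- The element of the last relator. -/
def aM : M24m := (yM * xM * yM * xM * yM * xM * yM) ^ 3

/-- An element inverting the second generator and fixing the trio of the eleventh relator. -/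
def g3 : M24m := uM⁻¹ * (wM * wM) * uM

theorem g3_conj : g3⁻¹ * yM * g3 = yM⁻¹ := Subtype.ext (by decide +kernel)

/-- An element inverting the element of the last relator. -/
def g4 : M24m :=
  xM * yM⁻¹ * xM * yM⁻¹ * xM * yM * xM * yM * xM * yM⁻¹ * xM * yM * xM * yM * xM * yM⁻¹ * xM *
    yM⁻¹ * xM * yM⁻¹ * xM * yM * xM * yM⁻¹ * xM * yM⁻¹ * xM * yM * xM * yM * xM * yM⁻¹

theorem g4_conj : g4⁻¹ * aM * g4 = aM⁻¹ := Subtype.ext (by decide +kernel)

theorem g4_trio : ((g4 * aM : M24m) : Equiv.Perm (Fin 24)) ∈ Subgroup.closure {Xp, W0p} :=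
  stab_trio (g4 * aM).2 (by decide +kernel)

theorem g4_trio' : ((vM * g4 * vM⁻¹ : M24m) : Equiv.Perm (Fin 24)) ∈ Subgroup.closure {Xp, W0p} :=
  stab_trio (vM * g4 * vM⁻¹).2 (by decide +kernel)

theorem M24_rels :
    xM ^ 2 = 1 ∧ yM ^ 3 = 1 ∧ (xM * yM) ^ 23 = 1 ∧ (xM⁻¹ * yM⁻¹ * xM * yM) ^ 12 = 1 ∧
    (xM⁻¹ * (yM * xM * yM)⁻¹ * xM * (yM * xM * yM)) ^ 5 = 1 ∧
    (xM * yM * ((xM * yM * xM * yM⁻¹) ^ 3)) ^ 4 = 1 ∧
    ((xM * yM * xM * yM * xM * yM⁻¹) ^ 3) * ((xM * yM * xM * yM⁻¹ * xM * yM⁻¹) ^ 3) = 1 := by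
  refine ⟨?_, ?_, ?_, ?_, ?_, ?_, ?_⟩ <;> exact Subtype.ext (by decide +kernel)

theorem closure_xy : Subgroup.closure {xM, yM} = (⊤ : Subgroup M24m) := by
  refine Subgroup.map_injective M24m.subtype_injective ?_
  rw [MonoidHom.map_closure, ← MonoidHom.range_eq_map, Subgroup.range_subtype, Set.image_pair]
  rfl

/-- Commuting elements of orders dividing two and three with product of order dividing 23 vanish. -/
theorem trivial_of_rels {Q : Type*} [Group Q] {a b : Q} (hc : Commute a b) (ha : a ^ 2 = 1)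
    (hb : b ^ 3 = 1) (hab : (a * b) ^ 23 = 1) : a = 1 ∧ b = 1 := by
  rw [hc.mul_pow, pow_succ a 22, show a ^ 22 = (a ^ 2) ^ 11 by rw [← pow_mul], ha, one_pow,
    one_mul, pow_add b 21 2, show b ^ 21 = (b ^ 3) ^ 7 by rw [← pow_mul], hb, one_pow,
    one_mul] at hab
  have e : a = b := by
    calc a = a * b ^ 3 := by rw [hb, mul_one]
      _ = a * b ^ 2 * b := by group
      _ = b := by rw [hab, one_mul]
  subst e
  have ha1 : a = 1 := by
    calc a = a ^ 3 * (a ^ 2)⁻¹ := by group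
      _ = 1 := by rw [hb, ha, inv_one, one_mul]
  exact ⟨ha1, ha1⟩

theorem commutator_M24m : commutator M24m = ⊤ := by
  rw [eq_top_iff, ← closure_xy, Subgroup.closure_le]
  set f := QuotientGroup.mk' (commutator M24m) with hf
  have hcomm : ∀ a b : M24m, f a * f b = f b * f a := fun a b => by
    rw [← map_mul, ← map_mul, hf, QuotientGroup.mk'_apply, QuotientGroup.mk'_apply,
      QuotientGroup.eq]
    have : (a * b)⁻¹ * (b * a) = ⁅b⁻¹, a⁻¹⁆ := by rw [commutatorElement_def]; group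
    rw [this, commutator_def]
    exact Subgroup.commutator_mem_commutator (Subgroup.mem_top _) (Subgroup.mem_top _)
  obtain ⟨hx, hy, hxy, -⟩ := M24_rels
  obtain ⟨e1, e2⟩ := trivial_of_rels (a := f xM) (b := f yM) (hcomm xM yM)
    (by rw [← map_pow, hx, map_one]) (by rw [← map_pow, hy, map_one])
    (by rw [← map_mul, ← map_pow, hxy, map_one])
  rintro g (rfl | rfl)
  · exact (QuotientGroup.eq_one_iff _).mp e1
  · exact (QuotientGroup.eq_one_iff _).mp e2

/-- The model is the group of the code. -/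
noncomputable def toGolay : M24m ≃* Cfsg.M24 :=
  (M24m.equivMapOfInjective ePhi.permCongrHom.toMonoidHom ePhi.permCongrHom.injective).trans
    (MulEquiv.subgroupCongr (Subgroup.eq_of_le_of_card_ge map_le (by
      rw [Subgroup.card_map_of_injective (K := M24m)
        (show Function.Injective ePhi.permCongrHom.toMonoidHom from ePhi.permCongrHom.injective),
        card_M24m, CfsgLib.Golay.card_M24])))

/-- Every finite stem extension of the model is injective. -/
theorem stem_injective {D : Type} [Group D] [Finite D] (τ : D →* M24m) (h : IsStemExtension τ) :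
    Function.Injective τ := by
  let τ' : D →* ↥Cfsg.M24 := toGolay.toMonoidHom.comp τ
  have hk : τ'.ker = τ.ker := by
    ext d
    simp [τ', MonoidHom.mem_ker]
  have hst : IsStemExtension τ' :=
    ⟨toGolay.surjective.comp h.1, hk ▸ h.2.1, hk ▸ h.2.2⟩
  obtain ⟨π, hπ⟩ := CfsgLib.ExtCert.TrivM24.multiplier.2 D τ' hst
  have : Subsingleton τ'.ker := hπ.subsingleton
  rw [← MonoidHom.ker_eq_bot_iff, ← hk]
  exact Subgroup.eq_bot_of_subsingleton _

/-- The model lifts along a central extension. -/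
theorem exists_lift {E G : Type} [Group E] [Finite E] [Group G] (σ : E →* G)
    (hσ : Function.Surjective σ) (hc : σ.ker ≤ Subgroup.center E) (φ : M24m →* G) :
    ∃ s : M24m →* E, σ.comp s = φ := by
  let Q : Subgroup (E × M24m) :=
    { carrier := {p | σ p.1 = φ p.2}
      one_mem' := by simp
      mul_mem' := fun {a b} ha hb => by
        simp only [Set.mem_ofPred_eq, Prod.fst_mul, Prod.snd_mul, map_mul] at ha hb ⊢
        rw [ha, hb]
      inv_mem' := fun {a} ha => by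
        simp only [Set.mem_ofPred_eq, Prod.fst_inv, Prod.snd_inv, map_inv] at ha ⊢
        rw [ha] }
  let τ : Q →* M24m := (MonoidHom.snd E M24m).comp Q.subtype
  have hsur : Function.Surjective τ := fun b => by
    obtain ⟨e, he⟩ := hσ (φ b)
    exact ⟨⟨(e, b), he⟩, rfl⟩
  have hker : τ.ker ≤ Subgroup.center Q := by
    rintro ⟨⟨e, b⟩, hq⟩ hk
    have hb : b = 1 := hk
    subst hb
    have he : e ∈ Subgroup.center E := hc (by
      rw [MonoidHom.mem_ker]
      simpa using (show σ e = φ 1 from hq))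
    refine Subgroup.mem_center_iff.mpr fun g => Subtype.ext (Prod.ext ?_ ?_)
    · exact Subgroup.mem_center_iff.mp he _
    · simp
  let D : Subgroup Q := commutator Q
  have hDm : D.map τ = ⊤ := by
    show (commutator Q).map τ = ⊤
    rw [commutator_def, Subgroup.map_commutator, Subgroup.map_top_of_surjective _ hsur,
      ← commutator_def, commutator_M24m]
  have hperf : commutator D = ⊤ := by
    refine Subgroup.map_injective D.subtype_injective ?_
    rw [commutator_def, Subgroup.map_commutator, ← MonoidHom.range_eq_map, D.range_subtype]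
    refine le_antisymm (Subgroup.commutator_le_self D) (Subgroup.commutator_le.mpr ?_)
    intro a _ b _
    have split : ∀ x : Q, ∃ d ∈ D, ∃ z ∈ Subgroup.center Q, x = d * z := by
      intro x
      obtain ⟨d, hd, e⟩ : τ x ∈ D.map τ := by rw [hDm]; exact Subgroup.mem_top _
      exact ⟨d, hd, d⁻¹ * x, hker (by simp [MonoidHom.mem_ker, e]), by group⟩
    obtain ⟨a', ha', za, hza, rfl⟩ := split a
    obtain ⟨b', hb', zb, hzb, rfl⟩ := split b
    have e : ⁅a' * za, b' * zb⁆ = ⁅a', b'⁆ := by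
      simp only [commutatorElement_def, mul_inv_rev]
      have h1 := Subgroup.mem_center_iff.mp hza
      have h2 := Subgroup.mem_center_iff.mp hzb
      calc a' * za * (b' * zb) * (za⁻¹ * a'⁻¹) * (zb⁻¹ * b'⁻¹)
          = a' * (za * (b' * zb)) * za⁻¹ * a'⁻¹ * zb⁻¹ * b'⁻¹ := by group
        _ = a' * b' * (zb * a'⁻¹) * zb⁻¹ * b'⁻¹ := by rw [← h1]; group
        _ = _ := by rw [← h2]; group
    rw [e]
    exact Subgroup.commutator_mem_commutator ha' hb'
  let τD : D →* M24m := τ.comp D.subtype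
  have hsD : Function.Surjective τD := fun b => by
    obtain ⟨d, hd, e⟩ : b ∈ D.map τ := by rw [hDm]; exact Subgroup.mem_top _
    exact ⟨⟨d, hd⟩, e⟩
  have hkD : τD.ker ≤ Subgroup.center D := fun d hd => by
    have h1 : (d : Q) ∈ Subgroup.center Q := hker hd
    exact Subgroup.mem_center_iff.mpr fun g => Subtype.ext (Subgroup.mem_center_iff.mp h1 g)
  have hbij : Function.Bijective τD :=
    ⟨stem_injective τD ⟨hsD, hkD, by rw [hperf]; exact le_top⟩, hsD⟩
  refine ⟨((MonoidHom.fst E M24m).comp Q.subtype).comp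
    (D.subtype.comp (MulEquiv.ofBijective τD hbij).symm.toMonoidHom), MonoidHom.ext fun b => ?_⟩
  set d := (MulEquiv.ofBijective τD hbij).symm b with hd
  have hb : τD d = b := (MulEquiv.ofBijective τD hbij).apply_symm_apply b
  show σ ((d : Q) : E × M24m).1 = φ b
  rw [← hb]
  exact (d : Q).2

/-! ### Lifts of the generators -/

/-- A central extension with a lift of the model and an involution above the third generator. -/
structure Lifts {E : Type} [Group E] (σ : E →* Spor.J4) where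
  s : M24m →* E
  T : E
  sx : σ (s xM) = PresentedGroup.of Spor.J4.Gen.x
  sy : σ (s yM) = PresentedGroup.of Spor.J4.Gen.y
  sT : σ T = PresentedGroup.of Spor.J4.Gen.t
  TT : T * T = 1
  central : σ.ker ≤ Subgroup.center E

section

variable {E : Type} [Group E] {σ : E →* Spor.J4}

namespace Lifts

variable (L : Lifts σ)

/-- The images of the generators. -/
def gv : Spor.J4.Gen → E
  | .x => L.s xM
  | .y => L.s yM
  | .t => L.T

theorem map_lift (w : FreeGroup Spor.J4.Gen) :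
    σ (FreeGroup.lift L.gv w) = PresentedGroup.mk _ w := by
  have : σ.comp (FreeGroup.lift L.gv) = PresentedGroup.mk _ := by
    refine FreeGroup.ext_hom _ _ fun a => ?_
    rw [MonoidHom.comp_apply, FreeGroup.lift_apply_of]
    cases a
    exacts [L.sx, L.sy, L.sT]
  exact DFunLike.congr_fun this w

theorem ker_of_rel {w : FreeGroup Spor.J4.Gen} (hw : w ∈ Spor.J4.extra) :
    FreeGroup.lift L.gv w ∈ σ.ker := by
  rw [MonoidHom.mem_ker, L.map_lift]
  exact PresentedGroup.one_of_mem (Set.mem_union_right _ hw)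

include L in
theorem cen {z : E} (hz : z ∈ σ.ker) (g : E) : g * z = z * g :=
  Subgroup.mem_center_iff.mp (L.central hz) g

theorem T_inv : L.T⁻¹ = L.T := inv_eq_of_mul_eq_one_right L.TT

/-- The defect of commuting with the involution. -/
def dfx : E := L.T⁻¹ * (L.s xM)⁻¹ * L.T * L.s xM

/-- The defect of commuting with the word. -/
def dfw : E := L.T⁻¹ * (L.s wM)⁻¹ * L.T * L.s wM

/-- The conjugate in the eleventh relator. -/
def aU : E := (L.s uM)⁻¹ * L.T * L.s uM

/-- The conjugate in the last relator. -/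
def bV : E := (L.s vM)⁻¹ * L.T * L.s vM

/-- The value of the eleventh relator. -/
def z3 : E := (L.s yM * L.aU) ^ 3

/-- The value of the last relator. -/
def z4 : E := (L.s aM * L.T * L.bV) ^ 2

theorem dfx_mem : L.dfx ∈ σ.ker := by
  have h := L.ker_of_rel (w := Spor.J4.t⁻¹ * Spor.J4.x⁻¹ * Spor.J4.t * Spor.J4.x)
    (by simp [Spor.J4.extra])
  simpa [dfx, gv] using h

theorem dfw_mem : L.dfw ∈ σ.ker := by
  have h := L.ker_of_rel
    (w := Spor.J4.t⁻¹ * (Spor.J4.y * Spor.J4.x * Spor.J4.y * ((Spor.J4.x * (Spor.J4.y⁻¹)) ^ 2) *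
      ((Spor.J4.x * Spor.J4.y) ^ 3))⁻¹ * Spor.J4.t * (Spor.J4.y * Spor.J4.x * Spor.J4.y *
      ((Spor.J4.x * (Spor.J4.y⁻¹)) ^ 2) * ((Spor.J4.x * Spor.J4.y) ^ 3)))
    (by simp [Spor.J4.extra])
  simpa [dfw, wM, gv] using h

theorem z3_mem : L.z3 ∈ σ.ker := by
  have h := L.ker_of_rel
    (w := (Spor.J4.y * ((Spor.J4.y * Spor.J4.x * (Spor.J4.y⁻¹) * Spor.J4.x * Spor.J4.y * Spor.J4.x *
      (Spor.J4.y⁻¹) * Spor.J4.x)⁻¹ * Spor.J4.t * (Spor.J4.y * Spor.J4.x * (Spor.J4.y⁻¹) *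
      Spor.J4.x * Spor.J4.y * Spor.J4.x * (Spor.J4.y⁻¹) * Spor.J4.x))) ^ 3)
    (by simp [Spor.J4.extra])
  simpa [z3, aU, uM, gv] using h

theorem z4_mem : L.z4 ∈ σ.ker := by
  have h := L.ker_of_rel
    (w := (((Spor.J4.y * Spor.J4.x * Spor.J4.y * Spor.J4.x * Spor.J4.y * Spor.J4.x * Spor.J4.y) ^ 3) *
      Spor.J4.t * ((((Spor.J4.x * Spor.J4.y) ^ 3) * Spor.J4.y * ((Spor.J4.x * Spor.J4.y) ^ 6) *
      Spor.J4.y)⁻¹ * Spor.J4.t * (((Spor.J4.x * Spor.J4.y) ^ 3) * Spor.J4.y *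
      ((Spor.J4.x * Spor.J4.y) ^ 6) * Spor.J4.y))) ^ 2)
    (by simp [Spor.J4.extra])
  simpa [z4, bV, vM, aM, gv] using h

/-- Conjugation by an element of the trio group changes `T` by a central square root of one. -/
def Conj (p : M24m) : Prop :=
  ∃ c ∈ σ.ker, c * c = 1 ∧ (L.s p)⁻¹ * L.T * L.s p = L.T * c

theorem sq_of_eq {g c : E} (hc : c ∈ σ.ker) (h : g⁻¹ * L.T * g = L.T * c) : c * c = 1 := by
  have h2 : (g⁻¹ * L.T * g) * (g⁻¹ * L.T * g) = 1 := by
    calc g⁻¹ * L.T * g * (g⁻¹ * L.T * g) = g⁻¹ * (L.T * L.T) * g := by group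
      _ = 1 := by rw [L.TT]; group
  rw [h] at h2
  calc c * c = L.T * L.T * (c * c) := by rw [L.TT, one_mul]
    _ = L.T * (L.T * c) * c := by group
    _ = L.T * (c * L.T) * c := by rw [L.cen hc L.T]
    _ = L.T * c * (L.T * c) := by group
    _ = 1 := h2

theorem conj_x : (L.s xM)⁻¹ * L.T * L.s xM = L.T * L.dfx := by
  rw [dfx]; group

theorem conj_w : (L.s wM)⁻¹ * L.T * L.s wM = L.T * L.dfw := by
  rw [dfw]; group

theorem dfx_sq : L.dfx * L.dfx = 1 := L.sq_of_eq L.dfx_mem L.conj_x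

theorem dfw_sq : L.dfw * L.dfw = 1 := L.sq_of_eq L.dfw_mem L.conj_w

theorem conj_of_mem {p : Equiv.Perm (Fin 24)} (hp : p ∈ Subgroup.closure {Xp, W0p}) :
    ∃ h : p ∈ M24m, L.Conj ⟨p, h⟩ := by
  induction hp using Subgroup.closure_induction with
  | mem p hp =>
    rcases hp with rfl | rfl
    · exact ⟨Xp_mem, L.dfx, L.dfx_mem, L.dfx_sq, L.conj_x⟩
    · refine ⟨W0p_mem, L.dfw, L.dfw_mem, L.dfw_sq, ?_⟩
      rw [show (⟨W0p, W0p_mem⟩ : M24m) = wM from Subtype.ext wM_val.symm]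
      exact L.conj_w
  | one => exact ⟨one_mem _, 1, one_mem _, one_mul 1, by
      rw [show (⟨1, one_mem _⟩ : M24m) = 1 from rfl, map_one]; group⟩
  | mul p q _ _ hp hq =>
    obtain ⟨mp, c, hc, hc2, ec⟩ := hp
    obtain ⟨mq, d, hd, hd2, ed⟩ := hq
    refine ⟨mul_mem mp mq, c * d, mul_mem hc hd, ?_, ?_⟩
    · calc c * d * (c * d) = c * (d * c) * d := by group
        _ = c * (c * d) * d := by rw [L.cen hd c]
        _ = c * c * (d * d) := by group
        _ = 1 := by rw [hc2, hd2, one_mul]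
    · rw [show (⟨p * q, mul_mem mp mq⟩ : M24m) = ⟨p, mp⟩ * ⟨q, mq⟩ from rfl, map_mul]
      calc (L.s ⟨p, mp⟩ * L.s ⟨q, mq⟩)⁻¹ * L.T * (L.s ⟨p, mp⟩ * L.s ⟨q, mq⟩)
          = (L.s ⟨q, mq⟩)⁻¹ * ((L.s ⟨p, mp⟩)⁻¹ * L.T * L.s ⟨p, mp⟩) * L.s ⟨q, mq⟩ := by group
        _ = (L.s ⟨q, mq⟩)⁻¹ * L.T * (c * L.s ⟨q, mq⟩) := by rw [ec]; group
        _ = (L.s ⟨q, mq⟩)⁻¹ * L.T * L.s ⟨q, mq⟩ * c := by rw [← L.cen hc]; group
        _ = L.T * (c * d) := by rw [ed, mul_assoc, L.cen hc d]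
  | inv p _ hp =>
    obtain ⟨mp, c, hc, hc2, ec⟩ := hp
    refine ⟨inv_mem mp, c, hc, hc2, ?_⟩
    rw [show (⟨p⁻¹, inv_mem mp⟩ : M24m) = ⟨p, mp⟩⁻¹ from rfl, map_inv, inv_inv]
    have : L.T = L.s ⟨p, mp⟩ * (L.T * c) * (L.s ⟨p, mp⟩)⁻¹ := by rw [← ec]; group
    calc L.s ⟨p, mp⟩ * L.T * (L.s ⟨p, mp⟩)⁻¹
        = L.s ⟨p, mp⟩ * (L.T * c) * c * (L.s ⟨p, mp⟩)⁻¹ := by
          rw [show L.s ⟨p, mp⟩ * (L.T * c) * c = L.s ⟨p, mp⟩ * L.T * (c * c) by group, hc2, mul_one]
      _ = L.s ⟨p, mp⟩ * (L.T * c) * (L.s ⟨p, mp⟩)⁻¹ * c := by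
          rw [mul_assoc _ c, ← L.cen hc, ← mul_assoc]
      _ = L.T * c := by rw [← this]

theorem conj_of_trio {p : M24m} (hp : (p : Equiv.Perm (Fin 24)) ∈ Subgroup.closure {Xp, W0p}) :
    L.Conj p := by
  obtain ⟨h, hc⟩ := L.conj_of_mem hp
  exact hc

theorem aU_inv : L.aU⁻¹ = L.aU := by
  rw [aU]
  simp only [mul_inv_rev, inv_inv, L.T_inv, mul_assoc]

theorem bV_inv : L.bV⁻¹ = L.bV := by
  rw [bV]
  simp only [mul_inv_rev, inv_inv, L.T_inv, mul_assoc]

theorem conj3 (g a b : E) : (g⁻¹ * a * g * (g⁻¹ * b * g)) ^ 3 = g⁻¹ * (a * b) ^ 3 * g := by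
  simp only [pow_three]; group

theorem shift3 (a b : E) : (a * b) ^ 3 = a * (b * a) ^ 3 * a⁻¹ := by
  simp only [pow_three]; group

theorem shift2 (a b : E) : (a * b) ^ 2 = a * (b * a) ^ 2 * a⁻¹ := by
  simp only [pow_two]; group

theorem z3_sq : L.z3 * L.z3 = 1 := by
  have hy : (L.s g3)⁻¹ * L.s yM * L.s g3 = (L.s yM)⁻¹ := by
    rw [← map_inv, ← map_mul, ← map_mul, g3_conj, map_inv]
  have hw2 : (L.s wM * L.s wM)⁻¹ * L.T * (L.s wM * L.s wM) = L.T := by
    calc (L.s wM * L.s wM)⁻¹ * L.T * (L.s wM * L.s wM)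
        = (L.s wM)⁻¹ * ((L.s wM)⁻¹ * L.T * L.s wM) * L.s wM := by group
      _ = (L.s wM)⁻¹ * L.T * (L.dfw * L.s wM) := by rw [L.conj_w]; group
      _ = (L.s wM)⁻¹ * L.T * L.s wM * L.dfw := by rw [← L.cen L.dfw_mem]; group
      _ = L.T := by rw [L.conj_w, mul_assoc, L.dfw_sq, mul_one]
  have ha : (L.s g3)⁻¹ * L.aU * L.s g3 = L.aU := by
    simp only [g3, map_mul, map_inv, aU]
    calc _ = (L.s uM)⁻¹ * ((L.s wM * L.s wM)⁻¹ * L.T * (L.s wM * L.s wM)) * L.s uM := by group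
      _ = _ := by rw [hw2]
  have h1 : ((L.s yM)⁻¹ * L.aU) ^ 3 = L.z3 := by
    calc ((L.s yM)⁻¹ * L.aU) ^ 3
        = ((L.s g3)⁻¹ * L.s yM * L.s g3 * ((L.s g3)⁻¹ * L.aU * L.s g3)) ^ 3 := by rw [hy, ha]
      _ = (L.s g3)⁻¹ * (L.s yM * L.aU) ^ 3 * L.s g3 := conj3 _ _ _
      _ = L.z3 := by rw [← z3, mul_assoc, ← L.cen L.z3_mem, inv_mul_cancel_left]
  have h2 : L.z3⁻¹ = L.aU * ((L.s yM)⁻¹ * L.aU) ^ 3 * L.aU⁻¹ := by
    rw [z3, ← inv_pow, mul_inv_rev, L.aU_inv, shift3, L.aU_inv]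
  rw [h1, L.cen L.z3_mem, mul_inv_cancel_right] at h2
  rw [← mul_inv_cancel L.z3, h2]

theorem z4_sq : L.z4 * L.z4 = 1 := by
  obtain ⟨c1, hc1, hc1s, e1⟩ := L.conj_of_trio g4_trio
  obtain ⟨c2, hc2, hc2s, e2⟩ := L.conj_of_trio g4_trio'
  have hA : (L.s g4)⁻¹ * L.s aM * L.s g4 = (L.s aM)⁻¹ := by
    rw [← map_inv, ← map_mul, ← map_mul, g4_conj, map_inv]
  have hT : (L.s g4)⁻¹ * L.T * L.s g4 = L.s aM * L.T * (L.s aM)⁻¹ * c1 := by
    rw [show g4 = g4 * aM * aM⁻¹ by group, map_mul L.s (g4 * aM), map_inv]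
    calc (L.s (g4 * aM) * (L.s aM)⁻¹)⁻¹ * L.T * (L.s (g4 * aM) * (L.s aM)⁻¹)
        = L.s aM * ((L.s (g4 * aM))⁻¹ * L.T * L.s (g4 * aM)) * (L.s aM)⁻¹ := by group
      _ = L.s aM * L.T * (c1 * (L.s aM)⁻¹) := by rw [e1]; group
      _ = _ := by rw [← L.cen hc1]; group
  have hB : (L.s g4)⁻¹ * L.bV * L.s g4 = L.bV * c2 := by
    rw [show g4 = vM⁻¹ * (vM * g4 * vM⁻¹) * vM by group]
    simp only [map_mul _ _ (vM : M24m), map_mul _ (vM⁻¹ : M24m), map_inv, bV]
    calc _ = (L.s vM)⁻¹ * ((L.s (vM * g4 * vM⁻¹))⁻¹ * L.T * L.s (vM * g4 * vM⁻¹)) * L.s vM := by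
          group
      _ = (L.s vM)⁻¹ * L.T * (c2 * L.s vM) := by rw [e2]; group
      _ = _ := by rw [← L.cen hc2]; group
  have hcc : c1 * c2 * (c1 * c2) = 1 := by
    calc c1 * c2 * (c1 * c2) = c1 * (c2 * c1) * c2 := by group
      _ = c1 * (c1 * c2) * c2 := by rw [L.cen hc2 c1]
      _ = c1 * c1 * (c2 * c2) := by group
      _ = 1 := by rw [hc1s, hc2s, one_mul]
  set P := L.T * (L.s aM)⁻¹ * L.bV with hP
  have hconj : (L.s g4)⁻¹ * (L.s aM * L.T * L.bV) * L.s g4 = P * (c1 * c2) := by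
    calc (L.s g4)⁻¹ * (L.s aM * L.T * L.bV) * L.s g4
        = (L.s g4)⁻¹ * L.s aM * L.s g4 * ((L.s g4)⁻¹ * L.T * L.s g4) *
            ((L.s g4)⁻¹ * L.bV * L.s g4) := by group
      _ = L.T * (L.s aM)⁻¹ * (c1 * L.bV) * c2 := by rw [hA, hT, hB]; group
      _ = P * (c1 * c2) := by rw [← L.cen hc1, hP]; group
  have h1 : L.z4 = P ^ 2 := by
    calc L.z4 = (L.s g4)⁻¹ * (L.s g4 * L.z4) := by rw [inv_mul_cancel_left]
      _ = (L.s g4)⁻¹ * L.z4 * L.s g4 := by rw [L.cen L.z4_mem, mul_assoc]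
      _ = (P * (c1 * c2)) ^ 2 := by rw [← hconj, z4, pow_two, pow_two]; group
      _ = P * ((c1 * c2) * P) * (c1 * c2) := by rw [pow_two]; group
      _ = P * P * ((c1 * c2) * (c1 * c2)) := by rw [← L.cen (mul_mem hc1 hc2)]; group
      _ = P ^ 2 := by rw [hcc, mul_one, pow_two]
  have h2 : L.z4⁻¹ = L.bV * P ^ 2 * L.bV⁻¹ := by
    rw [z4, ← inv_pow, hP, mul_inv_rev, mul_inv_rev, L.bV_inv, L.T_inv, shift2, L.bV_inv]
  rw [← h1, L.cen L.z4_mem, mul_inv_cancel_right] at h2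
  rw [← mul_inv_cancel L.z4, h2]

/-- When the four constants vanish the presented group maps back. -/
theorem exists_section (h1 : L.dfx = 1) (h2 : L.dfw = 1) (h3 : L.z3 = 1) (h4 : L.z4 = 1) :
    ∃ ρ : Spor.J4 →* E, σ.comp ρ = MonoidHom.id Spor.J4 := by
  have hrel : ∀ r ∈ Spor.coxRelators Spor.J4.edges ∪ {r | r ∈ Spor.J4.extra},
      FreeGroup.lift L.gv r = 1 := by
    intro r hr
    rcases hr with ⟨a, ha, -⟩ | hr
    · simp [Spor.J4.edges, Spor.coxNodes] at ha
    obtain ⟨q1, q2, q3, q4, q5, q6, q7⟩ := M24_rels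
    simp only [Spor.J4.extra, Set.mem_ofPred_eq, List.mem_cons, List.not_mem_nil, or_false] at hr
    rcases hr with rfl | rfl | rfl | rfl | rfl | rfl | rfl | rfl | rfl | rfl | rfl | rfl
    · simpa [gv] using congrArg L.s q1
    · simpa [gv] using congrArg L.s q2
    · simpa [gv] using congrArg L.s q3
    · simpa [gv] using congrArg L.s q4
    · simpa [gv] using congrArg L.s q5
    · simpa [gv] using congrArg L.s q6
    · simpa [gv] using congrArg L.s q7
    · simpa [gv, pow_two] using L.TT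
    · simpa [dfw, wM, gv] using h2
    · simpa [dfx, gv] using h1
    · simpa [z3, aU, uM, gv] using h3
    · simpa [z4, bV, vM, aM, gv] using h4
  refine ⟨PresentedGroup.toGroup hrel, PresentedGroup.ext fun a => ?_⟩
  rw [MonoidHom.comp_apply, PresentedGroup.toGroup.of, MonoidHom.id_apply]
  cases a
  exacts [L.sx, L.sy, L.sT]

end Lifts

end

/-- A stem extension with a section is injective. -/
theorem injective_of_section {E G : Type} [Group E] [Group G] {σ : E →* G}
    (h : IsStemExtension σ) {ρ : G →* E} (hρ : σ.comp ρ = MonoidHom.id G) :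
    Function.Injective σ := by
  have hσρ : ∀ g, σ (ρ g) = g := DFunLike.congr_fun hρ
  have hz : ∀ e : E, e * (ρ (σ e))⁻¹ ∈ Subgroup.center E := fun e =>
    h.2.1 (by rw [MonoidHom.mem_ker, map_mul, map_inv, hσρ, mul_inv_cancel])
  have hle : commutator E ≤ ρ.range := by
    rw [commutator_def]
    refine Subgroup.commutator_le.mpr fun a _ b _ => ⟨⁅σ a, σ b⁆, ?_⟩
    rw [map_commutatorElement]
    have key : ∀ z ∈ Subgroup.center E, ∀ w ∈ Subgroup.center E, ∀ p q : E,
        ⁅z * p, w * q⁆ = ⁅p, q⁆ := by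
      intro z hz w hw p q
      have hz' := Subgroup.mem_center_iff.mp hz
      have hw' := Subgroup.mem_center_iff.mp hw
      simp only [commutatorElement_def, mul_inv_rev]
      calc z * p * (w * q) * (p⁻¹ * z⁻¹) * (q⁻¹ * w⁻¹)
          = z * p * w * q * p⁻¹ * z⁻¹ * q⁻¹ * w⁻¹ := by group
        _ = p * w * (z * (q * p⁻¹)) * z⁻¹ * q⁻¹ * w⁻¹ := by
            rw [← hz' p]; simp only [mul_assoc]; rw [← mul_assoc z w, ← hz' w, mul_assoc]
        _ = p * w * (q * p⁻¹) * q⁻¹ * w⁻¹ := by rw [← hz']; group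
        _ = p * (w * (q * p⁻¹ * q⁻¹)) * w⁻¹ := by group
        _ = _ := by rw [← hw']; group
    conv_rhs => rw [show a = a * (ρ (σ a))⁻¹ * ρ (σ a) by group,
      show b = b * (ρ (σ b))⁻¹ * ρ (σ b) by group]
    exact (key _ (hz a) _ (hz b) _ _).symm
  rw [← MonoidHom.ker_eq_bot_iff, eq_bot_iff]
  intro z hzk
  obtain ⟨g, rfl⟩ := hle (h.2.2 hzk)
  have hg : g = 1 := by rw [← hσρ g]; exact hzk
  simp [hg]

/-- The kernel has exponent two. -/
theorem kernel_sq {E : Type} [Group E] {σ : E →* Spor.J4} (hσ : IsStemExtension σ) (L : Lifts σ) :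
    ∀ z ∈ σ.ker, z * z = 1 := by
  let N : Subgroup E :=
    { carrier := {z | z ∈ σ.ker ∧ z * z = 1}
      one_mem' := ⟨one_mem _, one_mul 1⟩
      mul_mem' := fun {a b} ha hb => ⟨mul_mem ha.1 hb.1, by
        calc a * b * (a * b) = a * (b * a) * b := by group
          _ = a * (a * b) * b := by rw [L.cen hb.1 a]
          _ = a * a * (b * b) := by group
          _ = 1 := by rw [ha.2, hb.2, one_mul]⟩
      inv_mem' := fun {a} ha => ⟨inv_mem ha.1, by rw [← mul_inv_rev, ha.2, inv_one]⟩ }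
  have hN : ∀ z, z ∈ N ↔ z ∈ σ.ker ∧ z * z = 1 := fun z => Iff.rfl
  have hNn : N.Normal := ⟨fun z hz g => by
    rw [L.cen hz.1 g, mul_inv_cancel_right]; exact hz⟩
  let mk := QuotientGroup.mk' N
  let σ' : E ⧸ N →* Spor.J4 := QuotientGroup.lift N σ fun z hz => hz.1
  have hcomp : ∀ e, σ' (mk e) = σ e := fun e => rfl
  have hst : IsStemExtension σ' := by
    refine ⟨fun g => ?_, fun q hq => ?_, fun q hq => ?_⟩
    · obtain ⟨e, rfl⟩ := hσ.1 g
      exact ⟨mk e, rfl⟩
    · obtain ⟨e, rfl⟩ := QuotientGroup.mk'_surjective N q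
      refine Subgroup.mem_center_iff.mpr fun r => ?_
      obtain ⟨f, rfl⟩ := QuotientGroup.mk'_surjective N r
      rw [← map_mul, ← map_mul, L.cen (show e ∈ σ.ker from hq)]
    · obtain ⟨e, rfl⟩ := QuotientGroup.mk'_surjective N q
      rw [commutator_def]
      have := Subgroup.mem_map_of_mem mk (hσ.2.2 (show e ∈ σ.ker from hq))
      rw [commutator_def, Subgroup.map_commutator] at this
      exact Subgroup.commutator_mono le_top le_top this
  let L' : Lifts σ' :=
    { s := mk.comp L.s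
      T := mk L.T
      sx := L.sx
      sy := L.sy
      sT := L.sT
      TT := by rw [← map_mul, L.TT, map_one]
      central := hst.2.1 }
  have hone : ∀ z : E, z ∈ σ.ker → z * z = 1 → mk z = 1 := fun z h1 h2 =>
    (QuotientGroup.eq_one_iff z).mpr ⟨h1, h2⟩
  obtain ⟨ρ, hρ⟩ := L'.exists_section
    (by show _ = (1 : E ⧸ N); simpa [L', Lifts.dfx] using hone _ L.dfx_mem L.dfx_sq)
    (by show _ = (1 : E ⧸ N); simpa [L', Lifts.dfw] using hone _ L.dfw_mem L.dfw_sq)
    (by show _ = (1 : E ⧸ N); simpa [L', Lifts.z3, Lifts.aU] using hone _ L.z3_mem L.z3_sq)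
    (by show _ = (1 : E ⧸ N); simpa [L', Lifts.z4, Lifts.bV] using hone _ L.z4_mem L.z4_sq)
  intro z hz
  have hinj := injective_of_section hst hρ
  have : mk z = 1 := hinj (by rw [hcomp, map_one]; exact hz)
  exact ((QuotientGroup.eq_one_iff z).mp this).2

/-- Evaluation of a word of the trio group with the parity of its letters. -/
theorem conj_prod {E : Type} [Group E] {σ : E →* Spor.J4} (L : Lifts σ) (hx : L.dfx = 1) :
    ∀ w : List (Fin 3),
      ((w.map fun l => ![L.s xM, L.s wM, (L.s wM)⁻¹] l).prod)⁻¹ * L.T *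
          (w.map fun l => ![L.s xM, L.s wM, (L.s wM)⁻¹] l).prod =
        L.T * L.dfw ^ (w.countP fun l => l != 0) := by
  intro w
  induction w with
  | nil => simp
  | cons l w ih =>
    set P := (w.map fun l => ![L.s xM, L.s wM, (L.s wM)⁻¹] l).prod with hP
    rw [List.map_cons, List.prod_cons, List.countP_cons]
    have step : ∀ (a : E) (k : ℕ), a⁻¹ * L.T * a = L.T * L.dfw ^ k →
        (a * P)⁻¹ * L.T * (a * P) = L.T * L.dfw ^ ((w.countP fun l => l != 0) + k) := by
      intro a k ha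
      calc (a * P)⁻¹ * L.T * (a * P) = P⁻¹ * (a⁻¹ * L.T * a) * P := by group
        _ = P⁻¹ * L.T * (L.dfw ^ k * P) := by rw [ha]; group
        _ = P⁻¹ * L.T * P * L.dfw ^ k := by rw [← L.cen (pow_mem L.dfw_mem k)]; group
        _ = _ := by rw [ih, pow_add, mul_assoc]
    fin_cases l
    · exact step (L.s xM) 0 (by rw [L.conj_x, hx, pow_zero])
    · exact step (L.s wM) 1 (by rw [L.conj_w, pow_one])
    · refine step (L.s wM)⁻¹ 1 ?_
      have hinv : L.dfw⁻¹ = L.dfw := inv_eq_of_mul_eq_one_right L.dfw_sq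
      rw [pow_one, inv_inv]
      calc L.s wM * L.T * (L.s wM)⁻¹ = L.s wM * (L.T * L.dfw) * L.dfw⁻¹ * (L.s wM)⁻¹ := by group
        _ = L.s wM * ((L.s wM)⁻¹ * L.T * L.s wM) * (L.dfw * (L.s wM)⁻¹) := by rw [L.conj_w, hinv]; group
        _ = _ := by rw [← L.cen L.dfw_mem]; group

/-- A word of the trio group with value one and an odd number of second letters. -/
def oddWord : List (Fin 3) :=
  [0, 1, 0, 1, 0, 1, 0, 1, 0, 1, 0, 1, 1, 0, 1, 0, 2, 0, 2, 0, 1, 0, 1, 0, 1, 0, 2, 0, 2, 0, 1, 1]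

theorem oddWord_eval :
    (((oddWord.map fun l => ![xM, wM, wM⁻¹] l).prod : M24m) : Equiv.Perm (Fin 24)) = 1 := by
  decide +kernel

theorem oddWord_count : (oddWord.countP fun l => l != 0) % 2 = 1 := by decide +kernel

theorem dfw_one {E : Type} [Group E] {σ : E →* Spor.J4} (L : Lifts σ) (hx : L.dfx = 1) :
    L.dfw = 1 := by
  have h := conj_prod L hx oddWord
  have e : (oddWord.map fun l => ![L.s xM, L.s wM, (L.s wM)⁻¹] l).prod = 1 := by
    rw [← map_one L.s, ← (Subtype.ext oddWord_eval :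
      (oddWord.map fun l => ![xM, wM, wM⁻¹] l).prod = 1), map_list_prod, List.map_map]
    refine congrArg List.prod (List.map_congr_left fun l _ => ?_)
    fin_cases l <;> simp
  rw [e, inv_one, one_mul, mul_one] at h
  have h' : L.dfw ^ (oddWord.countP fun l => l != 0) = 1 := by
    simpa using h.symm
  rwa [← Nat.mod_add_div (oddWord.countP fun l => l != 0) 2, pow_add, pow_mul, oddWord_count,
    pow_two, L.dfw_sq, one_pow, mul_one, pow_one] at h'

/-- The inputs: the map of the model and three conjugacies of involutions. -/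
structure Inputs where
  φ : M24m →* Spor.J4
  φx : φ xM = PresentedGroup.of Spor.J4.Gen.x
  φy : φ yM = PresentedGroup.of Spor.J4.Gen.y
  t_conj : ∃ (g : Spor.J4) (p : M24m), p * p = 1 ∧
    g * φ p * g⁻¹ = PresentedGroup.of Spor.J4.Gen.t
  tx_conj : ∃ (g : Spor.J4) (p : M24m), p * p = 1 ∧
    g * φ p * g⁻¹ = PresentedGroup.of Spor.J4.Gen.t * φ xM
  last_conj : ∃ (g : Spor.J4) (p : M24m), p * p = 1 ∧
    g * φ p * g⁻¹ = φ aM * PresentedGroup.of Spor.J4.Gen.t *
      ((φ vM)⁻¹ * PresentedGroup.of Spor.J4.Gen.t * φ vM)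

/-- Every finite stem extension is injective. -/
theorem injective_stem (I : Inputs) {E : Type} [Group E] [Finite E] (σ : E →* Spor.J4)
    (hσ : IsStemExtension σ) : Function.Injective σ := by
  obtain ⟨s, hs⟩ := exists_lift σ hσ.1 hσ.2.1 I.φ
  have hs' : ∀ p, σ (s p) = I.φ p := DFunLike.congr_fun hs
  obtain ⟨g, p, hp, hg⟩ := I.t_conj
  obtain ⟨G, rfl⟩ := hσ.1 g
  have hsT : σ (G * s p * G⁻¹) = PresentedGroup.of Spor.J4.Gen.t := by
    rw [map_mul, map_mul, map_inv, hs', hg]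
  let L : Lifts σ :=
    { s := s
      T := G * s p * G⁻¹
      sx := by rw [hs', I.φx]
      sy := by rw [hs', I.φy]
      sT := hsT
      TT := by
        calc G * s p * G⁻¹ * (G * s p * G⁻¹) = G * (s p * s p) * G⁻¹ := by group
          _ = 1 := by rw [← map_mul, hp, map_one]; group
      central := hσ.2.1 }
  have hz := kernel_sq hσ L
  -- squares of elements above conjugates of involutions of the model vanish
  have sqconj : ∀ (e : E), (∃ (g : Spor.J4) (p : M24m), p * p = 1 ∧ g * I.φ p * g⁻¹ = σ e) →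
      e * e = 1 := by
    rintro e ⟨g, q, hq, he⟩
    obtain ⟨H, rfl⟩ := hσ.1 g
    have hk : (H * s q * H⁻¹)⁻¹ * e ∈ σ.ker := by
      rw [MonoidHom.mem_ker, map_mul, map_inv, map_mul, map_mul, map_inv, hs', he,
        inv_mul_cancel]
    set P := H * s q * H⁻¹ with hP
    have hPP : P * P = 1 := by
      calc P * P = H * (s q * s q) * H⁻¹ := by rw [hP]; group
        _ = 1 := by rw [← map_mul, hq, map_one]; group
    calc e * e = P * ((P⁻¹ * e) * P) * (P⁻¹ * e) := by group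
      _ = P * P * ((P⁻¹ * e) * (P⁻¹ * e)) := by rw [← L.cen hk P]; group
      _ = 1 := by rw [hPP, hz _ hk, one_mul]
  have hx : L.dfx = 1 := by
    have h1 := sqconj (L.T * L.s xM) (by rw [map_mul, L.sT, hs']; exact I.tx_conj)
    have hX : (L.s xM)⁻¹ = L.s xM := by
      rw [← map_inv]
      refine congrArg L.s (inv_eq_of_mul_eq_one_right ?_)
      rw [← pow_two]; exact M24_rels.1
    rw [Lifts.dfx, L.T_inv, hX]
    simpa [mul_assoc] using h1
  have h4 : L.z4 = 1 := by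
    rw [Lifts.z4, pow_two]
    refine sqconj _ ?_
    have hLT : σ L.T = PresentedGroup.of Spor.J4.Gen.t := hsT
    have hLs : ∀ q, σ (L.s q) = I.φ q := hs'
    rw [Lifts.bV]
    simpa only [map_mul, map_inv, hLs, hLT] using I.last_conj
  have hc3 : ∀ g : E, g * L.z3 = L.z3 * g := L.cen L.z3_mem
  let L' : Lifts σ :=
    { L with
      T := L.T * L.z3
      sT := by rw [map_mul, L.sT, MonoidHom.mem_ker.mp L.z3_mem, mul_one]
      TT := by
        calc L.T * L.z3 * (L.T * L.z3) = L.T * (L.z3 * L.T) * L.z3 := by group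
          _ = L.T * L.T * (L.z3 * L.z3) := by rw [← hc3]; group
          _ = 1 := by rw [L.TT, L.z3_sq, one_mul] }
  have hconj : ∀ e : E, e⁻¹ * (L.T * L.z3) * e = e⁻¹ * L.T * e * L.z3 := fun e => by
    calc e⁻¹ * (L.T * L.z3) * e = e⁻¹ * L.T * (L.z3 * e) := by group
      _ = _ := by rw [← hc3]; group
  have hdf : ∀ e : E, (L.T * L.z3)⁻¹ * e⁻¹ * (L.T * L.z3) * e = L.T⁻¹ * e⁻¹ * L.T * e := fun e => by
    calc (L.T * L.z3)⁻¹ * e⁻¹ * (L.T * L.z3) * e
        = L.z3⁻¹ * (L.T⁻¹ * (e⁻¹ * (L.T * L.z3) * e)) := by group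
      _ = L.z3⁻¹ * ((L.T⁻¹ * (e⁻¹ * L.T * e)) * L.z3) := by rw [hconj]; group
      _ = _ := by rw [hc3, inv_mul_cancel_left]; group
  have hw := dfw_one L hx
  obtain ⟨ρ, hρ⟩ := L'.exists_section
    (by show (L.T * L.z3)⁻¹ * (L.s xM)⁻¹ * (L.T * L.z3) * L.s xM = 1
        rw [hdf]; exact hx)
    (by show (L.T * L.z3)⁻¹ * (L.s wM)⁻¹ * (L.T * L.z3) * L.s wM = 1
        rw [hdf]; exact hw)
    (by show (L.s yM * ((L.s uM)⁻¹ * (L.T * L.z3) * L.s uM)) ^ 3 = 1
        rw [hconj, ← mul_assoc, (Commute.mul_pow (hc3 _)), ← Lifts.aU, ← Lifts.z3]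
        rw [show L.z3 * L.z3 ^ 3 = L.z3 * L.z3 * (L.z3 * L.z3) by simp only [pow_three, mul_assoc], L.z3_sq, one_mul])
    (by show (L.s aM * (L.T * L.z3) * ((L.s vM)⁻¹ * (L.T * L.z3) * L.s vM)) ^ 2 = 1
        rw [hconj, ← Lifts.bV]
        have : L.s aM * (L.T * L.z3) * (L.bV * L.z3) = L.s aM * L.T * L.bV := by
          calc L.s aM * (L.T * L.z3) * (L.bV * L.z3)
              = L.s aM * L.T * (L.z3 * L.bV) * L.z3 := by group
            _ = L.s aM * L.T * L.bV * (L.z3 * L.z3) := by rw [← hc3]; group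
            _ = _ := by rw [L.z3_sq, mul_one]
        rw [this]; exact h4)
  exact injective_of_section hσ hρ

/-- The multiplier is trivial. -/
theorem multiplier_trivial (I : Inputs) [Finite Spor.J4] :
    Cfsg.HasCyclicSchurMultiplier Spor.J4 1 := by
  refine ⟨⟨Spor.J4, inferInstance, inferInstance, MonoidHom.id _, ⟨Function.surjective_id, ?_, ?_⟩,
    ⟨?_⟩⟩, fun Γ _ _ σ hσ => ⟨1, ?_⟩⟩
  · intro x hx
    rw [show x = 1 from hx]; exact one_mem _
  · intro x hx
    rw [show x = 1 from hx]; exact one_mem _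
  · have : Subsingleton (MonoidHom.id Spor.J4).ker :=
      ⟨fun a b => Subtype.ext ((show (a : Spor.J4) = 1 from a.2).trans (show (b : Spor.J4) = 1 from b.2).symm)⟩
    have := uniqueOfSubsingleton (1 : (MonoidHom.id Spor.J4).ker)
    exact MulEquiv.ofUnique
  · have : Subsingleton σ.ker := by
      rw [(MonoidHom.ker_eq_bot_iff σ).mpr (injective_stem I σ hσ)]
      infer_instance
    exact fun b => ⟨1, Subsingleton.elim _ _⟩

end CfsgLib.Coset.J4.MultJ
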