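import Cfsg.Agent.Coset.J4.RepChecks1
import Cfsg.Agent.Coset.Checker
import Cfsg.Prelude.Def_Spor_J4
import Mathlib.LinearAlgebra.Matrix.GeneralLinearGroup.Defs
import Mathlib.GroupTheory.PresentedGroup
import Mathlib.GroupTheory.FreeGroup.Reduce

/-!
A representation of the presented Janko group by matrices of degree 112 over two elements in which
`t` is not the identity.
-/

set_option autoImplicit false
set_option maxRecDepth 100000

namespace CfsgLib.Coset.J4

open Cfsg.Spor.J4 (Gen)
open Mat

/-- The letters of a signed generator. -/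
def repSw : Gen × Bool → List Nat
  | (.x, _) => [0]
  | (.y, true) => [1]
  | (.y, false) => [2]
  | (.t, _) => [3]

/-- The matrix word of an element of the free group. -/
def repTw (r : FreeGroup Gen) : List Nat := r.toWord.flatMap repSw

theorem repTw_extra : Cfsg.Spor.J4.extra.map repTw = relW := by decide +kernel

theorem rel_letters : ∀ w ∈ relW, ∀ l ∈ w, l < 4 := by decide +kernel

theorem relW_matWord : ∀ w ∈ relW, matWord 112 matL w = 1 := by
  intro w hw
  have hlen : ∀ l ∈ w, (matL.getD l []).length = 112 := fun l hl =>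
    matL_len l (rel_letters w hw l hl)
  obtain ⟨i, hi, rfl⟩ := List.getElem_of_mem hw
  refine matWord_eq_one (d := 7) hlen ?_
  rw [← List.getD_eq_getElem relW [] hi]
  have hi' : i < 12 := hi
  interval_cases i
  exacts [rel0_ok, rel1_ok, rel2_ok, rel3_ok, rel4_ok, rel5_ok, rel6_ok, rel7_ok, rel8_ok, rel9_ok,
    rel10_ok, rel11_ok]

theorem sq_x : matOf 112 rowsX * matOf 112 rowsX = 1 := by
  have h := relW_matWord [0, 0] (by decide +kernel)
  simpa [matWord, matL] using h

theorem sq_t : matOf 112 rowsT * matOf 112 rowsT = 1 := by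
  have h := relW_matWord [3, 3] (by decide +kernel)
  simpa [matWord, matL] using h

theorem inv_y : matOf 112 rowsY * matOf 112 rowsY2 = 1 := by
  have h : matWord 112 matL [1, 2] = 1 :=
    matWord_eq_one (d := 7) (fun l hl => matL_len l (by simp at hl; omega)) pairY_ok
  simpa [matWord, matL] using h

attribute [local irreducible] matOf

/-- The image of a generator. -/
def repGen : Gen → GL (Fin 112) (ZMod 2)
  | .x => ⟨matOf 112 rowsX, matOf 112 rowsX, sq_x, sq_x⟩
  | .y => ⟨matOf 112 rowsY, matOf 112 rowsY2, inv_y, mul_eq_one_comm.mp inv_y⟩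
  | .t => ⟨matOf 112 rowsT, matOf 112 rowsT, sq_t, sq_t⟩

theorem val_lift (r : FreeGroup Gen) :
    ((FreeGroup.lift repGen r : GL (Fin 112) (ZMod 2)) : Matrix (Fin 112) (Fin 112) (ZMod 2)) =
      matWord 112 matL (repTw r) := by
  set g := FreeGroup.lift repGen with hg
  have key : ∀ v : List (Gen × Bool),
      ((g (FreeGroup.mk v) : GL (Fin 112) (ZMod 2)) : Matrix (Fin 112) (Fin 112) (ZMod 2)) =
        matWord 112 matL (v.flatMap repSw) := by
    intro v
    induction v with
    | nil => rw [← FreeGroup.one_eq_mk, map_one]; rfl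
    | cons p v ih =>
      have e : FreeGroup.mk (p :: v) = FreeGroup.mk [p] * FreeGroup.mk v := rfl
      rw [e, map_mul, Units.val_mul, ih]
      obtain ⟨a, b⟩ := p
      have hx : g (FreeGroup.of a) = repGen a := FreeGroup.lift_apply_of
      cases b
      · rw [show FreeGroup.mk [(a, false)] = (FreeGroup.of a)⁻¹ from rfl, map_inv, hx]
        cases a <;> simp [repSw, matWord, matL, repGen]
      · rw [show FreeGroup.mk [(a, true)] = FreeGroup.of a from rfl, hx]
        cases a <;> simp [repSw, matWord, matL, repGen]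
  conv_lhs => rw [← FreeGroup.mk_toWord (x := r)]
  exact key r.toWord

theorem lift_rels : ∀ r ∈ Cfsg.Spor.coxRelators Cfsg.Spor.J4.edges ∪ {r | r ∈ Cfsg.Spor.J4.extra},
    FreeGroup.lift repGen r = 1 := by
  rintro r (⟨a, ha, b, -, -⟩ | hr)
  · simp [Cfsg.Spor.J4.edges, Cfsg.Spor.coxNodes] at ha
  · refine Units.ext ?_
    rw [val_lift, relW_matWord _ (repTw_extra ▸ List.mem_map_of_mem hr)]
    rfl

/-- The representation of the presented group. -/
def repJ4 : Cfsg.Spor.J4 →* GL (Fin 112) (ZMod 2) :=
  PresentedGroup.toGroup (f := repGen) lift_rels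

theorem repJ4_of (a : Gen) : repJ4 (PresentedGroup.of a) = repGen a :=
  PresentedGroup.toGroup.of lift_rels

/-- The involution `t` of the presentation acts nontrivially. -/
theorem repJ4_t_ne_one : repJ4 (PresentedGroup.of Gen.t) ≠ 1 := by
  rw [repJ4_of]
  intro h
  have hv : matOf 112 rowsT = 1 := congrArg Units.val h
  have h1 := rowVec_vm (n := 112) (rows := rowsT) (by decide +kernel) (Nat.pow 2 0)
  rw [hv, Matrix.vecMul_one] at h1
  have hlt : vm rowsT (Nat.pow 2 0) < 2 ^ 112 := by decide +kernel
  refine Nat.ne_of_beq_eq_false t_ne (Nat.eq_of_testBit_eq fun j => ?_)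
  rcases lt_or_ge j 112 with hj | hj
  · have := congrFun h1 ⟨j, hj⟩
    revert this
    simp only [rowVec, bz]
    cases (vm rowsT (Nat.pow 2 0)).testBit j <;> cases (Nat.pow 2 0).testBit j <;> simp
  · rw [Nat.testBit_eq_false_of_lt (hlt.trans_le (Nat.pow_le_pow_right (by norm_num) hj)),
      Nat.testBit_eq_false_of_lt ((show Nat.pow 2 0 < 2 ^ 112 by decide).trans_le
        (Nat.pow_le_pow_right (by norm_num) hj))]

/-- The presented group is nontrivial. -/
theorem t_ne_one : (PresentedGroup.of Gen.t : Cfsg.Spor.J4) ≠ 1 := fun h =>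
  repJ4_t_ne_one (h ▸ map_one repJ4)

end CfsgLib.Coset.J4
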