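/-
The three conjugacies between involutions needed for the multiplier of the presented Janko group,
from a faithful representation of degree 112: the reduction to blocks of unit vectors.
-/
import Cfsg.Agent.Coset.J4.MultBase
import Cfsg.Agent.Coset.J4.MultWitData
import Cfsg.Agent.Coset.J4.Rep
import Cfsg.Agent.Coset.Table

set_option autoImplicit false
set_option maxRecDepth 100000
set_option Elab.async false

namespace CfsgLib.Coset.J4.MultJ

open Cfsg.Spor.J4 (Gen)
open Mat
open CfsgLib.Coset (allList allList_iff)

/-- The value of a word in the presented group. -/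
def wordJ (w : List Nat) : Cfsg.Spor.J4 :=
  (w.map fun l => [PresentedGroup.of Gen.x, PresentedGroup.of Gen.y, (PresentedGroup.of Gen.y)⁻¹,
    PresentedGroup.of Gen.t].getD l 1).prod

/-- The value of a word in the model. -/
def evM (w : List Nat) : M24m := (w.map fun l => [xM, yM, yM⁻¹].getD l 1).prod

theorem wordJ_append (v w : List Nat) : wordJ (v ++ w) = wordJ v * wordJ w := by
  simp [wordJ]

theorem rep_wordJ : ∀ w : List Nat, (∀ l ∈ w, l < 4) →
    ((repJ4 (wordJ w) : GL (Fin 112) (ZMod 2)) : Matrix (Fin 112) (Fin 112) (ZMod 2)) =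
      matWord 112 matL w := by
  intro w
  induction w with
  | nil => intro _; simp [wordJ, matWord]
  | cons l w ih =>
    intro h
    rw [matWord_cons, ← ih fun m hm => h m (List.mem_cons_of_mem _ hm)]
    simp only [wordJ, List.map_cons, List.prod_cons, map_mul, Units.val_mul]
    congr 1
    have hl := h l List.mem_cons_self
    interval_cases l <;> simp [repJ4_of, repGen, matL]

/-- Two words agree on one block of fourteen unit vectors. -/
noncomputable def blockEq (u w : List Nat) (a : Nat) : Bool :=
  allList (fun i => Nat.beq (vw matL (Nat.pow 2 i) u) (vw matL (Nat.pow 2 i) w))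
    (List.range' (14 * a) 14)

/-- Two short-lettered words agree on the eight blocks. -/
def EQW (u w : List Nat) : Prop :=
  (∀ l ∈ u ++ w, l < 4) ∧ ∀ a < 8, blockEq u w a = true

theorem eqW_of_blocks {u w : List Nat} (h : ∀ l ∈ u ++ w, l < 4) (h0 : blockEq u w 0 = true)
    (h1 : blockEq u w 1 = true) (h2 : blockEq u w 2 = true) (h3 : blockEq u w 3 = true)
    (h4 : blockEq u w 4 = true) (h5 : blockEq u w 5 = true) (h6 : blockEq u w 6 = true)
    (h7 : blockEq u w 7 = true) : EQW u w :=
  ⟨h, fun a ha => by interval_cases a <;> assumption⟩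

theorem wordJ_eq (hinj : Function.Injective repJ4) {u w : List Nat} (h : EQW u w) :
    wordJ u = wordJ w := by
  have hu : ∀ l ∈ u, l < 4 := fun l hl => h.1 l (List.mem_append_left _ hl)
  have hw : ∀ l ∈ w, l < 4 := fun l hl => h.1 l (List.mem_append_right _ hl)
  refine hinj (Units.ext ?_)
  rw [rep_wordJ u hu, rep_wordJ w hw]
  refine Matrix.ext fun i j => ?_
  have hi := i.2
  have h1 := Nat.eq_of_beq_eq_true (allList_iff.mp (h.2 ((i : Nat) / 14) (by omega)) i
    (List.mem_range'_1.mpr ⟨by omega, by omega⟩))
  have h2 := congrFun (rowVec_vw (n := 112) u (fun l hl => matL_len l (hu l hl)) (2 ^ (i : Nat))) j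
  have h3 := congrFun (rowVec_vw (n := 112) w (fun l hl => matL_len l (hw l hl)) (2 ^ (i : Nat))) j
  rw [rowVec_pow, Matrix.single_one_vecMul] at h2 h3
  rw [show vw matL (2 ^ (i : Nat)) u = vw matL (2 ^ (i : Nat)) w from h1] at h2
  exact h2.symm.trans h3

theorem phi_evM (φ : M24m →* Cfsg.Spor.J4) (hx : φ xM = PresentedGroup.of Gen.x)
    (hy : φ yM = PresentedGroup.of Gen.y) :
    ∀ w : List Nat, (∀ l ∈ w, l < 3) → φ (evM w) = wordJ w := by
  intro w
  induction w with
  | nil => intro _; simp [evM, wordJ]
  | cons l w ih =>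
    intro h
    simp only [evM, wordJ, List.map_cons, List.prod_cons, map_mul]
    rw [show φ (w.map fun l => [xM, yM, yM⁻¹].getD l 1).prod = _ from
      ih fun m hm => h m (List.mem_cons_of_mem _ hm)]
    congr 1
    have hl := h l List.mem_cons_self
    interval_cases l <;> simp [hx, hy]

theorem conj_of_words (hinj : Function.Injective repJ4) {g s r : List Nat}
    (h : EQW (g ++ s) (r ++ g)) : wordJ g * wordJ s * (wordJ g)⁻¹ = wordJ r := by
  have e := wordJ_eq hinj h
  rw [wordJ_append, wordJ_append] at e
  rw [e, mul_inv_cancel_right]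

end CfsgLib.Coset.J4.MultJ
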