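/-
Blocks 4 to 7 of one check of the multiplier conjugacies (L).
-/
import Cfsg.Agent.Coset.J4.MultWitEq

set_option autoImplicit false
set_option maxRecDepth 100000
set_option Elab.async false

namespace CfsgLib.Coset.J4.MultJ

theorem chkL_b4 : blockEq (gLW ++ sLW) (rLW ++ gLW) 4 = true := by decide +kernel

theorem chkL_b5 : blockEq (gLW ++ sLW) (rLW ++ gLW) 5 = true := by decide +kernel

theorem chkL_b6 : blockEq (gLW ++ sLW) (rLW ++ gLW) 6 = true := by decide +kernel

theorem chkL_b7 : blockEq (gLW ++ sLW) (rLW ++ gLW) 7 = true := by decide +kernel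

end CfsgLib.Coset.J4.MultJ
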