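/-
Blocks 0 to 3 of one check of the multiplier conjugacies (L).
-/
import Cfsg.Agent.Coset.J4.MultWitEq

set_option autoImplicit false
set_option maxRecDepth 100000
set_option Elab.async false

namespace CfsgLib.Coset.J4.MultJ

theorem chkL_l : ∀ l ∈ (gLW ++ sLW) ++ (rLW ++ gLW), l < 4 := by decide +kernel

theorem chkL_b0 : blockEq (gLW ++ sLW) (rLW ++ gLW) 0 = true := by decide +kernel

theorem chkL_b1 : blockEq (gLW ++ sLW) (rLW ++ gLW) 1 = true := by decide +kernel

theorem chkL_b2 : blockEq (gLW ++ sLW) (rLW ++ gLW) 2 = true := by decide +kernel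

theorem chkL_b3 : blockEq (gLW ++ sLW) (rLW ++ gLW) 3 = true := by decide +kernel

end CfsgLib.Coset.J4.MultJ
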