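/-
One of the kernel checks of the multiplier conjugacies (T).
-/
import Cfsg.Agent.Coset.J4.MultWitEq

set_option autoImplicit false
set_option maxRecDepth 100000
set_option Elab.async false

namespace CfsgLib.Coset.J4.MultJ

theorem chkT_l : ∀ l ∈ (gTW ++ sTW) ++ (rTW ++ gTW), l < 4 := by decide +kernel

theorem chkT_b0 : blockEq (gTW ++ sTW) (rTW ++ gTW) 0 = true := by decide +kernel

theorem chkT_b1 : blockEq (gTW ++ sTW) (rTW ++ gTW) 1 = true := by decide +kernel

theorem chkT_b2 : blockEq (gTW ++ sTW) (rTW ++ gTW) 2 = true := by decide +kernel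

theorem chkT_b3 : blockEq (gTW ++ sTW) (rTW ++ gTW) 3 = true := by decide +kernel

theorem chkT_b4 : blockEq (gTW ++ sTW) (rTW ++ gTW) 4 = true := by decide +kernel

theorem chkT_b5 : blockEq (gTW ++ sTW) (rTW ++ gTW) 5 = true := by decide +kernel

theorem chkT_b6 : blockEq (gTW ++ sTW) (rTW ++ gTW) 6 = true := by decide +kernel

theorem chkT_b7 : blockEq (gTW ++ sTW) (rTW ++ gTW) 7 = true := by decide +kernel

theorem chkT : EQW (gTW ++ sTW) (rTW ++ gTW) :=
  eqW_of_blocks chkT_l chkT_b0 chkT_b1 chkT_b2 chkT_b3 chkT_b4 chkT_b5 chkT_b6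
    chkT_b7

end CfsgLib.Coset.J4.MultJ
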