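/-
One of the kernel checks of the multiplier conjugacies (V).
-/
import Cfsg.Agent.Coset.J4.MultWitEq

set_option autoImplicit false
set_option maxRecDepth 100000
set_option Elab.async false

namespace CfsgLib.Coset.J4.MultJ

theorem chkV_l : ∀ l ∈ (vW ++ vI) ++ ([]), l < 4 := by decide +kernel

theorem chkV_b0 : blockEq (vW ++ vI) ([]) 0 = true := by decide +kernel

theorem chkV_b1 : blockEq (vW ++ vI) ([]) 1 = true := by decide +kernel

theorem chkV_b2 : blockEq (vW ++ vI) ([]) 2 = true := by decide +kernel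

theorem chkV_b3 : blockEq (vW ++ vI) ([]) 3 = true := by decide +kernel

theorem chkV_b4 : blockEq (vW ++ vI) ([]) 4 = true := by decide +kernel

theorem chkV_b5 : blockEq (vW ++ vI) ([]) 5 = true := by decide +kernel

theorem chkV_b6 : blockEq (vW ++ vI) ([]) 6 = true := by decide +kernel

theorem chkV_b7 : blockEq (vW ++ vI) ([]) 7 = true := by decide +kernel

theorem chkV : EQW (vW ++ vI) ([]) :=
  eqW_of_blocks chkV_l chkV_b0 chkV_b1 chkV_b2 chkV_b3 chkV_b4 chkV_b5 chkV_b6
    chkV_b7

end CfsgLib.Coset.J4.MultJ
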