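/-
Blocks 0 to 3 of one check of the multiplier conjugacies (X).
-/
import Cfsg.Agent.Coset.J4.MultWitEq

set_option autoImplicit false
set_option maxRecDepth 100000
set_option Elab.async false

namespace CfsgLib.Coset.J4.MultJ

theorem chkX_l : ∀ l ∈ (gXW ++ sXW) ++ (rXW ++ gXW), l < 4 := by decide +kernel

theorem chkX_b0 : blockEq (gXW ++ sXW) (rXW ++ gXW) 0 = true := by decide +kernel

theorem chkX_b1 : blockEq (gXW ++ sXW) (rXW ++ gXW) 1 = true := by decide +kernel

theorem chkX_b2 : blockEq (gXW ++ sXW) (rXW ++ gXW) 2 = true := by decide +kernel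

theorem chkX_b3 : blockEq (gXW ++ sXW) (rXW ++ gXW) 3 = true := by decide +kernel

end CfsgLib.Coset.J4.MultJ
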