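/-
The three conjugacies between involutions needed for the multiplier of the presented Janko group,
from a faithful representation of degree 112.
-/
import Cfsg.Agent.Coset.J4.MultWitT
import Cfsg.Agent.Coset.J4.MultWitXlo
import Cfsg.Agent.Coset.J4.MultWitXhi
import Cfsg.Agent.Coset.J4.MultWitLlo
import Cfsg.Agent.Coset.J4.MultWitLhi
import Cfsg.Agent.Coset.J4.MultWitV

set_option autoImplicit false
set_option maxRecDepth 100000
set_option Elab.async false

namespace CfsgLib.Coset.J4.MultJ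

open Cfsg.Spor.J4 (Gen)

theorem chkX : EQW (gXW ++ sXW) (rXW ++ gXW) :=
  eqW_of_blocks chkX_l chkX_b0 chkX_b1 chkX_b2 chkX_b3 chkX_b4 chkX_b5 chkX_b6
    chkX_b7

theorem chkL : EQW (gLW ++ sLW) (rLW ++ gLW) :=
  eqW_of_blocks chkL_l chkL_b0 chkL_b1 chkL_b2 chkL_b3 chkL_b4 chkL_b5 chkL_b6
    chkL_b7

theorem letters_ok : (∀ l ∈ sTW, l < 3) ∧ (∀ l ∈ sXW, l < 3) ∧ (∀ l ∈ sLW, l < 3) ∧
    (∀ l ∈ aW, l < 3) ∧ (∀ l ∈ vW, l < 3) := by decide +kernel

theorem sT_sq : evM sTW * evM sTW = 1 := Subtype.ext (by decide +kernel)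

theorem sX_sq : evM sXW * evM sXW = 1 := Subtype.ext (by decide +kernel)

theorem sL_sq : evM sLW * evM sLW = 1 := Subtype.ext (by decide +kernel)

theorem aM_eq : evM aW = aM := Subtype.ext (by decide +kernel)

theorem vM_eq : evM vW = vM := Subtype.ext (by decide +kernel)

theorem rLW_eq : rLW = aW ++ [3] ++ (vI ++ [3] ++ vW) := by decide +kernel

/-- The inputs of the multiplier theorem. -/
noncomputable def inputs (φ : M24m →* Cfsg.Spor.J4) (hx : φ xM = PresentedGroup.of Gen.x)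
    (hy : φ yM = PresentedGroup.of Gen.y) (hinj : Function.Injective repJ4) : Inputs where
  φ := φ
  φx := hx
  φy := hy
  t_conj := ⟨wordJ gTW, evM sTW, sT_sq, by
    rw [phi_evM φ hx hy _ letters_ok.1, conj_of_words hinj chkT]
    simp [wordJ, rTW]⟩
  tx_conj := ⟨wordJ gXW, evM sXW, sX_sq, by
    rw [phi_evM φ hx hy _ letters_ok.2.1, conj_of_words hinj chkX, hx]
    simp [wordJ, rXW]⟩
  last_conj := ⟨wordJ gLW, evM sLW, sL_sq, by
    have hv : (φ vM)⁻¹ = wordJ vI := by
      have h := wordJ_eq hinj chkV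
      rw [wordJ_append, show wordJ [] = 1 from rfl] at h
      rw [← vM_eq, phi_evM φ hx hy _ letters_ok.2.2.2.2, inv_eq_of_mul_eq_one_right h]
    have h3 : wordJ [3] = PresentedGroup.of Gen.t := by simp [wordJ]
    rw [phi_evM φ hx hy _ letters_ok.2.2.1, conj_of_words hinj chkL, rLW_eq,
      wordJ_append, wordJ_append, wordJ_append, wordJ_append, h3, hv, ← aM_eq, ← vM_eq,
      phi_evM φ hx hy _ letters_ok.2.2.2.1, phi_evM φ hx hy _ letters_ok.2.2.2.2]⟩

/-- The multiplier is trivial, given the map of the model and faithfulness. -/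
theorem multiplier_of_faithful (φ : M24m →* Cfsg.Spor.J4)
    (hx : φ xM = PresentedGroup.of Gen.x) (hy : φ yM = PresentedGroup.of Gen.y)
    (hinj : Function.Injective repJ4) : Cfsg.HasCyclicSchurMultiplier Cfsg.Spor.J4 1 := by
  have : Finite Cfsg.Spor.J4 := Finite.of_injective repJ4 hinj
  exact multiplier_trivial (inputs φ hx hy hinj)

end CfsgLib.Coset.J4.MultJ
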