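/-
The presented Janko group `J₄` satisfies the hypotheses of the double coset frame: its generators
satisfy the printed relations, the element fixed by the sextet stabiliser is not the identity (it
is not in the representation of degree 112), and so the group is simple of the known order.
-/
import Cfsg.Agent.Coset.J4.Index
import Cfsg.Agent.Coset.J4.M24Pres
import Cfsg.Agent.Coset.J4.MultWit

set_option autoImplicit false
set_option maxRecDepth 100000
set_option Elab.async false

namespace CfsgLib.Coset.J4.Inst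

open Cfsg
open Mat
open MultJ (wordJ rep_wordJ)

private abbrev X : Spor.J4 := PresentedGroup.of Spor.J4.Gen.x
private abbrev Y : Spor.J4 := PresentedGroup.of Spor.J4.Gen.y
private abbrev T : Spor.J4 := PresentedGroup.of Spor.J4.Gen.t

theorem extra_rels : ∀ r ∈ Spor.J4.extra,
    FreeGroup.lift (fun g => (PresentedGroup.of g : Spor.J4)) r = 1 := by
  intro r hr
  have h : PresentedGroup.mk (Spor.coxRelators Spor.J4.edges ∪ {r | r ∈ Spor.J4.extra}) r = 1 :=
    PresentedGroup.one_of_mem (Or.inr hr)
  rw [← h]
  congr 1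
  exact FreeGroup.ext_hom _ _ fun g => by rw [FreeGroup.lift_apply_of]; rfl

theorem exists_gens : ∃ E : Gens Spor.J4, E.x = PresentedGroup.of Spor.J4.Gen.x ∧
    E.y = PresentedGroup.of Spor.J4.Gen.y ∧ E.t = PresentedGroup.of Spor.J4.Gen.t := by
  obtain ⟨φ, hφX, hφY⟩ := exists_hom_J4
  have h := extra_rels
  simp only [Spor.J4.extra, List.forall_mem_cons] at h
  obtain ⟨-, -, -, -, -, -, -, ht, hw, htx, hline, hfour, -⟩ := h
  refine ⟨{ x := X, y := Y, t := T, φ := φ, φX := hφX, φY := hφY, tt := (pow_two T).symm.trans ht,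
            tx := ?_, tw := ?_, line := hline, four := hfour }, rfl, rfl, rfl⟩
  · have e : T⁻¹ * X⁻¹ * T * X = 1 := htx
    calc T * X = X * T * (T⁻¹ * X⁻¹ * T * X) := by group
      _ = _ := by rw [e, mul_one]
  · have e : T⁻¹ * (Y * X * Y * ((X * Y⁻¹) ^ 2) * ((X * Y) ^ 3))⁻¹ * T *
        (Y * X * Y * ((X * Y⁻¹) ^ 2) * ((X * Y) ^ 3)) = 1 := hw
    generalize hW : Y * X * Y * ((X * Y⁻¹) ^ 2) * ((X * Y) ^ 3) = W at e ⊢
    calc T * W = W * T * (T⁻¹ * W⁻¹ * T * W) := by group
      _ = _ := by rw [e, mul_one]

/-- The generators of the presented group. -/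
noncomputable def gens : Gens Spor.J4 := exists_gens.choose

theorem gens_x : gens.x = PresentedGroup.of Spor.J4.Gen.x := exists_gens.choose_spec.1

theorem gens_y : gens.y = PresentedGroup.of Spor.J4.Gen.y := exists_gens.choose_spec.2.1

theorem gens_t : gens.t = PresentedGroup.of Spor.J4.Gen.t := exists_gens.choose_spec.2.2

theorem gens_closure : Subgroup.closure {gens.x, gens.y, gens.t} = ⊤ := by
  rw [eq_top_iff, ← PresentedGroup.closure_range_of, Subgroup.closure_le]
  rintro _ ⟨g, rfl⟩
  refine Subgroup.subset_closure ?_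
  rw [gens_x, gens_y, gens_t]
  cases g <;> simp

/-- A word for the element fixed by the sextet stabiliser. -/
def uWord : List Nat :=
  [1, 0, 1, 0, 2, 0, 2, 0, 2, 0, 2, 3, 1, 0, 1, 0, 1, 0, 1, 0, 2, 0]

theorem wordJ_uWord : wordJ (uWord ++ uWord ++ uWord) = gens.u := by
  have hx : X⁻¹ = X := by
    have h := extra_rels _ (List.mem_cons_self : Spor.J4.x ^ 2 ∈ Spor.J4.extra)
    rw [map_pow, FreeGroup.lift_apply_of, pow_two] at h
    exact inv_eq_of_mul_eq_one_right h
  rw [u_def, gens_x, gens_y, gens_t]
  simp only [uWord, wordJ, List.cons_append, List.nil_append, List.map_cons, List.map_nil,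
    List.prod_cons, List.prod_nil, List.getD_cons_zero, List.getD_cons_succ, pow_succ, pow_zero,
    one_mul, mul_one, mul_inv_rev, inv_inv, hx, mul_assoc]

theorem u_ne_one : gens.u ≠ 1 := by
  intro h
  have hl : ∀ l ∈ uWord ++ uWord ++ uWord, l < 4 := by decide +kernel
  have hM : matWord 112 matL (uWord ++ uWord ++ uWord) = 1 := by
    rw [← rep_wordJ _ hl, wordJ_uWord, h, map_one, Units.val_one]
  have hne : ¬ ∀ i < 112, vw matL (Nat.pow 2 i) (uWord ++ uWord ++ uWord) = Nat.pow 2 i := by
    intro hall
    have : (List.range 112).all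
        (fun i => Nat.beq (vw matL (Nat.pow 2 i) (uWord ++ uWord ++ uWord)) (Nat.pow 2 i)) = false := by
      decide +kernel
    rw [List.all_eq_false] at this
    obtain ⟨i, hi, hb⟩ := this
    rw [hall i (List.mem_range.mp hi), Nat.beq_refl] at hb
    exact hb rfl
  refine hne fun i hi => ?_
  have hv := rowVec_vw (n := 112) (uWord ++ uWord ++ uWord)
    (fun l hl' => matL_len l (hl l hl')) (Nat.pow 2 i)
  rw [hM, Matrix.vecMul_one] at hv
  refine Nat.eq_of_testBit_eq fun j => ?_
  rcases lt_or_ge j 112 with hj | hj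
  · have h' := congrFun hv ⟨j, hj⟩
    revert h'
    simp only [rowVec, bz]
    cases (vw matL (Nat.pow 2 i) (uWord ++ uWord ++ uWord)).testBit j <;>
      cases (Nat.pow 2 i).testBit j <;> simp
  · have hb : ∀ i < 112, vw matL (Nat.pow 2 i) (uWord ++ uWord ++ uWord) < 2 ^ 112 := by
      have h' : (List.range 112).all
          (fun i => decide (vw matL (Nat.pow 2 i) (uWord ++ uWord ++ uWord) < 2 ^ 112)) = true := by
        decide +kernel
      intro i hi
      exact of_decide_eq_true (List.all_eq_true.mp h' i (List.mem_range.mpr hi))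
    have hlt : Nat.pow 2 i < 2 ^ 112 := Nat.pow_lt_pow_right (by norm_num) hi
    rw [Nat.testBit_eq_false_of_lt ((hb i hi).trans_le (Nat.pow_le_pow_right (by norm_num) hj)),
      Nat.testBit_eq_false_of_lt (hlt.trans_le (Nat.pow_le_pow_right (by norm_num) hj))]

/-- The double coset data of the presented group. -/
noncomputable def dc : DC (udata gens).hSub := dcJ gens u_ne_one gens_closure

/-- The presented group is simple. -/
theorem simple : IsSimpleGroup Spor.J4 :=
  (udata gens).isSimple rfl u_ne_one hirrJ (hpushJ gens) dc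

/-- The order of the presented group. -/
theorem card_J4 : Nat.card Spor.J4 = 86775571046077562880 :=
  (udata gens).card_G rfl u_ne_one hirrJ dc

end CfsgLib.Coset.J4.Inst
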