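import Cfsg.Agent.Coset.J4.Index
import Cfsg.Agent.Coset.J4.M24Pres
import Cfsg.Agent.Coset.J4.Rep
import Cfsg.Prelude.Def_Sporadic

/-!
The presented group of the fourth Janko type: the index of `2^11:M24`, its order and simplicity.
-/

set_option autoImplicit false
set_option maxRecDepth 100000

namespace CfsgLib.Coset.J4

open Cfsg

/-- A generator as an element of the presented group. -/
abbrev genJ (g : Spor.J4.Gen) : Spor.J4 := PresentedGroup.of g

theorem relators_J4 : ∀ r ∈ Spor.J4.extra, FreeGroup.lift genJ r = 1 := by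
  intro r hr
  have h' : PresentedGroup.mk (Spor.coxRelators Spor.J4.edges ∪ {r | r ∈ Spor.J4.extra}) r = 1 :=
    PresentedGroup.one_of_mem (Or.inr hr)
  rw [← h']
  congr 1
  exact FreeGroup.ext_hom _ _ fun g => by rw [FreeGroup.lift_apply_of]; rfl

theorem eq_comm_of_comm_rel {G : Type*} [Group G] {t w : G} (h : t⁻¹ * w⁻¹ * t * w = 1) :
    t * w = w * t := by
  rw [show t * w = (w * t) * (t⁻¹ * w⁻¹ * t * w) by group, h, mul_one]

theorem exists_gens : ∃ E : Gens Spor.J4, E.x = genJ .x ∧ E.y = genJ .y ∧ E.t = genJ .t := by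
  obtain ⟨φ, hx, hy⟩ := exists_hom_J4
  have h := relators_J4
  simp only [Spor.J4.extra, List.forall_mem_cons, map_pow, map_mul, map_inv,
    FreeGroup.lift_apply_of] at h
  obtain ⟨-, -, -, -, -, -, -, h8, h9, h10, h11, h12, -⟩ := h
  exact ⟨{ x := genJ .x, y := genJ .y, t := genJ .t, φ := φ, φX := hx, φY := hy,
           tt := by rwa [pow_two] at h8,
           tx := eq_comm_of_comm_rel h10,
           tw := eq_comm_of_comm_rel h9,
           line := h11, four := h12 }, rfl, rfl, rfl⟩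

/-- The frame of the presented group. -/
noncomputable def gensJ : Gens Spor.J4 := exists_gens.choose

theorem gensJ_x : gensJ.x = genJ .x := exists_gens.choose_spec.1

theorem gensJ_y : gensJ.y = genJ .y := exists_gens.choose_spec.2.1

theorem gensJ_t : gensJ.t = genJ .t := exists_gens.choose_spec.2.2

theorem gen_J4 : Subgroup.closure {gensJ.x, gensJ.y, gensJ.t} = ⊤ := by
  rw [gensJ_x, gensJ_y, gensJ_t, eq_top_iff,
    ← PresentedGroup.closure_range_of (Spor.coxRelators Spor.J4.edges ∪ {r | r ∈ Spor.J4.extra})]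
  refine Subgroup.closure_mono ?_
  rintro _ ⟨g, rfl⟩
  cases g
  · exact Or.inl rfl
  · exact Or.inr (Or.inl rfl)
  · exact Or.inr (Or.inr rfl)

theorem u_ne_one : gensJ.u ≠ 1 := by
  intro hu
  have hd := udata gensJ
  obtain ⟨π, c, s, hπ, hs, ⟨i, hi, hne⟩, he⟩ := hpushJ gensJ
  have hU : ∀ a, gensJ.UF.U a = 1 := fun a => by
    rw [UFrame.U, show gensJ.UF.u = gensJ.u from rfl, hu]; group
  have hE : gensJ.UF.E ctxJ.B c = 1 := List.prod_eq_one fun x hx => by
    obtain ⟨k, -, rfl⟩ := List.mem_map.mp hx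
    unfold UFrame.bitU
    split_ifs
    · exact hU _
    · rfl
  rw [hU, mul_one, gensJ.UF.tt, UFrame.ev, hE, mul_one] at he
  obtain ⟨p, hp⟩ := hπ
  rw [gensJ.UF.ph_eq hp] at he
  have hp1 : p ≠ 1 := fun e => hne (by
    rw [hp ⟨i, hi⟩, e]
    simp)
  haveI : IsSimpleGroup gensJ.UF.M := M24m_simple
  have hk : gensJ.UF.φ.ker = ⊤ :=
    ((gensJ.UF.φ.normal_ker).eq_bot_or_eq_top).resolve_left fun hb =>
      hp1 (Subgroup.mem_bot.mp (hb ▸ (show p ∈ gensJ.UF.φ.ker from he.symm)))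
  have hM : ∀ q : M24m, gensJ.φ q = 1 := fun q =>
    MonoidHom.mem_ker.mp (show (q : gensJ.UF.M) ∈ gensJ.UF.φ.ker from hk ▸ Subgroup.mem_top _)
  have ex : gensJ.x = 1 := gensJ.φX ▸ hM _
  have ey : gensJ.y = 1 := gensJ.φY ▸ hM _
  have h3 := gensJ.line
  simp only [ex, ey, one_mul, mul_one, inv_one] at h3
  have ht : gensJ.t = 1 := by
    rw [pow_succ, pow_two, gensJ.tt, one_mul] at h3
    exact h3
  exact t_ne_one (gensJ_t.symm.trans ht)

/-- The subgroup `2^11:M24`. -/
noncomputable def H24 : Subgroup Spor.J4 := (udata gensJ).hSub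

/-- Its double coset data. -/
noncomputable def dcH24 : DC H24 := dcJ gensJ u_ne_one gen_J4

theorem finite_J4 : Finite Spor.J4 := dcH24.finite_G

theorem card_J4 : Nat.card Spor.J4 = 86775571046077562880 :=
  (udata gensJ).card_G rfl u_ne_one hirrJ dcH24

theorem card_H24 : Nat.card H24 = 501397585920 := (udata gensJ).card_hSub rfl u_ne_one hirrJ

theorem index_H24 : H24.index = 173067389 := dcH24.index_eq

theorem simple_J4 : IsSimpleGroup Spor.J4 :=
  (udata gensJ).isSimple rfl u_ne_one hirrJ (hpushJ gensJ) dcH24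

theorem isJ4 : IsJ4 Spor.J4 := ⟨simple_J4, card_J4⟩

theorem H24_eq_closure : H24 =
    Subgroup.closure {gensJ.x, gensJ.y, gensJ.u} := by
  have hd := udata gensJ
  refine le_antisymm ?_ ?_
  · intro g hg
    obtain ⟨a, c, ha, -, rfl⟩ := hd.mem_hSub_iff.mp hg
    have hphi : ∀ p : M24m, gensJ.φ p ∈ Subgroup.closure {gensJ.x, gensJ.y, gensJ.u} := by
      intro p
      have hle : M24m ≤ ((Subgroup.closure {gensJ.x, gensJ.y, gensJ.u}).comap gensJ.φ).map
          M24m.subtype := by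
        refine (Subgroup.closure_le _).mpr ?_
        rintro σ (rfl | rfl)
        · exact ⟨⟨Xp, Xp_mem⟩, Subgroup.mem_comap.mpr (gensJ.φX ▸ Subgroup.subset_closure (Or.inl rfl)), rfl⟩
        · exact ⟨⟨Yp, Yp_mem⟩, Subgroup.mem_comap.mpr (gensJ.φY ▸ Subgroup.subset_closure (Or.inr (Or.inl rfl))), rfl⟩
      obtain ⟨q, hq, e⟩ := hle p.2
      obtain rfl : q = p := Subtype.ext e
      exact hq
    have hph : ∀ b, gensJ.UF.Val b →
        gensJ.UF.ph b ∈ Subgroup.closure {gensJ.x, gensJ.y, gensJ.u} := by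
      rintro b ⟨p, hp⟩
      rw [gensJ.UF.ph_eq hp]
      exact hphi p
    refine mul_mem (hph a ha) (Subgroup.list_prod_mem _ fun x hx => ?_)
    obtain ⟨k, hk, rfl⟩ := List.mem_map.mp hx
    unfold UFrame.bitU
    split_ifs
    · have hk' : k < 11 := (by decide : ∀ j ∈ pts11, j < 11) k hk
      exact mul_mem (mul_mem (inv_mem (hph _ (hd.val_B hk'))) (Subgroup.subset_closure
        (Or.inr (Or.inr rfl)))) (hph _ (hd.val_B hk'))
    · exact one_mem _
  · refine (Subgroup.closure_le _).mpr ?_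
    rintro g (rfl | rfl | rfl)
    · exact gensJ.φX ▸ hd.phi_mem ⟨Xp, Xp_mem⟩
    · exact gensJ.φY ▸ hd.phi_mem ⟨Yp, Yp_mem⟩
    · exact hd.u_mem_hSub

/-- The printed subgroup is `2^11:M24`. -/
theorem printed_eq_H24 :
    ((Subgroup.closure ({Spor.J4.x, Spor.J4.y, (Spor.J4.y * ((Spor.J4.y * Spor.J4.x) ^ 4 *
      Spor.J4.y⁻¹ * Spor.J4.x)⁻¹ * Spor.J4.t * ((Spor.J4.y * Spor.J4.x) ^ 4 * Spor.J4.y⁻¹ *
      Spor.J4.x)) ^ 3} : Set (FreeGroup Spor.J4.Gen))).map
      (PresentedGroup.mk (Spor.coxRelators Spor.J4.edges ∪ {r | r ∈ Spor.J4.extra}))) = H24 := by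
  rw [H24_eq_closure, MonoidHom.map_closure, u_def, gensJ_x, gensJ_y, gensJ_t]
  simp only [Set.image_insert_eq, Set.image_singleton, map_pow, map_mul, map_inv, mul_assoc]
  rfl

end CfsgLib.Coset.J4
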