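import Cfsg.Agent.Coset.J4.Frame
import Mathlib.GroupTheory.OrderOfElement

/-!
The abelian normal subgroup of the subgroup `2^11:M24` from the sextets: coordinates, the action of
the permutations and multiplication of pairs (permutation, vector).
-/

set_option autoImplicit false
set_option maxRecDepth 20000

namespace CfsgLib.Coset.J4

theorem testBit_pimg (a m j : Nat) :
    (pimg a m).testBit j = true ↔ ∃ i < 24, m.testBit i = true ∧ pget a i = j := by
  have key : ∀ l : List Nat, (List.rec 0 (fun i _ r => cond (Nat.testBit m i)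
      (Nat.lor (Nat.shiftLeft 1 (pget a i)) r) r) l : Nat).testBit j = true ↔
      ∃ i ∈ l, m.testBit i = true ∧ pget a i = j := by
    intro l
    induction l with
    | nil => simp
    | cons i l ih =>
      show (cond (Nat.testBit m i) _ _ : Nat).testBit j = true ↔ _
      cases hb : m.testBit i with
      | false =>
        rw [cond_false, ih]
        constructor
        · rintro ⟨k, hk, h⟩; exact ⟨k, List.mem_cons_of_mem _ hk, h⟩
        · rintro ⟨k, hk, h⟩
          rcases List.mem_cons.mp hk with rfl | hk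
          · rw [hb] at h; exact Bool.noConfusion h.1
          · exact ⟨k, hk, h⟩
      | true =>
        rw [cond_true]
        show (1 <<< pget a i ||| _).testBit j = true ↔ _
        rw [Nat.testBit_or, Bool.or_eq_true, Nat.shiftLeft_eq, one_mul, Nat.testBit_two_pow,
          decide_eq_true_eq, ih]
        constructor
        · rintro (h | ⟨k, hk, h⟩)
          · exact ⟨i, by simp, hb, h⟩
          · exact ⟨k, List.mem_cons_of_mem _ hk, h⟩
        · rintro ⟨k, hk, h⟩
          rcases List.mem_cons.mp hk with rfl | hk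
          · exact Or.inl h.2
          · exact Or.inr ⟨k, hk, h⟩
  refine (key pts24).trans ?_
  simp only [mem_pts24]

theorem pimg_pmul {a b : Nat} {p q : Equiv.Perm (Fin 24)} (ha : RepP a p) (hb : RepP b q)
    (m : Nat) : pimg (pmul a b) m = pimg b (pimg a m) := by
  refine Nat.eq_of_testBit_eq fun j => ?_
  rw [Bool.eq_iff_iff, testBit_pimg, testBit_pimg]
  have hget : ∀ i < 24, pget (pmul a b) i = pget b (pget a i) := fun i hi => by
    rw [pmul, ppack_get _ (fun k hk => by have := hb.lt (ha.lt hk); omega) _ hi]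
  constructor
  · rintro ⟨i, hi, hm, rfl⟩
    exact ⟨pget a i, ha.lt hi, (testBit_pimg a m _).mpr ⟨i, hi, hm, rfl⟩, (hget i hi).symm⟩
  · rintro ⟨k, hk, hm, rfl⟩
    obtain ⟨i, hi, hm', rfl⟩ := (testBit_pimg a m k).mp hm
    exact ⟨i, hi, hm', hget i hi⟩

theorem pimg_congr {a b : Nat} {p : Equiv.Perm (Fin 24)} (ha : RepP a p) (hb : RepP b p)
    (m : Nat) : pimg a m = pimg b m := by
  refine Nat.eq_of_testBit_eq fun j => ?_
  rw [Bool.eq_iff_iff, testBit_pimg, testBit_pimg]
  have h : ∀ i < 24, pget a i = pget b i := fun i hi => (ha ⟨i, hi⟩).trans (hb ⟨i, hi⟩).symm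
  exact ⟨fun ⟨i, hi, h1, h2⟩ => ⟨i, hi, h1, (h i hi) ▸ h2⟩,
    fun ⟨i, hi, h1, h2⟩ => ⟨i, hi, h1, (h i hi).symm ▸ h2⟩⟩

theorem memB_iff {x : Nat} {l : List Nat} : memB x l = true ↔ x ∈ l := by
  induction l with
  | nil => simp [memB]
  | cons y l ih =>
    change cond (Nat.beq x y) true (memB x l) = true ↔ _
    cases h : Nat.beq x y with
    | true => simp [Nat.eq_of_beq_eq_true h]
    | false =>
      have : x ≠ y := fun e => by simp [e] at h
      simp [ih, this]

section Kernel

/-- The base sextet as six masks. -/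
def sext0 : List Nat := [2138113, 66690, 4719108, 131368, 9437264, 284672]

/-- Two permutations move the base sextet to the same sextet. -/
noncomputable def sextEq (a b : Nat) : Bool :=
  allList (fun o => memB (pimg a o) (sext0.map fun o' => pimg b o')) sext0

/-- The parity of a number below `2 ^ 32`. -/
noncomputable def par32 (m : Nat) : Nat :=
  Nat.land 1 ((fun n => Nat.xor n (Nat.shiftRight n 1)) ((fun n => Nat.xor n (Nat.shiftRight n 2))
    ((fun n => Nat.xor n (Nat.shiftRight n 4)) ((fun n => Nat.xor n (Nat.shiftRight n 8))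
      (Nat.xor m (Nat.shiftRight m 16))))))

/-- The coordinates of an even set. -/
noncomputable def coordN (D : List Nat) (m : Nat) : Nat :=
  List.rec 0 (fun d _ r => Nat.add (Nat.mul 2 r) (par32 (Nat.land m d))) D

/-- The eleven positions. -/
def pts11 : List Nat := [0, 1, 2, 3, 4, 5, 6, 7, 8, 9, 10]

/-- The action of a permutation on coordinates, given the basis sextets and the functionals. -/
noncomputable def actN (B D : List Nat) (π c : Nat) : Nat :=
  List.rec 0 (fun k _ r => cond (Nat.testBit c k)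
    (Nat.xor (coordN D (pimg π (pimg (B.getD k 0) (sext0.getD 0 0)))) r) r) pts11

/-- Product of pairs. -/
noncomputable def emul (B D : List Nat) (e f : Nat × Nat) : Nat × Nat :=
  (pmul e.1 f.1, Nat.xor (actN B D f.1 e.2) f.2)

end Kernel

/-- A frame with the sextet element: conjugates of it depend only on a sextet. -/
structure UFrame (G : Type*) [Group G] extends TFrame G where
  u : G
  uu : u * u = 1
  stabU : ∀ (p q : M) (a b : Nat), RepP a p → RepP b q → sextEq a b = true →
    (φ p)⁻¹ * u * φ p = (φ q)⁻¹ * u * φ q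

attribute [local irreducible] pmul pone pimg coordN

variable {G : Type*} [Group G] (F : UFrame G)

/-- The conjugate of the sextet element by a packed permutation. -/
noncomputable def UFrame.U (a : Nat) : G := (F.ph a)⁻¹ * F.u * F.ph a

/-- One factor of a vector. -/
noncomputable def UFrame.bitU (B : List Nat) (c k : Nat) : G :=
  if c.testBit k then F.U (B.getD k 0) else 1

/-- The element with the given coordinates. -/
noncomputable def UFrame.E (B : List Nat) (c : Nat) : G := (pts11.map (F.bitU B c)).prod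

/-- The value of a pair. -/
noncomputable def UFrame.ev (B : List Nat) (e : Nat × Nat) : G := F.ph e.1 * F.E B e.2

variable {F}

theorem UFrame.U_pmul {a g : Nat} (ha : F.Val a) (hg : F.Val g) :
    F.U (pmul a g) = (F.ph g)⁻¹ * F.U a * F.ph g := by
  rw [UFrame.U, UFrame.U, F.ph_pmul ha hg]
  group

theorem UFrame.U_eq {a b : Nat} (ha : F.Val a) (hb : F.Val b) (h : sextEq a b = true) :
    F.U a = F.U b := by
  obtain ⟨p, hp⟩ := ha
  obtain ⟨q, hq⟩ := hb
  rw [UFrame.U, UFrame.U, F.ph_eq hp, F.ph_eq hq]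
  exact F.stabU p q a b hp hq h

theorem UFrame.U_sq (a : Nat) : F.U a * F.U a = 1 := by
  rw [UFrame.U, show (F.ph a)⁻¹ * F.u * F.ph a * ((F.ph a)⁻¹ * F.u * F.ph a) =
    (F.ph a)⁻¹ * (F.u * F.u) * F.ph a by group, F.uu]
  group

theorem UFrame.U_inv (a : Nat) : (F.U a)⁻¹ = F.U a := inv_eq_of_mul_eq_one_right (F.U_sq a)

theorem UFrame.U_pone : F.U pone = F.u := by
  rw [UFrame.U, F.ph_pone]; group

/-- Two permutations move the sextet to the same place. -/
def SameS (a b : Nat) : Prop := ∀ o ∈ sext0, ∃ o' ∈ sext0, pimg a o = pimg b o'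

theorem sextEq_iff {a b : Nat} : sextEq a b = true ↔ SameS a b := by
  rw [sextEq, allList_iff]
  simp only [memB_iff, List.mem_map]
  exact ⟨fun h o ho => (h o ho).imp fun _ ⟨x, y⟩ => ⟨x, y.symm⟩,
    fun h o ho => (h o ho).imp fun _ ⟨x, y⟩ => ⟨x, y.symm⟩⟩

theorem SameS.pmul_right {a b g : Nat} (h : SameS a b) (ha : F.Val a) (hb : F.Val b)
    (hg : F.Val g) : SameS (pmul a g) (pmul b g) := by
  obtain ⟨p, hp⟩ := ha
  obtain ⟨q, hq⟩ := hb
  obtain ⟨r, hr⟩ := hg
  intro o ho
  obtain ⟨o', ho', e⟩ := h o ho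
  exact ⟨o', ho', by rw [pimg_pmul hp hr, pimg_pmul hq hr, e]⟩

theorem SameS.trans {a b c : Nat} (h : SameS a b) (h' : SameS b c) : SameS a c := by
  intro o ho
  obtain ⟨o', ho', e⟩ := h o ho
  obtain ⟨o'', ho'', e'⟩ := h' o' ho'
  exact ⟨o'', ho'', e.trans e'⟩

section Kernel

/-- The sextet table: the number of entries, the index of the permutation, coordinates, and the
entries reached by the two generators. -/
abbrev STab : Type := Nat × Tr Nat

/-- The permutation of an entry. -/
noncomputable def sPerm (P : PTab) (S : STab) (s : Nat) : Nat := P.2.get (field (S.2.get s) 0)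
/-- The coordinates of an entry. -/
noncomputable def sCo (S : STab) (s : Nat) : Nat := field (S.2.get s) 1
/-- The image of an entry under the first generator. -/
noncomputable def sNx (S : STab) (s : Nat) : Nat := field (S.2.get s) 2
/-- The image of an entry under the second generator. -/
noncomputable def sNy (S : STab) (s : Nat) : Nat := field (S.2.get s) 3

/-- The entry is deduced from two earlier ones by the sum of the base pair moved by `g`. -/
noncomputable def sumAt (P : PTab) (S : STab) (R Q : Nat) (g i j k : Nat) : Bool :=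
  cond (Nat.ble (Nat.add g 1) P.1)
    (cond (sextEq (P.2.get g) (sPerm P S i))
      (cond (sextEq (pmul (P.2.get R) (P.2.get g)) (sPerm P S j))
        (sextEq (pmul (P.2.get Q) (P.2.get g)) (sPerm P S k)) false) false) false

/-- Every entry above the basis is a sum of two earlier ones. -/
noncomputable def checkSums (P : PTab) (S : STab) (R Q : Nat) (J : Tr Nat) : Bool :=
  allBelow 11 S.1 fun k => cond (Nat.ble (Nat.add k 1) 11)
    (Nat.beq (sCo S k) (Nat.shiftLeft 1 k))
    (cond (Nat.ble (Nat.add (field (J.get k) 1) 1) k) (cond (Nat.ble (Nat.add (field (J.get k) 2) 1) k)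
      (cond (sumAt P S R Q (field (J.get k) 0) (field (J.get k) 1) (field (J.get k) 2) k)
        (Nat.beq (sCo S k) (Nat.xor (sCo S (field (J.get k) 1)) (sCo S (field (J.get k) 2))))
        false) false) false)

/-- Every two basis entries occur in a sum. -/
noncomputable def checkPairs (P : PTab) (S : STab) (R Q : Nat)
    (L : List (Nat × Nat × Nat × Nat)) : Bool :=
  allList (fun i => allList (fun j => cond (Nat.ble j i) true
    (List.rec false (fun e _ r => cond (cond (Nat.beq e.2.1 i) (Nat.beq e.2.2.1 j) false)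
      (cond (Nat.ble (Nat.add e.2.2.2 1) S.1) (sumAt P S R Q e.1 i j e.2.2.2) false) r) L))
    pts11) pts11

/-- The table is closed under the generators and the coordinates are the right ones. -/
noncomputable def checkTab (P : PTab) (S : STab) (B D : List Nat) : Bool :=
  cond (Nat.ble 11 S.1) (cond (Nat.beq (sPerm P S 0) pone)
    (allBelow 11 S.1 fun s => cond (Nat.ble (Nat.add (field (S.2.get s) 0) 1) P.1)
      (cond (Nat.ble (Nat.add (sNx S s) 1) S.1) (cond (Nat.ble (Nat.add (sNy S s) 1) S.1)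
        (cond (sextEq (pmul (sPerm P S s) (P.2.get 1)) (sPerm P S (sNx S s)))
          (cond (sextEq (pmul (sPerm P S s) (P.2.get 2)) (sPerm P S (sNy S s)))
            (cond (Nat.ble 11 s)
              (allList (fun o => Nat.beq (coordN D (pimg (sPerm P S s) o)) (sCo S s)) sext0)
              (cond (Nat.beq (B.getD s 0) (sPerm P S s))
                (allList (fun o => Nat.beq (coordN D (pimg (sPerm P S s) o)) (sCo S s)) sext0)
                false)) false) false) false) false) false) false) false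

end Kernel

/-- The verified data of the sextets. -/
structure UData (F : UFrame G) (P : PTab) (S : STab) (B D : List Nat) (R Q : Nat) : Prop where
  valP : ∀ g < P.1, F.Val (P.2.get g)
  hR : R < P.1
  hQ : Q < P.1
  base : F.u * F.U (P.2.get R) = F.U (P.2.get Q)
  sums : ∃ J, checkSums P S R Q J = true
  pairs : ∃ L, checkPairs P S R Q L = true
  tab : checkTab P S B D = true
  gens : ∀ p : F.M, (p : Equiv.Perm (Fin 24)) ∈ Subgroup.closure
    {q : Equiv.Perm (Fin 24) | ∃ a ∈ [P.2.get 1, P.2.get 2], RepP a q}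
  hX : 1 < P.1
  hY : 2 < P.1

variable {P : PTab} {S : STab} {B D : List Nat} {R Q : Nat}

theorem UData.tab_at (hd : UData F P S B D R Q) {s : Nat} (hs : s < S.1) :
    field (S.2.get s) 0 < P.1 ∧ sNx S s < S.1 ∧ sNy S s < S.1 ∧
      SameS (pmul (sPerm P S s) (P.2.get 1)) (sPerm P S (sNx S s)) ∧
      SameS (pmul (sPerm P S s) (P.2.get 2)) (sPerm P S (sNy S s)) ∧
      (∀ o ∈ sext0, coordN D (pimg (sPerm P S s) o) = sCo S s) ∧
      (s < 11 → B.getD s 0 = sPerm P S s) := by
  have h := hd.tab
  unfold checkTab at h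
  simp only [cond_false_eq_true] at h
  have h' := of_allBelow h.2.2 s hs
  simp only [cond_false_eq_true] at h'
  obtain ⟨h0, h1, h2, h3, h4, h5⟩ := h'
  refine ⟨Nat.ble_eq.mp h0, Nat.ble_eq.mp h1, Nat.ble_eq.mp h2, sextEq_iff.mp h3,
    sextEq_iff.mp h4, ?_, ?_⟩
  · intro o ho
    cases hb : Nat.ble 11 s with
    | true => rw [hb, cond_true] at h5; exact Nat.eq_of_beq_eq_true (allList_iff.mp h5 o ho)
    | false =>
      rw [hb, cond_false, cond_false_eq_true] at h5
      exact Nat.eq_of_beq_eq_true (allList_iff.mp h5.2 o ho)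
  · intro hlt
    have hb : Nat.ble 11 s = false := by
      rw [← Bool.not_eq_true, Nat.ble_eq]; exact Nat.not_le.mpr hlt
    rw [hb, cond_false, cond_false_eq_true] at h5
    exact Nat.eq_of_beq_eq_true h5.1

theorem UData.val_s (hd : UData F P S B D R Q) {s : Nat} (hs : s < S.1) :
    F.Val (sPerm P S s) := hd.valP _ (hd.tab_at hs).1

theorem UData.eleven_le (hd : UData F P S B D R Q) : 11 ≤ S.1 := by
  have h := hd.tab
  unfold checkTab at h
  simp only [cond_false_eq_true] at h
  exact Nat.ble_eq.mp h.1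

theorem UData.val_B (hd : UData F P S B D R Q) {k : Nat} (hk : k < 11) : F.Val (B.getD k 0) := by
  have hs := lt_of_lt_of_le hk hd.eleven_le
  rw [(hd.tab_at hs).2.2.2.2.2.2 hk]
  exact hd.val_s hs

theorem UData.sum_at (hd : UData F P S B D R Q) {g i j k : Nat} (hi : i < S.1) (hj : j < S.1)
    (hk : k < S.1) (h : sumAt P S R Q g i j k = true) :
    F.U (sPerm P S i) * F.U (sPerm P S j) = F.U (sPerm P S k) := by
  unfold sumAt at h
  simp only [cond_false_eq_true] at h
  obtain ⟨hg, h1, h2, h3⟩ := h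
  have vg := hd.valP g (Nat.ble_eq.mp hg)
  have vr := hd.valP _ hd.hR
  have vq := hd.valP _ hd.hQ
  rw [← F.U_eq vg (hd.val_s hi) h1, ← F.U_eq (F.val_pmul vr vg) (hd.val_s hj) h2,
    ← F.U_eq (F.val_pmul vq vg) (hd.val_s hk) h3, F.U_pmul vr vg, F.U_pmul vq vg, ← hd.base,
    UFrame.U]
  group

theorem UData.comm_lt (hd : UData F P S B D R Q) {i j : Nat} (hi : i < 11) (hj : j < 11)
    (hij : i < j) :
    F.U (B.getD i 0) * F.U (B.getD j 0) = F.U (B.getD j 0) * F.U (B.getD i 0) := by
  obtain ⟨L, hL⟩ := hd.pairs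
  have mem11 : ∀ n, n < 11 → n ∈ pts11 := fun n hn => by interval_cases n <;> decide
  have h := allList_iff.mp (allList_iff.mp hL i (mem11 i hi)) j (mem11 j hj)
  have hb : Nat.ble j i = false := by
    rw [← Bool.not_eq_true, Nat.ble_eq]; exact Nat.not_le.mpr hij
  rw [hb, cond_false] at h
  have key : ∀ L : List (Nat × Nat × Nat × Nat),
      (List.rec false (fun e _ r => cond (cond (Nat.beq e.2.1 i) (Nat.beq e.2.2.1 j) false)
        (cond (Nat.ble (Nat.add e.2.2.2 1) S.1) (sumAt P S R Q e.1 i j e.2.2.2) false) r) L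
        : Bool) = true → ∃ g k, k < S.1 ∧ sumAt P S R Q g i j k = true := by
    intro L
    induction L with
    | nil => intro h; exact Bool.noConfusion h
    | cons e L ih =>
      intro h
      change cond (cond (Nat.beq e.2.1 i) (Nat.beq e.2.2.1 j) false)
        (cond (Nat.ble (Nat.add e.2.2.2 1) S.1) (sumAt P S R Q e.1 i j e.2.2.2) false) _ = true
        at h
      cases hc : cond (Nat.beq e.2.1 i) (Nat.beq e.2.2.1 j) false with
      | true =>
        rw [hc, cond_true, cond_false_eq_true] at h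
        exact ⟨e.1, e.2.2.2, Nat.ble_eq.mp h.1, h.2⟩
      | false => rw [hc, cond_false] at h; exact ih h
  obtain ⟨g, k, hk, hs⟩ := key L h
  have h11 := hd.eleven_le
  have e := hd.sum_at (lt_of_lt_of_le hi h11) (lt_of_lt_of_le hj h11) hk hs
  rw [(hd.tab_at (lt_of_lt_of_le hi h11)).2.2.2.2.2.2 hi,
    (hd.tab_at (lt_of_lt_of_le hj h11)).2.2.2.2.2.2 hj]
  conv_rhs => rw [← F.U_inv (sPerm P S j), ← F.U_inv (sPerm P S i), ← mul_inv_rev, e, F.U_inv]
  exact e

theorem UData.comm_basis (hd : UData F P S B D R Q) {i j : Nat} (hi : i < 11) (hj : j < 11) :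
    F.U (B.getD i 0) * F.U (B.getD j 0) = F.U (B.getD j 0) * F.U (B.getD i 0) := by
  rcases lt_trichotomy i j with h | rfl | h
  case inr.inl => rfl
  case inr.inr => exact (UData.comm_lt hd hj hi h).symm
  case inl => exact UData.comm_lt hd hi hj h

theorem UData.E_xor (hd : UData F P S B D R Q) (c d : Nat) :
    F.E B (Nat.xor c d) = F.E B c * F.E B d := by
  have comm : ∀ i < 11, ∀ j < 11, ∀ c d, Commute (F.bitU B c i) (F.bitU B d j) := by
    intro i hi j hj c d
    unfold UFrame.bitU
    split_ifs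
    · exact hd.comm_basis hi hj
    all_goals first | exact Commute.one_left _ | exact Commute.one_right _
  have key : ∀ l : List Nat, (∀ k ∈ l, k < 11) →
      (l.map (F.bitU B (Nat.xor c d))).prod =
        (l.map (F.bitU B c)).prod * (l.map (F.bitU B d)).prod := by
    intro l
    induction l with
    | nil => simp
    | cons k l ih =>
      intro hl
      have hk := hl k (by simp)
      have hc : Commute (F.bitU B d k) (l.map (F.bitU B c)).prod :=
        Commute.list_prod_right _ _ fun x hx => by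
          obtain ⟨j, hj, rfl⟩ := List.mem_map.mp hx
          exact comm k hk j (hl j (List.mem_cons_of_mem _ hj)) d c
      have e : F.bitU B (Nat.xor c d) k = F.bitU B c k * F.bitU B d k := by
        unfold UFrame.bitU
        rw [show (Nat.xor c d) = c ^^^ d from rfl, Nat.testBit_xor]
        cases c.testBit k <;> cases d.testBit k <;> simp [F.U_sq]
      rw [List.map_cons, List.map_cons, List.map_cons, List.prod_cons, List.prod_cons,
        List.prod_cons, ih (fun x hx => hl x (List.mem_cons_of_mem _ hx)), e, mul_assoc,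
        mul_assoc, ← mul_assoc (F.bitU B d k), hc.eq, mul_assoc]
  exact key pts11 (by decide)

theorem UFrame.E_zero (B : List Nat) : F.E B 0 = 1 := by
  simp [UFrame.E, UFrame.bitU, pts11]

theorem UFrame.E_two_pow (B : List Nat) {k : Nat} (hk : k < 11) :
    F.E B (Nat.shiftLeft 1 k) = F.U (B.getD k 0) := by
  rw [show Nat.shiftLeft 1 k = 2 ^ k from Nat.one_shiftLeft k]
  have e : F.bitU B (2 ^ k) = fun j => if k = j then F.U (B.getD j 0) else 1 := funext fun j => by
    simp [UFrame.bitU, Nat.testBit_two_pow]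
  rw [UFrame.E, e]
  interval_cases k <;> simp [pts11]

theorem UData.U_table (hd : UData F P S B D R Q) :
    ∀ s < S.1, F.U (sPerm P S s) = F.E B (sCo S s) := by
  obtain ⟨J, hJ⟩ := hd.sums
  intro s
  induction s using Nat.strong_induction_on with
  | _ s ih =>
    intro hs
    have h := of_allBelow hJ s hs
    cases hb : Nat.ble (Nat.add s 1) 11 with
    | true =>
      rw [hb, cond_true] at h
      have hs' : s < 11 := Nat.ble_eq.mp hb
      rw [Nat.eq_of_beq_eq_true h, F.E_two_pow B hs', (hd.tab_at hs).2.2.2.2.2.2 hs']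
    | false =>
      rw [hb, cond_false] at h
      simp only [cond_false_eq_true] at h
      obtain ⟨h1, h2, h3, h4⟩ := h
      have hi : field (J.get s) 1 < s := Nat.ble_eq.mp h1
      have hj : field (J.get s) 2 < s := Nat.ble_eq.mp h2
      rw [Nat.eq_of_beq_eq_true h4, hd.E_xor, ← ih _ hi (lt_trans hi hs),
        ← ih _ hj (lt_trans hj hs), hd.sum_at (lt_trans hi hs) (lt_trans hj hs) hs h3]

theorem UData.exists_entry (hd : UData F P S B D R Q) (p : F.M) :
    ∀ s < S.1, ∀ a, RepP a p → ∃ s', s' < S.1 ∧ SameS (pmul (sPerm P S s) a) (sPerm P S s') := by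
  let Qp : Equiv.Perm (Fin 24) → Prop := fun q => ∀ s < S.1, ∀ a, RepP a q →
    ∃ s', s' < S.1 ∧ SameS (pmul (sPerm P S s) a) (sPerm P S s')
  suffices h : ∀ q : Equiv.Perm (Fin 24), q ∈ Subgroup.closure
      {q : Equiv.Perm (Fin 24) | ∃ a ∈ [P.2.get 1, P.2.get 2], RepP a q} →
      q ∈ F.M ∧ Qp q from fun s hs a ha => (h p (hd.gens p)).2 s hs a ha
  intro q hq
  have hmul : ∀ q r, q ∈ F.M ∧ Qp q → r ∈ F.M ∧ Qp r → q * r ∈ F.M ∧ Qp (q * r) := by
    rintro q r ⟨hq, h1⟩ ⟨hr, h2⟩
    refine ⟨mul_mem hq hr, fun s hs a ha => ?_⟩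
    obtain ⟨b, hb⟩ := exists_repP q
    obtain ⟨c, hc⟩ := exists_repP r
    obtain ⟨s1, hs1, k1⟩ := h1 s hs b hb
    obtain ⟨s2, hs2, k2⟩ := h2 s1 hs1 c hc
    have vb : F.Val b := ⟨⟨q, hq⟩, hb⟩
    have vc : F.Val c := ⟨⟨r, hr⟩, hc⟩
    refine ⟨s2, hs2, fun o ho => ?_⟩
    obtain ⟨o', ho', eo⟩ :=
      ((SameS.pmul_right k1 (F.val_pmul (hd.val_s hs) vb) (hd.val_s hs1) vc).trans k2) o ho
    refine ⟨o', ho', ?_⟩
    obtain ⟨ps, hps⟩ := hd.val_s hs
    rw [← eo, pimg_pmul hps ha, pimg_pmul (hps.pmul hb) hc, pimg_pmul hps hb,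
      pimg_congr ha (hb.pmul hc), pimg_pmul hb hc]
  have hone : (1 : Equiv.Perm (Fin 24)) ∈ F.M ∧ Qp 1 := by
    refine ⟨one_mem _, fun s hs a ha => ⟨s, hs, fun o ho => ⟨o, ho, ?_⟩⟩⟩
    obtain ⟨ps, hps⟩ := hd.val_s hs
    exact pimg_congr (mul_one (ps : Equiv.Perm (Fin 24)) ▸ hps.pmul ha) hps o
  induction hq using Subgroup.closure_induction with
  | one => exact hone
  | mem q hq =>
    obtain ⟨a, ha, haq⟩ := hq
    obtain ⟨p1, hp1⟩ := hd.valP 1 hd.hX
    obtain ⟨p2, hp2⟩ := hd.valP 2 hd.hY
    have key : ∀ (nx : Nat → Nat) (g : Nat) (pg : F.M), RepP g (pg : Equiv.Perm (Fin 24)) →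
        RepP g q → (∀ s < S.1, nx s < S.1 ∧ SameS (pmul (sPerm P S s) g) (sPerm P S (nx s))) →
        q ∈ F.M ∧ Qp q := by
      intro nx g pg hg hgq hnx
      refine ⟨hg.unique hgq ▸ pg.2, fun s hs b hb => ⟨nx s, (hnx s hs).1, fun o ho => ?_⟩⟩
      obtain ⟨o', ho', eo⟩ := (hnx s hs).2 o ho
      obtain ⟨ps, hps⟩ := hd.val_s hs
      exact ⟨o', ho', (pimg_congr (hps.pmul hb) (hps.pmul hgq) o).trans eo⟩
    rcases List.mem_cons.mp ha with rfl | ha
    · exact key (sNx S) _ p1 hp1 haq fun s hs =>
        ⟨(hd.tab_at hs).2.1, (hd.tab_at hs).2.2.2.1⟩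
    · obtain rfl := List.mem_singleton.mp ha
      exact key (sNy S) _ p2 hp2 haq fun s hs =>
        ⟨(hd.tab_at hs).2.2.1, (hd.tab_at hs).2.2.2.2.1⟩
  | mul q r _ _ hq' hr' => exact hmul q r hq' hr'
  | inv q _ hq' =>
    have hpow : ∀ n : ℕ, q ^ n ∈ F.M ∧ Qp (q ^ n) := by
      intro n
      induction n with
      | zero => simpa using hone
      | succ n ihn => rw [pow_succ]; exact hmul _ _ ihn hq'
    have : q⁻¹ = q ^ (orderOf q - 1) := by
      rw [inv_eq_iff_mul_eq_one, ← pow_succ', Nat.sub_add_cancel (orderOf_pos q),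
        pow_orderOf_eq_one]
    rw [this]; exact hpow _

theorem UData.U_moved (hd : UData F P S B D R Q) {g : Nat} (hg : F.Val g) {s : Nat}
    (hs : s < S.1) :
    F.U (pmul (sPerm P S s) g) = F.E B (coordN D (pimg g (pimg (sPerm P S s) (sext0.getD 0 0)))) := by
  obtain ⟨p, hp⟩ := hg
  obtain ⟨s', hs', h⟩ := hd.exists_entry p s hs g hp
  obtain ⟨o', ho', eo⟩ := h (sext0.getD 0 0) (by decide)
  obtain ⟨ps, hps⟩ := hd.val_s hs
  rw [F.U_eq (F.val_pmul (hd.val_s hs) ⟨p, hp⟩) (hd.val_s hs') (sextEq_iff.mpr h),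
    hd.U_table s' hs', ← (hd.tab_at hs').2.2.2.2.2.1 o' ho', ← eo, pimg_pmul hps hp]

theorem UData.conj_E (hd : UData F P S B D R Q) {g : Nat} (hg : F.Val g) (c : Nat) :
    (F.ph g)⁻¹ * F.E B c * F.ph g = F.E B (actN B D g c) := by
  have key : ∀ l : List Nat, (∀ k ∈ l, k < 11) →
      (F.ph g)⁻¹ * (l.map (F.bitU B c)).prod * F.ph g = F.E B (List.rec 0
        (fun k _ r => cond (Nat.testBit c k)
          (Nat.xor (coordN D (pimg g (pimg (B.getD k 0) (sext0.getD 0 0)))) r) r) l) := by
    intro l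
    induction l with
    | nil => intro _; simp [F.E_zero]
    | cons k l ih =>
      intro hl
      have hk := hl k (by simp)
      have ih' := ih fun x hx => hl x (List.mem_cons_of_mem _ hx)
      rw [List.map_cons, List.prod_cons]
      show _ = F.E B (cond (Nat.testBit c k) (Nat.xor _ _) _)
      have hs := lt_of_lt_of_le hk hd.eleven_le
      have hB := (hd.tab_at hs).2.2.2.2.2.2 hk
      unfold UFrame.bitU at ih' ⊢
      cases hb : c.testBit k with
      | true =>
        rw [if_pos rfl, cond_true, hd.E_xor, ← ih', hB, ← hd.U_moved hg hs,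
          F.U_pmul (hd.val_s hs) hg]
        group
      | false => rw [if_neg Bool.false_ne_true, cond_false, ← ih', one_mul]
  exact key pts11 (by decide)

theorem UData.val_emul {e f : Nat × Nat} (he : F.Val e.1) (hf : F.Val f.1) :
    F.Val (emul B D e f).1 := F.val_pmul he hf

theorem UData.ev_emul (hd : UData F P S B D R Q) {e f : Nat × Nat} (he : F.Val e.1)
    (hf : F.Val f.1) : F.ev B (emul B D e f) = F.ev B e * F.ev B f := by
  rw [UFrame.ev, UFrame.ev, UFrame.ev, emul, F.ph_pmul he hf, hd.E_xor, ← hd.conj_E hf]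
  group

end CfsgLib.Coset.J4
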