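/-
Permutations of 24 points given by packed tables, words in them, and two counting principles:
a stabiliser chain bounds an order from below, an orbit of a family of point sets bounds the
stabiliser of the family from above.
-/
import Mathlib

set_option autoImplicit false

namespace CfsgLib.Coset.J4

/-- The entry at position `i` of a packed table with five bits per entry. -/
def lk (c i : ℕ) : ℕ := (c >>> (5 * i)) % 32

/-- The packed identity table. -/
def cId : ℕ := ((List.range 24).map fun i => i <<< (5 * i)).sum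

theorem lk_cId : ∀ i : Fin 24, lk cId i = i := by decide +kernel

/-- Unpacking of a word: letters `0,1,2`, written to base 4 with digits `1,2,3`. -/
def dec : ℕ → ℕ → List ℕ
  | 0, _ => []
  | n + 1, c => if c = 0 then [] else (c % 4 - 1) :: dec n (c / 4)

/-- The path of a point along a word. -/
def follow (cs : List ℕ) (w : List ℕ) (i : ℕ) : ℕ := w.foldl (fun i l => lk (cs.getD l cId) i) i

/-- The value of a word. -/
def evP (Gs : List (Equiv.Perm (Fin 24))) (w : List ℕ) : Equiv.Perm (Fin 24) :=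
  (w.map fun l => Gs.getD l 1).prod

/-- The tables describe the generators. -/
def Tables (Gs : List (Equiv.Perm (Fin 24))) (cs : List ℕ) : Prop :=
  ∀ (l : ℕ) (i : Fin 24), (((Gs.getD l 1)⁻¹ i : Fin 24) : ℕ) = lk (cs.getD l cId) i

theorem tables_three {a b c : Equiv.Perm (Fin 24)} {ca cb cc : ℕ}
    (ha : ∀ i : Fin 24, ((a⁻¹ i : Fin 24) : ℕ) = lk ca i)
    (hb : ∀ i : Fin 24, ((b⁻¹ i : Fin 24) : ℕ) = lk cb i)
    (hc : ∀ i : Fin 24, ((c⁻¹ i : Fin 24) : ℕ) = lk cc i) :
    Tables [a, b, c] [ca, cb, cc] := by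
  intro l i
  match l with
  | 0 => exact ha i
  | 1 => exact hb i
  | 2 => exact hc i
  | (n + 3) => simp [lk_cId]

theorem getD_mem_three {H : Subgroup (Equiv.Perm (Fin 24))} {a b c : Equiv.Perm (Fin 24)}
    (ha : a ∈ H) (hb : b ∈ H) (hc : c ∈ H) : ∀ l : ℕ, [a, b, c].getD l 1 ∈ H := by
  intro l
  match l with
  | 0 => exact ha
  | 1 => exact hb
  | 2 => exact hc
  | (n + 3) => simp

variable {Gs : List (Equiv.Perm (Fin 24))} {cs : List ℕ}

theorem evP_inv (h : Tables Gs cs) :
    ∀ (w : List ℕ) (i : Fin 24), (((evP Gs w)⁻¹ i : Fin 24) : ℕ) = follow cs w i := by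
  intro w
  induction w with
  | nil => intro i; simp [evP, follow]
  | cons l w ih =>
    intro i
    have : evP Gs (l :: w) = Gs.getD l 1 * evP Gs w := by simp [evP]
    rw [this, mul_inv_rev, Equiv.Perm.mul_apply, ih, h l i]
    rfl

theorem evP_mem {H : Subgroup (Equiv.Perm (Fin 24))} (h : ∀ l, Gs.getD l 1 ∈ H) (w : List ℕ) :
    evP Gs w ∈ H :=
  Subgroup.list_prod_mem _ fun g hg => by
    obtain ⟨l, -, rfl⟩ := List.mem_map.mp hg
    exact h l

/-! ### Lower bound from a chain -/

/-- The elements of `H` fixing a list of points. -/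
def Fx (H : Subgroup (Equiv.Perm (Fin 24))) (F : List (Fin 24)) : Set (Equiv.Perm (Fin 24)) :=
  {p | p ∈ H ∧ ∀ b ∈ F, p⁻¹ b = b}

/-- The check of a chain: at each level the words fix the earlier points and separate. -/
def chainOK (cs : List ℕ) : List (Fin 24) → List (Fin 24 × List ℕ) → Bool
  | _, [] => true
  | F, (β, ws) :: rest =>
    ws.all (fun c => F.all fun b => follow cs (dec 64 c) b == (b : ℕ)) &&
      decide (ws.map fun c => follow cs (dec 64 c) β).Nodup && chainOK cs (β :: F) rest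

theorem chain_card (h : Tables Gs cs) {H : Subgroup (Equiv.Perm (Fin 24))}
    (hH : ∀ l, Gs.getD l 1 ∈ H) :
    ∀ (L : List (Fin 24 × List ℕ)) (F : List (Fin 24)), chainOK cs F L = true →
      (L.map fun e => e.2.length).prod ≤ Nat.card (Fx H F) := by
  intro L
  induction L with
  | nil =>
    intro F _
    have : Nonempty (Fx H F) := ⟨⟨1, one_mem H, fun b _ => rfl⟩⟩
    exact Nat.card_pos
  | cons e L ih =>
    intro F hF
    obtain ⟨β, ws⟩ := e
    simp only [chainOK, Bool.and_eq_true, List.all_eq_true, beq_iff_eq, decide_eq_true_eq] at hF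
    obtain ⟨⟨hfix, hnd⟩, hrest⟩ := hF
    rw [List.map_cons, List.prod_cons]
    refine le_trans (Nat.mul_le_mul_left _ (ih _ hrest)) ?_
    let wd : Fin ws.length → List ℕ := fun j => dec 64 ws[j]
    let f : Fin ws.length × Fx H (β :: F) → Fx H F := fun q =>
      ⟨(q.2 : Equiv.Perm (Fin 24)) * evP Gs (wd q.1), mul_mem q.2.2.1 (evP_mem hH _), fun b hb => by
        rw [mul_inv_rev, Equiv.Perm.mul_apply, q.2.2.2 b (List.mem_cons_of_mem _ hb)]
        refine Fin.ext ?_
        rw [evP_inv h]
        exact hfix _ (List.getElem_mem _) b hb⟩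
    have himg : ∀ q : Fin ws.length × Fx H (β :: F),
        ((((f q : Equiv.Perm (Fin 24)))⁻¹ β : Fin 24) : ℕ) = follow cs (wd q.1) β := by
      intro q
      show (((((q.2 : Equiv.Perm (Fin 24)) * evP Gs (wd q.1))⁻¹) β : Fin 24) : ℕ) = _
      rw [mul_inv_rev, Equiv.Perm.mul_apply, q.2.2.2 β List.mem_cons_self, evP_inv h]
    have hf : Function.Injective f := by
      intro p q hpq
      have h1 : follow cs (wd p.1) β = follow cs (wd q.1) β := by rw [← himg p, ← himg q, hpq]
      have hj : p.1 = q.1 := by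
        refine Fin.ext ((hnd.getElem_inj_iff (hi := by simp) (hj := by simp)).mp ?_)
        simpa [wd] using h1
      refine Prod.ext hj (Subtype.ext ?_)
      have h2 := congrArg Subtype.val hpq
      simp only [f, hj] at h2
      exact mul_right_cancel h2
    simpa using Nat.card_le_card_of_injective f hf

theorem chain_card_top (h : Tables Gs cs) {H : Subgroup (Equiv.Perm (Fin 24))}
    (hH : ∀ l, Gs.getD l 1 ∈ H) {L : List (Fin 24 × List ℕ)} (hL : chainOK cs [] L = true)
    {N : ℕ} (hN : (L.map fun e => e.2.length).prod = N) : N ≤ Nat.card H := by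
  refine le_trans (hN ▸ chain_card h hH L [] hL) ?_
  exact Nat.card_le_card_of_injective (fun p : Fx H [] => (⟨p.1, p.2.1⟩ : H))
    fun p q hpq => Subtype.ext (congrArg Subtype.val hpq :)

/-! ### Families of point sets -/

/-- The image of a mask under the inverse of a permutation. -/
def imgP (p : Equiv.Perm (Fin 24)) (m : ℕ) : ℕ :=
  (List.finRange 24).foldl (fun r (i : Fin 24) => if m.testBit i then r ||| 2 ^ ((p⁻¹ i : Fin 24) : ℕ) else r) 0

/-- The image of a mask along a word. -/
def imgF (cs : List ℕ) (w : List ℕ) (m : ℕ) : ℕ :=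
  (List.finRange 24).foldl (fun r (i : Fin 24) => if m.testBit i then r ||| 2 ^ follow cs w i else r) 0

theorem testBit_foldl (m : ℕ) (g : Fin 24 → ℕ) (j : ℕ) :
    ∀ (L : List (Fin 24)) (r : ℕ),
      (L.foldl (fun r (i : Fin 24) => if m.testBit i then r ||| 2 ^ g i else r) r).testBit j = true ↔
        r.testBit j = true ∨ ∃ i ∈ L, m.testBit i = true ∧ g i = j := by
  intro L
  induction L with
  | nil => intro r; simp
  | cons a L ih =>
    intro r
    rw [List.foldl_cons, ih]
    by_cases ha : m.testBit a = true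
    · simp only [Nat.testBit_or, Bool.or_eq_true, Nat.testBit_two_pow, if_true,
        decide_eq_true_eq, List.mem_cons, exists_eq_or_imp, ha, true_and, or_assoc]
    · simp only [ha, if_false, List.mem_cons, exists_eq_or_imp, false_and, false_or,
        Bool.false_eq_true]

theorem testBit_imgP (p : Equiv.Perm (Fin 24)) (m j : ℕ) :
    (imgP p m).testBit j = true ↔ ∃ i : Fin 24, m.testBit i = true ∧ ((p⁻¹ i : Fin 24) : ℕ) = j := by
  rw [imgP, testBit_foldl]
  simp

theorem imgP_mul (p q : Equiv.Perm (Fin 24)) (m : ℕ) : imgP (p * q) m = imgP q (imgP p m) := by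
  refine Nat.eq_of_testBit_eq fun j => ?_
  rw [Bool.eq_iff_iff, testBit_imgP, testBit_imgP]
  constructor
  · rintro ⟨i, hi, rfl⟩
    exact ⟨p⁻¹ i, (testBit_imgP _ _ _).mpr ⟨i, hi, rfl⟩, by
      rw [mul_inv_rev, Equiv.Perm.mul_apply]⟩
  · rintro ⟨k, hk, rfl⟩
    obtain ⟨i, hi, hik⟩ := (testBit_imgP _ _ _).mp hk
    exact ⟨i, hi, by rw [mul_inv_rev, Equiv.Perm.mul_apply, Fin.ext hik]⟩

theorem imgP_evP (h : Tables Gs cs) (w : List ℕ) (m : ℕ) : imgP (evP Gs w) m = imgF cs w m := by
  refine Nat.eq_of_testBit_eq fun j => ?_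
  rw [Bool.eq_iff_iff, testBit_imgP, imgF, testBit_foldl]
  simp only [evP_inv h, Nat.zero_testBit, Bool.false_eq_true, false_or, List.mem_finRange, true_and]

theorem imgP_one {m : ℕ} (hm : m < 2 ^ 24) : imgP 1 m = m := by
  refine Nat.eq_of_testBit_eq fun j => ?_
  rw [Bool.eq_iff_iff, testBit_imgP]
  simp only [inv_one, Equiv.Perm.one_apply]
  constructor
  · rintro ⟨i, hi, rfl⟩; exact hi
  · intro hj
    by_cases hj' : j < 24
    · exact ⟨⟨j, hj'⟩, hj, rfl⟩
    · rw [Nat.testBit_lt_two_pow (lt_of_lt_of_le hm (Nat.pow_le_pow_right (by norm_num) (by omega)))] at hj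
      cases hj

/-- The subgroup of `G` preserving a family of point sets. -/
def setStab (G : Subgroup (Equiv.Perm (Fin 24))) (T : Finset ℕ) (hT : ∀ m ∈ T, m < 2 ^ 24) :
    Subgroup (Equiv.Perm (Fin 24)) where
  carrier := {p | p ∈ G ∧ T.image (imgP p) = T}
  one_mem' := ⟨one_mem G, by
    rw [Finset.image_congr (f := imgP 1) (g := id) fun m hm => imgP_one (hT m hm), Finset.image_id]⟩
  mul_mem' := by
    rintro p q ⟨hp, hp'⟩ ⟨hq, hq'⟩
    refine ⟨mul_mem hp hq, ?_⟩
    rw [Finset.image_congr (f := imgP (p * q)) (g := imgP q ∘ imgP p) fun m _ => imgP_mul p q m,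
      ← Finset.image_image, hp', hq']
  inv_mem' := by
    rintro p ⟨hp, hp'⟩
    refine ⟨inv_mem hp, ?_⟩
    conv_lhs => rw [← hp', Finset.image_image]
    rw [Finset.image_congr (f := imgP p⁻¹ ∘ imgP p) (g := id) fun m hm => by
      rw [Function.comp_apply, ← imgP_mul, mul_inv_cancel, imgP_one (hT m hm)]; rfl,
      Finset.image_id]

/-- The sum of squares of the images of a family along a word. -/
def key (cs : List ℕ) (T : List ℕ) (c : ℕ) : ℕ :=
  (T.map fun m => imgF cs (dec 64 c) m * imgF cs (dec 64 c) m).sum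

theorem orbit_card (h : Tables Gs cs) {G : Subgroup (Equiv.Perm (Fin 24))}
    (hG : ∀ l, Gs.getD l 1 ∈ G) {T : List ℕ} (hnd : T.Nodup) (hT : ∀ m ∈ T.toFinset, m < 2 ^ 24)
    {ws : List (ℕ × ℕ)} (hkey : ∀ e ∈ ws, key cs T e.2 = e.1)
    (hsort : (ws.map Prod.fst).Nodup) :
    ws.length * Nat.card (setStab G T.toFinset hT) ≤ Nat.card G := by
  let f : Fin ws.length × setStab G T.toFinset hT → G := fun q =>
    ⟨(q.2 : Equiv.Perm (Fin 24)) * evP Gs (dec 64 ws[q.1].2), mul_mem q.2.2.1 (evP_mem hG _)⟩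
  have hk : ∀ q : Fin ws.length × setStab G T.toFinset hT,
      (∑ s ∈ T.toFinset.image (imgP (f q : Equiv.Perm (Fin 24))), s * s) = ws[q.1].1 := by
    intro q
    have h2 : T.toFinset.image (imgP (q.2 : Equiv.Perm (Fin 24))) = T.toFinset := q.2.2.2
    rw [show (f q : Equiv.Perm (Fin 24)) =
        (q.2 : Equiv.Perm (Fin 24)) * evP Gs (dec 64 ws[q.1].2) from rfl,
      Finset.image_congr (g := imgP (evP Gs (dec 64 ws[q.1].2)) ∘ imgP (q.2 : Equiv.Perm (Fin 24)))
        fun m _ => imgP_mul _ _ m, ← Finset.image_image, h2, Finset.sum_image, List.sum_toFinset _ hnd]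
    · rw [← hkey ws[q.1] (List.getElem_mem _)]
      simp only [key, imgP_evP h]
    · intro a ha b hb hab
      have := congrArg (imgP (evP Gs (dec 64 ws[q.1].2))⁻¹) hab
      rwa [← imgP_mul, ← imgP_mul, mul_inv_cancel, imgP_one (hT a ha), imgP_one (hT b hb)] at this
  have hf : Function.Injective f := by
    intro p q hpq
    have h1 : ws[p.1].1 = ws[q.1].1 := by rw [← hk p, ← hk q, hpq]
    have hj : p.1 = q.1 := by
      refine Fin.ext ((hsort.getElem_inj_iff (hi := by simp) (hj := by simp)).mp ?_)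
      simpa using h1
    refine Prod.ext hj (Subtype.ext ?_)
    have h2 := congrArg Subtype.val hpq
    simp only [f, hj] at h2
    exact mul_right_cancel h2
  simpa using Nat.card_le_card_of_injective f hf

theorem sorted_nodup {L : List ℕ} (h : List.IsChain (· < ·) L) : L.Nodup :=
  (List.isChain_iff_pairwise.mp h).imp ne_of_lt

end CfsgLib.Coset.J4
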