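/-
The multiplier of the presented Janko group is trivial once that group is known to be simple: the
representation of degree 112 is then faithful and the degree 24 model maps to the subgroup on the
first two generators.
-/
import Cfsg.Agent.Coset.J4.MultWit
import Cfsg.Agent.Coset.J4.M24Pres

set_option autoImplicit false

namespace CfsgLib.Coset.J4.MultJ

/-- A simple presented group is faithfully represented. -/
theorem repJ4_injective [IsSimpleGroup Cfsg.Spor.J4] : Function.Injective repJ4 := by
  rw [← MonoidHom.ker_eq_bot_iff]
  rcases repJ4.normal_ker.eq_bot_or_eq_top with h | h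
  · exact h
  · exact absurd (MonoidHom.mem_ker.mp (h ▸ Subgroup.mem_top _)) repJ4_t_ne_one

/-- The multiplier is trivial. -/
theorem multiplier_of_simple [IsSimpleGroup Cfsg.Spor.J4] :
    Cfsg.HasCyclicSchurMultiplier Cfsg.Spor.J4 1 := by
  obtain ⟨φ, hx, hy⟩ := exists_hom_J4
  exact multiplier_of_faithful φ hx hy repJ4_injective

end CfsgLib.Coset.J4.MultJ
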