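/-
Coordinates in `2^11:M24` inside the presented Janko group: the action as an explicit linear map,
products of pairs, and homomorphisms of the model twisted by a vector on the first generator.
-/
import Cfsg.Agent.Coset.J4.Idents
import Cfsg.Agent.Coset.J4.Inj

set_option autoImplicit false
set_option maxRecDepth 100000

namespace CfsgLib.Coset.J4.OutJ

section Kernel

/-- The action on coordinates. -/
noncomputable def act (a c : Nat) : Nat := actN Dat.basisL Dat.funcL a c

/-- A linear map on eleven coordinates given by the images of the basis. -/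
noncomputable def apM (M : List Nat) (c : Nat) : Nat :=
  List.rec 0 (fun k _ r => cond (Nat.testBit c k) (Nat.xor (M.getD k 0) r) r) pts11

/-- The images of the basis. -/
noncomputable def rowsM (a : Nat) : List Nat :=
  pts11.map fun k => coordN Dat.funcL (pimg a (pimg (Dat.basisL.getD k 0) (sext0.getD 0 0)))

/-- Letters as linear maps. -/
noncomputable def stepC (MX MY MI : List Nat) (cx l c : Nat) : Nat :=
  cond (Nat.beq l 0) (Nat.xor (apM MX c) cx) (cond (Nat.beq l 1) (apM MY c) (apM MI c))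

/-- The coordinates collected along a word. -/
noncomputable def defC (MX MY MI : List Nat) (cx : Nat) (w : List Nat) : Nat :=
  List.rec (fun c => c) (fun l _ ih c => ih (stepC MX MY MI cx l c)) w 0

end Kernel

theorem act_apM (a c : Nat) : act a c = apM (rowsM a) c := by
  unfold act actN apM
  have key : ∀ l : List Nat, (∀ k ∈ l, k < 11) →
      (List.rec 0 (fun k _ r => cond (Nat.testBit c k)
        (Nat.xor (coordN Dat.funcL (pimg a (pimg (Dat.basisL.getD k 0) (sext0.getD 0 0)))) r) r) l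
        : Nat) =
      List.rec 0 (fun k _ r => cond (Nat.testBit c k) (Nat.xor ((rowsM a).getD k 0) r) r) l := by
    intro l
    induction l with
    | nil => intro _; rfl
    | cons k l ih =>
      intro hl
      have hk : k < 11 := hl k List.mem_cons_self
      have hr : (rowsM a).getD k 0 =
          coordN Dat.funcL (pimg a (pimg (Dat.basisL.getD k 0) (sext0.getD 0 0))) := by
        rw [rowsM]
        interval_cases k <;> rfl
      show cond _ (Nat.xor _ _) _ = cond _ (Nat.xor _ _) _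
      rw [hr, ih fun j hj => hl j (List.mem_cons_of_mem _ hj)]
  exact key pts11 (by decide)

theorem apM_of_rows {a : Nat} {M : List Nat} (h : rowsM a = M) (c : Nat) : act a c = apM M c := by
  rw [act_apM, h]

theorem apM_lt {M : List Nat} (hM : ∀ r ∈ M, r < 2048) (c : Nat) : apM M c < 2048 := by
  unfold apM
  have key : ∀ l : List Nat,
      (List.rec 0 (fun k _ r => cond (Nat.testBit c k) (Nat.xor (M.getD k 0) r) r) l : Nat) < 2048 := by
    intro l
    induction l with
    | nil => norm_num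
    | cons k l ih =>
      show cond _ (Nat.xor _ _) _ < 2048
      cases Nat.testBit c k
      · exact ih
      · refine Nat.xor_lt_two_pow (n := 11) ?_ ih
        rcases lt_or_ge k M.length with h | h
        · rw [List.getD_eq_getElem _ _ h]; exact hM _ (List.getElem_mem h)
        · rw [List.getD_eq_default _ _ h]; norm_num
  exact key pts11

attribute [local irreducible] pmul pone pimg coordN

variable {G : Type*} [Group G] (E : Gens G)

/-- The vector with given coordinates. -/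
noncomputable def eV (c : Nat) : G := E.UF.E Dat.basisL c

theorem eV_xor (c d : Nat) : eV E (Nat.xor c d) = eV E c * eV E d := (udata E).E_xor c d

theorem eV_zero : eV E 0 = 1 := E.UF.E_zero _

theorem eV_inv (c : Nat) : (eV E c)⁻¹ = eV E c := (udata E).E_inv c

theorem eV_comm (c d : Nat) : eV E c * eV E d = eV E d * eV E c := (udata E).E_comm c d

theorem eV_mod (c : Nat) : eV E (c % 2048) = eV E c := E.UF.E_mod _ c

theorem eV_mem (c : Nat) : eV E c ∈ (udata E).vSub := (udata E).E_mem c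

theorem mem_vSub {g : G} (h : g ∈ (udata E).vSub) : ∃ c < 2048, g = eV E c := by
  obtain ⟨c, rfl⟩ := h
  exact ⟨c % 2048, Nat.mod_lt _ (by norm_num), (eV_mod E c).symm⟩

theorem mem_H {g : G} : g ∈ (udata E).hSub ↔ ∃ (p : M24m) (c : Nat), c < 2048 ∧ g = E.φ p * eV E c := by
  constructor
  · rintro ⟨p, v, hv, rfl⟩
    obtain ⟨c, hc, rfl⟩ := mem_vSub E hv
    exact ⟨p, c, hc, rfl⟩
  · rintro ⟨p, c, -, rfl⟩
    exact ⟨p, eV E c, eV_mem E c, rfl⟩

theorem conj_act {a : Nat} {p : M24m} (ha : RepP a (p : Equiv.Perm (Fin 24))) (c : Nat) :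
    (E.φ p)⁻¹ * eV E c * E.φ p = eV E (act a c) := by
  have h := (udata E).conj_E (g := a) ⟨p, ha⟩ c
  rw [E.UF.ph_eq (p := p) ha] at h
  exact h

theorem eV_phi {a : Nat} {p : M24m} (ha : RepP a (p : Equiv.Perm (Fin 24))) (c : Nat) :
    eV E c * E.φ p = E.φ p * eV E (act a c) := by
  rw [← conj_act E ha c]; group

theorem pair_mul {b : Nat} {p q : M24m} (hb : RepP b (q : Equiv.Perm (Fin 24))) (c d : Nat) :
    E.φ p * eV E c * (E.φ q * eV E d) = E.φ (p * q) * eV E (Nat.xor (act b c) d) := by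
  rw [eV_xor, map_mul]
  simp only [mul_assoc]
  rw [← mul_assoc (eV E c), eV_phi E hb, mul_assoc]

theorem val_eq {a : Nat} {p : M24m} (ha : RepP a (p : Equiv.Perm (Fin 24))) (c : Nat) :
    E.UF.val ctxJ (a, c) = E.φ p * eV E c := by
  show E.UF.ph a * _ = _
  rw [E.UF.ph_eq (p := p) ha]
  rfl

/-- The standing hypotheses: the sextet element is nontrivial and the vectors are irreducible. -/
structure Std : Prop where
  hu : E.u ≠ 1
  hirr : ∃ J, checkIrr ctxJ.P ctxJ.S ctxJ.B ctxJ.D J = true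

variable {E}

theorem Std.pair_inj (hS : Std E) {p q : M24m} {c d : Nat} (hc : c < 2048) (hd : d < 2048)
    (h : E.φ p * eV E c = E.φ q * eV E d) : p = q ∧ c = d := by
  obtain ⟨a, ha⟩ := exists_repP (p : Equiv.Perm (Fin 24))
  obtain ⟨b, hb⟩ := exists_repP (q : Equiv.Perm (Fin 24))
  refine (udata E).ev_inj (F := E.UF) rfl hS.hu hS.hirr ha hb hc hd ?_
  show E.UF.ph a * _ = E.UF.ph b * _
  rw [E.UF.ph_eq (p := p) ha, E.UF.ph_eq (p := q) hb]
  exact h

theorem Std.eV_inj (hS : Std E) {c d : Nat} (hc : c < 2048) (hd : d < 2048)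
    (h : eV E c = eV E d) : c = d :=
  (hS.pair_inj (p := 1) (q := 1) hc hd (by rw [map_one, one_mul, one_mul, h])).2

/-- The value of a word of three letters in the model. -/
def evW (w : List Nat) : M24m :=
  (w.map fun l => [(⟨Xp, Xp_mem⟩ : M24m), ⟨Yp, Yp_mem⟩, (⟨Yp, Yp_mem⟩ : M24m)⁻¹].getD l 1).prod

theorem repYi : RepP cYi ((⟨Yp, Yp_mem⟩ : M24m)⁻¹ : M24m) := by
  intro i
  revert i
  decide +kernel

theorem twisted_hom {MX MY MI : List Nat} (hMX : rowsM cX = MX) (hMY : rowsM cY = MY)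
    (hMI : rowsM cYi = MI) (ψ : M24m →* G) {cx : Nat}
    (hx : ψ ⟨Xp, Xp_mem⟩ = E.φ ⟨Xp, Xp_mem⟩ * eV E cx)
    (hy : ψ ⟨Yp, Yp_mem⟩ = E.φ ⟨Yp, Yp_mem⟩) (w : List Nat) (hw : ∀ l ∈ w, l < 3) :
    ψ (evW w) = E.φ (evW w) * eV E (defC MX MY MI cx w) := by
  suffices key : ∀ (w : List Nat), (∀ l ∈ w, l < 3) → ∀ (p : M24m) (c : Nat),
      E.φ p * eV E c * ψ (evW w) = E.φ (p * evW w) *
        eV E (List.rec (fun c => c) (fun l _ ih c => ih (stepC MX MY MI cx l c)) w c) by
    have h := key w hw 1 0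
    rwa [map_one, eV_zero, one_mul, one_mul, one_mul] at h
  intro w
  induction w with
  | nil => intro _ p c; simp [evW]
  | cons l w ih =>
    intro hw p c
    have hl := hw l List.mem_cons_self
    have hw' : ∀ m ∈ w, m < 3 := fun m hm => hw m (List.mem_cons_of_mem _ hm)
    have hyi : ψ (⟨Yp, Yp_mem⟩ : M24m)⁻¹ = E.φ (⟨Yp, Yp_mem⟩ : M24m)⁻¹ := by
      rw [map_inv, hy, map_inv]
    have step : ∀ (g : M24m) (M : List Nat) (a e : Nat), RepP a (g : Equiv.Perm (Fin 24)) →
        rowsM a = M → ψ g = E.φ g * eV E e →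
        E.φ p * eV E c * ψ g = E.φ (p * g) * eV E (Nat.xor (apM M c) e) := by
      intro g M a e ha hM hg
      rw [hg, pair_mul E ha, apM_of_rows hM]
    have hev : evW (l :: w) =
        [(⟨Xp, Xp_mem⟩ : M24m), ⟨Yp, Yp_mem⟩, (⟨Yp, Yp_mem⟩ : M24m)⁻¹].getD l 1 * evW w := by
      simp [evW]
    rw [hev, map_mul, ← mul_assoc, ← mul_assoc p]
    interval_cases l
    · rw [show E.φ p * eV E c * ψ ([(⟨Xp, Xp_mem⟩ : M24m), ⟨Yp, Yp_mem⟩, (⟨Yp, Yp_mem⟩ : M24m)⁻¹].getD 0 1)
        = _ from step ⟨Xp, Xp_mem⟩ MX cX cx repX hMX hx, ih hw']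
      rfl
    · rw [show E.φ p * eV E c * ψ ([(⟨Xp, Xp_mem⟩ : M24m), ⟨Yp, Yp_mem⟩, (⟨Yp, Yp_mem⟩ : M24m)⁻¹].getD 1 1)
        = _ from step ⟨Yp, Yp_mem⟩ MY cY 0 repY hMY (by rw [hy, eV_zero, mul_one]), ih hw']
      rw [show (apM MY c).xor 0 = apM MY c from Nat.xor_zero _]
      rfl
    · rw [show E.φ p * eV E c * ψ ([(⟨Xp, Xp_mem⟩ : M24m), ⟨Yp, Yp_mem⟩, (⟨Yp, Yp_mem⟩ : M24m)⁻¹].getD 2 1)
        = _ from step (⟨Yp, Yp_mem⟩ : M24m)⁻¹ MI cYi 0 repYi hMI (by rw [hyi, eV_zero, mul_one]), ih hw']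
      rw [show (apM MI c).xor 0 = apM MI c from Nat.xor_zero _]
      rfl

end CfsgLib.Coset.J4.OutJ
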