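/-
Data for the automorphisms of the presented Janko group: matrices of the action on coordinates,
relator words and coboundary witnesses (found by computer, checked where used).
-/
set_option autoImplicit false

namespace CfsgLib.Coset.J4.OutJ

/-- rows -/
def MX : List Nat := [1144, 207, 1789, 1989, 1978, 1440, 1933, 512, 1491, 128, 595]

/-- rows -/
def MY : List Nat := [1, 352, 1648, 1511, 1798, 272, 1618, 1702, 927, 954, 1126]

/-- rows -/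
def MI : List Nat := [1, 1245, 1944, 268, 851, 1177, 2024, 1914, 883, 1042, 1076]

/-- rows -/
def MW : List Nat := [602, 1387, 1825, 8, 973, 700, 1510, 1207, 1907, 139, 1610]

/-- rows -/
def MG1 : List Nat := [1, 49, 199, 1845, 289, 1638, 292, 914, 185, 1448, 450]

/-- rows -/
def MG2 : List Nat := [1, 368, 304, 317, 273, 21, 6, 243, 256, 1534, 908]

/-- words that are trivial in the model -/
def relWs : List (List Nat) := [[0, 0], [1, 1, 1], [0, 1, 0, 1, 0, 1, 0, 1, 0, 1, 0, 1, 0, 1, 0, 1, 0, 1, 0, 1, 0, 1, 0, 1, 0, 1, 0, 1, 0, 1, 0, 1, 0, 1, 0, 1, 0, 1, 0, 1, 0, 1, 0, 1, 0, 1], [0, 2, 0, 1, 0, 2, 0, 1, 0, 2, 0, 1, 0, 2, 0, 1, 0, 2, 0, 1, 0, 2, 0, 1, 0, 2, 0, 1, 0, 2, 0, 1, 0, 2, 0, 1, 0, 2, 0, 1, 0, 2, 0, 1, 0, 2, 0, 1], [0, 2, 0, 2, 0, 1, 0, 1, 0, 2, 0, 2, 0, 1, 0, 1, 0, 2, 0, 2, 0, 1, 0, 1, 0, 2, 0, 2, 0, 1, 0, 1, 0, 2, 0, 2, 0, 1, 0, 1], [0, 1, 0, 1, 0, 2, 0, 1,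 0, 2, 0, 1, 0, 2, 0, 1, 0, 1, 0, 2, 0, 1, 0, 2, 0, 1, 0, 2, 0, 1, 0, 1, 0, 2, 0, 1, 0, 2, 0, 1, 0, 2, 0, 1, 0, 1, 0, 2, 0, 1, 0, 2, 0, 1, 0, 2], [0, 1, 0, 1, 0, 2, 0, 1, 0, 1, 0, 2, 0, 1, 0, 1, 0, 2, 0, 1, 0, 2, 0, 2, 0, 1, 0, 2, 0, 2, 0, 1, 0, 2, 0, 2]]

/-- word -/
def w0W : List Nat := [1, 0, 1, 0, 2, 0, 2, 0, 1, 0, 1, 0, 1]

/-- the twist on the first generator -/
def eTw : Nat := 72

/-- the twist on the word -/
def wTw : Nat := 1475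

/-- coordinate, witness, twist -/
def cobW : List (Nat × Nat × Nat) := [(0, 0, 0), (47, 331, 1), (72, 0, 1), (103, 331, 0), (133, 507, 1), (170, 176, 0), (205, 507, 0), (226, 176, 1), (283, 493, 1), (308, 166, 0), (339, 493, 0), (380, 166, 1), (414, 22, 0), (433, 349, 1), (470, 22, 1), (505, 349, 0), (517, 1448, 1), (554, 1251, 0), (589, 1448, 0), (610, 1251, 1), (640, 1107, 0), (687, 1304, 1), (712, 1107, 1), (743, 1304, 0), (798, 1093, 0), (817, 1294, 1), (854, 1093, 1), (889, 1294, 0), (923, 1470, 1), (948, 1269, 0), (979, 1470, 0), (1020, 1269, 1), (1054, 330, 0), (1073, 1, 1), (1110, 330, 1), (1145, 1, 0), (1179, 177, 1), (1204, 506, 0), (1235, 177, 0), (1276, 506, 1), (1285, 167, 1), (1322, 492, 0), (1357, 167, 0), (1378, 492, 1), (1408, 348, 0), (1455, 23, 1), (1480, 348, 1), (1511, 23, 0), (1563, 1250, 1), (1588, 1449, 0), (1619, 1250, 0), (1660, 1449, 1), (1694,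 1305, 0), (1713, 1106, 1), (1750, 1305, 1), (1785, 1106, 0), (1792, 1295, 0), (1839, 1092, 1), (1864, 1295, 1), (1895, 1092, 0), (1925, 1268, 1), (1962, 1471, 0), (1997, 1268, 0), (2018, 1471, 1)]

end CfsgLib.Coset.J4.OutJ
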