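/-
An endomorphism of the presented Janko group that respects `2^11:M24` and is the identity modulo
the vectors is, after an inner correction, the identity on the vectors and one of two maps on the
generators of the complement.
-/
import Cfsg.Agent.Coset.J4.OutBase
import Cfsg.Agent.Coset.J4.OutData

set_option autoImplicit false
set_option maxRecDepth 100000
set_option Elab.async false

namespace CfsgLib.Coset.J4.OutJ

theorem rows_ok : rowsM cX = MX ∧ rowsM cY = MY ∧ rowsM cYi = MI ∧ rowsM cW = MW ∧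
    rowsM cG1 = MG1 ∧ rowsM cG2 = MG2 := by decide +kernel

theorem rows_lt : (∀ r ∈ MX, r < 2048) ∧ (∀ r ∈ MY, r < 2048) := by decide +kernel

theorem relWs_ok : ∀ w ∈ relWs, (∀ l ∈ w, l < 3) ∧ ∀ i : Fin 24,
    ((evW w : M24m) : Equiv.Perm (Fin 24)) i = i := by decide +kernel

theorem w0W_ok : (∀ l ∈ w0W, l < 3) ∧ ∀ i : Fin 24,
    ((evW w0W : M24m) : Equiv.Perm (Fin 24)) i = W0p i := by decide +kernel

/-- A coordinate satisfying all the relators appears among the witnesses. -/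
noncomputable def survB (cx : Nat) : Bool :=
  cond (allList (fun w => Nat.beq (defC MX MY MI cx w) 0) relWs)
    (cobW.any fun q => Nat.beq q.1 cx) true

theorem surv_ok : allBelow 11 2048 survB = true := by decide +kernel

theorem cob_ok : ∀ q ∈ cobW, apM MY q.2.1 = q.2.1 ∧ q.2.1 < 2048 ∧
    Nat.xor q.2.1 (apM MX q.2.1) = Nat.xor q.1 (cond (Nat.beq q.2.2 1) eTw 0) := by
  decide +kernel

theorem defs_w0 : defC MX MY MI eTw w0W = wTw ∧ defC MX MY MI 0 w0W = 0 ∧ eTw < 2048 ∧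
    wTw < 2048 := by decide +kernel

/-- The kernel of `1 + y + y²` is the image of `1 + y`. -/
noncomputable def normB (c : Nat) : Bool :=
  cond (Nat.beq (Nat.xor c (Nat.xor (apM MY c) (apM MY (apM MY c)))) 0)
    (Nat.beq (Nat.xor (apM MY c) (apM MY (apM MY c))) c) true

theorem norm_ok : allBelow 11 2048 normB = true := by decide +kernel

/-- Only zero and the sextet element are fixed by the stabiliser of the sextet. -/
noncomputable def fixUB (c : Nat) : Bool :=
  cond (Nat.beq (apM MG1 c) c) (cond (Nat.beq (apM MG2 c) c) (Nat.ble c 1) true) true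

theorem fixU_ok : allBelow 11 2048 fixUB = true := by decide +kernel

theorem g_fix_one : apM MG1 1 = 1 ∧ apM MG2 1 = 1 := by decide +kernel

theorem repG : RepP cG1 g1p ∧ RepP cG2 g2p ∧ RepP cW W0p := by
  refine ⟨?_, ?_, ?_⟩ <;> intro i <;> revert i <;> decide +kernel

attribute [local irreducible] pmul pone pimg coordN apM defC

variable {G : Type*} [Group G] {E : Gens G}

/-- The map fixes the vectors and twists the generators by `e` and `f`. -/
structure FixH (E : Gens G) (α : G →* G) (e f : Nat) : Prop where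
  vec : ∀ c, α (eV E c) = eV E c
  fX : α (E.φ ⟨Xp, Xp_mem⟩) = E.φ ⟨Xp, Xp_mem⟩ * eV E e
  fY : α (E.φ ⟨Yp, Yp_mem⟩) = E.φ ⟨Yp, Yp_mem⟩
  fW : α (E.φ ⟨W0p, W0p_mem⟩) = E.φ ⟨W0p, W0p_mem⟩ * eV E f

theorem conj_eq_self {p : M24m} {a : Nat} (ha : RepP a (p : Equiv.Perm (Fin 24))) {c : Nat}
    (h : act a c = c) : eV E c * E.φ p = E.φ p * eV E c := by
  rw [eV_phi E ha, h]

theorem vec_fix (hS : Std E) (α : G →* G) (hinj : Function.Injective α)
    (hV : ∀ c, ∃ d, α (eV E c) = eV E d)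
    (hM : ∀ p : M24m, ∃ c, α (E.φ p) = E.φ p * eV E c) : ∀ c, α (eV E c) = eV E c := by
  obtain ⟨-, -, -, -, hG1, hG2⟩ := rows_ok
  obtain ⟨hrep1, hrep2, -⟩ := repG
  -- the map commutes with the action
  have hcomm : ∀ (p : M24m) (x : G), x ∈ Set.range (eV E) →
      α ((E.φ p)⁻¹ * x * E.φ p) = (E.φ p)⁻¹ * α x * E.φ p := by
    rintro p _ ⟨c, rfl⟩
    obtain ⟨d, hd⟩ := hM p
    obtain ⟨c', hc'⟩ := hV c
    rw [map_mul, map_mul, map_inv, hd, hc', mul_inv_rev, eV_inv]
    obtain ⟨a, ha⟩ := exists_repP (p : Equiv.Perm (Fin 24))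
    calc eV E d * (E.φ p)⁻¹ * eV E c' * (E.φ p * eV E d)
        = eV E d * ((E.φ p)⁻¹ * eV E c' * E.φ p) * eV E d := by group
      _ = eV E d * eV E (act a c') * eV E d := by rw [conj_act E ha]
      _ = eV E (act a c') * (eV E d * eV E d) := by rw [eV_comm E d, mul_assoc]
      _ = _ := by rw [← conj_act E ha, ← eV_xor, show Nat.xor d d = 0 from Nat.xor_self d,
        eV_zero, mul_one]
  obtain ⟨d0, hd0⟩ := hV 1
  have hd : α (eV E 1) = eV E (d0 % 2048) := by rw [eV_mod, hd0]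
  have hlt : d0 % 2048 < 2048 := Nat.mod_lt _ (by norm_num)
  have hfix : ∀ (p : M24m) (a : Nat) (M : List Nat), RepP a (p : Equiv.Perm (Fin 24)) →
      rowsM a = M → apM M 1 = 1 → apM M (d0 % 2048) % 2048 = d0 % 2048 := by
    intro p a M ha hr h1
    have h := hcomm p (eV E 1) ⟨1, rfl⟩
    rw [conj_act E ha, apM_of_rows hr, h1, hd, conj_act E ha, apM_of_rows hr,
      ← eV_mod E (apM M _)] at h
    exact (hS.eV_inj hlt (Nat.mod_lt _ (by norm_num)) h).symm
  have hrlt : (∀ r ∈ MG1, r < 2048) ∧ (∀ r ∈ MG2, r < 2048) := by decide +kernel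
  have e1 := hfix ⟨g1p, g1p_mem⟩ cG1 MG1 hrep1 hG1 g_fix_one.1
  have e2 := hfix ⟨g2p, g2p_mem⟩ cG2 MG2 hrep2 hG2 g_fix_one.2
  rw [Nat.mod_eq_of_lt (apM_lt hrlt.1 _)] at e1
  rw [Nat.mod_eq_of_lt (apM_lt hrlt.2 _)] at e2
  have h := of_allBelow fixU_ok (d0 % 2048) hlt
  unfold fixUB at h
  rw [show Nat.beq (apM MG1 (d0 % 2048)) (d0 % 2048) = true from by rw [e1]; exact Nat.beq_refl _,
    cond_true,
    show Nat.beq (apM MG2 (d0 % 2048)) (d0 % 2048) = true from by rw [e2]; exact Nat.beq_refl _,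
    cond_true] at h
  have h01 : d0 % 2048 ≤ 1 := Nat.ble_eq.mp h
  have hone : d0 % 2048 = 1 := by
    rcases Nat.le_one_iff_eq_zero_or_eq_one.mp h01 with h0 | h0
    · exfalso
      rw [h0, eV_zero, ← map_one α] at hd
      exact absurd (hS.eV_inj (by norm_num) (by norm_num)
        ((hinj hd).trans (eV_zero E).symm)) one_ne_zero
    · exact h0
  rw [hone] at hd
  -- vectors are products of conjugates of the first one
  have hU : ∀ k < 11, α (E.UF.U (Dat.basisL.getD k 0)) = E.UF.U (Dat.basisL.getD k 0) := by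
    intro k hk
    obtain ⟨p0, hp0⟩ := (udata E).val_B hk
    let p : M24m := p0
    have hp : RepP (Dat.basisL.getD k 0) (p : Equiv.Perm (Fin 24)) := hp0
    have hu : eV E 1 = E.UF.u := (udata E).u_eq
    have e : E.UF.U (Dat.basisL.getD k 0) = (E.φ p)⁻¹ * eV E 1 * E.φ p := by
      rw [UFrame.U, E.UF.ph_eq (p := p) hp, hu]
      rfl
    rw [e, hcomm p _ ⟨1, rfl⟩, hd]
  intro c
  show α (E.UF.E Dat.basisL c) = E.UF.E Dat.basisL c
  rw [UFrame.E, map_list_prod, List.map_map]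
  refine congrArg List.prod (List.map_congr_left fun k hk => ?_)
  have hk' : k < 11 := (by decide : ∀ j ∈ pts11, j < 11) k hk
  show α (E.UF.bitU Dat.basisL c k) = E.UF.bitU Dat.basisL c k
  unfold UFrame.bitU
  split_ifs
  · exact hU k hk'
  · exact map_one α

theorem exists_fixH (hS : Std E) (α : G →* G) (hinj : Function.Injective α)
    (hV : ∀ c, ∃ d, α (eV E c) = eV E d)
    (hM : ∀ p : M24m, ∃ c, α (E.φ p) = E.φ p * eV E c) :
    ∃ g : G, FixH E ((MulAut.conj g).toMonoidHom.comp α) 0 0 ∨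
      FixH E ((MulAut.conj g).toMonoidHom.comp α) eTw wTw := by
  obtain ⟨hMX, hMY, hMI, -, -, -⟩ := rows_ok
  have hvec := vec_fix hS α hinj hV hM
  set x : M24m := ⟨Xp, Xp_mem⟩ with hxdef
  set y : M24m := ⟨Yp, Yp_mem⟩ with hydef
  obtain ⟨cy0, hcy0⟩ := hM y
  have hy3 : y ^ 3 = 1 := Subtype.ext (by decide +kernel)
  -- correct the second generator
  have hy1 : α (E.φ y) = E.φ y * eV E (cy0 % 2048) := by rw [eV_mod, hcy0]
  set cy := cy0 % 2048 with hcy
  have hcylt : cy < 2048 := Nat.mod_lt _ (by norm_num)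
  have hN : Nat.xor cy (Nat.xor (apM MY cy) (apM MY (apM MY cy))) = 0 := by
    have h : α (E.φ (y * y * y)) = 1 := by
      rw [show y * y * y = y ^ 3 by rw [pow_three, mul_assoc], hy3, map_one, map_one]
    rw [map_mul E.φ, map_mul E.φ, map_mul, map_mul, hy1, pair_mul E repY, apM_of_rows hMY,
      pair_mul E repY, apM_of_rows hMY] at h
    rw [show y * y * y = y ^ 3 by rw [pow_three, mul_assoc], hy3, map_one, one_mul, ← eV_mod,
      ← eV_zero E] at h
    have h0 := hS.eV_inj (Nat.mod_lt _ (by norm_num)) (by norm_num) h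
    have hlin : apM MY (Nat.xor (apM MY cy) cy) = Nat.xor (apM MY (apM MY cy)) (apM MY cy) := by
      have := apM_lt rows_lt.2
      refine hS.eV_inj (this _) (Nat.xor_lt_two_pow (n := 11) (this _) (this _)) ?_
      have cc : ∀ d, eV E (apM MY d) = (E.φ y)⁻¹ * eV E d * E.φ y := fun d => by
        rw [← apM_of_rows hMY, ← conj_act E (p := y) repY]
      rw [eV_xor E (apM MY (apM MY cy)), cc, cc (apM MY cy), eV_xor, cc cy]
      group
    rw [hlin, Nat.mod_eq_of_lt (show Nat.xor (Nat.xor (apM MY (apM MY cy)) (apM MY cy)) cy < 2048 from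
      Nat.xor_lt_two_pow (n := 11) (Nat.xor_lt_two_pow (n := 11)
      (apM_lt rows_lt.2 _) (apM_lt rows_lt.2 _)) hcylt)] at h0
    show cy ^^^ (apM MY cy ^^^ apM MY (apM MY cy)) = 0
    rw [← h0]
    show _ = (apM MY (apM MY cy) ^^^ apM MY cy) ^^^ cy
    rw [Nat.xor_comm (apM MY (apM MY cy)), Nat.xor_comm _ cy]
  set v := apM MY cy with hv
  have hfy : eV E v * (E.φ y * eV E cy) * eV E v = E.φ y := by
    rw [← mul_assoc, eV_phi E repY, apM_of_rows hMY, mul_assoc, mul_assoc, ← eV_xor, ← eV_xor]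
    have h := of_allBelow norm_ok cy hcylt
    unfold normB at h
    rw [show Nat.beq (Nat.xor cy (Nat.xor (apM MY cy) (apM MY (apM MY cy)))) 0 = true from by
      rw [hN]; rfl, cond_true] at h
    have e := Nat.eq_of_beq_eq_true h
    rw [show Nat.xor (apM MY v) (Nat.xor cy v) = 0 from ?_, eV_zero, mul_one]
    show apM MY v ^^^ (cy ^^^ v) = 0
    rw [Nat.xor_comm cy, ← Nat.xor_assoc, Nat.xor_comm (apM MY v)]
    show (Nat.xor v (apM MY v)) ^^^ cy = 0
    rw [e, Nat.xor_self]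
  -- the first generator
  set β := (MulAut.conj (eV E v)).toMonoidHom.comp α with hβ
  have hβy : β (E.φ y) = E.φ y := by
    show eV E v * α (E.φ y) * (eV E v)⁻¹ = _
    rw [hy1, eV_inv, hfy]
  obtain ⟨cx0, hcx0⟩ := hM x
  have hβx : ∃ cx < 2048, β (E.φ x) = E.φ x * eV E cx := by
    refine ⟨(Nat.xor (apM MX v) (Nat.xor cx0 v)) % 2048, Nat.mod_lt _ (by norm_num), ?_⟩
    show eV E v * α (E.φ x) * (eV E v)⁻¹ = _
    rw [hcx0, eV_inv, ← mul_assoc, eV_phi E repX, apM_of_rows hMX, mul_assoc, mul_assoc, ← eV_xor,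
      ← eV_xor, eV_mod]
  obtain ⟨cx, hcxlt, hcx⟩ := hβx
  have hrel : ∀ w ∈ relWs, defC MX MY MI cx w = 0 := by
    intro w hw
    obtain ⟨hl, he⟩ := relWs_ok w hw
    have hone : evW w = 1 := Subtype.ext (Equiv.ext he)
    have h := twisted_hom hMX hMY hMI (β.comp E.φ) hcx hβy w hl
    rw [hone, map_one, map_one, one_mul, ← eV_zero E, ← eV_mod E (defC _ _ _ _ _)] at h
    have h0 := hS.eV_inj (by norm_num) (Nat.mod_lt _ (by norm_num)) h
    have hlt : defC MX MY MI cx w < 2048 := by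
      have hMIlt : ∀ r ∈ MI, r < 2048 := by decide +kernel
      have key : ∀ (w : List Nat) (c : Nat), c < 2048 →
          (List.rec (fun c => c) (fun l _ ih c => ih (stepC MX MY MI cx l c)) w c : Nat) < 2048 := by
        intro w
        induction w with
        | nil => exact fun c hc => hc
        | cons l w ih =>
          intro c hc
          refine ih _ ?_
          unfold stepC
          cases Nat.beq l 0
          · cases Nat.beq l 1
            · exact apM_lt hMIlt c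
            · exact apM_lt rows_lt.2 c
          · exact Nat.xor_lt_two_pow (n := 11) (apM_lt rows_lt.1 c) hcxlt
      unfold defC
      exact key w 0 (by norm_num)
    rw [Nat.mod_eq_of_lt hlt] at h0
    exact h0.symm
  have hsurv := of_allBelow surv_ok cx hcxlt
  unfold survB at hsurv
  rw [show allList (fun w => Nat.beq (defC MX MY MI cx w) 0) relWs = true from
    allList_iff.mpr fun w hw => by rw [hrel w hw]; rfl, cond_true, List.any_eq_true] at hsurv
  obtain ⟨q, hq, hqe⟩ := hsurv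
  obtain ⟨hqy, hqlt, hqx⟩ := cob_ok q hq
  rw [Nat.eq_of_beq_eq_true hqe] at hqx
  set z := q.2.1 with hz
  refine ⟨eV E z * eV E v, ?_⟩
  set γ := (MulAut.conj (eV E z * eV E v)).toMonoidHom.comp α with hγ
  have hγβ : ∀ g, γ g = eV E z * β g * (eV E z)⁻¹ := fun g => by
    show eV E z * eV E v * α g * (eV E z * eV E v)⁻¹ = eV E z * (eV E v * α g * (eV E v)⁻¹) * _
    group
  have hγv : ∀ c, γ (eV E c) = eV E c := fun c => by
    show eV E z * eV E v * α (eV E c) * (eV E z * eV E v)⁻¹ = _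
    rw [hvec, ← eV_xor, eV_comm E _ c, mul_inv_cancel_right]
  have hγy : γ (E.φ y) = E.φ y := by
    rw [hγβ, hβy, eV_inv, eV_phi E repY, apM_of_rows hMY, hqy, mul_assoc, ← eV_xor,
      show Nat.xor z z = 0 from Nat.xor_self z, eV_zero, mul_one]
  have hγx : γ (E.φ x) = E.φ x * eV E (cond (Nat.beq q.2.2 1) eTw 0) := by
    rw [hγβ, hcx, eV_inv, ← mul_assoc, eV_phi E repX, apM_of_rows hMX, mul_assoc, mul_assoc,
      ← eV_xor, ← eV_xor]
    congr 2
    show apM MX z ^^^ (cx ^^^ z) = _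
    have e : z ^^^ apM MX z = cx ^^^ cond (Nat.beq q.2.2 1) eTw 0 := hqx
    rw [Nat.xor_comm cx, ← Nat.xor_assoc, Nat.xor_comm (apM MX z), e, Nat.xor_comm cx,
      Nat.xor_assoc, Nat.xor_self, Nat.xor_zero]
  obtain ⟨dT, d0, -, -⟩ := defs_w0
  have hW : ∀ e f, defC MX MY MI e w0W = f → γ (E.φ x) = E.φ x * eV E e →
      γ (E.φ ⟨W0p, W0p_mem⟩) = E.φ ⟨W0p, W0p_mem⟩ * eV E f := by
    intro e f hf hx'
    have h := twisted_hom hMX hMY hMI (γ.comp E.φ) hx' hγy w0W w0W_ok.1
    rw [show evW w0W = ⟨W0p, W0p_mem⟩ from Subtype.ext (Equiv.ext w0W_ok.2), hf] at h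
    exact h
  cases hb : Nat.beq q.2.2 1
  · rw [hb, cond_false] at hγx
    exact Or.inl ⟨hγv, hγx, hγy, hW 0 0 d0 hγx⟩
  · rw [hb, cond_true] at hγx
    exact Or.inr ⟨hγv, hγx, hγy, hW eTw wTw dT hγx⟩

end CfsgLib.Coset.J4.OutJ
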