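import Cfsg.Agent.Coset.J4.OutEASearch
import Mathlib.GroupTheory.Sylow

/-!
An elementary abelian group of the degree 24 model and its fixed vectors together have at most 1024 pairs.
-/

set_option autoImplicit false
set_option maxRecDepth 100000

namespace CfsgLib.Coset.J4.OutEA

open CfsgLib.Coset CfsgLib.Coset.J4

attribute [local irreducible] Tr.get

/-! ### The subgroup -/

theorem genPerm_mem (k : ℕ) : genPerm k ∈ M24m := evP_mem gsM_mem _

theorem repP_genP {k : ℕ} (hk : k < 4) : RepP (genP.getD k 0) (genPerm k) := by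
  have hm : k ∈ [0, 1, 2, 3] := by interval_cases k <;> decide
  have h := Nat.eq_of_beq_eq_true (allList_iff.mp ck_word k hm)
  rw [← h]
  intro i
  have hlt : ∀ n < 24, CfsgLib.Coset.J4.follow csM (genWord k) n < 32 := fun n hn => by
    rw [show n = ((⟨n, hn⟩ : Fin 24) : ℕ) from rfl, ← evP_inv tablesM]
    omega
  rw [wordP, ppack_get _ hlt _ i.isLt, genPerm, evP_inv tablesM]

theorem syl_le : syl ≤ M24m := by
  rw [syl, Subgroup.closure_le]
  rintro _ ⟨k, rfl⟩
  exact genPerm_mem k

theorem el_rep : ∀ i < 1024, ∃ p ∈ syl, RepP (el i) p := by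
  intro i
  induction i using Nat.strong_induction_on with | _ i ih => ?_
  intro hi
  have h := of_allBelow ck_par i hi
  rcases Nat.eq_zero_or_pos i with rfl | h0
  · exact ⟨1, one_mem _, ck_el0.1 ▸ repP_pone⟩
  have hb : Nat.beq i 0 = false := by
    rw [← Bool.not_eq_true]; exact fun e => by have := Nat.eq_of_beq_eq_true e; omega
  rw [hb, cond_false] at h
  simp only [cond_false_eq_true, Nat.ble_eq] at h
  obtain ⟨h1, h2, h3⟩ := h
  obtain ⟨p, hp, hrep⟩ := ih _ h1 (lt_trans h1 hi)
  refine ⟨p * genPerm (field (parT.get i) 1), mul_mem hp (Subgroup.subset_closure ⟨⟨_, h2⟩, rfl⟩), ?_⟩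
  rw [← Nat.eq_of_beq_eq_true h3]
  exact hrep.pmul (repP_genP h2)

theorem syl_listed {p : Equiv.Perm (Fin 24)} (hp : p ∈ syl) : ∃ i < 1024, RepP (el i) p := by
  have hclosed : ∀ q : Equiv.Perm (Fin 24), (∃ i < 1024, RepP (el i) q) → ∀ k < 4,
      ∃ i < 1024, RepP (el i) (q * genPerm k) := by
    rintro q ⟨i, hi, hq⟩ k hk
    have hm : k ∈ [0, 1, 2, 3] := by interval_cases k <;> decide
    have h := allList_iff.mp (of_allBelow ck_next i hi) k hm
    simp only [cond_false_eq_true, Nat.ble_eq] at h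
    exact ⟨_, h.1, Nat.eq_of_beq_eq_true h.2 ▸ hq.pmul (repP_genP hk)⟩
  have hm : p ∈ Submonoid.closure (Set.range fun k : Fin 4 => genPerm k) := by
    rw [← Subgroup.closure_toSubmonoid_of_finite]; exact hp
  induction hm using Submonoid.closure_induction_right with
  | one => exact ⟨0, by norm_num, ck_el0.1 ▸ repP_pone⟩
  | mul_right x hx y hy ih =>
    obtain ⟨k, rfl⟩ := hy
    exact hclosed x (ih (by
      show x ∈ (Subgroup.closure (Set.range fun k : Fin 4 => genPerm k)).toSubmonoid
      rw [Subgroup.closure_toSubmonoid_of_finite]; exact hx)) k k.2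

/-- The permutation of an element number. -/
noncomputable def elPerm (i : Fin 1024) : syl :=
  ⟨(el_rep i i.2).choose, (el_rep i i.2).choose_spec.1⟩

theorem repP_elPerm (i : Fin 1024) : RepP (el i) (elPerm i : Equiv.Perm (Fin 24)) :=
  (el_rep i i.2).choose_spec.2

theorem beq_of_eq {a b : Nat} (h : a = b) : Nat.beq a b = true := h ▸ Nat.beq_refl a

theorem el_canon : ∀ i < 1024, el i = ppack fun n => pget (el i) n := by
  have h : allBelow 10 1024 (fun i => Nat.beq (el i) (ppack fun n => pget (el i) n)) = true := by decide +kernel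
  exact fun i hi => Nat.eq_of_beq_eq_true (of_allBelow h i hi)

theorem incr_sound : ∀ (l : List Nat) (b : Nat), incrAbove l b = true →
    (l.map el).Pairwise (· < ·) ∧ ∀ x ∈ l.map el, b < x := by
  intro l
  induction l with
  | nil => intro b _; simp
  | cons i l ih =>
    intro b h
    change cond (Nat.ble (Nat.add b 1) (el i)) (incrAbove l (el i)) false = true at h
    simp only [cond_false_eq_true, Nat.ble_eq] at h
    obtain ⟨hp, hb⟩ := ih _ h.2
    refine ⟨List.pairwise_cons.mpr ⟨hb, hp⟩, fun x hx => ?_⟩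
    rcases List.mem_cons.mp hx with rfl | hx
    · exact h.1
    · exact lt_trans h.1 (hb x hx)

theorem el_inj {i j : Fin 1024} (h : elPerm i = elPerm j) : el i = el j := by
  rw [el_canon _ i.2, el_canon _ j.2]
  have key : ∀ (f g : Nat → Nat) (l : List Nat), (∀ x ∈ l, f x = g x) →
      (List.rec 0 (fun i _ r => Nat.add (Nat.shiftLeft (f i) (Nat.mul 5 i)) r) l : Nat) =
        List.rec 0 (fun i _ r => Nat.add (Nat.shiftLeft (g i) (Nat.mul 5 i)) r) l := by
    intro f g l
    induction l with
    | nil => intro _; rfl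
    | cons i l ih =>
      intro hl
      show Nat.add (Nat.shiftLeft (f i) (Nat.mul 5 i)) _ = Nat.add (Nat.shiftLeft (g i) (Nat.mul 5 i)) _
      rw [hl i List.mem_cons_self, ih fun x hx => hl x (List.mem_cons_of_mem _ hx)]
  have hj := repP_elPerm j
  rw [show (elPerm j : Equiv.Perm (Fin 24)) = elPerm i by rw [h]] at hj
  have hi := repP_elPerm i
  generalize el i = a at hi ⊢
  generalize el j = b at hj ⊢
  exact key (fun n => pget a n) (fun n => pget b n) pts24 fun n hn =>
    (hi ⟨n, mem_pts24.mp hn⟩).trans (hj ⟨n, mem_pts24.mp hn⟩).symm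

theorem length_le_card_syl (l : List Nat) (hnd : (l.map el).Nodup) (hlt : ∀ i ∈ l, i < 1024) :
    l.length ≤ Nat.card syl := by
  let f : Fin l.length → syl := fun k => elPerm ⟨l[k.1], hlt _ (List.getElem_mem _)⟩
  have hf : Function.Injective f := by
    intro a b e
    refine Fin.ext ((hnd.getElem_inj_iff (hi := by rw [List.length_map]; exact a.2)
      (hj := by rw [List.length_map]; exact b.2)).mp ?_)
    rw [List.getElem_map, List.getElem_map]
    exact el_inj e
  simpa using Nat.card_le_card_of_injective f hf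

theorem card_syl : Nat.card syl = 1024 := by
  have hsurj : Function.Surjective elPerm := fun q => by
    obtain ⟨i, hi, h⟩ := syl_listed q.2
    exact ⟨⟨i, hi⟩, Subtype.ext ((repP_elPerm ⟨i, hi⟩).unique h)⟩
  refine le_antisymm (by simpa using Nat.card_le_card_of_surjective elPerm hsurj) ?_
  have h := ck_ord
  have h1 := length_le_card_syl ordL ((incr_sound ordL 0 h.1).1.imp ne_of_lt)
    fun i hi => of_decide_eq_true (List.all_eq_true.mp h.2.2 i hi)
  rwa [h.2.1] at h1

/-! ### The involutions -/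

theorem ivIdx_lt {a : Nat} (ha : a < 192) : invT.get a < 1024 :=
  Nat.ble_eq.mp (of_allBelow ck_invLt a ha)

/-- The permutation of an involution number. -/
noncomputable def ip (a : Nat) : Equiv.Perm (Fin 24) :=
  if h : a < 192 then (elPerm ⟨_, ivIdx_lt h⟩ : Equiv.Perm (Fin 24)) else 1

theorem repP_ip {a : Nat} (ha : a < 192) : RepP (iv a) (ip a) := by
  rw [iv, ip, dif_pos ha]; exact repP_elPerm ⟨_, ivIdx_lt ha⟩

theorem ip_mem {a : Nat} : ip a ∈ syl := by
  rw [ip]; split
  · exact (elPerm _).2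
  · exact one_mem _

theorem ip_zero : ip 0 = 1 := by
  have h := repP_ip (show 0 < 192 by norm_num)
  rw [iv, ck_el0.2, ck_el0.1] at h
  exact h.unique repP_pone

theorem ip_listed {p : Equiv.Perm (Fin 24)} (hp : p ∈ syl) (h2 : p * p = 1) : ∃ a < 192, ip a = p := by
  obtain ⟨i, hi, hrep⟩ := syl_listed hp
  have h := of_allBelow ck_inv i hi
  have hsq : pmul (el i) (el i) = pone := pmul_eq_pone (h2 ▸ hrep.pmul hrep)
  rw [beq_of_eq hsq, cond_true] at h
  simp only [cond_false_eq_true, Nat.ble_eq] at h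
  exact ⟨_, h.1, (Nat.eq_of_beq_eq_true h.2 ▸ repP_ip h.1).unique hrep⟩

theorem tb_spec {i j : Nat} (hi : i < 192) (hj : j < 192) (hc : ip i * ip j = ip j * ip i) :
    tb i j < 192 ∧ ip (tb i j) = ip i * ip j := by
  have h := of_allBelow (of_allBelow ck_tab i hi) j hj
  cases hb : Nat.ble (Nat.add (tb i j) 1) 192 with
  | true =>
    rw [hb, cond_true] at h
    have hlt : tb i j < 192 := Nat.ble_eq.mp hb
    exact ⟨hlt, (repP_ip hlt).unique (Nat.eq_of_beq_eq_true h ▸ (repP_ip hi).pmul (repP_ip hj))⟩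
  | false =>
    exfalso
    rw [hb, cond_false] at h
    simp only [cond_false_eq_true, Nat.ble_eq] at h
    obtain ⟨hx, h⟩ := h
    have ri := repP_ip hi
    have rj := repP_ip hj
    have h1 := (ri.pmul rj) ⟨_, hx⟩
    have h2 := (rj.pmul ri) ⟨_, hx⟩
    rw [pmul, ppack_get _ (fun k hk => by have := rj.lt (ri.lt hk); omega) _ hx] at h1
    rw [pmul, ppack_get _ (fun k hk => by have := ri.lt (rj.lt hk); omega) _ hx, ← hc] at h2
    have e := h1.trans h2.symm
    rw [beq_of_eq e, cond_true] at h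
    exact Bool.noConfusion h

/-! ### The fixed vectors -/

theorem testBit_moved (a b c : Nat) (hc : c < 2048) :
    (moved a b).testBit c = ((lin (row a) pts11 c ^^^ lin (fun k => Nat.shiftLeft 1 k) pts11 c).testBit b) := by
  have key : ∀ l : List Nat, (∀ k ∈ l, k ∈ pts11) →
      (List.rec 0 (fun k _ r => cond (Nat.testBit (Nat.xor (row a k) (Nat.shiftLeft 1 k)) b)
        (Nat.xor (posM.getD k 0) r) r) l : Nat).testBit c =
      (lin (row a) l c ^^^ lin (fun k => Nat.shiftLeft 1 k) l c).testBit b := by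
    intro l
    induction l with
    | nil => intro _; show (0 : Nat).testBit c = (0 ^^^ 0 : Nat).testBit b; simp
    | cons k l ih =>
      intro hl
      have ih' := ih fun x hx => hl x (List.mem_cons_of_mem _ hx)
      have hk := allList_iff.mp (of_allBelow ck_posM c hc) k (hl k List.mem_cons_self)
      set R : Nat := List.rec 0 (fun k _ r => cond (Nat.testBit (Nat.xor (row a k) (Nat.shiftLeft 1 k)) b)
        (Nat.xor (posM.getD k 0) r) r) l with hR
      show (cond (Nat.testBit (row a k ^^^ Nat.shiftLeft 1 k) b) (posM.getD k 0 ^^^ R) R).testBit c =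
        (cond (c.testBit k) (row a k ^^^ lin (row a) l c) (lin (row a) l c) ^^^
          cond (c.testBit k) (Nat.shiftLeft 1 k ^^^ lin (fun k => Nat.shiftLeft 1 k) l c)
            (lin (fun k => Nat.shiftLeft 1 k) l c)).testBit b
      rw [Nat.testBit_xor] at ih'
      cases hck : c.testBit k <;> rw [hck] at hk <;>
        simp only [cond_true, cond_false] at hk ⊢ <;>
        cases hpm : (posM.getD k 0).testBit c <;> rw [hpm] at hk <;>
        simp only [cond_true, cond_false, Bool.false_eq_true] at hk <;>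
        cases hrb : Nat.testBit (row a k ^^^ Nat.shiftLeft 1 k) b <;>
        rw [Nat.testBit_xor] at hrb <;>
        simp only [cond_true, cond_false, Nat.testBit_xor, hpm, ih'] at * <;>
        revert hrb <;>
        cases (row a k).testBit b <;> cases (Nat.shiftLeft 1 k).testBit b <;>
        cases (lin (row a) l c).testBit b <;> cases (lin (fun k => Nat.shiftLeft 1 k) l c).testBit b <;> simp
  exact key pts11 fun k hk => hk

theorem lin_id : ∀ c < 2048, lin (fun k => Nat.shiftLeft 1 k) pts11 c = c := by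
  have h : allBelow 11 2048 (fun c => Nat.beq (lin (fun k => Nat.shiftLeft 1 k) pts11 c) c) = true := by
    decide +kernel
  exact fun c hc => Nat.eq_of_beq_eq_true (of_allBelow h c hc)

theorem testBit_full {c : Nat} (hc : c < 2048) : full.testBit c = true := by
  rw [full, Nat.testBit_two_pow_sub_one, decide_eq_true hc]

theorem fixed_bit {a : Nat} (ha : a < 192) {c : Nat} (hc : c < 2048) (h : act (iv a) c = c) :
    (fixT.get a).testBit c = true := by
  rw [Nat.eq_of_beq_eq_true (of_allBelow ck_fix a ha)]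
  have key : ∀ l : List Nat, (List.rec full (fun b _ r => Nat.land (Nat.xor full (moved (iv a) b)) r) l : Nat).testBit c
      = true := by
    intro l
    induction l with
    | nil => exact testBit_full hc
    | cons b l ih =>
      set R : Nat := List.rec full (fun b _ r => Nat.land (Nat.xor full (moved (iv a) b)) r) l with hR
      show ((full ^^^ moved (iv a) b) &&& R).testBit c = true
      rw [Nat.testBit_and, Nat.testBit_xor, testBit_full hc, testBit_moved _ _ _ hc, lin_id c hc, ← act_eq, h, ih,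
        Nat.xor_self, Nat.zero_testBit]
      rfl
  exact key pts11

theorem and_pred_unique {F c : Nat} (hc : F.testBit c = true) (h : (F &&& (F - 1)).testBit c = false) :
    ∀ i < c, F.testBit i = false := by
  intro i hi
  by_contra hbit
  rw [Bool.not_eq_false] at hbit
  have hr : F % 2 ^ (i + 1) < 2 ^ (i + 1) := Nat.mod_lt _ (Nat.two_pow_pos _)
  have hpos : 0 < F % 2 ^ (i + 1) := by
    refine Nat.pos_of_ne_zero fun e => ?_
    have := Nat.testBit_mod_two_pow F (i + 1) i
    rw [e, Nat.zero_testBit, hbit] at this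
    simp at this
  have e1 : F = 2 ^ (i + 1) * (F / 2 ^ (i + 1)) + F % 2 ^ (i + 1) := (Nat.div_add_mod _ _).symm
  have e2 : F - 1 = 2 ^ (i + 1) * (F / 2 ^ (i + 1)) + (F % 2 ^ (i + 1) - 1) := by omega
  have hF : F.testBit c = (F / 2 ^ (i + 1)).testBit (c - (i + 1)) := by
    conv_lhs => rw [e1]
    rw [Nat.testBit_two_pow_mul_add _ hr, if_neg (by omega)]
  have hF' : (F - 1).testBit c = (F / 2 ^ (i + 1)).testBit (c - (i + 1)) := by
    rw [e2, Nat.testBit_two_pow_mul_add _ (by omega), if_neg (by omega)]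
  rw [Nat.testBit_and, hc, hF', ← hF, hc] at h
  exact Bool.noConfusion h

theorem popLe_sound : ∀ (n F : Nat), popLe n F = true → ∀ s : Finset Nat, (∀ c ∈ s, F.testBit c = true) →
    s.card ≤ n := by
  intro n
  induction n with
  | zero =>
    intro F h s hs
    obtain rfl : F = 0 := Nat.eq_of_beq_eq_true h
    rw [Finset.eq_empty_of_forall_notMem (s := s) fun c hc => by simpa using hs c hc]
    simp
  | succ n ih =>
    intro F h s hs
    change cond (Nat.beq F 0) true (popLe n (F &&& (F - 1))) = true at h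
    cases hb : Nat.beq F 0 with
    | true =>
      obtain rfl : F = 0 := Nat.eq_of_beq_eq_true hb
      rw [Finset.eq_empty_of_forall_notMem (s := s) fun c hc => by simpa using hs c hc]
      simp
    | false =>
      rw [hb, cond_false] at h
      have hs2 : ∀ c ∈ s.filter (fun c => (F &&& (F - 1)).testBit c = true), (F &&& (F - 1)).testBit c = true :=
        fun c hc => (Finset.mem_filter.mp hc).2
      have h1 := ih _ h _ hs2
      have h2 : (s.filter (fun c => ¬ (F &&& (F - 1)).testBit c = true)).card ≤ 1 := by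
        refine Finset.card_le_one.mpr fun a ha b hb => ?_
        obtain ⟨ha1, ha2⟩ := Finset.mem_filter.mp ha
        obtain ⟨hb1, hb2⟩ := Finset.mem_filter.mp hb
        rw [Bool.not_eq_true] at ha2 hb2
        rcases Nat.lt_trichotomy a b with hlt | heq | hgt
        · have := and_pred_unique (hs b hb1) hb2 a hlt
          rw [hs a ha1] at this; exact Bool.noConfusion this
        · exact heq
        · have := and_pred_unique (hs a ha1) ha2 b hgt
          rw [hs b hb1] at this; exact Bool.noConfusion this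
      have := Finset.card_filter_add_card_filter_not (s := s) (fun c => (F &&& (F - 1)).testBit c = true)
      omega

/-! ### The search -/

section Search

variable (E : Subgroup (Equiv.Perm (Fin 24)))

/-- The fixed vectors of a subgroup. -/
def fixSet : Set Nat := {c | c < 2048 ∧ ∀ p ∈ E, ∀ a, RepP a p → act a c = c}

/-- The permutations of a list of numbers. -/
def permsOf (U : List Nat) : Set (Equiv.Perm (Fin 24)) := {p | ∃ u ∈ U, ip u = p}

/-- What holds at a node of the search. -/
structure Node (U : List Nat) (F : Nat) (C : List Nat) : Prop where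
  sub : ∀ u ∈ U, u < 192 ∧ ip u ∈ E
  one : 1 ∈ permsOf U
  closed : ∀ x ∈ U, ∀ y ∈ U, ip x * ip y ∈ permsOf U
  cand : ∀ i < 192, ip i ∈ E → ip i ∉ permsOf U → i ∈ C
  fixed : ∀ c ∈ fixSet E, F.testBit c = true

variable {E} (hle : E ≤ syl) (hc : ∀ p ∈ E, ∀ q ∈ E, p * q = q * p) (h2 : ∀ p ∈ E, p * p = 1)

include hle hc h2

/-- One step down. -/
theorem step {U : List Nat} {F : Nat} {C : List Nat} (hn : Node E U F C) (hout : ¬ (E : Set _) ⊆ permsOf U) :
    ∃ j ∈ C, skips j U = false ∧
      Node E (grow j U) (Nat.land F (fixT.get j)) (keep j C) := by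
  classical
  obtain ⟨p, hp, hpU⟩ := Set.not_subset.mp hout
  obtain ⟨a, ha, rfl⟩ := ip_listed (hle hp) (h2 p hp)
  have hex : ∃ i, i < 192 ∧ ip i ∈ E ∧ ip i ∉ permsOf U := ⟨a, ha, hp, hpU⟩
  obtain ⟨hj, hjE, hjU⟩ := Nat.find_spec hex
  set j := Nat.find hex with hjdef
  refine ⟨j, hn.cand j hj hjE hjU, ?_, ?_⟩
  · rw [← Bool.not_eq_true, skips, List.any_eq_true]
    rintro ⟨u, hu, hlt⟩
    obtain ⟨hu1, hu2⟩ := hn.sub u hu
    obtain ⟨ht1, ht2⟩ := tb_spec hj hu1 (hc _ hjE _ hu2)
    have hv : ip (tb j u) ∈ permsOf U := by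
      by_contra hv
      exact Nat.find_min hex (Nat.ble_eq.mp hlt) ⟨ht1, ht2 ▸ mul_mem hjE hu2, hv⟩
    obtain ⟨v, hv1, hv2⟩ := hv
    have := hn.closed v hv1 u hu
    rw [hv2, ht2, mul_assoc, h2 _ hu2, mul_one] at this
    exact hjU this
  have hmem : ∀ x ∈ grow j U, x < 192 ∧ ip x ∈ E ∧ ∃ u ∈ U, ip x = ip u ∨ ip x = ip j * ip u := by
    intro x hx
    rcases List.mem_append.mp hx with h | h
    · exact ⟨(hn.sub x h).1, (hn.sub x h).2, x, h, Or.inl rfl⟩
    · obtain ⟨u, hu, rfl⟩ := List.mem_map.mp h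
      obtain ⟨hu1, hu2⟩ := hn.sub u hu
      obtain ⟨ht1, ht2⟩ := tb_spec hj hu1 (hc _ hjE _ hu2)
      exact ⟨ht1, ht2 ▸ mul_mem hjE hu2, u, hu, Or.inr ht2⟩
  have hold : ∀ q ∈ permsOf U, q ∈ permsOf (grow j U) ∧ ip j * q ∈ permsOf (grow j U) := by
    rintro q ⟨u, hu, rfl⟩
    refine ⟨⟨u, List.mem_append_left _ hu, rfl⟩, tb j u, List.mem_append_right _ (List.mem_map.mpr ⟨u, hu, rfl⟩), ?_⟩
    exact (tb_spec hj (hn.sub u hu).1 (hc _ hjE _ (hn.sub u hu).2)).2
  refine ⟨fun u hu => ⟨(hmem u hu).1, (hmem u hu).2.1⟩, (hold 1 hn.one).1, fun x hx y hy => ?_, fun i hi hiE hiU => ?_,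
    fun c hcF => ?_⟩
  · obtain ⟨-, -, u, hu, ex⟩ := hmem x hx
    obtain ⟨-, -, v, hv, ey⟩ := hmem y hy
    obtain ⟨ho, hn'⟩ := hold _ (hn.closed u hu v hv)
    have hju : ip u * ip j = ip j * ip u := hc _ (hn.sub u hu).2 _ hjE
    rcases ex with ex | ex <;> rcases ey with ey | ey <;> rw [ex, ey]
    · exact ho
    · rw [← mul_assoc, hju, mul_assoc]; exact hn'
    · rw [mul_assoc]; exact hn'
    · rw [show ip j * ip u * (ip j * ip v) = ip j * (ip u * ip j) * ip v by simp only [mul_assoc], hju,
        ← mul_assoc (ip j) (ip j), h2 _ hjE, one_mul]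
      exact ho
  · have hiU' : ip i ∉ permsOf U := fun h => hiU (hold _ h).1
    refine List.mem_filter.mpr ⟨hn.cand i hi hiE hiU', ?_⟩
    rw [Bool.and_eq_true]
    refine ⟨Nat.ble_eq.mpr ?_, Nat.ble_eq.mpr (tb_spec hj hi (hc _ hjE _ hiE)).1⟩
    have hle : j ≤ i := Nat.find_le ⟨hi, hiE, hiU'⟩
    refine Nat.lt_of_le_of_ne hle fun e => hiU ?_
    subst e
    have := (hold 1 hn.one).2
    rwa [mul_one] at this
  · show (F &&& fixT.get j).testBit c = true
    rw [Nat.testBit_and, hn.fixed c hcF, fixed_bit hj hcF.1 (hcF.2 _ hjE _ (repP_ip hj))]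
    rfl

omit hle hc h2 in
/-- The bound from a node where the subgroup is covered. -/
theorem bound_covered {U : List Nat} {F n : Nat} (hn : popLe n F = true) (hmul : U.length * n ≤ 1024)
    (hF : ∀ c ∈ fixSet E, F.testBit c = true) (hU : (E : Set _) ⊆ permsOf U) :
    Nat.card E * Nat.card (fixSet E) ≤ 1024 := by
  classical
  have hE : Nat.card E ≤ U.length := by
    have hsub : (E : Set (Equiv.Perm (Fin 24))) ⊆ ↑(U.toFinset.image ip) := fun p hp => by
      obtain ⟨u, hu, rfl⟩ := hU hp
      exact Finset.mem_coe.mpr (Finset.mem_image_of_mem _ (List.mem_toFinset.mpr hu))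
    calc Nat.card E ≤ Nat.card (↑(U.toFinset.image ip) : Set (Equiv.Perm (Fin 24))) :=
          Nat.card_mono (Finset.finite_toSet _) hsub
      _ = (U.toFinset.image ip).card := by rw [Nat.card_coe_set_eq, Set.ncard_coe_finset]
      _ ≤ U.toFinset.card := Finset.card_image_le
      _ ≤ U.length := List.toFinset_card_le U
  have hfin : (fixSet E).Finite := (Set.finite_Iio 2048).subset fun c hc => hc.1
  have hX : Nat.card (fixSet E) ≤ n := by
    rw [Nat.card_coe_set_eq, Set.ncard_eq_toFinset_card _ hfin]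
    exact popLe_sound n F hn _ fun c hc => hF c (hfin.mem_toFinset.mp hc)
  exact (Nat.mul_le_mul hE hX).trans hmul

omit hle hc h2 in
theorem length_grow (j : Nat) (U : List Nat) : (grow j U).length = 2 * U.length := by
  rw [grow, List.length_append, List.length_map]; omega

theorem go_sound : ∀ (fuel : Nat) (U : List Nat) (F : Nat) (C : List Nat), go fuel U F C = true →
    Node E U F C → ((E : Set _) ⊆ permsOf U → Nat.card E * Nat.card (fixSet E) ≤ 1024) →
    Nat.card E * Nat.card (fixSet E) ≤ 1024 := by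
  intro fuel
  induction fuel with
  | zero => intro U F C h; exact Bool.noConfusion h
  | succ fuel ih =>
    intro U F C h hn hdone
    by_cases hout : (E : Set (Equiv.Perm (Fin 24))) ⊆ permsOf U
    · exact hdone hout
    obtain ⟨j, hj, hskip, hn'⟩ := step hle hc h2 hn hout
    change allList (fun j => cond (skips j U) true
      (cond (popLe (1024 / (2 * U.length)) (Nat.land F (fixT.get j)))
        (go fuel (grow j U) (Nat.land F (fixT.get j)) (keep j C)) false)) C = true at h
    have h' := allList_iff.mp h j hj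
    rw [hskip, cond_false, cond_false_eq_true] at h'
    refine ih _ _ _ h'.2 hn' fun hU => bound_covered h'.1 ?_ hn'.fixed hU
    rw [length_grow]
    exact Nat.mul_div_le 1024 (2 * U.length)

theorem syl_bound (hne : E ≠ ⊥) : Nat.card E * Nat.card (fixSet E) ≤ 1024 := by
  have hroot : Node E [0] full (List.range' 1 191) := by
    refine ⟨fun u hu => ?_, ⟨0, List.mem_singleton_self 0, ip_zero⟩, fun x hx y hy => ?_, fun i hi _ hiU => ?_,
      fun c hcF => testBit_full hcF.1⟩
    · rw [List.mem_singleton] at hu; subst hu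
      exact ⟨by norm_num, ip_zero ▸ one_mem _⟩
    · rw [List.mem_singleton] at hx hy; subst hx; subst hy
      exact ⟨0, List.mem_singleton_self 0, by rw [ip_zero, one_mul]⟩
    · rw [List.mem_range'_1]
      refine ⟨Nat.pos_of_ne_zero fun e => hiU ⟨0, List.mem_singleton_self 0, by rw [e]⟩, by omega⟩
  have hout : ¬ (E : Set (Equiv.Perm (Fin 24))) ⊆ permsOf [0] := fun h => hne ((Subgroup.eq_bot_iff_forall _).mpr
    fun p hp => by
      obtain ⟨u, hu, rfl⟩ := h hp
      rw [List.mem_singleton] at hu; subst hu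
      exact ip_zero)
  obtain ⟨j, hj, hskip, hn'⟩ := step hle hc h2 hroot hout
  rw [List.mem_range'_1] at hj
  have h := ck_top j hj.1 (by omega)
  rw [topOK, hskip, cond_false, cond_false_eq_true] at h
  refine go_sound hle hc h2 8 _ _ _ h.2 hn' fun hU => bound_covered h.1 ?_ hn'.fixed hU
  rw [length_grow]
  norm_num

end Search

/-! ### The bound -/

theorem card_fix_le {E : Subgroup (Equiv.Perm (Fin 24))} {g : Equiv.Perm (Fin 24)} (hg : g ∈ M24m)
    (hE : E ≤ M24m) :
    Nat.card (fixSet E) ≤ Nat.card (fixSet (E.map (MulAut.conj g).toMonoidHom)) := by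
  obtain ⟨gi, hgi⟩ := exists_repP g⁻¹
  obtain ⟨ga, hga⟩ := exists_repP g
  have : Finite (fixSet (E.map (MulAut.conj g).toMonoidHom)) :=
    ((Set.finite_Iio 2048).subset fun c hc => hc.1).to_subtype
  refine Nat.card_le_card_of_injective (fun c => ⟨act gi c.1, act_lt _ _, ?_⟩) ?_
  · rintro _ ⟨p, hp, rfl⟩ a ha
    obtain ⟨b, hb⟩ := exists_repP p
    have hpg : MulAut.conj g p ∈ M24m := mul_mem (mul_mem hg (hE hp)) (inv_mem hg)
    change RepP a (g * p * g⁻¹) at ha
    rw [← act_pmul hpg hgi ha]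
    have e : g⁻¹ * (g * p * g⁻¹) = p * g⁻¹ := by group
    rw [act_congr (e ▸ hgi.pmul ha) (hb.pmul hgi), act_pmul (inv_mem hg) hb hgi, c.2.2 p hp b hb]
  · intro c d h
    have h' : act gi c.1 = act gi d.1 := congrArg Subtype.val h
    have key : ∀ x < 2048, act ga (act gi x) = x := fun x hx => by
      rw [← act_pmul hg hgi hga, act_congr (inv_mul_cancel g ▸ hgi.pmul hga) repP_pone, act_pone x hx]
    exact Subtype.ext (by rw [← key c.1 c.2.1, h', key d.1 d.2.1])

theorem rank_bound {Ebar : Subgroup (Equiv.Perm (Fin 24))} (hle : Ebar ≤ M24m)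
    (hc : ∀ p ∈ Ebar, ∀ q ∈ Ebar, p * q = q * p) (h2 : ∀ p ∈ Ebar, p * p = 1) (hne : Ebar ≠ ⊥) :
    Nat.card Ebar * Nat.card {c : Nat // c < 2048 ∧ ∀ p ∈ Ebar, ∀ a, RepP a p →
      actN Dat.basisL Dat.funcL a c = c} ≤ 1024 := by
  classical
  have : Fact (Nat.Prime 2) := ⟨Nat.prime_two⟩
  have hP : Nat.card ↥(syl.subgroupOf M24m) = 2 ^ (Nat.card M24m).factorization 2 := by
    rw [Nat.card_congr (Subgroup.subgroupOfEquivOfLe syl_le).toEquiv, card_syl, card_M24m]
    rw [show (244823040 : ℕ) = 2 ^ 10 * 239085 by norm_num,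
      Nat.factorization_mul (by norm_num) (by norm_num), Nat.Prime.factorization_pow Nat.prime_two]
    simp [Nat.factorization_eq_zero_of_not_dvd (show ¬ 2 ∣ 239085 by norm_num)]
  let P : Sylow 2 M24m := Sylow.ofCard (syl.subgroupOf M24m) hP
  have hp : IsPGroup 2 ↥(Ebar.subgroupOf M24m) := fun x => ⟨1, Subtype.ext (Subtype.ext (by
    rw [pow_one, pow_two]; exact h2 _ x.2))⟩
  obtain ⟨Q, hQ⟩ := hp.exists_le_sylow
  obtain ⟨g, hg⟩ := MulAction.exists_smul_eq M24m Q P
  set E := Ebar.map (MulAut.conj (g : Equiv.Perm (Fin 24))).toMonoidHom with hE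
  have hEle : E ≤ syl := by
    rintro _ ⟨p, hp, rfl⟩
    have hm : (⟨p, hle hp⟩ : M24m) ∈ (Q : Subgroup M24m) := hQ hp
    have hgp : MulAut.conj g ⟨p, hle hp⟩ ∈ (P : Subgroup M24m) := by
      rw [← hg]
      exact Subgroup.smul_mem_pointwise_smul _ (MulAut.conj g) _ hm
    exact hgp
  have hcard : Nat.card E = Nat.card Ebar :=
    Subgroup.card_map_of_injective (MulAut.conj (g : Equiv.Perm (Fin 24))).injective
  have hbound := syl_bound (E := E) hEle
    (by
      rintro _ ⟨p, hp, rfl⟩ _ ⟨q, hq, rfl⟩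
      rw [← map_mul, hc p hp q hq, map_mul])
    (by
      rintro _ ⟨p, hp, rfl⟩
      rw [← map_mul, h2 p hp, map_one])
    (fun h => hne ((Subgroup.map_eq_bot_iff_of_injective _ (MulAut.conj _).injective).mp h))
  refine le_trans ?_ hbound
  rw [hcard]
  exact Nat.mul_le_mul_left _ (card_fix_le g.2 hle)

end CfsgLib.Coset.J4.OutEA
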