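import Cfsg.Agent.Coset.J4.Mod
import Cfsg.Agent.Coset.J4.Model
import Cfsg.Agent.Coset.J4.DataSext
import Cfsg.Agent.Coset.J4.OutEAData

/-!
The action of the degree 24 model on the eleven coordinates is linear and compatible with products.
-/

set_option autoImplicit false
set_option maxRecDepth 100000

namespace CfsgLib.Coset.J4.OutEA

open CfsgLib.Coset CfsgLib.Coset.J4

/-- The exclusive or of the values at the bits of a number. -/
noncomputable def lin (v : Nat → Nat) (l : List Nat) (c : Nat) : Nat :=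
  List.rec 0 (fun k _ r => cond (Nat.testBit c k) (Nat.xor (v k) r) r) l

/-- The image of a basis vector. -/
noncomputable def row (a k : Nat) : Nat :=
  coordN Dat.funcL (pimg a (pimg (Dat.basisL.getD k 0) (sext0.getD 0 0)))

/-- The action on coordinates. -/
noncomputable def act (a c : Nat) : Nat := actN Dat.basisL Dat.funcL a c

/-- Two points. -/
noncomputable def pair (i j : Nat) : Nat := Nat.xor (Nat.shiftLeft 1 i) (Nat.shiftLeft 1 j)

/-- The images of all pairs have the expected coordinates. -/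
noncomputable def checkP (a : Nat) : Bool :=
  allList (fun i => allList (fun j => Nat.beq (coordN Dat.funcL (pimg a (pair i j)))
    (act a (coordN Dat.funcL (pair i j)))) pts24) pts24

theorem act_eq (a c : Nat) : act a c = lin (row a) pts11 c := rfl

theorem xor_eq (x y : Nat) : Nat.xor x y = x ^^^ y := rfl

theorem lin_zero (v : Nat → Nat) : ∀ l, lin v l 0 = 0 := by
  intro l
  induction l with
  | nil => rfl
  | cons k l ih =>
    show cond (Nat.testBit 0 k) (Nat.xor (v k) (lin v l 0)) (lin v l 0) = 0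
    rw [Nat.zero_testBit, cond_false, ih]

theorem lin_xor (v : Nat → Nat) (c d : Nat) : ∀ l, lin v l (c ^^^ d) = lin v l c ^^^ lin v l d := by
  intro l
  induction l with
  | nil => exact (Nat.xor_self 0).symm
  | cons k l ih =>
    show cond ((c ^^^ d).testBit k) (v k ^^^ lin v l (c ^^^ d)) (lin v l (c ^^^ d)) =
      cond (c.testBit k) (v k ^^^ lin v l c) (lin v l c) ^^^ cond (d.testBit k) (v k ^^^ lin v l d) (lin v l d)
    rw [Nat.testBit_xor, ih]
    cases c.testBit k <;> cases d.testBit k <;> simp only [Bool.xor_false, Bool.xor_true, Bool.not_false,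
      Bool.not_true, cond_true, cond_false]
    · ac_rfl
    · ac_rfl
    · rw [show v k ^^^ lin v l c ^^^ (v k ^^^ lin v l d) = lin v l c ^^^ lin v l d ^^^ (v k ^^^ v k) by ac_rfl,
        Nat.xor_self, Nat.xor_zero]

theorem lin_map {h : Nat → Nat} (h0 : h 0 = 0) (hx : ∀ x y, h (x ^^^ y) = h x ^^^ h y) {v w : Nat → Nat}
    (c : Nat) : ∀ l, (∀ k ∈ l, h (v k) = w k) → h (lin v l c) = lin w l c := by
  intro l
  induction l with
  | nil => intro _; exact h0
  | cons k l ih =>
    intro hl
    show h (cond (c.testBit k) (v k ^^^ lin v l c) (lin v l c)) = cond (c.testBit k) (w k ^^^ lin w l c) (lin w l c)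
    cases c.testBit k
    · exact ih fun x hx => hl x (List.mem_cons_of_mem _ hx)
    · show h (v k ^^^ lin v l c) = w k ^^^ lin w l c
      rw [hx, hl k List.mem_cons_self, ih fun x hx => hl x (List.mem_cons_of_mem _ hx)]

theorem lin_congr {v w : Nat → Nat} (c : Nat) (l : List Nat) (h : ∀ k ∈ l, v k = w k) :
    lin v l c = lin w l c := lin_map (h := id) rfl (fun _ _ => rfl) c l h

theorem act_xor (a c d : Nat) : act a (c ^^^ d) = act a c ^^^ act a d := by
  simp only [act_eq, lin_xor]

theorem act_zero (a : Nat) : act a 0 = 0 := by rw [act_eq, lin_zero]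

theorem par32_xor (x y : Nat) : par32 (x ^^^ y) = par32 x ^^^ par32 y := by
  have hs : ∀ s u v : Nat, (u ^^^ v) ^^^ (u ^^^ v) >>> s = (u ^^^ u >>> s) ^^^ (v ^^^ v >>> s) := fun s u v => by
    rw [Nat.shiftRight_xor_distrib]; ac_rfl
  simp only [par32, xor_eq, show ∀ u s : Nat, Nat.shiftRight u s = u >>> s from fun _ _ => rfl,
    show ∀ u v : Nat, Nat.land u v = u &&& v from fun _ _ => rfl, hs, Nat.and_xor_distrib_left]

theorem par32_lt (x : Nat) : par32 x < 2 := lt_of_le_of_lt Nat.and_le_left (by norm_num)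

theorem two_mul_add_xor {r s b d : Nat} (hb : b < 2) (hd : d < 2) :
    2 * r + b ^^^ (2 * s + d) = 2 * (r ^^^ s) + (b ^^^ d) := by
  refine Nat.eq_of_testBit_eq fun j => ?_
  rw [Nat.testBit_xor]
  have hx : b ^^^ d < 2 := Nat.xor_lt_two_pow (n := 1) hb hd
  rw [show 2 * r = 2 ^ 1 * r from rfl, show 2 * s = 2 ^ 1 * s from rfl,
    show 2 * (r ^^^ s) = 2 ^ 1 * (r ^^^ s) from rfl, Nat.testBit_two_pow_mul_add _ hb,
    Nat.testBit_two_pow_mul_add _ hd, Nat.testBit_two_pow_mul_add _ hx]
  split <;> simp [Nat.testBit_xor]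

theorem coordN_xor (D : List Nat) (x y : Nat) : coordN D (x ^^^ y) = coordN D x ^^^ coordN D y := by
  induction D with
  | nil => exact (Nat.xor_self 0).symm
  | cons d D ih =>
    show 2 * coordN D (x ^^^ y) + par32 ((x ^^^ y) &&& d) =
      (2 * coordN D x + par32 (x &&& d)) ^^^ (2 * coordN D y + par32 (y &&& d))
    rw [two_mul_add_xor (par32_lt _) (par32_lt _), ← ih, ← par32_xor, Nat.and_xor_distrib_right]

theorem coordN_lt (D : List Nat) (x : Nat) : coordN D x < 2 ^ D.length := by
  induction D with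
  | nil => exact Nat.one_pos
  | cons d D ih =>
    show 2 * coordN D x + par32 (x &&& d) < 2 ^ (D.length + 1)
    have := par32_lt (x &&& d)
    rw [pow_succ]
    omega

theorem coord_lt (x : Nat) : coordN Dat.funcL x < 2048 := coordN_lt Dat.funcL x

theorem act_lt (a c : Nat) : act a c < 2048 := by
  have key : ∀ l, lin (row a) l c < 2048 := by
    intro l
    induction l with
    | nil => show (0 : Nat) < 2048; norm_num
    | cons k l ih =>
      show cond (c.testBit k) (row a k ^^^ lin (row a) l c) (lin (row a) l c) < 2048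
      cases c.testBit k
      · exact ih
      · exact Nat.xor_lt_two_pow (n := 11) (coord_lt _) ih
  rw [act_eq]
  exact key _

theorem testBit_pair (i j n : Nat) : (pair i j).testBit n = (decide (i = n) ^^ decide (j = n)) := by
  rw [pair, xor_eq, Nat.testBit_xor, show Nat.shiftLeft 1 i = 1 <<< i from rfl,
    show Nat.shiftLeft 1 j = 1 <<< j from rfl, Nat.one_shiftLeft, Nat.one_shiftLeft, Nat.testBit_two_pow,
    Nat.testBit_two_pow]

theorem testBit_pimg_rep {a : Nat} {p : Equiv.Perm (Fin 24)} (ha : RepP a p) (m : Nat) {i : Nat} (hi : i < 24) :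
    (pimg a m).testBit (pget a i) = m.testBit i := by
  rw [Bool.eq_iff_iff, testBit_pimg]
  refine ⟨?_, fun h => ⟨i, hi, h, rfl⟩⟩
  rintro ⟨k, hk, hm, e⟩
  have e' : (⟨k, hk⟩ : Fin 24) = ⟨i, hi⟩ := by
    apply (p⁻¹).injective
    refine Fin.ext ?_
    rw [← ha, ← ha]
    exact e
  have e'' : k = i := Fin.ext_iff.mp e'
  rw [← e'']
  exact hm

theorem pimg_out {a : Nat} (m : Nat) {j : Nat} (h : ¬ ∃ i < 24, pget a i = j) : (pimg a m).testBit j = false := by
  rw [← Bool.not_eq_true, testBit_pimg]
  rintro ⟨i, hi, -, e⟩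
  exact h ⟨i, hi, e⟩

theorem pimg_xor {a : Nat} {p : Equiv.Perm (Fin 24)} (ha : RepP a p) (m m' : Nat) :
    pimg a (m ^^^ m') = pimg a m ^^^ pimg a m' := by
  refine Nat.eq_of_testBit_eq fun j => ?_
  rw [Nat.testBit_xor]
  by_cases h : ∃ i < 24, pget a i = j
  · obtain ⟨i, hi, rfl⟩ := h
    simp only [testBit_pimg_rep ha _ hi, Nat.testBit_xor]
  · simp only [pimg_out _ h, Bool.xor_false]

theorem pimg_pair {a : Nat} {p : Equiv.Perm (Fin 24)} (ha : RepP a p) {i j : Nat} (hi : i < 24) (hj : j < 24) :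
    pimg a (pair i j) = pair (pget a i) (pget a j) := by
  have hinj : ∀ x y, x < 24 → y < 24 → pget a x = pget a y → x = y := fun x y hx hy e => by
    have e' : (⟨x, hx⟩ : Fin 24) = ⟨y, hy⟩ := (p⁻¹).injective (Fin.ext (by rw [← ha, ← ha]; exact e))
    exact Fin.ext_iff.mp e'
  refine Nat.eq_of_testBit_eq fun n => ?_
  rw [testBit_pair]
  by_cases h : ∃ k < 24, pget a k = n
  · obtain ⟨k, hk, rfl⟩ := h
    rw [testBit_pimg_rep ha _ hk, testBit_pair]
    have e : ∀ x < 24, decide (x = k) = decide (pget a x = pget a k) := fun x hx =>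
      decide_eq_decide.mpr ⟨fun e => by rw [e], hinj x k hx hk⟩
    rw [e i hi, e j hj]
  · rw [pimg_out _ h, decide_eq_false fun e => h ⟨i, hi, e⟩, decide_eq_false fun e => h ⟨j, hj, e⟩]
    rfl

theorem ck_basePts : allList (fun k => cond (Nat.beq (pimg (Dat.basisL.getD k 0) (sext0.getD 0 0))
    (Nat.xor (pair (basePts.getD k (0, 0, 0, 0)).1 (basePts.getD k (0, 0, 0, 0)).2.1)
      (pair (basePts.getD k (0, 0, 0, 0)).2.2.1 (basePts.getD k (0, 0, 0, 0)).2.2.2)))
    (cond (Nat.ble (Nat.add (basePts.getD k (0, 0, 0, 0)).1 1) 24)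
      (cond (Nat.ble (Nat.add (basePts.getD k (0, 0, 0, 0)).2.1 1) 24)
        (cond (Nat.ble (Nat.add (basePts.getD k (0, 0, 0, 0)).2.2.1 1) 24)
          (Nat.ble (Nat.add (basePts.getD k (0, 0, 0, 0)).2.2.2 1) 24) false) false) false) false) pts11 = true := by
  decide +kernel

/-- A permutation maps the classes of pairs as the action does. -/
def Good (p : Equiv.Perm (Fin 24)) : Prop :=
  ∀ a, RepP a p → ∀ i < 24, ∀ j < 24,
    coordN Dat.funcL (pimg a (pair i j)) = act a (coordN Dat.funcL (pair i j))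

theorem row_congr {a b : Nat} {p : Equiv.Perm (Fin 24)} (ha : RepP a p) (hb : RepP b p) (k : Nat) :
    row a k = row b k := by rw [row, row, pimg_congr ha hb]

theorem act_congr {a b : Nat} {p : Equiv.Perm (Fin 24)} (ha : RepP a p) (hb : RepP b p) (c : Nat) :
    act a c = act b c := by
  simp only [act_eq]
  exact lin_congr c _ fun k _ => row_congr ha hb k

theorem Good.act_mul {p q : Equiv.Perm (Fin 24)} (hq : Good q) {a b : Nat} (ha : RepP a p) (hb : RepP b q)
    (c : Nat) : act (pmul a b) c = act b (act a c) := by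
  rw [act_eq (pmul a b) c, act_eq a c, lin_map (act_zero b) (act_xor b) c pts11 (w := row (pmul a b))]
  intro k hk
  have h := allList_iff.mp ck_basePts k hk
  simp only [cond_false_eq_true, Nat.ble_eq] at h
  obtain ⟨hm, h1, h2, h3, h4⟩ := h
  have hm' := Nat.eq_of_beq_eq_true hm
  rw [xor_eq] at hm'
  rw [row, row, hm', pimg_pmul ha hb, pimg_xor ha, pimg_pair ha h1 h2, pimg_pair ha h3 h4, pimg_xor hb, coordN_xor,
    coordN_xor, act_xor, hq b hb _ (ha.lt h1) _ (ha.lt h2), hq b hb _ (ha.lt h3) _ (ha.lt h4)]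

theorem Good.mul {p q : Equiv.Perm (Fin 24)} (hp : Good p) (hq : Good q) : Good (p * q) := by
  intro c hc i hi j hj
  obtain ⟨a, ha⟩ := exists_repP p
  obtain ⟨b, hb⟩ := exists_repP q
  rw [act_congr hc (ha.pmul hb), pimg_congr hc (ha.pmul hb), hq.act_mul ha hb, pimg_pmul ha hb,
    ← hp a ha i hi j hj, pimg_pair ha hi hj]
  exact hq b hb _ (ha.lt hi) _ (ha.lt hj)

theorem good_of_check {a : Nat} {p : Equiv.Perm (Fin 24)} (ha : RepP a p) (h : checkP a = true) : Good p := by
  intro b hb i hi j hj
  rw [pimg_congr hb ha, act_congr hb ha]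
  exact Nat.eq_of_beq_eq_true (allList_iff.mp (allList_iff.mp h i (mem_pts24.mpr hi)) j (mem_pts24.mpr hj))

theorem ck_good : checkP pone = true ∧ checkP cX = true ∧ checkP cY = true := by decide +kernel

theorem good_one : Good 1 := good_of_check repP_pone ck_good.1

theorem repP_table (l : ℕ) : RepP (csM.getD l cId) (GsM.getD l 1) := fun i => by
  rw [tablesM l i, pget_eq, lk, Nat.shiftRight_eq_div_pow]

theorem good_M24m {p : Equiv.Perm (Fin 24)} (hp : p ∈ M24m) : Good p := by
  induction hp using Subgroup.closure_induction with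
  | one => exact good_one
  | mem q hq =>
    rcases hq with rfl | rfl
    · exact good_of_check (repP_table 0) ck_good.2.1
    · exact good_of_check (repP_table 1) ck_good.2.2
  | mul q r _ _ hq hr => exact hq.mul hr
  | inv q _ hq =>
    have hpow : ∀ n : ℕ, Good (q ^ n) := by
      intro n
      induction n with
      | zero => simpa using good_one
      | succ n ih => rw [pow_succ]; exact ih.mul hq
    have : q⁻¹ = q ^ (orderOf q - 1) := by
      rw [inv_eq_iff_mul_eq_one, ← pow_succ', Nat.sub_add_cancel (orderOf_pos q), pow_orderOf_eq_one]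
    rw [this]
    exact hpow _

theorem act_pone : ∀ c < 2048, act pone c = c := by
  have h : allBelow 11 2048 (fun c => Nat.beq (act pone c) c) = true := by decide +kernel
  exact fun c hc => Nat.eq_of_beq_eq_true (of_allBelow h c hc)

/-- The action is compatible with products. -/
theorem act_pmul {p q : Equiv.Perm (Fin 24)} (hq : q ∈ M24m) {a b : Nat} (ha : RepP a p) (hb : RepP b q) (c : Nat) :
    act (pmul a b) c = act b (act a c) :=
  (good_M24m hq).act_mul ha hb c

end CfsgLib.Coset.J4.OutEA
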