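import Cfsg.Agent.Coset.J4.OutEATab

/-!
The search over elementary abelian subgroups of the Sylow 2-subgroup, each reached through the smallest new
involution of every step.
-/

set_option autoImplicit false
set_option maxRecDepth 100000
set_option Elab.async false

namespace CfsgLib.Coset.J4.OutEA

open CfsgLib.Coset CfsgLib.Coset.J4

/-- At most `n` bits. -/
noncomputable def popLe (n : Nat) : Nat → Bool :=
  Nat.rec (fun F => Nat.beq F 0)
    (fun _ ih F => cond (Nat.beq F 0) true (ih (Nat.land F (Nat.sub F 1)))) n

/-- A product with a member is an earlier involution. -/
noncomputable def skips (j : Nat) (U : List Nat) : Bool := U.any fun u => Nat.ble (Nat.add (tb j u) 1) j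

/-- The span after adding an involution. -/
noncomputable def grow (j : Nat) (U : List Nat) : List Nat := U ++ U.map (tb j)

/-- The later candidates commuting with an involution. -/
noncomputable def keep (j : Nat) (C : List Nat) : List Nat :=
  C.filter fun i => Nat.ble (Nat.add j 1) i && Nat.ble (Nat.add (tb j i) 1) 192

/-- The bound holds below a node. -/
noncomputable def go : Nat → List Nat → Nat → List Nat → Bool :=
  Nat.rec (fun _ _ _ => false) fun _ ih U F C => allList (fun j => cond (skips j U) true
    (cond (popLe (Nat.div 1024 (Nat.mul 2 U.length)) (Nat.land F (fixT.get j)))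
      (ih (grow j U) (Nat.land F (fixT.get j)) (keep j C)) false)) C

/-- The bound holds below one involution. -/
noncomputable def topOK (j : Nat) : Bool :=
  cond (skips j [0]) true (cond (popLe 512 (Nat.land full (fixT.get j)))
    (go 8 (grow j [0]) (Nat.land full (fixT.get j)) (keep j (List.range' 1 191))) false)

theorem ck_topA : allList topOK (List.range' 1 11) = true := by decide +kernel
theorem ck_topB : allList topOK (List.range' 12 12) = true := by decide +kernel
theorem ck_topC : allList topOK (List.range' 24 24) = true := by decide +kernel
theorem ck_topD : allList topOK (List.range' 48 48) = true := by decide +kernel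
theorem ck_topE : allList topOK (List.range' 96 96) = true := by decide +kernel

theorem ck_top : ∀ j, 1 ≤ j → j < 192 → topOK j = true := by
  intro j h1 h2
  have h : j ∈ List.range' 1 11 ∨ j ∈ List.range' 12 12 ∨ j ∈ List.range' 24 24 ∨ j ∈ List.range' 48 48 ∨
      j ∈ List.range' 96 96 := by
    simp only [List.mem_range'_1]; omega
  rcases h with h | h | h | h | h
  exacts [allList_iff.mp ck_topA j h, allList_iff.mp ck_topB j h, allList_iff.mp ck_topC j h,
    allList_iff.mp ck_topD j h, allList_iff.mp ck_topE j h]

end CfsgLib.Coset.J4.OutEA
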