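import Cfsg.Agent.Coset.J4.OutEAAct

/-!
The Sylow 2-subgroup from the tables, its involutions, and their fixed vectors.
-/

set_option autoImplicit false
set_option maxRecDepth 100000
set_option Elab.async false

namespace CfsgLib.Coset.J4.OutEA

open CfsgLib.Coset CfsgLib.Coset.J4

/-- A generator word. -/
def genWord (k : ℕ) : List ℕ := (genW.getD k []).flatMap (dec 64)

/-- A generator as a permutation. -/
def genPerm (k : ℕ) : Equiv.Perm (Fin 24) := evP GsM (genWord k)

/-- The packed permutation of a word. -/
noncomputable def wordP (w : List ℕ) : Nat := ppack fun i => CfsgLib.Coset.J4.follow csM w i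

/-- A Sylow 2-subgroup. -/
def syl : Subgroup (Equiv.Perm (Fin 24)) := Subgroup.closure (Set.range fun k : Fin 4 => genPerm k)

/-- A packed element. -/
noncomputable def el (i : Nat) : Nat := elT.get i

/-- The packed involution with a given number; the number 0 is the identity. -/
noncomputable def iv (a : Nat) : Nat := el (invT.get a)

/-- An entry of the table of products. -/
noncomputable def tb (i j : Nat) : Nat := Nat.land (Nat.shiftRight (tabT.get i) (Nat.mul 8 j)) 255

/-- The vectors below 2048. -/
def full : Nat := 2 ^ 2048 - 1

/-- The vectors moved by a permutation in a given coordinate. -/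
noncomputable def moved (a b : Nat) : Nat :=
  List.rec 0 (fun k _ r => cond (Nat.testBit (Nat.xor (row a k) (Nat.shiftLeft 1 k)) b)
    (Nat.xor (posM.getD k 0) r) r) pts11

/-- The vectors fixed by a permutation. -/
noncomputable def fixOf (a : Nat) : Nat :=
  List.rec full (fun b _ r => Nat.land (Nat.xor full (moved a b)) r) pts11

/-- A strictly increasing list of values above a bound. -/
noncomputable def incrAbove (l : List Nat) : Nat → Bool :=
  List.rec (fun _ => true) (fun i _ ih prev => cond (Nat.ble (Nat.add prev 1) (el i)) (ih (el i)) false) l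

theorem ck_word : allList (fun k => Nat.beq (wordP (genWord k)) (genP.getD k 0)) [0, 1, 2, 3] = true := by
  decide +kernel

theorem ck_el0 : el 0 = pone ∧ invT.get 0 = 0 := by decide +kernel

theorem ck_par : allBelow 10 1024 (fun i => cond (Nat.beq i 0) true
    (cond (Nat.ble (Nat.add (field (parT.get i) 0) 1) i) (cond (Nat.ble (Nat.add (field (parT.get i) 1) 1) 4)
      (Nat.beq (pmul (el (field (parT.get i) 0)) (genP.getD (field (parT.get i) 1) 0)) (el i)) false) false)) = true := by
  decide +kernel

theorem ck_next : allBelow 10 1024 (fun i => allList (fun k => cond (Nat.ble (Nat.add (field (nextT.get i) k) 1) 1024)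
    (Nat.beq (pmul (el i) (genP.getD k 0)) (el (field (nextT.get i) k))) false) [0, 1, 2, 3]) = true := by
  decide +kernel

theorem ck_ord : incrAbove ordL 0 = true ∧ ordL.length = 1024 ∧ ordL.all (fun i => decide (i < 1024)) = true := by
  decide +kernel

theorem ck_inv : allBelow 10 1024 (fun i => cond (Nat.beq (pmul (el i) (el i)) pone)
    (cond (Nat.ble (Nat.add (invOfT.get i) 1) 192) (Nat.beq (iv (invOfT.get i)) (el i)) false) true) = true := by
  decide +kernel

theorem ck_invLt : allBelow 8 192 (fun a => Nat.ble (Nat.add (invT.get a) 1) 1024) = true := by decide +kernel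

theorem ck_tab : allBelow 8 192 (fun i => allBelow 8 192 fun j => cond (Nat.ble (Nat.add (tb i j) 1) 192)
    (Nat.beq (pmul (iv i) (iv j)) (iv (tb i j)))
    (cond (Nat.ble (Nat.add (Nat.sub (tb i j) 200) 1) 24)
      (cond (Nat.beq (pget (iv j) (pget (iv i) (Nat.sub (tb i j) 200)))
        (pget (iv i) (pget (iv j) (Nat.sub (tb i j) 200)))) false true) false)) = true := by
  decide +kernel

theorem ck_posM : allBelow 11 2048 (fun c => allList (fun k =>
    cond (Nat.testBit c k) (Nat.testBit (posM.getD k 0) c)
      (cond (Nat.testBit (posM.getD k 0) c) false true)) pts11) = true := by decide +kernel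

theorem ck_fix : allBelow 8 192 (fun a => Nat.beq (fixT.get a) (fixOf (iv a))) = true := by decide +kernel

end CfsgLib.Coset.J4.OutEA
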