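/-
The image of the third generator under an endomorphism of the presented Janko group fixing
`2^11:M24` in one of the two ways: it is the generator itself, and the twisted way does not occur.
-/
import Cfsg.Agent.Coset.J4.OutCoc
import Cfsg.Agent.Coset.J4.CosetTab

set_option autoImplicit false
set_option maxRecDepth 100000
set_option Elab.async false

namespace CfsgLib.Coset.J4.OutJ

section Kernel

/-- The points a packed permutation moves into a set. -/
noncomputable def preI (a o : Nat) : Nat :=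
  List.rec 0 (fun i _ r => cond (Nat.testBit o (pget a i)) (Nat.lor (Nat.shiftLeft 1 i) r) r) pts24

/-- The trio moved back by `a` is really moved back and is not fixed by both generators. -/
noncomputable def badTrio (a : Nat) : Bool :=
  cond (allList (fun o => Nat.beq (pimg a (preI a o)) o) trio0)
    (cond (allList (fun o => memB (pimg cX (preI a o)) (trio0.map (preI a))) trio0)
      (cond (allList (fun o => memB (pimg cW (preI a o)) (trio0.map (preI a))) trio0) false true)
      true) false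

/-- The permutation of a trio representative. -/
noncomputable def repI (i : Nat) : Nat := covCtx.rI cosTab i

/-- The vectors of the subgroup moved into itself do not reach one of the two targets. -/
noncomputable def badCls (e f j : Nat) : Bool :=
  cond
    (allBelow 9 512 fun d => cond (Nat.beq (apM MX (ctxJ.wCo d))
      (Nat.xor (Nat.xor (apM MX j) e) j)) false true) true
    (allBelow 9 512 fun d => cond (Nat.beq (apM MW (ctxJ.wCo d))
      (Nat.xor (Nat.xor (apM MW j) f) j)) false true)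

/-- A word in two packed permutations. -/
noncomputable def word6 (a b : Nat) : Nat :=
  let c := pmul (pmul a b) b
  pmul (pmul (pmul c c) c) (pmul (pmul c c) c)

/-- Only zero is fixed by both generators of the trio group. -/
noncomputable def fixTB (c : Nat) : Bool :=
  cond (Nat.beq (apM MX c) c) (cond (Nat.beq (apM MW c) c) (Nat.beq c 0) true) true

end Kernel

theorem badTrio_ok : allBelow 12 3795 (fun i => cond (Nat.beq i 0) true (badTrio (repI i))) = true := by
  decide +kernel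

theorem repI_zero : repI 0 = pone ∧ cosTab.EJ.getD 0 0 = 0 := by decide +kernel

theorem ej_lt : ∀ j < 4, cosTab.EJ.getD j 0 < 2048 := by decide +kernel

theorem badCls_ok : ∀ j < 4, 1 ≤ j → badCls 0 0 (cosTab.EJ.getD j 0) = true ∧
    badCls eTw wTw (cosTab.EJ.getD j 0) = true := by decide +kernel

theorem wCo_lt : allBelow 9 512 (fun d => Nat.ble (Nat.add (ctxJ.wCo d) 1) 2048) = true := by
  decide +kernel

theorem inK_ok : ctxJ.inK (cX, 0) = true ∧ ctxJ.inK (cW, 0) = true ∧
    ctxJ.inK (cX, eTw) = true ∧ ctxJ.inK (cW, wTw) = true := by decide +kernel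

theorem phi_zero : ctxJ.phi (cX, 0) = (cX, 0) ∧ ctxJ.phi (cW, 0) = (cW, 0) := by decide +kernel

theorem word_twist :
    word6 (ctxJ.phi (cX, eTw)).1 (ctxJ.phi (cW, wTw)).1 = pone ∧ word6 cX cW ≠ pone := by
  decide +kernel

theorem fixT_ok : allBelow 11 2048 fixTB = true := by decide +kernel

/-- Words of the trio group: the `i`th maps `0` to `i`. -/
def transW : List Nat := [0, 13, 39, 6, 2461, 614, 2, 38, 10, 1, 423, 55, 102, 7, 870, 41, 167,
  157, 9, 29, 413, 3, 1638, 103]

theorem transW_ok : ∀ i : Fin 24, follow [cX, cW, cWi] (dec 64 (transW.getD i 0)) 0 = i := by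
  decide +kernel

theorem moveW_ok : follow [cX, cW, cWi] (dec 64 665) 0 = 0 ∧
    ∀ i : Fin 24, (i : Nat) ≠ 0 → follow [cX, cW, cWi] (dec 64 665) i ≠ i := by
  decide +kernel

attribute [local irreducible] Xp W0p in
/-- A permutation commuting with the trio group is trivial. -/
theorem eq_one_of_centralises {q : Equiv.Perm (Fin 24)} (h1 : q * Xp = Xp * q)
    (h2 : q * W0p = W0p * q) : q = 1 := by
  have hcl : ∀ g ∈ Subgroup.closure {Xp, W0p}, q * g = g * q := by
    intro g hg
    induction hg using Subgroup.closure_induction with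
    | mem g hg =>
      rcases hg with rfl | rfl
      · exact h1
      · exact h2
    | one => simp
    | mul a b _ _ ha hb => rw [← mul_assoc, ha, mul_assoc, hb, mul_assoc]
    | inv a _ ha =>
      exact (Commute.inv_right (show Commute q a from ha)).eq
  have hmem : ∀ l, [Xp, W0p, W0p⁻¹].getD l 1 ∈ Subgroup.closure {Xp, W0p} :=
    getD_mem_three (Subgroup.subset_closure (Set.mem_insert _ _))
      (Subgroup.subset_closure (Set.mem_insert_of_mem _ rfl))
      (inv_mem (Subgroup.subset_closure (Set.mem_insert_of_mem _ rfl)))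
  have hc : ∀ (w : List Nat) (i : Fin 24), (evP [Xp, W0p, W0p⁻¹] w)⁻¹ (q i) =
      q ((evP [Xp, W0p, W0p⁻¹] w)⁻¹ i) := fun w i => by
    have h := hcl _ (inv_mem (evP_mem hmem w))
    generalize (evP [Xp, W0p, W0p⁻¹] w)⁻¹ = g at h ⊢
    rw [← Equiv.Perm.mul_apply, ← h, Equiv.Perm.mul_apply]
  have h0 : q 0 = 0 := by
    by_contra hne
    have h := hc (dec 64 665) 0
    have e0 : (evP [Xp, W0p, W0p⁻¹] (dec 64 665))⁻¹ 0 = 0 :=
      Fin.ext ((evP_inv tablesT _ 0).trans moveW_ok.1)
    rw [e0] at h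
    have := congrArg (fun z : Fin 24 => (z : Nat)) h
    simp only [evP_inv tablesT] at this
    exact moveW_ok.2 (q 0) (fun h' => hne (Fin.ext h')) this
  ext i
  have h := hc (dec 64 (transW.getD i 0)) 0
  have e0 : (evP [Xp, W0p, W0p⁻¹] (dec 64 (transW.getD i 0)))⁻¹ 0 = i :=
    Fin.ext ((evP_inv tablesT _ 0).trans (transW_ok i))
  rw [h0, e0] at h
  rw [← h]
  rfl

theorem act_zero (a : Nat) : act a 0 = 0 := rfl

theorem imgP_lt (p : Equiv.Perm (Fin 24)) (m : Nat) : imgP p m < 2 ^ 24 := by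
  refine Nat.lt_pow_two_of_testBit _ fun j hj => ?_
  by_contra h
  obtain ⟨i, -, hi⟩ := (testBit_imgP p m j).mp (by simpa using h)
  omega

theorem not_badTrio {a : Nat} {r : M24m} (ha : RepP a (r : Equiv.Perm (Fin 24)))
    (hX : (r : Equiv.Perm (Fin 24))⁻¹ * Xp * r ∈ setStab M24m T0.toFinset T0_lt)
    (hW : (r : Equiv.Perm (Fin 24))⁻¹ * W0p * r ∈ setStab M24m T0.toFinset T0_lt) :
    badTrio a = false := by
  cases hall : allList (fun o => Nat.beq (pimg a (preI a o)) o) trio0 with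
  | false => unfold badTrio; rw [hall, cond_false]
  | true =>
    have hpre : ∀ o ∈ trio0, imgP (r : Equiv.Perm (Fin 24)) (preI a o) = o := fun o ho => by
      rw [← pimg_eq_imgP ha]
      exact Nat.eq_of_beq_eq_true (allList_iff.mp hall o ho)
    have hlt : ∀ o ∈ trio0, preI a o < 2 ^ 24 := by
      intro o _
      unfold preI
      have key : ∀ l : List Nat, (∀ i ∈ l, i < 24) → (List.rec 0 (fun i _ r =>
          cond (Nat.testBit o (pget a i)) (Nat.lor (Nat.shiftLeft 1 i) r) r) l : Nat) < 2 ^ 24 := by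
        intro l
        induction l with
        | nil => intro _; norm_num
        | cons i l ih =>
          intro hl
          have hl' := ih fun j hj => hl j (List.mem_cons_of_mem _ hj)
          show cond _ (Nat.lor _ _) _ < _
          cases Nat.testBit o (pget a i)
          · exact hl'
          · refine Nat.or_lt_two_pow ?_ hl'
            rw [show Nat.shiftLeft 1 i = 2 ^ i from Nat.one_shiftLeft i]
            exact Nat.pow_lt_pow_right (by norm_num) (hl i List.mem_cons_self)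
      exact key pts24 (by decide)
    have main : ∀ (g : Equiv.Perm (Fin 24)) (c : Nat), RepP c g →
        (r : Equiv.Perm (Fin 24))⁻¹ * g * r ∈ setStab M24m T0.toFinset T0_lt →
        allList (fun o => memB (pimg c (preI a o)) (trio0.map (preI a))) trio0 = true := by
      intro g c hc hg
      refine allList_iff.mpr fun o ho => ?_
      rw [memB_iff, List.mem_map, pimg_eq_imgP hc]
      have hm := Finset.mem_image_of_mem (imgP ((r : Equiv.Perm (Fin 24))⁻¹ * g * r))
        (List.mem_toFinset.mpr ((trio0_eq o).mpr ho) : o ∈ T0.toFinset)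
      rw [hg.2, List.mem_toFinset, trio0_eq] at hm
      refine ⟨_, hm, ?_⟩
      have e : preI a o = imgP (r : Equiv.Perm (Fin 24))⁻¹ o := by
        conv_rhs => rw [← hpre o ho]
        rw [← imgP_mul, mul_inv_cancel, imgP_one (hlt o ho)]
      rw [e]
      set o' := imgP ((r : Equiv.Perm (Fin 24))⁻¹ * g * r) o with ho'
      have e' : imgP g (imgP (r : Equiv.Perm (Fin 24))⁻¹ o) =
          imgP (r : Equiv.Perm (Fin 24))⁻¹ o' := by
        rw [ho', ← imgP_mul, ← imgP_mul, mul_inv_cancel_right]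
      have e2 : preI a o' = imgP (r : Equiv.Perm (Fin 24))⁻¹ o' := by
        conv_rhs => rw [← hpre o' hm]
        rw [← imgP_mul, mul_inv_cancel, imgP_one (hlt o' hm)]
      rw [e2, e']
    unfold badTrio
    rw [hall, cond_true, main Xp cX repX hX, cond_true, main W0p cW repG.2.2 hW, cond_true]

attribute [local irreducible] pmul pone pimg coordN apM defC word6

variable {G : Type*} [Group G] {E : Gens G}

/-- What is used about the cosets: elements moved into the subgroup by the involution, and the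
representatives. -/
structure CosFacts (E : Gens G) : Prop where
  kform : ∀ k ∈ (udata E).hSub, E.t * k * E.t ∈ (udata E).hSub →
    ∃ (s : M24m) (d : Nat), (s : Equiv.Perm (Fin 24)) ∈ setStab M24m T0.toFinset T0_lt ∧
      k = eV E (ctxJ.wCo d) * E.φ s
  cover : ∀ h ∈ (udata E).hSub, ∃ i < 3795, ∃ j < 4, ∃ r : M24m,
    RepP (repI i) (r : Equiv.Perm (Fin 24)) ∧ ∃ k ∈ (udata E).hSub,
      E.t * k * E.t ∈ (udata E).hSub ∧ h = E.φ r * eV E (cosTab.EJ.getD j 0) * k

theorem wCo_mod (d : Nat) : ctxJ.wCo d = ctxJ.wCo (d % 512) := by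
  have h : ∀ e ∈ ctxJ.push, e.1 < 9 := by decide +kernel
  unfold Ctx.wCo
  generalize ctxJ.push = L at h
  induction L with
  | nil => rfl
  | cons e L ih =>
    have he : e.1 < 9 := h e List.mem_cons_self
    show cond _ (Nat.xor _ _) _ = cond _ (Nat.xor _ _) _
    rw [ih fun x hx => h x (List.mem_cons_of_mem _ hx),
      show 512 = 2 ^ 9 from rfl, Nat.testBit_mod_two_pow]
    simp [he]

theorem wCo_lt' (d : Nat) : ctxJ.wCo d < 2048 := by
  rw [wCo_mod]
  exact Nat.ble_eq.mp (of_allBelow wCo_lt _ (Nat.mod_lt _ (by norm_num)))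

/-- Data of one of the two ways of fixing the subgroup. -/
structure Way (e f : Nat) : Prop where
  elt : e < 2048
  flt : f < 2048
  cls : ∀ j < 4, 1 ≤ j → badCls e f (cosTab.EJ.getD j 0) = true
  kX : ctxJ.inK (cX, e) = true
  kW : ctxJ.inK (cW, f) = true

theorem way_plain : Way 0 0 :=
  ⟨by norm_num, by norm_num, fun j h1 h2 => (badCls_ok j h1 h2).1, inK_ok.1, inK_ok.2.1⟩

theorem way_twist : Way eTw wTw :=
  ⟨defs_w0.2.2.1, defs_w0.2.2.2, fun j h1 h2 => (badCls_ok j h1 h2).2, inK_ok.2.2.1, inK_ok.2.2.2⟩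

theorem image_t (hS : Std E) (hC : CosFacts E) (α : G →* G) {e f : Nat} (hw : Way e f)
    (hα : FixH E α e f)
    (hT : ∃ a ∈ (udata E).hSub, ∃ b ∈ (udata E).hSub, α E.t = a * E.t * b) :
    ∃ b ∈ (udata E).hSub, α E.t = E.t * b := by
  obtain ⟨a, ha, b, hb, hTab⟩ := hT
  obtain ⟨i, hi, j, hj, r, hr, k, hk, hkt, rfl⟩ := hC.cover a ha
  set q := cosTab.EJ.getD j 0 with hq
  set b' := E.t * k * E.t * b with hb'
  have hb'mem : b' ∈ (udata E).hSub := mul_mem hkt hb
  have hTb : α E.t = E.φ r * eV E q * E.t * b' := by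
    rw [hTab, hb']
    calc E.φ r * eV E q * k * E.t * b
        = E.φ r * eV E q * (E.t * E.t) * k * E.t * b := by rw [E.tt, mul_one]
      _ = _ := by group
  set A := E.φ r * eV E q with hA
  obtain ⟨sa, hsa⟩ := exists_repP (r : Equiv.Perm (Fin 24))
  -- an element commuting with t is conjugated into the moved subgroup
  have main : ∀ (g : M24m) (c : Nat), E.t * E.φ g = E.φ g * E.t →
      α (E.φ g) = E.φ g * eV E c →
      ∃ (s : M24m) (d : Nat), (s : Equiv.Perm (Fin 24)) ∈ setStab M24m T0.toFinset T0_lt ∧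
        A⁻¹ * (E.φ g * eV E c) * A = eV E (ctxJ.wCo d) * E.φ s := by
    intro g c hg hgc
    have hAmem : A ∈ (udata E).hSub :=
      mul_mem ((udata E).phi_mem r) ((udata E).vSub_le (eV_mem E q))
    have hgmem : E.φ g * eV E c ∈ (udata E).hSub :=
      mul_mem ((udata E).phi_mem g) ((udata E).vSub_le (eV_mem E c))
    refine hC.kform _ (mul_mem (mul_mem (inv_mem hAmem) hgmem) hAmem) ?_
    have h := congrArg α hg
    rw [map_mul, map_mul, hgc, hTb] at h
    set X' := E.φ g * eV E c with hX'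
    have e : E.t * (A⁻¹ * X' * A) * E.t = b' * X' * b'⁻¹ := by
      have ti : E.t⁻¹ = E.t := inv_eq_of_mul_eq_one_right E.tt
      calc E.t * (A⁻¹ * X' * A) * E.t = E.t⁻¹ * A⁻¹ * (X' * (A * E.t * b')) * b'⁻¹ := by
            rw [ti]; group
        _ = E.t⁻¹ * A⁻¹ * (A * E.t * b' * X') * b'⁻¹ := by rw [h]
        _ = _ := by group
    rw [e]
    exact mul_mem (mul_mem hb'mem hgmem) (inv_mem hb'mem)
  obtain ⟨sX, dX, hsX, eX⟩ := main ⟨Xp, Xp_mem⟩ e (by rw [E.φX]; exact E.tx) hα.fX
  obtain ⟨sW, dW, hsW, eW⟩ := main ⟨W0p, W0p_mem⟩ f (by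
    rw [W0_sub]
    simp only [map_mul, map_inv, map_pow, E.φX, E.φY]
    exact E.tw) hα.fW
  -- the normal forms
  have form : ∀ (g s : M24m) (c d : Nat), A⁻¹ * (E.φ g * eV E c) * A = eV E d * E.φ s →
      ∀ cs cg : Nat, RepP cs (s : Equiv.Perm (Fin 24)) →
      RepP cg ((r⁻¹ * g * r : M24m) : Equiv.Perm (Fin 24)) →
      r⁻¹ * g * r = s ∧ Nat.xor (Nat.xor (act cg q) (act sa c)) q % 2048 = act cs d % 2048 := by
    intro g s c d h cs cg hcs hcg
    have e1 : A⁻¹ * (E.φ g * eV E c) * A =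
        E.φ (r⁻¹ * g * r) * eV E (Nat.xor (Nat.xor (act cg q) (act sa c)) q % 2048) := by
      rw [eV_mod, eV_xor, eV_xor, ← conj_act E hcg, ← conj_act E hsa, hA, map_mul, map_mul, map_inv,
        mul_inv_rev, eV_inv]
      group
    rw [e1, eV_phi E hcs, ← eV_mod E (act cs d)] at h
    exact hS.pair_inj (Nat.mod_lt _ (by norm_num)) (Nat.mod_lt _ (by norm_num)) h
  obtain ⟨cX', hcX'⟩ := exists_repP ((r⁻¹ * ⟨Xp, Xp_mem⟩ * r : M24m) : Equiv.Perm (Fin 24))
  obtain ⟨csX, hcsX⟩ := exists_repP (sX : Equiv.Perm (Fin 24))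
  obtain ⟨cW', hcW'⟩ := exists_repP ((r⁻¹ * ⟨W0p, W0p_mem⟩ * r : M24m) : Equiv.Perm (Fin 24))
  obtain ⟨csW, hcsW⟩ := exists_repP (sW : Equiv.Perm (Fin 24))
  obtain ⟨pX, vX⟩ := form _ _ _ _ eX csX cX' hcsX hcX'
  obtain ⟨pW, vW⟩ := form _ _ _ _ eW csW cW' hcsW hcW'
  -- the trio is the base one
  have hi0 : i = 0 := by
    by_contra hne
    have h := of_allBelow badTrio_ok i hi
    rw [show Nat.beq i 0 = false by cases h' : Nat.beq i 0 with
      | false => rfl
      | true => exact absurd (Nat.eq_of_beq_eq_true h') hne, cond_false,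
      not_badTrio hr (by rw [← pX] at hsX; simpa using hsX) (by rw [← pW] at hsW; simpa using hsW)] at h
    exact Bool.false_ne_true h
  subst hi0
  have hr1 : r = 1 := Subtype.ext (by
    rw [repI_zero.1] at hr
    exact hr.unique repP_pone)
  subst hr1
  obtain ⟨-, -, -, hMW, -, -⟩ := rows_ok
  -- the class is the base one
  have hj0 : j = 0 := by
    by_contra hne
    have hb := hw.cls j hj (Nat.one_le_iff_ne_zero.mpr hne)
    have cls : ∀ (g : M24m) (cg : Nat) (M : List Nat) (s : M24m) (cs c d : Nat),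
        RepP cg (g : Equiv.Perm (Fin 24)) → rowsM cg = M → (∀ x ∈ M, x < 2048) → c < 2048 →
        RepP cs (s : Equiv.Perm (Fin 24)) → ((1 : M24m)⁻¹ * g * 1) = s →
        (∀ cg' : Nat, RepP cg' (((1 : M24m)⁻¹ * g * 1 : M24m) : Equiv.Perm (Fin 24)) →
          Nat.xor (Nat.xor (act cg' q) (act sa c)) q % 2048 = act cs (ctxJ.wCo d) % 2048) →
        Nat.beq (apM M (ctxJ.wCo (d % 512))) (Nat.xor (Nat.xor (apM M q) c) q) = true := by
      intro g cg M s cs c d hcg hM hMlt hc hcs hs hv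
      have es : s = g := by rw [← hs]; group
      subst es
      have h := hv cg (by rw [inv_one, one_mul, mul_one]; exact hcg)
      have ecs : ∀ c, act cs c % 2048 = act cg c % 2048 := fun c =>
        (hS.eV_inj (Nat.mod_lt _ (by norm_num)) (Nat.mod_lt _ (by norm_num)) (by
          rw [eV_mod, eV_mod, ← conj_act E hcs, ← conj_act E hcg]))
      have e1 : act sa c % 2048 = c := by
        refine hS.eV_inj (Nat.mod_lt _ (by norm_num)) hc ?_
        rw [eV_mod, ← conj_act E hsa, map_one, inv_one, one_mul, mul_one]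
      rw [ecs, apM_of_rows hM, apM_of_rows hM, Nat.mod_eq_of_lt (apM_lt hMlt _)] at h
      have e2 : Nat.xor (Nat.xor (apM M q) (act sa c)) q % 2048 =
          Nat.xor (Nat.xor (apM M q) c) q := by
        show (apM M q ^^^ act sa c ^^^ q) % 2 ^ 11 = (apM M q ^^^ c) ^^^ q
        rw [Nat.xor_mod_two_pow, Nat.xor_mod_two_pow, Nat.mod_eq_of_lt (apM_lt hMlt _),
          show act sa c % 2 ^ 11 = c from e1, Nat.mod_eq_of_lt (ej_lt j hj)]
      rw [e2, wCo_mod] at h
      rw [h]
      exact Nat.beq_refl _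
    have hMWlt : ∀ x ∈ MW, x < 2048 := by decide +kernel
    have hX := cls ⟨Xp, Xp_mem⟩ cX MX sX csX e dX repX rows_ok.1 rows_lt.1 hw.elt hcsX pX
      (fun cg' hcg' => (form _ _ _ _ eX csX cg' hcsX hcg').2)
    have hW := cls ⟨W0p, W0p_mem⟩ cW MW sW csW f dW repG.2.2 hMW hMWlt hw.flt hcsW pW
      (fun cg' hcg' => (form _ _ _ _ eW csW cg' hcsW hcg').2)
    unfold badCls at hb
    cases hall : allBelow 9 512 (fun d => cond (Nat.beq (apM MX (ctxJ.wCo d))
        (Nat.xor (Nat.xor (apM MX q) e) q)) false true) with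
    | true =>
      have := of_allBelow hall (dX % 512) (Nat.mod_lt _ (by norm_num))
      rw [hX] at this
      exact Bool.false_ne_true this
    | false =>
      rw [hall, cond_false] at hb
      have := of_allBelow hb (dW % 512) (Nat.mod_lt _ (by norm_num))
      rw [hW] at this
      exact Bool.false_ne_true this
  subst hj0
  refine ⟨b', hb'mem, ?_⟩
  rw [hTb, hA, hq, repI_zero.2, eV_zero, map_one, one_mul, one_mul]

theorem conj_phi_eq (hw : ctxJ.inK (cX, 0) = true) {α : G →* G} {g : M24m} {cg c : Nat}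
    (hcg : RepP cg (g : Equiv.Perm (Fin 24))) (hk : ctxJ.inK (cg, c) = true)
    (hgc : α (E.φ g) = E.φ g * eV E c) (hg : E.t * E.φ g = E.φ g * E.t)
    {q : M24m} {d : Nat} (hT : α E.t = E.t * (E.φ q * eV E d)) :
    ∃ p1 : M24m, RepP (ctxJ.phi (cg, c)).1 (p1 : Equiv.Perm (Fin 24)) ∧
      E.φ p1 * eV E (ctxJ.phi (cg, c)).2 * (E.φ q * eV E d) =
        E.φ q * eV E d * (E.φ g * eV E c) := by
  have := hw
  obtain ⟨hv, h1, -⟩ := (cdata E).inK_sound (k := (cg, c)) ⟨g, hcg⟩ hk
  obtain ⟨p1, hp1⟩ := hv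
  refine ⟨p1, hp1, ?_⟩
  rw [val_eq E (p := g) hcg] at h1
  rw [← val_eq E (p := p1) hp1]
  have h := congrArg α hg
  rw [map_mul, map_mul, hgc, hT] at h
  show E.UF.val ctxJ (ctxJ.phi (cg, c)) * _ = _
  rw [← h1]
  show E.t * (E.φ g * eV E c) * E.t * _ = _
  rw [show E.t * (E.φ g * eV E c) * E.t * (E.φ q * eV E d) =
    E.t * (E.φ g * eV E c * (E.t * (E.φ q * eV E d))) by group, ← h]
  simp only [← mul_assoc, E.tt, one_mul]

theorem t_fixed (hS : Std E) (hC : CosFacts E) (α : G →* G) (hα : FixH E α 0 0)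
    (hT : ∃ a ∈ (udata E).hSub, ∃ b ∈ (udata E).hSub, α E.t = a * E.t * b) :
    α E.t = E.t := by
  obtain ⟨b, hb, hTb⟩ := image_t hS hC α way_plain hα hT
  obtain ⟨q, d, hd, rfl⟩ := (mem_H E).mp hb
  have hw0 : E.t * E.φ ⟨W0p, W0p_mem⟩ = E.φ ⟨W0p, W0p_mem⟩ * E.t := by
    rw [W0_sub]
    simp only [map_mul, map_inv, map_pow, E.φX, E.φY]
    exact E.tw
  have key : ∀ (g : M24m) (cg : Nat) (M : List Nat), RepP cg (g : Equiv.Perm (Fin 24)) →
      rowsM cg = M → (∀ x ∈ M, x < 2048) → ctxJ.inK (cg, 0) = true → ctxJ.phi (cg, 0) = (cg, 0) →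
      α (E.φ g) = E.φ g * eV E 0 → E.t * E.φ g = E.φ g * E.t → g * q = q * g ∧ apM M d = d := by
    intro g cg M hcg hM hMlt hk hphi hgc hg
    obtain ⟨p1, hp1, e⟩ := conj_phi_eq inK_ok.1 hcg hk hgc hg hTb
    rw [hphi] at hp1 e
    have ep : p1 = g := Subtype.ext (hp1.unique hcg)
    subst ep
    obtain ⟨cq, hcq⟩ := exists_repP (q : Equiv.Perm (Fin 24))
    rw [pair_mul E hcq, pair_mul E hcg, ← eV_mod, ← eV_mod E (Nat.xor (act cg d) 0)] at e
    obtain ⟨e1, e2⟩ := hS.pair_inj (Nat.mod_lt _ (by norm_num)) (Nat.mod_lt _ (by norm_num)) e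
    refine ⟨e1, ?_⟩
    have h0 : act cq 0 = 0 := act_zero cq
    rw [h0, apM_of_rows hM, show Nat.xor (apM M d) 0 = apM M d from Nat.xor_zero _,
      show Nat.xor 0 d = d from Nat.zero_xor d, Nat.mod_eq_of_lt hd,
      Nat.mod_eq_of_lt (apM_lt hMlt d)] at e2
    exact e2.symm
  have hMWlt : ∀ x ∈ MW, x < 2048 := by decide +kernel
  obtain ⟨x1, x2⟩ := key ⟨Xp, Xp_mem⟩ cX MX repX rows_ok.1 rows_lt.1 inK_ok.1 phi_zero.1 hα.fX
    (by rw [E.φX]; exact E.tx)
  obtain ⟨w1, w2⟩ := key ⟨W0p, W0p_mem⟩ cW MW repG.2.2 rows_ok.2.2.2.1 hMWlt inK_ok.2.1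
    phi_zero.2 hα.fW hw0
  have hq : q = 1 := Subtype.ext (eq_one_of_centralises (congrArg Subtype.val x1).symm
    (congrArg Subtype.val w1).symm)
  have h := of_allBelow fixT_ok d hd
  unfold fixTB at h
  rw [x2, w2, show Nat.beq d d = true from Nat.beq_refl d, cond_true, cond_true] at h
  rw [hTb, hq, Nat.eq_of_beq_eq_true h, map_one, eV_zero, one_mul, mul_one]

theorem repP_word6 {a b : Nat} {p q : Equiv.Perm (Fin 24)} (ha : RepP a p) (hb : RepP b q) :
    RepP (word6 a b) (p * q * q * (p * q * q) * (p * q * q) *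
      (p * q * q * (p * q * q) * (p * q * q))) := by
  unfold word6
  exact ((((ha.pmul hb).pmul hb).pmul ((ha.pmul hb).pmul hb)).pmul ((ha.pmul hb).pmul hb)).pmul
    ((((ha.pmul hb).pmul hb).pmul ((ha.pmul hb).pmul hb)).pmul ((ha.pmul hb).pmul hb))

theorem no_twist (hS : Std E) (hC : CosFacts E) (α : G →* G) (hα : FixH E α eTw wTw)
    (hT : ∃ a ∈ (udata E).hSub, ∃ b ∈ (udata E).hSub, α E.t = a * E.t * b) : False := by
  obtain ⟨b, hb, hTb⟩ := image_t hS hC α way_twist hα hT
  obtain ⟨q, d, hd, rfl⟩ := (mem_H E).mp hb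
  obtain ⟨cq, hcq⟩ := exists_repP (q : Equiv.Perm (Fin 24))
  have key : ∀ (g : M24m) (cg c : Nat), RepP cg (g : Equiv.Perm (Fin 24)) →
      ctxJ.inK (cg, c) = true → α (E.φ g) = E.φ g * eV E c → E.t * E.φ g = E.φ g * E.t →
      ∃ p1 : M24m, RepP (ctxJ.phi (cg, c)).1 (p1 : Equiv.Perm (Fin 24)) ∧ p1 * q = q * g := by
    intro g cg c hcg hk hgc hg
    obtain ⟨p1, hp1, e⟩ := conj_phi_eq inK_ok.1 hcg hk hgc hg hTb
    refine ⟨p1, hp1, ?_⟩
    rw [pair_mul E hcq, pair_mul E hcg, ← eV_mod, ← eV_mod E (Nat.xor (act cg d) c)] at e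
    exact (hS.pair_inj (Nat.mod_lt _ (by norm_num)) (Nat.mod_lt _ (by norm_num)) e).1
  obtain ⟨p, hp, ep⟩ := key ⟨Xp, Xp_mem⟩ cX eTw repX inK_ok.2.2.1 hα.fX
    (by rw [E.φX]; exact E.tx)
  obtain ⟨r, hr, er⟩ := key ⟨W0p, W0p_mem⟩ cW wTw repG.2.2 inK_ok.2.2.2 hα.fW (by
    rw [W0_sub]
    simp only [map_mul, map_inv, map_pow, E.φX, E.φY]
    exact E.tw)
  have h1 := repP_word6 hp hr
  rw [word_twist.1] at h1
  have h1' := repP_pone.unique h1
  have e1 : ((p : Equiv.Perm (Fin 24))) = q * Xp * (q : Equiv.Perm (Fin 24))⁻¹ := by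
    have := congrArg Subtype.val ep
    simp only [Subgroup.coe_mul] at this
    rw [← this, mul_inv_cancel_right]
  have e2 : ((r : Equiv.Perm (Fin 24))) = q * W0p * (q : Equiv.Perm (Fin 24))⁻¹ := by
    have := congrArg Subtype.val er
    simp only [Subgroup.coe_mul] at this
    rw [← this, mul_inv_cancel_right]
  rw [e1, e2] at h1'
  have h2 := repP_word6 repX repG.2.2
  set Z := Xp * W0p * W0p with hZ
  have hz : (1 : Equiv.Perm (Fin 24)) = Z * Z * Z * (Z * Z * Z) := by
    calc (1 : Equiv.Perm (Fin 24)) = (q : Equiv.Perm (Fin 24))⁻¹ * 1 * q := by group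
      _ = _ := by rw [h1', hZ]; group
  rw [← hz] at h2
  refine word_twist.2 ?_
  have hh : word6 cX cW = pmul (pmul (pmul (pmul (pmul cX cW) cW) (pmul (pmul cX cW) cW))
      (pmul (pmul cX cW) cW)) (pmul (pmul (pmul (pmul cX cW) cW) (pmul (pmul cX cW) cW))
      (pmul (pmul cX cW) cW)) := by unfold word6; rfl
  rw [hh] at h2 ⊢
  exact pmul_eq_pone h2

end CfsgLib.Coset.J4.OutJ
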