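/-
Every automorphism of a group generated by elements satisfying the printed relations of the Janko
group `J₄` is inner, given that elementary abelian subgroups of the model act on the vectors with
small fixed spaces.

The elementary abelian normal subgroup of `2^11:M24` is then the only one of its order there, so an
automorphism can be moved into the stabiliser of that subgroup, made the identity modulo vectors,
and is then one of two candidates, of which one is the identity and the other is impossible.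
-/
import Cfsg.Agent.Coset.J4.OutT
import Cfsg.Agent.Coset.J4.Index
import Cfsg.Agent.Golay.OutMathieu
import Mathlib.GroupTheory.PGroup

set_option autoImplicit false
set_option maxRecDepth 100000
set_option linter.style.haveILetI false

namespace CfsgLib.Coset.J4.OutJ

open Cfsg

attribute [local irreducible] pmul pone pimg apM defC word6

/-- Elementary abelian subgroups of the model have small fixed spaces on the vectors. -/
def RankBound : Prop :=
  ∀ Ebar : Subgroup (Equiv.Perm (Fin 24)), Ebar ≤ M24m →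
    (∀ p ∈ Ebar, ∀ q ∈ Ebar, p * q = q * p) → (∀ p ∈ Ebar, p * p = 1) → Ebar ≠ ⊥ →
    Nat.card Ebar *
      Nat.card {c : Nat // c < 2048 ∧ ∀ p ∈ Ebar, ∀ a, RepP a p →
        actN Dat.basisL Dat.funcL a c = c} ≤ 1024

/-- The model is the group of the code. -/
noncomputable def toGol : M24m ≃* Cfsg.M24 :=
  (M24m.equivMapOfInjective ePhi.permCongrHom.toMonoidHom ePhi.permCongrHom.injective).trans
    (MulEquiv.subgroupCongr (Subgroup.eq_of_le_of_card_ge map_le (by
      rw [Subgroup.card_map_of_injective (K := M24m)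
        (show Function.Injective ePhi.permCongrHom.toMonoidHom from ePhi.permCongrHom.injective),
        card_M24m, CfsgLib.Golay.card_M24])))

theorem inner_M24m (β : MulAut M24m) : ∃ q : M24m, ∀ p, β p = q * p * q⁻¹ := by
  set β' : MulAut ↥Cfsg.M24 := (toGol.symm.trans β).trans toGol with hβ'
  have h1 : Subsingleton (Out ↥Cfsg.M24) :=
    (Nat.card_eq_one_iff_unique.mp CfsgLib.Golay.Cert.out_m24).1
  have h2 : β' ∈ Inn ↥Cfsg.M24 := (QuotientGroup.eq_one_iff β').mp (Subsingleton.elim _ _)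
  obtain ⟨g, hg⟩ := h2
  refine ⟨toGol.symm g, fun p => toGol.injective ?_⟩
  have h3 := DFunLike.congr_fun hg (toGol p)
  rw [MulAut.conj_apply, hβ'] at h3
  simp only [MulEquiv.trans_apply, MulEquiv.symm_apply_apply] at h3
  rw [map_mul, map_mul, map_inv, MulEquiv.apply_symm_apply, ← h3]

variable {G : Type*} [Group G] {E : Gens G}

theorem cosFacts (hS : Std E) : CosFacts E where
  kform k hk hkt := by
    obtain ⟨a, c, ha, -, rfl⟩ := (udata E).mem_hSub_iff.mp hk
    obtain ⟨p, hp, k', hk', e, hz⟩ := (cosData E).decomp_val (e := (a, c)) ha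
    have hK : E.UF.ev ctxJ.B (a, c) ∈ E.UF.kSub ctxJ :=
      ⟨by rw [sub_eq]; exact hk, by rw [sub_eq]; exact hkt⟩
    have hp0 : p = 0 := point_zero E hS.hu hp (by
      have : E.UF.aG ctxJ cosTab p = E.UF.val ctxJ (a, c) * k'⁻¹ := by rw [e]; group
      rw [this]
      exact mul_mem hK (inv_mem hk'))
    obtain ⟨s, hs, d, ed⟩ := hz hp0
    exact ⟨s, d, hs, ed⟩
  cover h hh := by
    obtain ⟨a, c, ha, -, rfl⟩ := (udata E).mem_hSub_iff.mp hh
    obtain ⟨p, hp, k, hk, e, -⟩ := (cosData E).decomp_val (e := (a, c)) ha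
    obtain ⟨r, hr⟩ := (cosData E).val_aEl hp
    refine ⟨p / 4, Nat.div_lt_of_lt_mul (by omega), p % 4, Nat.mod_lt _ (by norm_num), r, hr, k,
      sub_eq E ▸ hk.1, sub_eq E ▸ hk.2, ?_⟩
    rw [← val_eq E (a := repI (p / 4)) hr]
    exact e

theorem coordN_funcL_lt (m : Nat) : coordN Dat.funcL m < 2048 := by
  have hlen : Dat.funcL.length = 11 := by decide +kernel
  have key : ∀ L : List Nat, coordN L m < 2 ^ L.length := by
    intro L
    induction L with
    | nil => simp [coordN]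
    | cons d L ih =>
      have hp : par32 (Nat.land m d) ≤ 1 := by
        unfold par32
        exact Nat.and_le_left
      show Nat.add (Nat.mul 2 (coordN L m)) _ < _
      rw [List.length_cons, pow_succ]
      show 2 * coordN L m + _ < 2 ^ L.length * 2
      omega
  have := key Dat.funcL
  rwa [hlen] at this

theorem two_pow : (2048 : Nat) = 2 ^ 11 := by norm_num

theorem card_vSub (hS : Std E) : Nat.card (udata E).vSub = 2048 := by
  refine (Nat.card_congr (Equiv.ofBijective
    (fun c : Fin 2048 => (⟨eV E c, eV_mem E c⟩ : (udata E).vSub)) ⟨?_, ?_⟩).symm).trans (Nat.card_fin _)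
  · intro c d h
    exact Fin.ext (hS.eV_inj c.isLt d.isLt (congrArg Subtype.val h))
  · rintro ⟨g, hg⟩
    obtain ⟨c, hc, rfl⟩ := mem_vSub E hg
    exact ⟨⟨c, hc⟩, rfl⟩

theorem vSub_elem {g : G} (hg : g ∈ (udata E).vSub) : g * g = 1 := by
  obtain ⟨c, -, rfl⟩ := mem_vSub E hg
  rw [← eV_xor, show Nat.xor c c = 0 from Nat.xor_self c, eV_zero]

theorem proj_one (hS : Std E) {p : M24m} {c : Nat} (h : E.φ p * eV E c ∈ (udata E).vSub) : p = 1 := by
  obtain ⟨d, hd, e⟩ := mem_vSub E h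
  rw [← eV_mod E c] at e
  exact (hS.pair_inj (q := 1) (Nat.mod_lt _ (by norm_num)) hd (by rw [e, map_one, one_mul])).1

/-- The only elementary abelian subgroup of order `2^11` of `2^11:M24` is that of the vectors. -/
theorem ea_eq_vSub (hS : Std E) (hR : RankBound) {A : Subgroup G} (hA : A ≤ (udata E).hSub)
    (hc : ∀ a ∈ A, ∀ b ∈ A, a * b = b * a) (h2 : ∀ a ∈ A, a * a = 1)
    (hcard : Nat.card A = 2048) : A = (udata E).vSub := by
  classical
  haveI : Finite (udata E).hSub := (udata E).finite_hSub rfl hS.hu hS.hirr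
  haveI : Finite A := Finite.of_injective _ (Subgroup.inclusion_injective hA)
  let Ebar : Subgroup (Equiv.Perm (Fin 24)) :=
    { carrier := {p | ∃ hp : p ∈ M24m, ∃ c, E.φ ⟨p, hp⟩ * eV E c ∈ A}
      one_mem' := ⟨one_mem _, 0, by
        rw [show (⟨1, one_mem _⟩ : M24m) = 1 from rfl, map_one, one_mul, eV_zero]; exact one_mem A⟩
      mul_mem' := by
        rintro p q ⟨hp, c, hpc⟩ ⟨hq, d, hqd⟩
        obtain ⟨b, hb⟩ := exists_repP q
        refine ⟨mul_mem hp hq, Nat.xor (act b c) d, ?_⟩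
        rw [show (⟨p * q, mul_mem hp hq⟩ : M24m) = ⟨p, hp⟩ * ⟨q, hq⟩ from rfl,
          ← pair_mul E (q := ⟨q, hq⟩) hb]
        exact mul_mem hpc hqd
      inv_mem' := by
        rintro p ⟨hp, c, hpc⟩
        obtain ⟨b, hb⟩ := exists_repP p⁻¹
        refine ⟨inv_mem hp, act b c, ?_⟩
        have e := inv_mem hpc
        rw [mul_inv_rev, eV_inv, ← map_inv, eV_phi E (p := (⟨p, hp⟩ : M24m)⁻¹) hb] at e
        exact e }
  have hEle : Ebar ≤ M24m := fun p hp => hp.1
  by_contra hne
  have hnb : Ebar ≠ ⊥ := by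
    intro hbot
    haveI : Finite (udata E).vSub :=
      Nat.finite_of_card_ne_zero (by rw [card_vSub hS]; norm_num)
    refine hne (Subgroup.eq_of_le_of_card_ge (fun a ha => ?_) (by rw [card_vSub hS, hcard]) )
    obtain ⟨p, c, -, rfl⟩ := (mem_H E).mp (hA ha)
    have : (p : Equiv.Perm (Fin 24)) ∈ Ebar := ⟨p.2, c, ha⟩
    rw [hbot, Subgroup.mem_bot] at this
    rw [show p = 1 from Subtype.ext this, map_one, one_mul]
    exact eV_mem E c
  have hsq : ∀ p ∈ Ebar, p * p = 1 := by
    rintro p ⟨hp, c, hpc⟩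
    obtain ⟨b, hb⟩ := exists_repP p
    have e := h2 _ hpc
    rw [pair_mul E (q := (⟨p, hp⟩ : M24m)) hb, ← eV_mod, ← map_one E.φ, ← mul_one (E.φ 1),
      ← eV_zero E] at e
    exact congrArg Subtype.val
      (hS.pair_inj (p := (⟨p, hp⟩ : M24m) * ⟨p, hp⟩) (q := 1) (d := 0)
        (Nat.mod_lt _ (by norm_num)) (by norm_num) e).1
  have hcomm : ∀ p ∈ Ebar, ∀ q ∈ Ebar, p * q = q * p := by
    intro p hp q hq
    have a := hsq _ (mul_mem hp hq)
    calc p * q = p * ((p * q) * (p * q)) * q := by rw [a, mul_one]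
      _ = (p * p) * (q * p) * (q * q) := by group
      _ = q * p := by rw [hsq p hp, hsq q hq, one_mul, mul_one]
  have hbound := hR Ebar hEle hcomm hsq hnb
  set Fix := {c : Nat // c < 2048 ∧ ∀ p ∈ Ebar, ∀ a, RepP a p → actN Dat.basisL Dat.funcL a c = c}
  haveI : Finite Fix :=
    Finite.of_injective (fun c : Fix => (⟨c.1, c.2.1⟩ : Fin 2048))
      (fun a b h => Subtype.ext (Fin.mk.inj_iff.mp h))
  have hsec : ∀ p : Ebar, ∃ c, E.φ ⟨p.1, hEle p.2⟩ * eV E c ∈ A := fun p => p.2.2
  choose sec hsec using hsec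
  have hproj : ∀ a : A, ∃ p : Ebar, ∃ c, (a : G) = E.φ ⟨p.1, hEle p.2⟩ * eV E c := fun a => by
    obtain ⟨p, c, -, e⟩ := (mem_H E).mp (hA a.2)
    exact ⟨⟨p, ⟨p.2, c, e ▸ a.2⟩⟩, c, e⟩
  choose pr co hco using hproj
  have hrest : ∀ a : A, ∃ d : Fix, eV E (sec (pr a)) * eV E (co a) = eV E d.1 := by
    intro a
    have hmem : eV E (sec (pr a)) * eV E (co a) ∈ A := by
      have h := mul_mem (inv_mem (hsec (pr a))) (hco a ▸ a.2)
      rw [mul_inv_rev, eV_inv, mul_assoc, inv_mul_cancel_left] at h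
      exact h
    rw [← eV_xor, ← eV_mod] at hmem
    set d := Nat.xor (sec (pr a)) (co a) % 2048 with hd
    have hdlt : d < 2048 := Nat.mod_lt _ (by norm_num)
    refine ⟨⟨d, hdlt, ?_⟩, by rw [← eV_xor, ← eV_mod]⟩
    rintro p ⟨hp, c, hpc⟩ b hb
    have e := hc _ hmem _ hpc
    rw [← mul_assoc, eV_phi E (p := (⟨p, hp⟩ : M24m)) hb, mul_assoc, ← eV_xor, mul_assoc,
      ← eV_xor, ← eV_mod, ← eV_mod E (Nat.xor c d)] at e
    have h := (hS.pair_inj (Nat.mod_lt _ (by norm_num)) (Nat.mod_lt _ (by norm_num)) e).2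
    have hlt : act b d < 2048 := by
      rw [act_apM]
      refine apM_lt (fun r hr => ?_) _
      obtain ⟨k, -, rfl⟩ := List.mem_map.mp hr
      exact coordN_funcL_lt _
    have h' : (act b d ^^^ c) % 2 ^ 11 = (c ^^^ d) % 2 ^ 11 := h
    rw [Nat.xor_mod_two_pow, Nat.xor_mod_two_pow, Nat.mod_eq_of_lt hlt, Nat.mod_eq_of_lt hdlt,
      Nat.xor_comm (c % 2 ^ 11)] at h'
    have h'' := congrArg (· ^^^ c % 2 ^ 11) h'
    simp only [Nat.xor_assoc, Nat.xor_self, Nat.xor_zero] at h''
    exact h''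
  choose rest hrest using hrest
  have hinj : Function.Injective fun a : A => (pr a, rest a) := by
    intro a b h
    have h1 := congrArg Prod.fst h
    have h2 := congrArg Prod.snd h
    simp only at h1 h2
    apply Subtype.ext
    have e : ∀ a : A, (a : G) = E.φ ⟨(pr a).1, hEle (pr a).2⟩ * (eV E (sec (pr a)) * eV E (rest a).1) := by
      intro a
      rw [← hrest a, ← mul_assoc (eV E (sec (pr a))), ← eV_xor, show Nat.xor _ _ = 0 from Nat.xor_self _,
        eV_zero, one_mul, ← hco]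
    rw [e a, e b, h1, h2]
  have h := Nat.card_le_card_of_injective _ hinj
  rw [hcard, Nat.card_prod] at h
  omega

/-- The normaliser of the vectors is the subgroup `2^11:M24`. -/
theorem normalizer_eq (hS : Std E) (hgen : Subgroup.closure {E.x, E.y, E.t} = ⊤) :
    Subgroup.normalizer ((udata E).vSub : Set G) = (udata E).hSub := by
  have hle : (udata E).hSub ≤ Subgroup.normalizer ((udata E).vSub : Set G) := by
    have hconj : ∀ h ∈ (udata E).hSub, ∀ v ∈ (udata E).vSub, h * v * h⁻¹ ∈ (udata E).vSub := by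
      rintro _ ⟨p, w, hw, rfl⟩ v hv
      rw [show E.UF.φ p * w * v * (E.UF.φ p * w)⁻¹ = E.UF.φ p * (w * v * w⁻¹) * (E.UF.φ p)⁻¹ by group]
      exact (udata E).conj_phi p (mul_mem (mul_mem hw hv) (inv_mem hw))
    intro h hh
    refine Subgroup.mem_normalizer_iff.mpr fun v => ⟨hconj h hh v, fun hv => ?_⟩
    have := hconj h⁻¹ (inv_mem hh) _ hv
    simpa [mul_assoc] using this
  rcases (dcJ E hS.hu hgen).maximal hle with h | h
  · exact h
  · exfalso
    have hn : (udata E).vSub.Normal := Subgroup.normalizer_eq_top_iff.mp h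
    have hbot := (udata E).hcore rfl hS.hu hS.hirr (hpushJ E) _ hn (udata E).vSub_le
    have hcard := card_vSub hS
    rw [hbot, Subgroup.card_bot] at hcard
    omega

theorem exists_conj_vSub (hS : Std E) (hgen : Subgroup.closure {E.x, E.y, E.t} = ⊤)
    (hR : RankBound) (α : MulAut G) :
    ∃ g : G, (udata E).vSub.map (MulAut.conj g * α).toMonoidHom = (udata E).vSub := by
  set V := (udata E).vSub
  set H := (udata E).hSub
  haveI : Finite G := (dcJ E hS.hu hgen).finite_G
  haveI : Fact (Nat.Prime 2) := ⟨Nat.prime_two⟩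
  set A := V.map α.toMonoidHom
  have hcA : Nat.card A = 2048 := by
    rw [Subgroup.card_map_of_injective α.injective, card_vSub hS]
  have hp : IsPGroup 2 A := IsPGroup.of_card (n := 11) (by rw [hcA, two_pow])
  have hX : ¬ 2 ∣ Nat.card (G ⧸ H) := by
    rw [← Subgroup.index_eq_card, (dcJ E hS.hu hgen).index_eq]; norm_num
  obtain ⟨x, hx⟩ := hp.nonempty_fixed_point_of_prime_not_dvd_card (G ⧸ H) hX
  obtain ⟨g, rfl⟩ := QuotientGroup.mk_surjective x
  refine ⟨g⁻¹, ?_⟩
  set B := V.map (MulAut.conj g⁻¹ * α).toMonoidHom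
  refine ea_eq_vSub hS hR ?_ ?_ ?_ (by
    rw [Subgroup.card_map_of_injective (MulAut.conj g⁻¹ * α).injective, card_vSub hS])
  · rintro _ ⟨v, hv, rfl⟩
    have hfix : (⟨α v, Subgroup.mem_map_of_mem _ hv⟩ : A) • (QuotientGroup.mk g : G ⧸ H) =
        QuotientGroup.mk g := hx _
    have h := QuotientGroup.eq.mp (hfix.symm)
    show g⁻¹ * α v * g⁻¹⁻¹ ∈ H
    rw [inv_inv]
    change g⁻¹ * (α v * g) ∈ H at h
    rwa [mul_assoc]
  · rintro _ ⟨v, hv, rfl⟩ _ ⟨w, hw, rfl⟩
    rw [← map_mul, (udata E).v_comm hv hw, map_mul]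
  · rintro _ ⟨v, hv, rfl⟩
    rw [← map_mul, vSub_elem hv, map_one]

/-- Every automorphism is inner. -/
theorem inner_of_rankBound (hu : E.u ≠ 1) (hgen : Subgroup.closure {E.x, E.y, E.t} = ⊤)
    (hR : RankBound) (α : MulAut G) : α ∈ Inn G := by
  have hS : Std E := ⟨hu, hirrJ⟩
  haveI : Finite G := (dcJ E hu hgen).finite_G
  obtain ⟨g, hg⟩ := exists_conj_vSub hS hgen hR α
  set α1 := MulAut.conj g * α with hα1
  suffices h : α1 ∈ Inn G by
    have : α = (MulAut.conj g)⁻¹ * α1 := by rw [hα1, inv_mul_cancel_left]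
    rw [this]
    exact mul_mem (inv_mem ⟨g, rfl⟩) h
  have hV1 : ∀ v ∈ (udata E).vSub, α1 v ∈ (udata E).vSub := fun v hv => hg ▸ Subgroup.mem_map_of_mem _ hv
  have hV1' : ∀ v, α1 v ∈ (udata E).vSub → v ∈ (udata E).vSub := fun v hv => by
    rw [← hg] at hv
    obtain ⟨w, hw, e⟩ := hv
    rwa [← α1.injective e]
  have hH1 : ∀ h ∈ (udata E).hSub, α1 h ∈ (udata E).hSub := by
    intro h hh
    rw [← normalizer_eq hS hgen] at hh ⊢
    refine Subgroup.mem_normalizer_iff.mpr fun v => ?_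
    obtain ⟨w, rfl⟩ := α1.surjective v
    rw [← map_inv, ← map_mul, ← map_mul]
    exact ⟨fun hv => hV1 _ ((Subgroup.mem_normalizer_iff.mp hh w).mp (hV1' _ hv)),
      fun hv => hV1 _ ((Subgroup.mem_normalizer_iff.mp hh w).mpr (hV1' _ hv))⟩
  have hpr : ∀ p : M24m, ∃ q : M24m, ∃ c, α1 (E.φ p) = E.φ q * eV E c := fun p => by
    obtain ⟨q, c, -, e⟩ := (mem_H E).mp (hH1 _ ((udata E).phi_mem p))
    exact ⟨q, c, e⟩
  choose pr co hco using hpr
  let π : M24m →* M24m := MonoidHom.mk' pr fun p p' => by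
    obtain ⟨b, hb⟩ := exists_repP (pr p' : Equiv.Perm (Fin 24))
    have e := hco (p * p')
    rw [map_mul, map_mul, hco p, hco p', pair_mul E hb, ← eV_mod, ← eV_mod E (co (p * p'))] at e
    exact (hS.pair_inj (Nat.mod_lt _ (by norm_num)) (Nat.mod_lt _ (by norm_num)) e).1.symm
  have hπinj : Function.Injective π := by
    rw [injective_iff_map_eq_one]
    intro p hp
    have e := hco p
    rw [show pr p = 1 from hp, map_one, one_mul] at e
    have h := hV1' _ (e ▸ eV_mem E (co p))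
    refine proj_one hS (c := 0) ?_
    rw [eV_zero, mul_one]
    exact h
  obtain ⟨q, hq⟩ := inner_M24m (MulEquiv.ofBijective π (Finite.injective_iff_bijective.mp hπinj))
  set α2 := MulAut.conj (E.φ q)⁻¹ * α1 with hα2
  suffices h : α2 ∈ Inn G by
    have : α1 = (MulAut.conj (E.φ q)⁻¹)⁻¹ * α2 := by rw [hα2, inv_mul_cancel_left]
    rw [this]
    exact mul_mem (inv_mem ⟨_, rfl⟩) h
  have hV2 : ∀ c, ∃ d, α2 (eV E c) = eV E d := by
    intro c
    obtain ⟨d, -, hd⟩ := mem_vSub E (hV1 _ (eV_mem E c))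
    obtain ⟨b, hb⟩ := exists_repP (q : Equiv.Perm (Fin 24))
    refine ⟨act b d, ?_⟩
    show (E.φ q)⁻¹ * α1 (eV E c) * (E.φ q)⁻¹⁻¹ = _
    rw [hd, inv_inv, conj_act E hb]
  have hM2 : ∀ p : M24m, ∃ c, α2 (E.φ p) = E.φ p * eV E c := by
    intro p
    have hp : pr p = q * p * q⁻¹ := hq p
    obtain ⟨b, hb⟩ := exists_repP (q : Equiv.Perm (Fin 24))
    refine ⟨act b (co p), ?_⟩
    show (E.φ q)⁻¹ * α1 (E.φ p) * (E.φ q)⁻¹⁻¹ = _
    rw [hco, hp, inv_inv, map_mul, map_mul, map_inv, ← conj_act E hb]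
    group
  obtain ⟨g2, hfix⟩ := exists_fixH hS α2.toMonoidHom α2.injective hV2 hM2
  set γ := (MulAut.conj g2).toMonoidHom.comp α2.toMonoidHom with hγ
  have hγinj : Function.Injective γ := (MulAut.conj g2).injective.comp α2.injective
  have hT : ∀ e f, FixH E γ e f → ∃ a ∈ (udata E).hSub, ∃ b ∈ (udata E).hSub, γ E.t = a * E.t * b := by
    intro e f hf
    have hHmem : ∀ h ∈ (udata E).hSub, γ h ∈ (udata E).hSub := by
      intro h hh
      obtain ⟨p, c, -, rfl⟩ := (mem_H E).mp hh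
      rw [map_mul, hf.vec]
      refine mul_mem ?_ ((udata E).vSub_le (eV_mem E c))
      have hcl : ∀ r : Equiv.Perm (Fin 24), r ∈ M24m → ∃ hr : r ∈ M24m, γ (E.φ ⟨r, hr⟩) ∈ (udata E).hSub := by
        intro r hr
        induction hr using Subgroup.closure_induction with
        | mem r hr =>
          rcases hr with rfl | rfl
          · exact ⟨Xp_mem, by
              rw [hf.fX]; exact mul_mem ((udata E).phi_mem _) ((udata E).vSub_le (eV_mem E _))⟩
          · exact ⟨Yp_mem, by rw [hf.fY]; exact (udata E).phi_mem _⟩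
        | one => exact ⟨one_mem _, by
            rw [show (⟨1, one_mem _⟩ : M24m) = 1 from rfl, map_one, map_one]; exact one_mem (udata E).hSub⟩
        | mul a b _ _ ha hb =>
          obtain ⟨ha, ea⟩ := ha
          obtain ⟨hb, eb⟩ := hb
          refine ⟨mul_mem ha hb, ?_⟩
          rw [show (⟨a * b, mul_mem ha hb⟩ : M24m) = ⟨a, ha⟩ * ⟨b, hb⟩ from rfl, map_mul, map_mul]
          exact mul_mem ea eb
        | inv a _ ha =>
          obtain ⟨ha, ea⟩ := ha
          refine ⟨inv_mem ha, ?_⟩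
          rw [show (⟨a⁻¹, inv_mem ha⟩ : M24m) = (⟨a, ha⟩ : M24m)⁻¹ from rfl, map_inv, map_inv]
          exact inv_mem ea
      obtain ⟨_, h⟩ := hcl p p.2
      exact h
    set D := dcJ E hu hgen with hD
    obtain ⟨n, hn⟩ := D.exists_node (γ E.t)
    have hHsurj : ∀ h ∈ (udata E).hSub, ∃ h' ∈ (udata E).hSub, γ h' = h := by
      intro h hh
      have hb : Function.Bijective (fun x : (udata E).hSub => (⟨γ x, hHmem _ x.2⟩ : (udata E).hSub)) :=
        Finite.injective_iff_bijective.mp fun a b e => Subtype.ext (hγinj (congrArg Subtype.val e))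
      obtain ⟨x, hx⟩ := hb.2 ⟨h, hh⟩
      exact ⟨x, x.2, congrArg Subtype.val hx⟩
    have h1 : ∀ z, z ∈ D.dset 1 ↔ ∃ u ∈ (udata E).hSub, ∃ v ∈ (udata E).hSub, z = u * E.t * v := fun z => by
      show (∃ u ∈ (udata E).hSub, ∃ v ∈ (udata E).hSub, z = u * D.g 1 * v) ↔ _
      rw [D.g_one]
      exact Iff.rfl
    have himg : γ '' D.dset 1 = D.dset n := by
      apply Set.Subset.antisymm
      · rintro _ ⟨z, hz, rfl⟩
        obtain ⟨u, hu', v, hv, rfl⟩ := (h1 z).mp hz
        rw [map_mul, map_mul]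
        exact D.right_mem (hHmem v hv) (D.left_mem (hHmem u hu') hn)
      · intro z hz
        obtain ⟨a, ha, b, hb, e⟩ := hn
        obtain ⟨u, hu', v, hv, rfl⟩ := hz
        obtain ⟨u', hu'', eu⟩ := hHsurj (u * a⁻¹) (mul_mem hu' (inv_mem ha))
        obtain ⟨v', hv'', ev⟩ := hHsurj (b⁻¹ * v) (mul_mem (inv_mem hb) hv)
        refine ⟨u' * E.t * v', (h1 _).mpr ⟨u', hu'', v', hv'', rfl⟩, ?_⟩
        rw [map_mul, map_mul, eu, ev, e]
        group
    have hcard := Set.ncard_image_of_injective (D.dset 1) hγinj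
    rw [himg, ← Nat.card_coe_set_eq, ← Nat.card_coe_set_eq, D.card_dset, D.card_dset] at hcard
    have hsz := Nat.eq_of_mul_eq_mul_right Nat.card_pos hcard
    have hn1 : n = 1 := (by decide : ∀ m : Fin 7, sizeE m = sizeE 1 → m = 1) n hsz
    rw [hn1] at hn
    exact (h1 _).mp hn
  rcases hfix with hf | hf
  · have ht := t_fixed hS (cosFacts hS) γ hf (hT _ _ hf)
    have hid : γ = MonoidHom.id G := by
      refine MonoidHom.eq_of_eqOn_dense hgen ?_
      rintro z (rfl | rfl | rfl)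
      · have := hf.fX
        rwa [E.φX, eV_zero, mul_one] at this
      · have := hf.fY
        rwa [E.φY] at this
      · exact ht
    have e : α2 = (MulAut.conj g2)⁻¹ := by
      rw [eq_inv_iff_mul_eq_one]
      refine MulEquiv.ext fun z => ?_
      obtain ⟨w, rfl⟩ := (MulAut.conj g2)⁻¹.surjective z
      show α2 (MulAut.conj g2 ((MulAut.conj g2)⁻¹ w)) = (MulAut.conj g2)⁻¹ w
      rw [MulAut.apply_inv_self]
      have := DFunLike.congr_fun hid w
      apply (MulAut.conj g2).injective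
      rw [MulAut.apply_inv_self]
      exact this
    rw [e]
    exact inv_mem ⟨g2, rfl⟩
  · exact (no_twist hS (cosFacts hS) γ hf (hT _ _ hf)).elim

end CfsgLib.Coset.J4.OutJ
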