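import Cfsg.Agent.Coset.Table
import Mathlib.GroupTheory.Perm.Basic
import Mathlib.Data.Fintype.Basic
import Mathlib.Tactic.Ring
import Mathlib.Tactic.IntervalCases
import Mathlib.Tactic.Positivity

/-!
Permutations of twenty-four points packed in numbers, five bits a point.
-/

set_option autoImplicit false

namespace CfsgLib.Coset.J4

section Kernel

/-- The image of a point under a packed permutation. -/
noncomputable def pget (a i : Nat) : Nat := Nat.land (Nat.shiftRight a (Nat.mul 5 i)) 31

/-- The twenty-four points. -/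
def pts24 : List Nat :=
  [0, 1, 2, 3, 4, 5, 6, 7, 8, 9, 10, 11, 12, 13, 14, 15, 16, 17, 18, 19, 20, 21, 22, 23]

/-- Packing. -/
noncomputable def ppack (f : Nat → Nat) : Nat :=
  List.rec 0 (fun i _ r => Nat.add (Nat.shiftLeft (f i) (Nat.mul 5 i)) r) pts24

/-- First `a`, then `b`. -/
noncomputable def pmul (a b : Nat) : Nat := ppack fun i => pget b (pget a i)

/-- The packed identity. -/
noncomputable def pone : Nat := ppack fun i => i

/-- The image of a set given by its mask. -/
noncomputable def pimg (a m : Nat) : Nat :=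
  List.rec 0
    (fun i _ r => cond (Nat.testBit m i) (Nat.lor (Nat.shiftLeft 1 (pget a i)) r) r) pts24

/-- A permutation of the points, packed. -/
noncomputable def pValid (a : Nat) : Bool :=
  cond (allList (fun i => Nat.ble (Nat.add (pget a i) 1) 24) pts24)
    (allList (fun i => allList (fun j => cond (Nat.beq i j) true
      (cond (Nat.beq (pget a i) (pget a j)) false true)) pts24) pts24) false

end Kernel

/-- A packed number stands for a permutation: it gives the inverse images. -/
def RepP (a : Nat) (p : Equiv.Perm (Fin 24)) : Prop := ∀ i : Fin 24, pget a i = ((p⁻¹ i : Fin 24) : Nat)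

theorem pget_eq (a i : Nat) : pget a i = a / 2 ^ (5 * i) % 32 := by
  show (a >>> (5 * i)) &&& 31 = _
  rw [Nat.shiftRight_eq_div_pow, show (31 : Nat) = 2 ^ 5 - 1 from rfl, Nat.and_two_pow_sub_one_eq_mod]

theorem mem_pts24 {i : Nat} : i ∈ pts24 ↔ i < 24 := by
  constructor
  · exact fun h => (by decide : ∀ j ∈ pts24, j < 24) i h
  · intro h; interval_cases i <;> decide

/-- Packing, block by block. -/
theorem ppack_get (f : Nat → Nat) (hf : ∀ i < 24, f i < 32) (j : Nat) (hj : j < 24) :
    pget (ppack f) j = f j := by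
  have key : ∀ (n s : Nat), n + s = 24 → ∀ j, j < 24 →
      pget (List.rec 0 (fun i _ r => Nat.add (Nat.shiftLeft (f i) (Nat.mul 5 i)) r)
        (List.range' s n) : Nat) j = if s ≤ j then f j else 0 := by
    intro n
    induction n with
    | zero =>
      intro s hs j hj
      show pget 0 j = _
      rw [if_neg (by omega), pget_eq]; simp
    | succ n ih =>
      intro s hs j hj
      rw [List.range'_succ]
      show pget (f s <<< (5 * s) + (List.rec 0
        (fun i _ r => Nat.add (Nat.shiftLeft (f i) (Nat.mul 5 i)) r) (List.range' (s + 1) n))) j = _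
      set R : Nat := List.rec 0
        (fun i _ r => Nat.add (Nat.shiftLeft (f i) (Nat.mul 5 i)) r) (List.range' (s + 1) n) with hR
      have hih : ∀ j < 24, pget R j = if s + 1 ≤ j then f j else 0 := ih (s + 1) (by omega)
      have hdvd : ∀ k, k ≤ s + 1 → R % 2 ^ (5 * k) = 0 := by
        intro k
        induction k with
        | zero => intro; exact Nat.mod_one _
        | succ k ihk =>
          intro hk
          have h0 := ihk (by omega)
          have h1 := hih k (by omega)
          rw [if_neg (by omega), pget_eq] at h1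
          rw [show 5 * (k + 1) = 5 * k + 5 by ring, pow_add, Nat.mod_mul, h0,
            show (2 : Nat) ^ 5 = 32 from rfl, h1]
          simp
      obtain ⟨Q, hQ⟩ := Nat.dvd_of_mod_eq_zero (hdvd (s + 1) le_rfl)
      have hs32 := hf s (by omega)
      rw [pget_eq, Nat.shiftLeft_eq]
      rcases Nat.lt_trichotomy j s with h | h | h
      · rw [if_neg (by omega), hQ,
          show 5 * (s + 1) = 5 * j + (5 + 5 * (s - j)) by omega, show 5 * s = 5 * j + (5 + 5 * (s - j - 1)) by omega]
        simp only [pow_add]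
        rw [show f s * (2 ^ (5 * j) * (2 ^ 5 * 2 ^ (5 * (s - j - 1)))) + 2 ^ (5 * j) * (2 ^ 5 * 2 ^ (5 * (s - j))) * Q
          = 2 ^ (5 * j) * (2 ^ 5 * (f s * 2 ^ (5 * (s - j - 1)) + 2 ^ (5 * (s - j)) * Q)) by ring,
          Nat.mul_div_cancel_left _ (by positivity)]
        simp [Nat.mul_mod_right]
      · subst h
        rw [if_pos le_rfl, hQ, show 5 * (j + 1) = 5 * j + 5 by ring, pow_add,
          show f j * 2 ^ (5 * j) + 2 ^ (5 * j) * 2 ^ 5 * Q = 2 ^ (5 * j) * (f j + 32 * Q) by ring,
          Nat.mul_div_cancel_left _ (by positivity), Nat.add_mul_mod_self_left, Nat.mod_eq_of_lt hs32]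
      · rw [if_pos (by omega)]
        have h1 := hih j hj
        rw [if_pos (by omega), pget_eq] at h1
        rw [← h1]
        have hlt : f s * 2 ^ (5 * s) < 2 ^ (5 * (s + 1)) := by
          rw [show 5 * (s + 1) = 5 * s + 5 by ring, pow_add, mul_comm]
          exact Nat.mul_lt_mul_of_pos_left hs32 (by positivity)
        rw [hQ, show 5 * j = 5 * (s + 1) + 5 * (j - (s + 1)) by omega, pow_add,
          ← Nat.div_div_eq_div_mul, ← Nat.div_div_eq_div_mul, Nat.add_mul_div_left _ _ (by positivity),
          Nat.div_eq_of_lt hlt, zero_add, Nat.mul_div_cancel_left _ (by positivity)]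
  have h := key 24 0 rfl j hj
  rw [if_pos (Nat.zero_le _)] at h
  exact h

theorem RepP.lt {a : Nat} {p : Equiv.Perm (Fin 24)} (h : RepP a p) {i : Nat} (hi : i < 24) :
    pget a i < 24 := by
  rw [h ⟨i, hi⟩]; exact (p⁻¹ ⟨i, hi⟩).isLt

theorem RepP.unique {a : Nat} {p q : Equiv.Perm (Fin 24)} (hp : RepP a p) (hq : RepP a q) :
    p = q := by
  rw [← inv_inj]
  exact Equiv.ext fun i => Fin.ext ((hp i).symm.trans (hq i))

theorem repP_pone : RepP pone 1 := fun i => by
  rw [pone, ppack_get _ (fun j hj => by omega) _ i.isLt]; simp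

theorem RepP.pmul {a b : Nat} {p q : Equiv.Perm (Fin 24)} (hp : RepP a p) (hq : RepP b q) :
    RepP (pmul a b) (p * q) := fun i => by
  rw [J4.pmul, ppack_get _ (fun j hj => by have := hq.lt (hp.lt hj); omega) _ i.isLt, hp i,
    hq (p⁻¹ i), mul_inv_rev]
  rfl

theorem RepP.eq_of_pget {a b : Nat} {p q : Equiv.Perm (Fin 24)} (hp : RepP a p) (hq : RepP b q)
    (h : ∀ i < 24, pget a i = pget b i) : p = q :=
  hp.unique (q := q) fun i => by rw [h i i.isLt]; exact hq i

theorem pmul_eq_pone {a b : Nat} (h : RepP (pmul a b) 1) : pmul a b = pone := by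
  have h32 : ∀ x y : Nat, pget x y < 32 := fun x y => by
    rw [pget_eq]; exact Nat.mod_lt _ (by norm_num)
  have hi : ∀ i ∈ pts24, pget b (pget a i) = i := fun i hi => by
    have h1 := h ⟨i, mem_pts24.mp hi⟩
    rw [inv_one] at h1
    rw [pmul, ppack_get _ (fun k _ => h32 _ _) _ (mem_pts24.mp hi)] at h1
    exact h1
  have congr_pack : ∀ (f g : Nat → Nat) (l : List Nat), (∀ i ∈ l, f i = g i) →
      (List.rec 0 (fun i _ r => Nat.add (Nat.shiftLeft (f i) (Nat.mul 5 i)) r) l : Nat) =
        List.rec 0 (fun i _ r => Nat.add (Nat.shiftLeft (g i) (Nat.mul 5 i)) r) l := by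
    intro f g l
    induction l with
    | nil => simp
    | cons i l ih =>
      intro hl
      show Nat.add _ _ = Nat.add _ _
      rw [hl i (by simp), ih fun j hj => hl j (List.mem_cons_of_mem _ hj)]
  unfold pmul pone ppack
  exact congr_pack (fun i => pget b (pget a i)) (fun i => i) pts24 hi

theorem exists_repP (p : Equiv.Perm (Fin 24)) : ∃ a, RepP a p :=
  ⟨ppack fun i => if h : i < 24 then ((p⁻¹ ⟨i, h⟩ : Fin 24) : Nat) else 0, fun i => by
    rw [ppack_get _ (fun k hk => by rw [dif_pos hk]; omega) _ i.isLt, dif_pos i.isLt]⟩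

end CfsgLib.Coset.J4
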