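import Cfsg.Agent.Coset.J4.Model
import Cfsg.Agent.Coset.J4.Frame
import Cfsg.Agent.Coset.J4.Mod
import Cfsg.Agent.Coset.J4.DataPerms
import Cfsg.Agent.Coset.J4.DataSlp
import Cfsg.Agent.Coset.J4.DataRel

/-!
The frame of a group with three elements satisfying the printed relations, the rules for words in
the conjugates of the third one, and the identities checked from the certificates.
-/

set_option autoImplicit false
set_option maxRecDepth 100000
set_option Elab.async false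

namespace CfsgLib.Coset.J4

/-- A group with an image of the model and an involution satisfying the relations. -/
structure Gens (G : Type*) [Group G] where
  x : G
  y : G
  t : G
  φ : M24m →* G
  φX : φ ⟨Xp, Xp_mem⟩ = x
  φY : φ ⟨Yp, Yp_mem⟩ = y
  tt : t * t = 1
  tx : t * x = x * t
  tw : t * (y * x * y * ((x * y⁻¹) ^ 2) * ((x * y) ^ 3)) =
    (y * x * y * ((x * y⁻¹) ^ 2) * ((x * y) ^ 3)) * t
  line : (y * ((y * x * y⁻¹ * x * y * x * y⁻¹ * x)⁻¹ * t *
    (y * x * y⁻¹ * x * y * x * y⁻¹ * x))) ^ 3 = 1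
  four : (((y * x * y * x * y * x * y) ^ 3) * t *
    ((((x * y) ^ 3) * y * ((x * y) ^ 6) * y)⁻¹ * t * (((x * y) ^ 3) * y * ((x * y) ^ 6) * y))) ^ 2
      = 1

theorem repP_of_table {a : Nat} {p : Equiv.Perm (Fin 24)}
    (h : ∀ i : Fin 24, pget a i = ((p⁻¹ i : Fin 24) : Nat)) : RepP a p := h

theorem pimg_eq_imgP {a : Nat} {p : Equiv.Perm (Fin 24)} (h : RepP a p) (m : Nat) :
    pimg a m = imgP p m := by
  refine Nat.eq_of_testBit_eq fun j => ?_
  rw [Bool.eq_iff_iff, testBit_pimg, testBit_imgP]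
  exact ⟨fun ⟨i, hi, hm, he⟩ => ⟨⟨i, hi⟩, hm, (h ⟨i, hi⟩).symm.trans he⟩,
    fun ⟨i, hm, he⟩ => ⟨i, i.isLt, hm, (h i).trans he⟩⟩

theorem trio0_eq : ∀ m, m ∈ T0 ↔ m ∈ trio0 := by
  have h : T0.toFinset = trio0.toFinset := by decide +kernel
  intro m
  rw [← List.mem_toFinset, h, List.mem_toFinset]

theorem sext0_eq : ∀ m, m ∈ S0 ↔ m ∈ sext0 := by
  have h : S0.toFinset = sext0.toFinset := by decide +kernel
  intro m
  rw [← List.mem_toFinset, h, List.mem_toFinset]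

theorem repX : RepP cX Xp := by
  intro i
  revert i
  decide +kernel

theorem repY : RepP cY Yp := by
  intro i
  revert i
  decide +kernel

variable {G : Type*} [Group G]

/-- Elements whose image commutes with a fixed element. -/
theorem commute_closure (φ : M24m →* G) (z : G) {gens : Set (Equiv.Perm (Fin 24))}
    (hg : ∀ g ∈ gens, ∃ h : g ∈ M24m, z * φ ⟨g, h⟩ = φ ⟨g, h⟩ * z)
    {r : Equiv.Perm (Fin 24)} (hr : r ∈ Subgroup.closure gens) :
    ∃ h : r ∈ M24m, z * φ ⟨r, h⟩ = φ ⟨r, h⟩ * z := by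
  induction hr using Subgroup.closure_induction with
  | mem g hgm => exact hg g hgm
  | one => exact ⟨one_mem _, by rw [show (⟨1, one_mem _⟩ : M24m) = 1 from rfl, map_one]; simp⟩
  | mul a b _ _ ha hb =>
    obtain ⟨h1, e1⟩ := ha
    obtain ⟨h2, e2⟩ := hb
    refine ⟨mul_mem h1 h2, ?_⟩
    rw [show (⟨a * b, mul_mem h1 h2⟩ : M24m) = ⟨a, h1⟩ * ⟨b, h2⟩ from rfl, map_mul, ← mul_assoc,
      e1, mul_assoc, e2, mul_assoc]
  | inv a _ ha =>
    obtain ⟨h1, e1⟩ := ha
    refine ⟨inv_mem h1, ?_⟩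
    rw [show (⟨a⁻¹, inv_mem h1⟩ : M24m) = (⟨a, h1⟩ : M24m)⁻¹ from rfl, map_inv]
    exact (Commute.inv_right e1).eq

theorem W0_sub : (⟨W0p, W0p_mem⟩ : M24m) = ⟨Yp, Yp_mem⟩ * ⟨Xp, Xp_mem⟩ * ⟨Yp, Yp_mem⟩ *
    ((⟨Xp, Xp_mem⟩ * (⟨Yp, Yp_mem⟩)⁻¹) ^ 2) * ((⟨Xp, Xp_mem⟩ * ⟨Yp, Yp_mem⟩) ^ 3) :=
  Subtype.ext rfl

theorem conj_eq_of_fix (φ : M24m →* G) (z : G) (T : List Nat)
    (gens : Set (Equiv.Perm (Fin 24)))
    (hst : ∀ {r}, r ∈ M24m → (∀ m ∈ T, imgP r m ∈ T) → r ∈ Subgroup.closure gens)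
    (hT : ∀ m ∈ T, m < 2 ^ 24)
    (hg : ∀ g ∈ gens, ∃ h : g ∈ M24m, z * φ ⟨g, h⟩ = φ ⟨g, h⟩ * z)
    (p q : M24m) (h : ∀ m ∈ T, ∃ m' ∈ T, imgP p m = imgP q m') :
    (φ p)⁻¹ * z * φ p = (φ q)⁻¹ * z * φ q := by
  have hr : ((p * q⁻¹ : M24m) : Equiv.Perm (Fin 24)) ∈ Subgroup.closure gens := by
    refine hst (p * q⁻¹).2 fun m hm => ?_
    obtain ⟨m', hm', e⟩ := h m hm
    show imgP ((p : Equiv.Perm (Fin 24)) * (q : Equiv.Perm (Fin 24))⁻¹) m ∈ T
    rw [imgP_mul, e, ← imgP_mul, mul_inv_cancel, imgP_one (hT m' hm')]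
    exact hm'
  obtain ⟨_, hc⟩ := commute_closure φ z hg hr
  have hc' : z * φ (p * q⁻¹) = φ (p * q⁻¹) * z := hc
  have e : φ p = φ (p * q⁻¹) * φ q := by rw [← map_mul, inv_mul_cancel_right]
  rw [e]
  calc (φ (p * q⁻¹) * φ q)⁻¹ * z * (φ (p * q⁻¹) * φ q)
      = (φ q)⁻¹ * ((φ (p * q⁻¹))⁻¹ * (z * φ (p * q⁻¹))) * φ q := by group
    _ = (φ q)⁻¹ * ((φ (p * q⁻¹))⁻¹ * (φ (p * q⁻¹) * z)) * φ q := by rw [hc']
    _ = (φ q)⁻¹ * z * φ q := by group

theorem mem_T0_lt : ∀ m ∈ T0, m < 2 ^ 24 := fun m hm => T0_lt m (List.mem_toFinset.mpr hm)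

theorem mem_S0_lt : ∀ m ∈ S0, m < 2 ^ 24 := fun m hm => S0_lt m (List.mem_toFinset.mpr hm)

/-- The frame of the conjugates. -/
noncomputable def Gens.TF (E : Gens G) : TFrame G where
  M := M24m
  φ := E.φ
  t := E.t
  tt := E.tt
  stab p q a b hp hq h := by
    refine conj_eq_of_fix E.φ E.t T0 {Xp, W0p} (fun hr hm => stab_trio hr hm) mem_T0_lt ?_ p q ?_
    · rintro g (rfl | rfl)
      · exact ⟨Xp_mem, by rw [E.φX]; exact E.tx⟩
      · refine ⟨W0p_mem, ?_⟩
        rw [W0_sub]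
        simp only [map_mul, map_inv, map_pow, E.φX, E.φY]
        exact E.tw
    · intro m hm
      have h' := allList_iff.mp h m ((trio0_eq m).mp hm)
      rw [memB_iff, List.mem_map] at h'
      obtain ⟨m', hm', e⟩ := h'
      exact ⟨m', (trio0_eq m').mpr hm', by rw [← pimg_eq_imgP hp, ← pimg_eq_imgP hq, e]⟩

/-- The packed value of a word in three letters. -/
noncomputable def wordP (w : List Nat) : Nat :=
  List.rec pone (fun l _ r => pmul (csM.getD l cId) r) w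

/-- The table of permutations. -/
def pTab : PTab := (Dat.permN, Dat.permT)

/-- The entry with a given index. -/
noncomputable def gP (i : Nat) : Nat := pTab.2.get i

theorem val_cs (E : Gens G) : ∀ l < 3, E.TF.Val (csM.getD l cId) ∧
    E.TF.ph (csM.getD l cId) = [E.x, E.y, E.y⁻¹].getD l 1 := by
  intro l hl
  interval_cases l
  · exact ⟨⟨⟨Xp, Xp_mem⟩, repX⟩, (E.TF.ph_eq (p := ⟨Xp, Xp_mem⟩) repX).trans E.φX⟩
  · exact ⟨⟨⟨Yp, Yp_mem⟩, repY⟩, (E.TF.ph_eq (p := ⟨Yp, Yp_mem⟩) repY).trans E.φY⟩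
  · have h : RepP cYi Yp⁻¹ := by
      intro i
      revert i
      decide +kernel
    refine ⟨⟨(⟨Yp, Yp_mem⟩ : M24m)⁻¹, h⟩, (E.TF.ph_eq (p := (⟨Yp, Yp_mem⟩ : M24m)⁻¹) h).trans ?_⟩
    exact (map_inv E.φ ⟨Yp, Yp_mem⟩).trans (congrArg (·⁻¹) E.φY)

theorem val_word (E : Gens G) : ∀ w : List Nat, (∀ l ∈ w, l < 3) →
    E.TF.Val (wordP w) ∧ E.TF.ph (wordP w) = (w.map fun l => [E.x, E.y, E.y⁻¹].getD l 1).prod := by
  intro w
  induction w with
  | nil => exact fun _ => ⟨E.TF.val_pone, E.TF.ph_pone⟩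
  | cons l w ih =>
    intro hw
    obtain ⟨h1, h2⟩ := val_cs E l (hw l (by simp))
    obtain ⟨h3, h4⟩ := ih fun x hx => hw x (List.mem_cons_of_mem _ hx)
    refine ⟨E.TF.val_pmul h1 h3, ?_⟩
    show E.TF.ph (pmul (csM.getD l cId) (wordP w)) = _
    rw [E.TF.ph_pmul h1 h3, h4, h2, List.map_cons, List.prod_cons]

theorem checkProds_pTab : checkProds pTab Dat.slpT 3 = true := by decide +kernel

theorem val_gP (E : Gens G) : ∀ i < pTab.1, E.TF.Val (gP i) :=
  E.TF.checkProds_sound checkProds_pTab fun j hj => by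
    have h : pTab.2.get 0 = pone ∧ pTab.2.get 1 = csM.getD 0 cId ∧ pTab.2.get 2 = csM.getD 1 cId := by
      decide +kernel
    interval_cases j
    · rw [h.1]; exact E.TF.val_pone
    · rw [h.2.1]; exact (val_cs E 0 (by norm_num)).1
    · rw [h.2.2]; exact (val_cs E 1 (by norm_num)).1

/-- A named index. -/
def ix (k : Nat) : Nat := Dat.ixL.getD k 0

/-- The rules. -/
noncomputable def rules : List Rule :=
  Dat.ruleL.map fun r => (r.1.map gP, r.2.1.map gP, gP r.2.2)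

/-- A word of table entries. -/
noncomputable def tW (l : List Nat) : List Nat := l.map gP

theorem named_words :
    gP (ix 0) = wordP [1,0,1,0,1,0,1,1,0,1,0,1,0,1,1,0,1,0,1,0,1] ∧
    gP (ix 1) = pmul (gP (ix 0)) (gP (ix 0)) ∧
    pmul (gP (ix 1)) (gP (ix 1)) = pone ∧
    gP (ix 2) = wordP [1,0,2,0,1,0,2,0] ∧
    gP (ix 3) = wordP [0,1,0,1,0,1,1,0,1,0,1,0,1,0,1,0,1,0,1,1] ∧
    gP (ix 4) = pmul (gP (ix 3)) (gP (ix 0)) ∧
    gP (ix 5) = wordP [1,0,1,0,1,0,1,0,2,0] ∧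
    gP (ix 7) = wordP [0,1,0,2,0,2,0,2,0,2,0,1,0,1,0,1,0,1,0,2,0,1] ∧
    gP (ix 8) = wordP [0,1,0,2,0,2,0,2,0,1,0,2,0,1,0,1,0,1,0,2,0] := by
  decide +kernel

theorem rules_eq : rules = (fun a b c e =>
    [([a, b], [c], pone), ([b, a], [c], pone), ([b, c], [a], pone), ([c, b], [a], pone),
     ([c, a], [b], pone), ([a, c], [b], pone),
     ([c], [a, b], pone), ([c], [b, a], pone), ([a], [b, c], pone), ([a], [c, b], pone),
     ([b], [c, a], pone), ([b], [a, c], pone),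
     ([pone, gP (ix 4)], [e, pone], gP (ix 1)), ([gP (ix 4), pone], [gP (ix 1), e], gP (ix 1))])
    (pmul (pmul (gP (ix 2)) cY) cY) (pmul (gP (ix 2)) cY) (gP (ix 2)) (gP (ix 3)) := by
  decide +kernel

section

variable (E : Gens G)

theorem ph_word {k : Nat} {w : List Nat} (h : k = wordP w) (hw : ∀ l ∈ w, l < 3) :
    E.TF.ph k = (w.map fun l => [E.x, E.y, E.y⁻¹].getD l 1).prod := h ▸ (val_word E w hw).2

theorem yyy : E.y * E.y * E.y = 1 := by
  have h : wordP [1, 1, 1] = pone := by decide +kernel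
  have := ph_word E h.symm (by decide)
  rw [E.TF.ph_pone] at this
  simpa [mul_assoc] using this.symm

theorem rules_hold : ∀ r ∈ rules, E.TF.Holds r := by
  obtain ⟨hA, hA2, hA4, hv, hv2, hv2A, -, -, -⟩ := named_words
  have vy : E.TF.Val cY ∧ E.TF.ph cY = E.y := val_cs E 1 (by norm_num)
  have vv : E.TF.Val (gP (ix 2)) := val_gP E _ (by decide +kernel)
  have v3 : E.TF.Val (gP (ix 3)) := val_gP E _ (by decide +kernel)
  have vA : E.TF.Val (gP (ix 0)) := val_gP E _ (by decide +kernel)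
  have vA2 : E.TF.Val (gP (ix 1)) := val_gP E _ (by decide +kernel)
  have v4 : E.TF.Val (gP (ix 4)) := val_gP E _ (by decide +kernel)
  have vone : E.TF.Val pone := E.TF.val_pone
  have eA2 : E.TF.ph (gP (ix 1)) = E.TF.ph (gP (ix 0)) * E.TF.ph (gP (ix 0)) := by
    rw [hA2, E.TF.ph_pmul vA vA]
  have eA2i : E.TF.ph (gP (ix 1)) * E.TF.ph (gP (ix 1)) = 1 := by
    rw [← E.TF.ph_pmul vA2 vA2, hA4, E.TF.ph_pone]
  have ev := ph_word E hv (by decide)
  have ev2 := ph_word E hv2 (by decide)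
  have eA := ph_word E hA (by decide)
  simp only [List.map_cons, List.map_nil, List.prod_cons, List.prod_nil, List.getD_cons_zero,
    List.getD_cons_succ, mul_one] at ev ev2 eA
  -- the line
  have vb : E.TF.Val (pmul (gP (ix 2)) cY) := E.TF.val_pmul vv vy.1
  have va : E.TF.Val (pmul (pmul (gP (ix 2)) cY) cY) := E.TF.val_pmul vb vy.1
  set a := E.TF.T (pmul (pmul (gP (ix 2)) cY) cY) with ha
  set b := E.TF.T (pmul (gP (ix 2)) cY) with hb
  set c := E.TF.T (gP (ix 2)) with hc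
  have hb' : b = E.y⁻¹ * c * E.y := by rw [hb, E.TF.T_pmul vv vy.1, vy.2]
  have ha' : a = E.y⁻¹ * b * E.y := by rw [ha, E.TF.T_pmul vb vy.1, vy.2]
  have habc : a * b * c = 1 := by
    have hl := E.line
    have e1 : E.y * E.x * E.y⁻¹ * E.x * E.y * E.x * E.y⁻¹ * E.x = E.TF.ph (gP (ix 2)) := by
      rw [ev]; simp only [mul_assoc]
    rw [e1, show (E.TF.ph (gP (ix 2)))⁻¹ * E.t * E.TF.ph (gP (ix 2)) = c from rfl] at hl
    rw [pow_succ, pow_two] at hl
    calc a * b * c = (E.y * E.y * E.y) * (E.y⁻¹ * (E.y⁻¹ * c * E.y) * E.y) * (E.y⁻¹ * c * E.y) * c := by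
          rw [yyy E, one_mul, ha', hb']
      _ = E.y * c * (E.y * c) * (E.y * c) := by group
      _ = 1 := hl
  have sa : a * a = 1 := E.TF.T_sq _
  have sb : b * b = 1 := E.TF.T_sq _
  have sc : c * c = 1 := E.TF.T_sq _
  have ab : a * b = c := by
    calc a * b = a * b * (c * c) := by rw [sc, mul_one]
      _ = (a * b * c) * c := by group
      _ = c := by rw [habc, one_mul]
  have bc : b * c = a := by
    calc b * c = (a * a) * (b * c) := by rw [sa, one_mul]
      _ = a * (a * b * c) := by group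
      _ = a := by rw [habc, mul_one]
  have ia : a⁻¹ = a := inv_eq_of_mul_eq_one_right sa
  have ib : b⁻¹ = b := inv_eq_of_mul_eq_one_right sb
  have ic : c⁻¹ = c := inv_eq_of_mul_eq_one_right sc
  have ba : b * a = c := by rw [← ib, ← ia, ← mul_inv_rev, ab, ic]
  have cb : c * b = a := by rw [← ic, ← ib, ← mul_inv_rev, bc, ia]
  have ac : a * c = b := by
    calc a * c = a * (a * b) := by rw [ab]
      _ = b := by rw [← mul_assoc, sa, one_mul]
  have ca : c * a = b := by rw [← ic, ← ia, ← mul_inv_rev, ac, ib]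
  -- the other relation
  set d := E.TF.T (gP (ix 3)) with hd
  set f := E.TF.T (gP (ix 4)) with hf
  have et : E.TF.T pone = E.t := by rw [TFrame.T, E.TF.ph_pone]; simp [Gens.TF]
  have hf' : f = (E.TF.ph (gP (ix 0)))⁻¹ * d * E.TF.ph (gP (ix 0)) := by
    rw [hf, hv2A, E.TF.T_pmul v3 vA]
  have hTA : (E.TF.ph (gP (ix 0)))⁻¹ * E.t * E.TF.ph (gP (ix 0)) = E.t := by
    rw [← et]
    exact (E.TF.T_pmul vone vA).symm.trans (E.TF.T_eq (E.TF.val_pmul vone vA) vone (by decide +kernel))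
  have hfour : E.t * f * E.t = E.TF.ph (gP (ix 1)) * d := by
    have h := E.four
    have e1 : (E.y * E.x * E.y * E.x * E.y * E.x * E.y) ^ 3 = E.TF.ph (gP (ix 0)) := by
      rw [eA, pow_succ, pow_two]; simp only [mul_assoc]
    have e2 : (E.x * E.y) ^ 3 * E.y * (E.x * E.y) ^ 6 * E.y = E.TF.ph (gP (ix 3)) := by
      rw [ev2]; simp only [pow_succ, pow_zero, one_mul, mul_assoc]
    rw [e1, e2, show (E.TF.ph (gP (ix 3)))⁻¹ * E.t * E.TF.ph (gP (ix 3)) = d from rfl, pow_two] at h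
    have h2 : E.TF.ph (gP (ix 1)) * (E.t * f * E.t * d) = 1 := by
      rw [eA2, hf']
      calc _ = E.TF.ph (gP (ix 0)) * E.TF.ph (gP (ix 0)) *
            (((E.TF.ph (gP (ix 0)))⁻¹ * E.t * E.TF.ph (gP (ix 0))) *
              ((E.TF.ph (gP (ix 0)))⁻¹ * d * E.TF.ph (gP (ix 0))) * E.t * d) := by rw [hTA]
        _ = E.TF.ph (gP (ix 0)) * E.t * d * (E.TF.ph (gP (ix 0)) * E.t * d) := by group
        _ = 1 := h
    have h3 : E.t * f * E.t * d = E.TF.ph (gP (ix 1)) := by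
      rw [← mul_right_inj (E.TF.ph (gP (ix 1))), h2, eA2i]
    calc E.t * f * E.t = E.t * f * E.t * d * d := by
          rw [mul_assoc _ d d, show d * d = 1 from E.TF.T_sq _, mul_one]
      _ = _ := by rw [h3]
  have htf : E.t * f = E.TF.ph (gP (ix 1)) * (d * E.t) := by
    rw [← mul_assoc, ← hfour, mul_assoc _ E.t E.t, E.tt, mul_one]
  have hft : f * E.t = E.TF.ph (gP (ix 1)) * (E.TF.T (gP (ix 1)) * d) := by
    have e : E.TF.T (gP (ix 1)) = (E.TF.ph (gP (ix 1)))⁻¹ * E.t * E.TF.ph (gP (ix 1)) := rfl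
    rw [e]
    calc f * E.t = E.t * (E.t * f * E.t) := by
          rw [← mul_assoc, ← mul_assoc, E.tt, one_mul]
      _ = _ := by rw [hfour]; group
  intro r hr
  rw [rules_eq] at hr
  simp only [List.mem_cons, List.not_mem_nil, or_false] at hr
  rcases hr with rfl | rfl | rfl | rfl | rfl | rfl | rfl | rfl | rfl | rfl | rfl | rfl | rfl | rfl
  all_goals
    refine ⟨by first | exact vone | exact vA2, ?_, ?_, ?_⟩
    all_goals
      first
        | (intro z hz
           simp only [List.mem_cons, List.not_mem_nil, or_false] at hz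
           rcases hz with rfl | rfl <;> first | exact va | exact vb | exact vv | exact vone | exact v3 | exact v4 | exact vA2)
        | (intro z hz
           simp only [List.mem_cons, List.not_mem_nil, or_false] at hz
           subst hz
           first | exact va | exact vb | exact vv)
        | (simp only [TFrame.prodT, List.map_cons, List.map_nil, List.prod_cons, List.prod_nil,
            mul_one, E.TF.ph_pone, one_mul, ← ha, ← hb, ← hc, ← hd, ← hf, et]
           first | exact ab | exact ba | exact bc | exact cb | exact ca | exact ac | exact ab.symm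
                 | exact ba.symm | exact bc.symm | exact cb.symm | exact ca.symm | exact ac.symm
                 | exact htf | exact hft)

end

end CfsgLib.Coset.J4
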