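import Cfsg.Agent.Coset.J4.RepKernel

/-! The relators fix every unit vector: the first ten. -/

set_option autoImplicit false
set_option maxRecDepth 100000
set_option Elab.async false

namespace CfsgLib.Coset.J4.Mat

/-- The four letters. -/
def matL : List (List Nat) := [rowsX, rowsY, rowsY2, rowsT]

theorem matL_len : ∀ l < 4, (matL.getD l []).length = 112 := by decide +kernel

theorem rel0_ok : wordOK matL 112 7 (relW.getD 0 []) = true := by decide +kernel

theorem rel1_ok : wordOK matL 112 7 (relW.getD 1 []) = true := by decide +kernel

theorem rel2_ok : wordOK matL 112 7 (relW.getD 2 []) = true := by decide +kernel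

theorem rel3_ok : wordOK matL 112 7 (relW.getD 3 []) = true := by decide +kernel

theorem rel4_ok : wordOK matL 112 7 (relW.getD 4 []) = true := by decide +kernel

theorem rel5_ok : wordOK matL 112 7 (relW.getD 5 []) = true := by decide +kernel

theorem rel6_ok : wordOK matL 112 7 (relW.getD 6 []) = true := by decide +kernel

theorem rel7_ok : wordOK matL 112 7 (relW.getD 7 []) = true := by decide +kernel

theorem rel8_ok : wordOK matL 112 7 (relW.getD 8 []) = true := by decide +kernel

theorem rel9_ok : wordOK matL 112 7 (relW.getD 9 []) = true := by decide +kernel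

theorem pairY_ok : wordOK matL 112 7 [1, 2] = true := by decide +kernel

theorem t_ne : Nat.beq (vm rowsT (Nat.pow 2 0)) (Nat.pow 2 0) = false := by decide +kernel

end CfsgLib.Coset.J4.Mat
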