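import Cfsg.Agent.Coset.J4.RepChecks0

/-! The last two relators fix every unit vector. -/

set_option autoImplicit false
set_option maxRecDepth 100000
set_option Elab.async false

namespace CfsgLib.Coset.J4.Mat

theorem rel10_ok : wordOK matL 112 7 (relW.getD 10 []) = true := by decide +kernel

theorem rel11_ok : wordOK matL 112 7 (relW.getD 11 []) = true := by decide +kernel

end CfsgLib.Coset.J4.Mat
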